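import Cfsg.Agent.Lib.Helper52.SylowInf

set_option autoImplicit false

namespace Cfsg.Agent.Lib.Helper52

theorem pCore_map_equiv_le (p : ℕ) {G G' : Type*} [Group G] [Group G'] (e : G ≃* G') :
    (Cfsg.pCore p G).map e.toMonoidHom ≤ Cfsg.pCore p G' :=
  le_pCore ((pCore_normal p G).map e.toMonoidHom e.surjective) ((pCore_isPGroup p G).map _)

theorem pCore_map_equiv (p : ℕ) {G G' : Type*} [Group G] [Group G'] (e : G ≃* G') :
    (Cfsg.pCore p G).map e.toMonoidHom = Cfsg.pCore p G' := by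
  apply le_antisymm (pCore_map_equiv_le p e)
  intro y hy
  have h := pCore_map_equiv_le p e.symm (Subgroup.mem_map_of_mem _ hy)
  exact ⟨e.symm y, h, by simp⟩

/-- The property `C_G(O_p(G)) ≤ O_p(G)` is invariant under isomorphism. -/
theorem charP_of_equiv (p : ℕ) {G G' : Type*} [Group G] [Group G'] (e : G ≃* G')
    (h : Subgroup.centralizer (Cfsg.pCore p G : Set G) ≤ Cfsg.pCore p G) :
    Subgroup.centralizer (Cfsg.pCore p G' : Set G') ≤ Cfsg.pCore p G' := by
  intro y hy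
  rw [Subgroup.mem_centralizer_iff] at hy
  have h1 : e.symm y ∈ Subgroup.centralizer (Cfsg.pCore p G : Set G) := by
    rw [Subgroup.mem_centralizer_iff]
    intro z hz
    have hz' : e z ∈ Cfsg.pCore p G' := by
      rw [← pCore_map_equiv p e]
      exact Subgroup.mem_map_of_mem _ hz
    have := hy (e z) hz'
    apply e.injective
    simpa using this
  have h2 := h h1
  rw [← pCore_map_equiv p e]
  exact ⟨e.symm y, h2, by simp⟩

variable {X : Type*} [Group X]

/-- The ambient-group form of `C_H(O_p(H)) ≤ O_p(H)`. -/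
theorem inf_centralizer_pCoreOf_le (p : ℕ) (H : Subgroup X)
    (h : Subgroup.centralizer (Cfsg.pCore p H : Set H) ≤ Cfsg.pCore p H) :
    H ⊓ Subgroup.centralizer (Cfsg.pCoreOf p H : Set X) ≤ Cfsg.pCoreOf p H := by
  rintro y ⟨hyH, hyC⟩
  replace hyC : y ∈ Subgroup.centralizer (Cfsg.pCoreOf p H : Set X) := hyC
  replace hyH : y ∈ H := hyH
  rw [Subgroup.mem_centralizer_iff] at hyC
  have h1 : (⟨y, hyH⟩ : H) ∈ Subgroup.centralizer (Cfsg.pCore p H : Set H) := by
    rw [Subgroup.mem_centralizer_iff]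
    intro z hz
    have := hyC (z : X) ⟨z, hz, rfl⟩
    exact Subtype.ext this
  exact ⟨⟨y, hyH⟩, h h1, rfl⟩

theorem charP_stabilizer {p : ℕ} {M₁ M₂ : Subgroup X} (h : Cfsg.IsCharPAmalgamPair p M₁ M₂)
    (δ : Cfsg.CosetVertex M₁ M₂) :
    Subgroup.centralizer (Cfsg.pCore p (MulAction.stabilizer X δ) :
      Set (MulAction.stabilizer X δ)) ≤ Cfsg.pCore p (MulAction.stabilizer X δ) := by
  obtain ⟨-, -, -, -, -, -, h1, h2⟩ := h
  rcases δ with a | b
  · obtain ⟨x, rfl⟩ := QuotientGroup.mk_surjective a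
    rw [stabilizer_inl]
    exact charP_of_equiv p ((MulAut.conj x).subgroupMap M₁) h1
  · obtain ⟨x, rfl⟩ := QuotientGroup.mk_surjective b
    rw [stabilizer_inr]
    exact charP_of_equiv p ((MulAut.conj x).subgroupMap M₂) h2

theorem stabilizer_inf_centralizer_vertexQ_le {p : ℕ} {M₁ M₂ : Subgroup X}
    (h : Cfsg.IsCharPAmalgamPair p M₁ M₂) (δ : Cfsg.CosetVertex M₁ M₂) :
    MulAction.stabilizer X δ ⊓ Subgroup.centralizer (Cfsg.vertexQ p δ : Set X) ≤
      Cfsg.vertexQ p δ :=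
  inf_centralizer_pCoreOf_le p _ (charP_stabilizer h δ)

/-- An element of `p`-power order centralizing a Sylow `p`-subgroup lies in it. -/
theorem mem_sylow_of_centralizes {p : ℕ} {G : Type*} [Group G] (P : Sylow p G) (x : G)
    (hx : ∃ k : ℕ, orderOf x = p ^ k)
    (hc : x ∈ Subgroup.centralizer ((P : Subgroup G) : Set G)) : x ∈ (P : Subgroup G) := by
  obtain ⟨k, hk⟩ := hx
  have h1 : IsPGroup p (Subgroup.zpowers x) := by
    apply IsPGroup.of_card (n := k)
    rw [Nat.card_zpowers, hk]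
  have h2 : Subgroup.zpowers x ≤ Subgroup.normalizer ((P : Subgroup G) : Set G) := by
    rw [Subgroup.zpowers_le]
    exact Subgroup.centralizer_le_normalizer _ hc
  have h3 := h1.to_sup_of_normal_right' P.isPGroup' h2
  have h4 := P.is_maximal' h3 le_sup_right
  have : x ∈ Subgroup.zpowers x ⊔ (P : Subgroup G) :=
    (le_sup_left : Subgroup.zpowers x ≤ _) (Subgroup.mem_zpowers x)
  rw [h4] at this
  exact this

theorem exists_orderOf_eq_of_mem_sylow_map {p : ℕ} [Fact p.Prime] (H : Subgroup X) (S : Sylow p H)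
    {t : X} (ht : t ∈ (S : Subgroup H).map H.subtype) : ∃ k : ℕ, orderOf t = p ^ k := by
  obtain ⟨s, hs, rfl⟩ := ht
  obtain ⟨k, hk⟩ := (IsPGroup.iff_orderOf.mp S.isPGroup') ⟨s, hs⟩
  refine ⟨k, ?_⟩
  rw [← hk]
  show orderOf (s : X) = _
  rw [Subgroup.orderOf_coe]
  exact (Subgroup.orderOf_coe (⟨s, hs⟩ : (S : Subgroup H)))

/-- Ambient-group version: an element of `H` of `p`-power order centralizing (the image of) a Sylow
`p`-subgroup of `H` lies in it. -/
theorem mem_sylow_map_of_centralizes {p : ℕ} (H : Subgroup X) (S : Sylow p H) {y : X}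
    (hyH : y ∈ H) (hy : ∃ k : ℕ, orderOf y = p ^ k)
    (hc : y ∈ Subgroup.centralizer (((S : Subgroup H).map H.subtype : Subgroup X) : Set X)) :
    y ∈ (S : Subgroup H).map H.subtype := by
  have h1 : (⟨y, hyH⟩ : H) ∈ (S : Subgroup H) := by
    apply mem_sylow_of_centralizes S
    · obtain ⟨k, hk⟩ := hy
      refine ⟨k, ?_⟩
      rw [← hk]
      exact (Subgroup.orderOf_coe (⟨y, hyH⟩ : H)).symm
    · rw [Subgroup.mem_centralizer_iff] at hc ⊢
      intro z hz
      have := hc (z : X) ⟨z, hz, rfl⟩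
      exact Subtype.ext this
  exact ⟨⟨y, hyH⟩, h1, rfl⟩

end Cfsg.Agent.Lib.Helper52
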