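import Cfsg.Prelude.Def_Amalgam

set_option autoImplicit false

namespace Cfsg.Agent.Lib.Helper52

theorem pCore_normal (p : ℕ) (G : Type*) [Group G] : (Cfsg.pCore p G).Normal :=
  Subgroup.sSup_normal _ (fun _ h => h.1)

theorem pCore_isPGroup (p : ℕ) (G : Type*) [Group G] : IsPGroup p (Cfsg.pCore p G) :=
  Sylow.sSup_of_normal _ (fun _ h => h.2) (fun _ h => h.1)

theorem pCore_le_sylow (p : ℕ) (G : Type*) [Group G] (P : Sylow p G) :
    Cfsg.pCore p G ≤ (P : Subgroup G) :=
  haveI := pCore_normal p G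
  (pCore_isPGroup p G).le_sylow_of_normal P

theorem le_pCore {p : ℕ} {G : Type*} [Group G] {N : Subgroup G} (hN : N.Normal)
    (hp : IsPGroup p N) : N ≤ Cfsg.pCore p G :=
  le_sSup ⟨hN, hp⟩

/-- In a finite group, a subgroup of index prime to `p` contains a Sylow `p`-subgroup. -/
theorem exists_sylow_le_of_coprime_index {p : ℕ} [Fact p.Prime] {G : Type*} [Group G] [Finite G]
    (E : Subgroup G) (hE : (E.index).Coprime p) : ∃ Q : Sylow p G, (Q : Subgroup G) ≤ E := by
  obtain ⟨P⟩ : Nonempty (Sylow p E) := inferInstance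
  obtain ⟨Q, hQ⟩ := P.exists_comap_subtype_eq
  refine ⟨Q, ?_⟩
  have hcardP : Nat.card (P : Subgroup E) = p ^ (Nat.card E).factorization p :=
    P.card_eq_multiplicity
  have hcardQ : Nat.card (Q : Subgroup G) = p ^ (Nat.card G).factorization p :=
    Q.card_eq_multiplicity
  have hp : p.Prime := Fact.out
  have hfac : (Nat.card G).factorization p = (Nat.card E).factorization p := by
    have h1 : Nat.card E * E.index = Nat.card G := E.card_mul_index
    have hE0 : Nat.card E ≠ 0 := Nat.card_pos.ne'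
    have hi0 : E.index ≠ 0 := by
      intro h0
      rw [h0] at hE
      simp at hE
      exact hp.ne_one hE
    rw [← h1, Nat.factorization_mul hE0 hi0]
    have : (E.index).factorization p = 0 := by
      apply Nat.factorization_eq_zero_of_not_dvd
      intro hd
      have := Nat.Coprime.eq_one_of_dvd hE.symm hd
      exact hp.ne_one this
    simp [this]
  -- `Q ⊓ E` has the same cardinality as `Q`
  have h2 : Nat.card ((Q : Subgroup G).subgroupOf E) = Nat.card (Q : Subgroup G) := by
    have : ((Q : Subgroup G).subgroupOf E) = (P : Subgroup E) := by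
      rw [← hQ]
      rfl
    rw [this, hcardP, hcardQ, hfac]
  have h3 : Nat.card ((Q : Subgroup G).subgroupOf E) = Nat.card ((Q : Subgroup G) ⊓ E : Subgroup G) := by
    rw [← Subgroup.subgroupOf_map_subtype, Subgroup.card_subtype]
  have h4 : ((Q : Subgroup G) ⊓ E : Subgroup G) = (Q : Subgroup G) := by
    apply Subgroup.eq_of_le_of_card_ge inf_le_left
    rw [← h3, h2]
  rw [← h4]
  exact inf_le_right

theorem pCore_le_of_coprime_index {p : ℕ} [Fact p.Prime] {G : Type*} [Group G] [Finite G]
    (E : Subgroup G) (hE : (E.index).Coprime p) : Cfsg.pCore p G ≤ E := by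
  obtain ⟨Q, hQ⟩ := exists_sylow_le_of_coprime_index E hE
  exact (pCore_le_sylow p G Q).trans hQ

theorem pCoreOf_le (p : ℕ) {X : Type*} [Group X] (H : Subgroup X) : Cfsg.pCoreOf p H ≤ H := by
  unfold Cfsg.pCoreOf
  exact Subgroup.map_subtype_le _

theorem pCoreOf_le_of_coprime_relIndex {p : ℕ} [Fact p.Prime] {X : Type*} [Group X]
    (H E : Subgroup X) [Finite H] (hE : (E.relIndex H).Coprime p) : Cfsg.pCoreOf p H ≤ E := by
  have h1 : Cfsg.pCore p H ≤ E.subgroupOf H := pCore_le_of_coprime_index (E.subgroupOf H) hE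
  unfold Cfsg.pCoreOf
  calc (Cfsg.pCore p H).map H.subtype ≤ (E.subgroupOf H).map H.subtype := Subgroup.map_mono h1
    _ = E ⊓ H := Subgroup.subgroupOf_map_subtype E H
    _ ≤ E := inf_le_left

end Cfsg.Agent.Lib.Helper52
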