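import Mathlib
import Cfsg.Agent.Lib.Helper57.QuadPair
import Cfsg.Prelude.Def_Transfer

/-!
# Transport: quadratic pairs on an elementary abelian group to `SL₂` over a finite field

`exists_hom_SL2_of_quadratic_rep`: a finite group `Γ = ⟨α, β⟩` acting faithfully and linearly on a
finite `ZMod p`-module, with `α`, `β` quadratic, not a `p`-group, has a homomorphism to
`SL₂(E)` (`E` a finite field of characteristic `p`) whose range is not a `p`-group.
-/

set_option autoImplicit false

open scoped TensorProduct commutatorElement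

namespace Cfsg.Agent.Lib.Helper52

section stageB

variable {p : ℕ} [Fact p.Prime] {Γ : Type*} [Group Γ] {W₀ : Type*} [AddCommGroup W₀]
  [Module (ZMod p) W₀]

/-- Base change of a representation over `ZMod p` to a field extension `K`. -/
noncomputable def baseChangeRep (K : Type*) [Field K] [Algebra (ZMod p) K]
    (ρ₀ : Γ →* (W₀ ≃ₗ[ZMod p] W₀)) :
    Γ →* ((K ⊗[ZMod p] W₀) ≃ₗ[K] (K ⊗[ZMod p] W₀)) where
  toFun g := LinearEquiv.baseChange (ZMod p) K W₀ W₀ (ρ₀ g)
  map_one' := by rw [map_one]; exact LinearEquiv.baseChange_one _ _ _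
  map_mul' g h := by rw [map_mul]; exact LinearEquiv.baseChange_mul _ _ _ _ _

theorem baseChangeRep_tmul (K : Type*) [Field K] [Algebra (ZMod p) K]
    (ρ₀ : Γ →* (W₀ ≃ₗ[ZMod p] W₀)) (g : Γ) (x : K) (w : W₀) :
    baseChangeRep K ρ₀ g (x ⊗ₜ w) = x ⊗ₜ (ρ₀ g w) := rfl

theorem one_tmul_injective (K : Type*) [Field K] [Algebra (ZMod p) K] :
    Function.Injective (fun w : W₀ => (1 : K) ⊗ₜ[ZMod p] w) := by
  have h := (Module.Flat.rTensor_preserves_injective_linearMap (M := W₀)
    (Algebra.linearMap (ZMod p) K) (algebraMap (ZMod p) K).injective).comp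
    (TensorProduct.lid (ZMod p) W₀).symm.injective
  convert h using 1
  ext w
  simp

theorem baseChangeRep_quadratic (K : Type*) [Field K] [Algebra (ZMod p) K]
    (ρ₀ : Γ →* (W₀ ≃ₗ[ZMod p] W₀)) (g : Γ) (hg : ∀ w, ρ₀ g (ρ₀ g w - w) = ρ₀ g w - w)
    (t : K ⊗[ZMod p] W₀) :
    baseChangeRep K ρ₀ g (baseChangeRep K ρ₀ g t - t) = baseChangeRep K ρ₀ g t - t := by
  induction t using TensorProduct.induction_on with
  | zero => simp
  | tmul x w =>
    rw [baseChangeRep_tmul, ← TensorProduct.tmul_sub, baseChangeRep_tmul, hg]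
  | add s t hs ht =>
    have e : ∀ f : (K ⊗[ZMod p] W₀) ≃ₗ[K] (K ⊗[ZMod p] W₀),
        f (s + t) - (s + t) = (f s - s) + (f t - t) := by
      intro f; rw [map_add]; abel
    rw [e, map_add, hs, ht]

theorem baseChangeRep_injective (K : Type*) [Field K] [Algebra (ZMod p) K]
    (ρ₀ : Γ →* (W₀ ≃ₗ[ZMod p] W₀)) (hinj : Function.Injective ρ₀) :
    Function.Injective (baseChangeRep K ρ₀) := by
  rw [injective_iff_map_eq_one]
  intro g hg
  apply hinj
  rw [map_one]
  ext w
  apply one_tmul_injective (p := p) K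
  show (1 : K) ⊗ₜ[ZMod p] (ρ₀ g w) = (1 : K) ⊗ₜ[ZMod p] w
  rw [← baseChangeRep_tmul, hg]
  rfl

/-- **Transport to `SL₂`.** -/
theorem exists_hom_SL2_of_quadratic_rep [Finite Γ] [Finite W₀] (α β : Γ)
    (hgen : Subgroup.closure {α, β} = ⊤)
    (ρ₀ : Γ →* (W₀ ≃ₗ[ZMod p] W₀)) (hinj : Function.Injective ρ₀)
    (ha : ∀ w, ρ₀ α (ρ₀ α w - w) = ρ₀ α w - w) (hb : ∀ w, ρ₀ β (ρ₀ β w - w) = ρ₀ β w - w)
    (hnp : ¬ IsPGroup p Γ) :
    ∃ (E : Type) (_ : Field E) (_ : Fintype E) (_ : CharP E p)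
      (φ : Γ →* Matrix.SpecialLinearGroup (Fin 2) E), ¬ IsPGroup p φ.range := by
  classical
  have hp := (Fact.out : p.Prime)
  obtain ⟨e, k, hk, hcard⟩ :=
    Nat.exists_eq_pow_mul_and_not_dvd (Nat.card_pos (α := Γ)).ne' p hp.ne_one
  have hcop : Nat.Coprime p k := (Nat.Prime.coprime_iff_not_dvd hp).mpr hk
  have hkpos : 0 < k := by
    rcases Nat.eq_zero_or_pos k with h | h
    · exact absurd (h ▸ dvd_zero p) hk
    · exact h
  have hm : Nat.totient k ≠ 0 := (Nat.totient_pos.mpr hkpos).ne'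
  let _ : Fintype (GaloisField p (Nat.totient k)) := Fintype.ofFinite _
  have hcardE : Fintype.card (GaloisField p (Nat.totient k)) = p ^ (Nat.totient k) := by
    rw [← Nat.card_eq_fintype_card]; exact GaloisField.card p _ hm
  have hkE : k ∣ Fintype.card (GaloisField p (Nat.totient k)) - 1 := by
    rw [hcardE]
    exact (Nat.modEq_iff_dvd' (Nat.one_le_pow _ _ hp.pos)).mp (Nat.ModEq.pow_totient hcop).symm
  refine ⟨GaloisField p (Nat.totient k), inferInstance, inferInstance, inferInstance, ?_⟩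
  have hfd : FiniteDimensional (ZMod p) W₀ := Module.Finite.of_finite
  obtain ⟨γ, hγ⟩ : ∃ γ : Γ, ∀ m : ℕ, γ ^ (p ^ m) ≠ 1 := by
    by_contra hcon
    push Not at hcon
    exact hnp hcon
  have hinj' := baseChangeRep_injective (GaloisField p (Nat.totient k)) ρ₀ hinj
  exact Cfsg.Agent.Lib.Helper57.QuadPair.main (K := GaloisField p (Nat.totient k)) (p := p) α β hgen _
    (GaloisField p (Nat.totient k) ⊗[ZMod p] W₀)
    (baseChangeRep (GaloisField p (Nat.totient k)) ρ₀) rfl
    (baseChangeRep_quadratic _ ρ₀ α ha) (baseChangeRep_quadratic _ ρ₀ β hb)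
    ⟨e, k, by
      rw [← map_pow, ← hcard, pow_card_eq_one', map_one], hkE⟩
    ⟨γ, fun m h => hγ m (hinj' (by rw [map_pow, h, map_one]))⟩

end stageB

section stageA

variable {p : ℕ} [Fact p.Prime] {Γ : Type*} [Group Γ] {V : Type*} [CommGroup V]

/-- The `ZMod p`-linear automorphism of `Additive V` induced by a group automorphism of `V`. -/
def zmodLinearOfMulAut [Module (ZMod p) (Additive V)] (f : MulAut V) :
    Additive V ≃ₗ[ZMod p] Additive V where
  toFun := MulEquiv.toAdditive f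
  map_add' := (MulEquiv.toAdditive f).map_add
  map_smul' c x := ZMod.map_smul (MulEquiv.toAdditive f) c x
  invFun := (MulEquiv.toAdditive f).symm
  left_inv := (MulEquiv.toAdditive f).left_inv
  right_inv := (MulEquiv.toAdditive f).right_inv

/-- The linear representation on `Additive V` induced by an action by automorphisms. -/
def zmodRepOfMulAut [Module (ZMod p) (Additive V)] (c : Γ →* MulAut V) :
    Γ →* (Additive V ≃ₗ[ZMod p] Additive V) where
  toFun g := zmodLinearOfMulAut (c g)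
  map_one' := by
    ext x
    show Additive.ofMul ((c 1) x.toMul) = x
    rw [map_one]; rfl
  map_mul' g h := by
    ext x
    show Additive.ofMul ((c (g * h)) x.toMul) = Additive.ofMul ((c g) ((c h) x.toMul))
    rw [map_mul]; rfl

theorem zmodRepOfMulAut_apply [Module (ZMod p) (Additive V)] (c : Γ →* MulAut V) (g : Γ)
    (x : Additive V) : zmodRepOfMulAut (p := p) c g x = Additive.ofMul (c g x.toMul) := rfl

/-- **Transport to `SL₂`**, group action version: a finite group `Γ = ⟨α, β⟩` acting faithfully on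
a finite abelian group `V` of exponent `p`, with `α`, `β` acting quadratically, which is not a
`p`-group, maps to `SL₂(E)` with non-`p`-group range. -/
theorem exists_hom_SL2_of_quadratic_action [Finite Γ] [Finite V] (hexp : ∀ v : V, v ^ p = 1)
    (α β : Γ) (hgen : Subgroup.closure {α, β} = ⊤)
    (c : Γ →* MulAut V) (hinj : Function.Injective c)
    (ha : ∀ v, c α (c α v / v) = c α v / v) (hb : ∀ v, c β (c β v / v) = c β v / v)
    (hnp : ¬ IsPGroup p Γ) :
    ∃ (E : Type) (_ : Field E) (_ : Fintype E) (_ : CharP E p)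
      (φ : Γ →* Matrix.SpecialLinearGroup (Fin 2) E), ¬ IsPGroup p φ.range := by
  let _ : Module (ZMod p) (Additive V) := AddCommGroup.zmodModule (n := p) (fun x => by
    show Additive.ofMul (x.toMul ^ p) = 0
    rw [hexp]; rfl)
  refine exists_hom_SL2_of_quadratic_rep (p := p) (W₀ := Additive V) α β hgen
    (zmodRepOfMulAut (p := p) c) ?_ ?_ ?_ hnp
  · intro g h hgh
    apply hinj
    ext v
    have := LinearEquiv.congr_fun hgh (Additive.ofMul v)
    simp only [zmodRepOfMulAut_apply] at this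
    exact Additive.ofMul.injective this
  · intro w
    have := ha w.toMul
    simp only [zmodRepOfMulAut_apply]
    exact congrArg Additive.ofMul this
  · intro w
    have := hb w.toMul
    simp only [zmodRepOfMulAut_apply]
    exact congrArg Additive.ofMul this

end stageA

section final

variable {G : Type*} [Group G] {p : ℕ} [Fact p.Prime]

/-- Conjugation action of `H ≤ N(V)` on `V`. -/
def conjAutOfLeNormalizer (V H : Subgroup G) (hHV : H ≤ Subgroup.normalizer (V : Set G)) :
    H →* MulAut V where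
  toFun h :=
    { toFun := fun v =>
        ⟨(h : G) * v * (h : G)⁻¹, (Subgroup.mem_normalizer_iff.mp (hHV h.2) v).mp v.2⟩
      invFun := fun v => ⟨(h : G)⁻¹ * v * (h : G), by
        apply (Subgroup.mem_normalizer_iff.mp (hHV h.2) ((h : G)⁻¹ * v * (h : G))).mpr
        simp [mul_assoc]⟩
      left_inv := fun v => by ext; simp [mul_assoc]
      right_inv := fun v => by ext; simp [mul_assoc]
      map_mul' := fun v w => by ext; simp [mul_assoc] }
  map_one' := by ext v; simp
  map_mul' g h := by ext v; simp [mul_assoc]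

theorem conjAutOfLeNormalizer_coe (V H : Subgroup G)
    (hHV : H ≤ Subgroup.normalizer (V : Set G)) (h : H) (v : V) :
    ((conjAutOfLeNormalizer V H hHV h v : V) : G) = (h : G) * v * (h : G)⁻¹ := rfl

theorem closure_pair_subtype_eq_top (a b : G) (H : Subgroup G)
    (hab : H = Subgroup.closure {a, b}) (haH : a ∈ H) (hbH : b ∈ H) :
    Subgroup.closure {(⟨a, haH⟩ : H), ⟨b, hbH⟩} = ⊤ := by
  apply Subgroup.map_injective H.subtype_injective
  rw [MonoidHom.map_closure, ← MonoidHom.range_eq_map, Subgroup.range_subtype]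
  have : (H.subtype '' {(⟨a, haH⟩ : H), ⟨b, hbH⟩}) = {a, b} := by
    rw [Set.image_pair]; rfl
  rw [this, hab]

/-- Element form of the quadratic action hypothesis. -/
theorem conj_comm_of_quadratic (V : Subgroup G) (a : G)
    (ha : ⁅⁅V, Subgroup.zpowers a⁆, Subgroup.zpowers a⁆ = ⊥) (v : G) (hv : v ∈ V) :
    a * (a * v * a⁻¹ * v⁻¹) * a⁻¹ = a * v * a⁻¹ * v⁻¹ := by
  have h1 : ⁅⁅v, a⁆, a⁆ = 1 := by
    have : ⁅⁅v, a⁆, a⁆ ∈ ⁅⁅V, Subgroup.zpowers a⁆, Subgroup.zpowers a⁆ :=
      Subgroup.commutator_mem_commutator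
        (Subgroup.commutator_mem_commutator hv (Subgroup.mem_zpowers a)) (Subgroup.mem_zpowers a)
    rw [ha] at this
    exact Subgroup.mem_bot.mp this
  rw [commutatorElement_def, commutatorElement_def] at h1
  have h2 : (v * a * v⁻¹ * a⁻¹)⁻¹ = a * v * a⁻¹ * v⁻¹ := by simp [mul_assoc]
  obtain ⟨x, hx⟩ : ∃ x, x = v * a * v⁻¹ * a⁻¹ := ⟨_, rfl⟩
  rw [← hx] at h1 h2
  rw [← h2]
  have h4 : x * a * x⁻¹ = a := mul_inv_eq_one.mp h1
  have h5 : a * x⁻¹ = x⁻¹ * a := by
    calc a * x⁻¹ = x⁻¹ * (x * a * x⁻¹) := by group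
      _ = x⁻¹ * a := by rw [h4]
  calc a * x⁻¹ * a⁻¹ = x⁻¹ * a * a⁻¹ := by rw [h5]
    _ = x⁻¹ := by group

/-- **Transport to `SL₂`**, subgroup version (the common hypotheses of S0593–S0596). -/
theorem exists_hom_SL2_of_quadratic_pair [Finite G] (V H : Subgroup G)
    (hV : Cfsg.IsElementaryAbelian p V) (hHV : H ≤ Subgroup.normalizer (V : Set G))
    (hf : H ⊓ Subgroup.centralizer (V : Set G) = ⊥) (a b : G)
    (hab : H = Subgroup.closure {a, b})
    (ha : ⁅⁅V, Subgroup.zpowers a⁆, Subgroup.zpowers a⁆ = ⊥)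
    (hb : ⁅⁅V, Subgroup.zpowers b⁆, Subgroup.zpowers b⁆ = ⊥) (hnp : ¬ IsPGroup p H) :
    ∃ (E : Type) (_ : Field E) (_ : Fintype E) (_ : CharP E p)
      (φ : H →* Matrix.SpecialLinearGroup (Fin 2) E), ¬ IsPGroup p φ.range := by
  let _ : CommGroup V :=
    { (inferInstance : Group V) with mul_comm := fun x y => @mul_comm' _ _ hV.1 x y }
  have hexp : ∀ v : V, v ^ p = 1 := fun v => Subtype.ext (by simp [hV.2 v v.2])
  have haH : a ∈ H := hab ▸ Subgroup.subset_closure (by simp)
  have hbH : b ∈ H := hab ▸ Subgroup.subset_closure (by simp)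
  have hgen := closure_pair_subtype_eq_top a b H hab haH hbH
  refine exists_hom_SL2_of_quadratic_action (p := p) (V := V) hexp ⟨a, haH⟩ ⟨b, hbH⟩ hgen
    (conjAutOfLeNormalizer V H hHV) ?_ ?_ ?_ hnp
  · rw [injective_iff_map_eq_one]
    intro g hg
    have hgc : (g : G) ∈ Subgroup.centralizer (V : Set G) := by
      rw [Subgroup.mem_centralizer_iff]
      intro v hv
      have h1 : (g : G) * v * (g : G)⁻¹ = v := by
        rw [← conjAutOfLeNormalizer_coe V H hHV g ⟨v, hv⟩, hg]; rfl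
      calc v * (g : G) = ((g : G) * v * (g : G)⁻¹) * g := by rw [h1]
        _ = g * v := by simp [mul_assoc]
    have h2 : (g : G) ∈ H ⊓ Subgroup.centralizer (V : Set G) := ⟨g.2, hgc⟩
    rw [hf] at h2
    exact Subtype.ext (Subgroup.mem_bot.mp h2)
  · intro v
    apply Subtype.ext
    show a * (a * v * a⁻¹ / v) * a⁻¹ = a * v * a⁻¹ / v
    rw [div_eq_mul_inv]
    exact conj_comm_of_quadratic V a ha v v.2
  · intro v
    apply Subtype.ext
    show b * (b * v * b⁻¹ / v) * b⁻¹ = b * v * b⁻¹ / v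
    rw [div_eq_mul_inv]
    exact conj_comm_of_quadratic V b hb v v.2

omit [Fact p.Prime] in
/-- A quadratically and faithfully acting element has order dividing `p`. -/
theorem pow_p_eq_one_of_quadratic (V H : Subgroup G)
    (hV : Cfsg.IsElementaryAbelian p V)
    (hf : H ⊓ Subgroup.centralizer (V : Set G) = ⊥) (a : G) (haH : a ∈ H)
    (haN : a ∈ Subgroup.normalizer (V : Set G))
    (ha : ⁅⁅V, Subgroup.zpowers a⁆, Subgroup.zpowers a⁆ = ⊥) : a ^ p = 1 := by
  have hmem : a ^ p ∈ H ⊓ Subgroup.centralizer (V : Set G) := by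
    refine Subgroup.mem_inf.mpr ⟨H.pow_mem haH p, ?_⟩
    rw [Subgroup.mem_centralizer_iff]
    intro v hv
    have hav : a * v * a⁻¹ ∈ V := (Subgroup.mem_normalizer_iff.mp haN v).mp hv
    have hu : a * v * a⁻¹ * v⁻¹ ∈ V := V.mul_mem hav (V.inv_mem hv)
    have hcu : Commute a (a * v * a⁻¹ * v⁻¹) := by
      have := conj_comm_of_quadratic V a ha v hv
      show a * (a * v * a⁻¹ * v⁻¹) = (a * v * a⁻¹ * v⁻¹) * a
      calc a * (a * v * a⁻¹ * v⁻¹) = (a * (a * v * a⁻¹ * v⁻¹) * a⁻¹) * a := by simp [mul_assoc]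
        _ = (a * v * a⁻¹ * v⁻¹) * a := by rw [this]
    have key : ∀ n : ℕ, a ^ n * v * (a ^ n)⁻¹ = (a * v * a⁻¹ * v⁻¹) ^ n * v := by
      intro n
      induction n with
      | zero => simp
      | succ n ih =>
        have e1 : a ^ (n + 1) * v * (a ^ (n + 1))⁻¹ = a * (a ^ n * v * (a ^ n)⁻¹) * a⁻¹ := by
          rw [pow_succ']; simp [mul_assoc]
        rw [e1, ih]
        have e2 : a * ((a * v * a⁻¹ * v⁻¹) ^ n * v) * a⁻¹
            = (a * v * a⁻¹ * v⁻¹) ^ n * (a * v * a⁻¹) := by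
          rw [← mul_assoc a, (hcu.pow_right n).eq]; simp [mul_assoc]
        rw [e2, pow_succ]
        simp [mul_assoc]
    have hkp := key p
    rw [hV.2 _ hu, one_mul] at hkp
    calc v * a ^ p = (a ^ p * v * (a ^ p)⁻¹) * a ^ p := by rw [hkp]
      _ = a ^ p * v := by simp [mul_assoc]
  rw [hf] at hmem
  exact Subgroup.mem_bot.mp hmem

end final

end Cfsg.Agent.Lib.Helper52
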