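import Mathlib

set_option autoImplicit false

namespace Cfsg.Agent.Lib.Helper52

open Matrix

section mat

variable {E : Type*} [Field E]

/-- Cayley--Hamilton for `2 × 2` matrices. -/
theorem mat_two_mul_self (M : Matrix (Fin 2) (Fin 2) E) :
    M * M = M.trace • M - M.det • (1 : Matrix (Fin 2) (Fin 2) E) := by
  rw [Matrix.eta_fin_two M]
  ext i j
  fin_cases i <;> fin_cases j <;>
    simp [Matrix.mul_apply, Fin.sum_univ_two, Matrix.det_fin_two, Matrix.trace_fin_two] <;> ring

/-- The centralizer of a non-scalar `2 × 2` matrix `z` is `E[z]`. -/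
theorem mat_two_comm_form (z X : Matrix (Fin 2) (Fin 2) E)
    (hz : ¬ ∃ s : E, z = s • (1 : Matrix (Fin 2) (Fin 2) E)) (hc : z * X = X * z) :
    ∃ α β : E, X = α • (1 : Matrix (Fin 2) (Fin 2) E) + β • z := by
  have h00 := congrFun (congrFun hc 0) 0
  have h01 := congrFun (congrFun hc 0) 1
  have h10 := congrFun (congrFun hc 1) 0
  simp only [Matrix.mul_apply, Fin.sum_univ_two] at h00 h01 h10
  by_cases hb : z 0 1 = 0
  · by_cases hc' : z 1 0 = 0
    · have had : z 0 0 ≠ z 1 1 := by
        intro had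
        apply hz
        refine ⟨z 0 0, ?_⟩
        ext i j
        fin_cases i <;> fin_cases j <;> simp [hb, hc', had]
      have had' : z 0 0 - z 1 1 ≠ 0 := sub_ne_zero.mpr had
      refine ⟨X 0 0 - (X 0 0 - X 1 1) / (z 0 0 - z 1 1) * z 0 0,
        (X 0 0 - X 1 1) / (z 0 0 - z 1 1), ?_⟩
      have hy : X 0 1 = 0 := by
        rw [hb] at h01
        have : X 0 1 * (z 0 0 - z 1 1) = 0 := by linear_combination h01
        rcases mul_eq_zero.mp this with h | h
        · exact h
        · exact absurd h had'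
      have hu : X 1 0 = 0 := by
        rw [hc'] at h10
        have : X 1 0 * (z 0 0 - z 1 1) = 0 := by linear_combination -h10
        rcases mul_eq_zero.mp this with h | h
        · exact h
        · exact absurd h had'
      ext i j
      fin_cases i <;> fin_cases j <;> simp [hb, hc', hy, hu]
      · field_simp
        ring
    · refine ⟨X 0 0 - X 1 0 / z 1 0 * z 0 0, X 1 0 / z 1 0, ?_⟩
      ext i j
      fin_cases i <;> fin_cases j <;> simp <;> field_simp
      · linear_combination (-1 : E) * h00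
      · linear_combination (-1 : E) * h10
  · refine ⟨X 0 0 - X 0 1 / z 0 1 * z 0 0, X 0 1 / z 0 1, ?_⟩
    ext i j
    fin_cases i <;> fin_cases j <;> simp <;> field_simp
    · linear_combination h00
    · linear_combination h01

theorem mat_two_det_form (z : Matrix (Fin 2) (Fin 2) E) (α β : E) :
    (α • (1 : Matrix (Fin 2) (Fin 2) E) + β • z).det = α ^ 2 + α * β * z.trace + β ^ 2 * z.det := by
  simp [Matrix.det_fin_two, Matrix.trace_fin_two]
  ring

theorem mat_two_trace_form (z : Matrix (Fin 2) (Fin 2) E) (α β : E) :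
    (α • (1 : Matrix (Fin 2) (Fin 2) E) + β • z).trace = 2 * α + β * z.trace := by
  simp [Matrix.trace_fin_two]
  ring

end mat

section sl

variable {E : Type*} [Field E]

local notation "SL2" => Matrix.SpecialLinearGroup (Fin 2) E

/-- An element of `SL₂(E)` whose matrix is scalar. -/
def IsScalarSL (g : SL2) : Prop := ∃ s : E, (g : Matrix (Fin 2) (Fin 2) E) = s • 1

theorem IsScalarSL.comm {g : SL2} (hg : IsScalarSL g) (h : SL2) : g * h = h * g := by
  obtain ⟨s, hs⟩ := hg
  apply Subtype.ext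
  rw [Matrix.SpecialLinearGroup.coe_mul, Matrix.SpecialLinearGroup.coe_mul, hs]
  simp

theorem IsScalarSL.mul_self {g : SL2} (hg : IsScalarSL g) : g * g = 1 := by
  obtain ⟨s, hs⟩ := hg
  have hd : (g : Matrix (Fin 2) (Fin 2) E).det = 1 := g.2
  rw [hs] at hd
  have hs2 : s * s = 1 := by
    rw [Matrix.det_smul, Matrix.det_one, Fintype.card_fin, mul_one] at hd
    rw [← sq]; exact hd
  apply Subtype.ext
  rw [Matrix.SpecialLinearGroup.coe_mul, hs, Matrix.SpecialLinearGroup.coe_one]
  simp [smul_smul, hs2]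

/-- The centralizer of a non-scalar element of `SL₂(E)` is commutative. -/
theorem comm_of_comm_nonscalar {z x y : SL2} (hz : ¬ IsScalarSL z) (hx : z * x = x * z)
    (hy : z * y = y * z) : x * y = y * x := by
  have hx' : (z : Matrix (Fin 2) (Fin 2) E) * x = x * z := by
    rw [← Matrix.SpecialLinearGroup.coe_mul, ← Matrix.SpecialLinearGroup.coe_mul, hx]
  have hy' : (z : Matrix (Fin 2) (Fin 2) E) * y = y * z := by
    rw [← Matrix.SpecialLinearGroup.coe_mul, ← Matrix.SpecialLinearGroup.coe_mul, hy]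
  obtain ⟨α, β, hxf⟩ := mat_two_comm_form _ _ hz hx'
  obtain ⟨α', β', hyf⟩ := mat_two_comm_form _ _ hz hy'
  apply Subtype.ext
  rw [Matrix.SpecialLinearGroup.coe_mul, Matrix.SpecialLinearGroup.coe_mul, hxf, hyf]
  have : Commute (α • (1 : Matrix (Fin 2) (Fin 2) E) + β • (z : Matrix (Fin 2) (Fin 2) E))
      (α' • (1 : Matrix (Fin 2) (Fin 2) E) + β' • (z : Matrix (Fin 2) (Fin 2) E)) := by
    apply Commute.add_left <;> apply Commute.add_right
    · exact ((Commute.one_left _).smul_left α).smul_right α'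
    · exact ((Commute.one_left _).smul_left α).smul_right β'
    · exact ((Commute.one_right _).smul_left β).smul_right α'
    · exact ((Commute.refl _).smul_left β).smul_right β'
  exact this.eq

theorem trace_conj (h z : SL2) :
    ((h * z * h⁻¹ : SL2) : Matrix (Fin 2) (Fin 2) E).trace = (z : Matrix (Fin 2) (Fin 2) E).trace := by
  rw [Matrix.SpecialLinearGroup.coe_mul, Matrix.trace_mul_comm, ← Matrix.SpecialLinearGroup.coe_mul]
  have : h⁻¹ * (h * z) = z := by group
  rw [this]

/-- If `z'` commutes with the non-scalar `z`, has the same trace and `tr(z)² ≠ 4`, then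
`z' = z` or `z' = z⁻¹`. -/
theorem eq_or_eq_inv_of_comm {z z' : SL2} (h2 : (2 : E) ≠ 0) (hz : ¬ IsScalarSL z)
    (ht : (z : Matrix (Fin 2) (Fin 2) E).trace ^ 2 ≠ 4) (hc : z * z' = z' * z)
    (htr : (z' : Matrix (Fin 2) (Fin 2) E).trace = (z : Matrix (Fin 2) (Fin 2) E).trace) :
    z' = z ∨ z' = z⁻¹ := by
  have hc' : (z : Matrix (Fin 2) (Fin 2) E) * z' = z' * z := by
    rw [← Matrix.SpecialLinearGroup.coe_mul, ← Matrix.SpecialLinearGroup.coe_mul, hc]
  obtain ⟨α, β, hf⟩ := mat_two_comm_form _ _ hz hc'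
  set t := (z : Matrix (Fin 2) (Fin 2) E).trace with ht_def
  have hdz : (z : Matrix (Fin 2) (Fin 2) E).det = 1 := z.2
  have h1 : 2 * α + β * t = t := by
    have := mat_two_trace_form (z : Matrix (Fin 2) (Fin 2) E) α β
    rw [← hf, htr] at this
    exact this.symm
  have h3 : α ^ 2 + α * β * t + β ^ 2 = 1 := by
    have := mat_two_det_form (z : Matrix (Fin 2) (Fin 2) E) α β
    rw [← hf, hdz, mul_one] at this
    have hd' : (z' : Matrix (Fin 2) (Fin 2) E).det = 1 := z'.2
    rw [hd'] at this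
    exact this.symm
  have h4 : (β ^ 2 - 1) * (4 - t ^ 2) = 0 := by
    have e1 : 2 * α = t * (1 - β) := by linear_combination h1
    have : (2 * α) ^ 2 + 2 * (2 * α) * β * t + 4 * β ^ 2 = 4 := by linear_combination 4 * h3
    rw [e1] at this
    linear_combination this
  have h5 : β ^ 2 - 1 = 0 := by
    rcases mul_eq_zero.mp h4 with h | h
    · exact h
    · exfalso
      apply ht
      linear_combination -h
  have h6 : (β - 1) * (β + 1) = 0 := by linear_combination h5
  rcases mul_eq_zero.mp h6 with h | h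
  · left
    have hβ : β = 1 := by linear_combination h
    have hα : α = 0 := by
      have : 2 * α = 0 := by rw [hβ] at h1; linear_combination h1
      rcases mul_eq_zero.mp this with h' | h'
      · exact absurd h' h2
      · exact h'
    apply Subtype.ext
    rw [hf, hα, hβ]
    simp
  · right
    have hβ : β = -1 := by linear_combination h
    have hα : α = t := by
      have : 2 * (α - t) = 0 := by rw [hβ] at h1; linear_combination h1
      rcases mul_eq_zero.mp this with h' | h'
      · exact absurd h' h2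
      · linear_combination h'
    apply Subtype.ext
    rw [hf, hα, hβ, Matrix.SpecialLinearGroup.coe_inv, Matrix.adjugate_fin_two, ht_def]
    ext i j
    fin_cases i <;> fin_cases j <;> simp [Matrix.trace_fin_two]

/-- An involution-free criterion: `z * z = 1` in `SL₂(E)`, `2 ≠ 0`, forces `z` scalar. -/
theorem isScalarSL_of_mul_self {z : SL2} (h2 : (2 : E) ≠ 0) (hz : z * z = 1) : IsScalarSL z := by
  have hCH := mat_two_mul_self (z : Matrix (Fin 2) (Fin 2) E)
  have hdz : (z : Matrix (Fin 2) (Fin 2) E).det = 1 := z.2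
  have hz' : (z : Matrix (Fin 2) (Fin 2) E) * z = 1 := by
    rw [← Matrix.SpecialLinearGroup.coe_mul, hz, Matrix.SpecialLinearGroup.coe_one]
  rw [hz', hdz, one_smul] at hCH
  set t := (z : Matrix (Fin 2) (Fin 2) E).trace
  have h3 : t • (z : Matrix (Fin 2) (Fin 2) E) = (2 : E) • (1 : Matrix (Fin 2) (Fin 2) E) := by
    have : t • (z : Matrix (Fin 2) (Fin 2) E) = 1 + 1 := by
      rw [eq_sub_iff_add_eq] at hCH
      exact hCH.symm
    rw [this, two_smul]
  have ht0 : t ≠ 0 := by
    intro h0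
    rw [h0, zero_smul] at h3
    have := congrFun (congrFun h3 0) 0
    simp at this
    exact h2 this.symm
  refine ⟨t⁻¹ * 2, ?_⟩
  rw [mul_smul, ← h3, smul_smul, inv_mul_cancel₀ ht0, one_smul]

/-- `(1 + N)^n = 1 + n • N` when `N * N = 0`. -/
theorem one_add_pow_of_mul_self_zero {R : Type*} [Ring R] (N : R) (hN : N * N = 0) (n : ℕ) :
    (1 + N) ^ n = 1 + n • N := by
  induction n with
  | zero => simp
  | succ n ih =>
    rw [pow_succ, ih, mul_add, mul_one, add_mul, one_mul, smul_mul_assoc, hN, smul_zero, add_zero,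
      succ_nsmul]
    abel

theorem two_ne_zero_of_charP {p : ℕ} [Fact p.Prime] [CharP E p] (hp2 : p ≠ 2) : (2 : E) ≠ 0 := by
  intro h
  have h' : ((2 : ℕ) : E) = 0 := by exact_mod_cast h
  rw [CharP.cast_eq_zero_iff E p] at h'
  have hp := (Fact.out : p.Prime)
  have := (Nat.prime_dvd_prime_iff_eq hp Nat.prime_two).mp h'
  exact hp2 this

/-- A non-scalar `r`-element (`r ≠ p`) of `SL₂(E)`, `char E = p` odd, has `tr² ≠ 4`. -/
theorem trace_sq_ne_four {p : ℕ} [Fact p.Prime] [CharP E p] (hp2 : p ≠ 2) {r : ℕ} (hr : r.Prime)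
    (hrp : r ≠ p) {z : SL2} (hz : ¬ IsScalarSL z) (i : ℕ) (hzi : z ^ r ^ i = 1) :
    (z : Matrix (Fin 2) (Fin 2) E).trace ^ 2 ≠ 4 := by
  intro ht
  have h2 : (2 : E) ≠ 0 := two_ne_zero_of_charP (p := p) hp2
  have hp := (Fact.out : p.Prime)
  set M := (z : Matrix (Fin 2) (Fin 2) E) with hM
  set t := M.trace with ht_def
  set ε := t / 2 with hε_def
  have hε : ε * ε = 1 := by
    rw [hε_def]; field_simp; linear_combination ht
  have htε : 2 * ε = t := by rw [hε_def]; field_simp
  have hCH := mat_two_mul_self M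
  have hdz : M.det = 1 := z.2
  set A := ε • M with hA_def
  have hAA : A * A = t • M - 1 := by
    rw [hA_def, smul_mul_smul_comm, hε, one_smul, hCH, hdz, one_smul]
  have hAA2 : A + A = t • M := by
    rw [← two_smul E A, hA_def, smul_smul, htε]
  have hN : (A - 1) * (A - 1) = 0 := by
    have : (A - 1) * (A - 1) = A * A - (A + A) + 1 := by noncomm_ring
    rw [this, hAA, hAA2]; abel
  have hpow := one_add_pow_of_mul_self_zero (A - 1) hN p
  have hpN : p • (A - 1) = 0 := by
    rw [← Nat.cast_smul_eq_nsmul E, CharP.cast_eq_zero, zero_smul]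
  rw [hpN, add_zero, add_sub_cancel] at hpow
  -- `A ^ p = 1`
  have hM2p : M ^ (2 * p) = 1 := by
    have h1 : A ^ (2 * p) = 1 := by rw [mul_comm, pow_mul, hpow, one_pow]
    rw [hA_def, smul_pow, pow_mul] at h1
    have : (ε ^ 2) = 1 := by rw [sq]; exact hε
    rw [this, one_pow, one_smul] at h1
    exact h1
  have hz2p : z ^ (2 * p) = 1 := by
    apply Subtype.ext
    rw [Matrix.SpecialLinearGroup.coe_pow, Matrix.SpecialLinearGroup.coe_one]
    exact hM2p
  have hd1 : orderOf z ∣ 2 * p := orderOf_dvd_of_pow_eq_one hz2p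
  have hd2 : orderOf z ∣ r ^ i := orderOf_dvd_of_pow_eq_one hzi
  have hcop : Nat.Coprime (orderOf z) p := by
    have : Nat.Coprime (r ^ i) p := Nat.Coprime.pow_left i ((Nat.coprime_primes hr hp).mpr hrp)
    exact Nat.Coprime.coprime_dvd_left hd2 this
  have hd3 : orderOf z ∣ 2 := hcop.dvd_of_dvd_mul_right hd1
  have hzz : z * z = 1 := by
    rw [← sq]
    exact orderOf_dvd_iff_pow_eq_one.mp hd3
  exact hz (isScalarSL_of_mul_self h2 hzz)

/-- If `h` inverts `z` by conjugation and `z ≠ z⁻¹`, then `h⁴ = 1`. -/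
theorem pow_four_of_conj_eq_inv {h z : SL2} (hzz : z⁻¹ ≠ z) (hc : h * z * h⁻¹ = z⁻¹) :
    h ^ 4 = 1 := by
  have hzs : ¬ IsScalarSL z := by
    intro hs
    apply hzz
    exact inv_eq_of_mul_eq_one_left hs.mul_self
  have e1 : h * z = z⁻¹ * h := by
    rw [← hc]; group
  have e2 : h * z⁻¹ = z * h := by
    have : h * z⁻¹ * h⁻¹ = z := by
      have : h * z⁻¹ * h⁻¹ = (h * z * h⁻¹)⁻¹ := by group
      rw [this, hc, inv_inv]
    calc h * z⁻¹ = (h * z⁻¹ * h⁻¹) * h := by group
      _ = z * h := by rw [this]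
  have hcomm : z * (h * h) = (h * h) * z := by
    rw [mul_assoc h h z, e1, ← mul_assoc h, e2, mul_assoc]
  have hcomm' : (z : Matrix (Fin 2) (Fin 2) E) * (h * h : SL2) = (h * h : SL2) * z := by
    rw [← Matrix.SpecialLinearGroup.coe_mul, ← Matrix.SpecialLinearGroup.coe_mul, hcomm]
  obtain ⟨α, β, hf⟩ := mat_two_comm_form _ _ hzs hcomm'
  have hconj : h * (h * h) * h⁻¹ = h * h := by group
  have hconj' : (h : Matrix (Fin 2) (Fin 2) E) * (h * h : SL2) * (h⁻¹ : SL2) = (h * h : SL2) := by
    rw [← Matrix.SpecialLinearGroup.coe_mul, ← Matrix.SpecialLinearGroup.coe_mul, hconj]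
  have hzc : (h : Matrix (Fin 2) (Fin 2) E) * z * (h⁻¹ : SL2) = (z⁻¹ : SL2) := by
    rw [← Matrix.SpecialLinearGroup.coe_mul, ← Matrix.SpecialLinearGroup.coe_mul, hc]
  have hone : (h : Matrix (Fin 2) (Fin 2) E) * 1 * (h⁻¹ : SL2) = 1 := by
    rw [mul_one, ← Matrix.SpecialLinearGroup.coe_mul, mul_inv_cancel,
      Matrix.SpecialLinearGroup.coe_one]
  have key : β • ((z⁻¹ : SL2) : Matrix (Fin 2) (Fin 2) E) = β • (z : Matrix (Fin 2) (Fin 2) E) := by
    have h3 : (h : Matrix (Fin 2) (Fin 2) E) *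
        (α • (1 : Matrix (Fin 2) (Fin 2) E) + β • (z : Matrix (Fin 2) (Fin 2) E)) * (h⁻¹ : SL2)
        = α • (1 : Matrix (Fin 2) (Fin 2) E) + β • ((z⁻¹ : SL2) : Matrix (Fin 2) (Fin 2) E) := by
      rw [mul_add, add_mul, mul_smul_comm, smul_mul_assoc, mul_smul_comm, smul_mul_assoc, hone, hzc]
    rw [← hf, hconj', hf] at h3
    exact (add_left_cancel h3).symm
  have hβ : β = 0 := by
    by_contra hβ0
    apply hzz
    apply Subtype.ext
    have := congrArg (fun X => β⁻¹ • X) key
    simpa [smul_smul, inv_mul_cancel₀ hβ0] using this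
  rw [hβ, zero_smul, add_zero] at hf
  have hs : IsScalarSL (h * h) := ⟨α, hf⟩
  have := hs.mul_self
  calc h ^ 4 = (h * h) * (h * h) := by
        rw [show (4 : ℕ) = 2 + 2 from rfl, pow_add, sq]
    _ = 1 := this

end sl

section grp

variable {E : Type*} [Field E] [Finite E] {p : ℕ} [Fact p.Prime] [CharP E p]

local notation "SL2" => Matrix.SpecialLinearGroup (Fin 2) E

/-- For an abelian Sylow `r`-subgroup `R` (`r ≠ p`) of a subgroup `L` of `SL₂(E)`, `char E = p`
odd, with `r = 2` or `|L|` odd: `N_L(R) ≤ C_L(R)`. -/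
theorem normalizer_le_centralizer_sylow (hp2 : p ≠ 2) (L : Subgroup SL2) {r : ℕ} [Fact r.Prime]
    (hrp : r ≠ p) (R : Sylow r L) (hab : ∀ x ∈ R, ∀ y ∈ R, x * y = y * x)
    (hcase : r = 2 ∨ ¬ 2 ∣ Nat.card L) :
    Subgroup.normalizer ((R : Subgroup L) : Set L) ≤ Subgroup.centralizer ((R : Subgroup L) : Set L) := by
  have h2 : (2 : E) ≠ 0 := two_ne_zero_of_charP (p := p) hp2
  have hr := (Fact.out : r.Prime)
  intro h hh
  rw [Subgroup.mem_centralizer_iff]
  intro z hz
  have hzR : z ∈ (R : Subgroup L) := hz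
  by_cases hsc : IsScalarSL (z : SL2)
  · apply Subtype.ext
    rw [Subgroup.coe_mul, Subgroup.coe_mul]
    exact hsc.comm _
  · have hz'R : h * z * h⁻¹ ∈ (R : Subgroup L) := (Subgroup.mem_normalizer_iff.mp hh z).mp hzR
    have hcomm : z * (h * z * h⁻¹) = (h * z * h⁻¹) * z := hab z hzR _ hz'R
    obtain ⟨i, hi⟩ := R.isPGroup' ⟨z, hzR⟩
    have hzi : (z : SL2) ^ r ^ i = 1 := by
      have := congrArg (fun x : (R : Subgroup L) => ((x : L) : SL2)) hi
      simpa using this
    have ht := trace_sq_ne_four (p := p) hp2 hr hrp hsc i hzi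
    have hcomm' : (z : SL2) * ((h : SL2) * z * (h : SL2)⁻¹) = ((h : SL2) * z * (h : SL2)⁻¹) * z := by
      have := congrArg (fun x : L => (x : SL2)) hcomm
      simpa using this
    have key : ∀ (hz1 : (h : SL2) * z * (h : SL2)⁻¹ = z), z * h = h * z := by
      intro hz1
      apply Subtype.ext
      rw [Subgroup.coe_mul, Subgroup.coe_mul]
      calc (z : SL2) * h = ((h : SL2) * z * (h : SL2)⁻¹) * h := by rw [hz1]
        _ = h * z := by group
    rcases eq_or_eq_inv_of_comm h2 hsc ht hcomm' (trace_conj _ _) with h1 | h1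
    · exact key h1
    · by_cases hzz : (z : SL2)⁻¹ = z
      · exact key (h1.trans hzz)
      · have h4 : (h : SL2) ^ 4 = 1 := pow_four_of_conj_eq_inv hzz h1
        have h4' : h ^ 4 = 1 := by
          apply Subtype.ext
          rw [Subgroup.coe_pow, Subgroup.coe_one]
          exact h4
        rcases hcase with h2r | hodd
        · subst h2r
          -- `h` is a `2`-element of `N_L(R)`, hence lies in `R`
          have hP : IsPGroup 2 (Subgroup.zpowers h) := by
            intro g
            refine ⟨2, ?_⟩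
            obtain ⟨g, hg⟩ := g
            obtain ⟨k, rfl⟩ := Subgroup.mem_zpowers_iff.mp hg
            apply Subtype.ext
            simp only [Subgroup.coe_pow, Subgroup.coe_one]
            rw [← zpow_natCast, ← _root_.zpow_mul, mul_comm, _root_.zpow_mul, zpow_natCast]
            norm_num
            rw [h4', _root_.one_zpow]
          have hle : Subgroup.zpowers h ≤ Subgroup.normalizer ((R : Subgroup L) : Set L) := by
            rw [Subgroup.zpowers_le]; exact hh
          have hsup := IsPGroup.to_sup_of_normal_right' hP R.isPGroup' hle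
          have heq := R.is_maximal' hsup le_sup_right
          have hhR : h ∈ (R : Subgroup L) := by
            rw [← heq]
            exact Subgroup.mem_sup_left (Subgroup.mem_zpowers h)
          exact hab z hzR h hhR
        · have hd1 : orderOf h ∣ 4 := orderOf_dvd_of_pow_eq_one h4'
          have hd2 : orderOf h ∣ Nat.card L := orderOf_dvd_natCard h
          have hcop : Nat.Coprime (Nat.card L) 4 := by
            have : Nat.Coprime (Nat.card L) 2 :=
              (Nat.coprime_comm.mp ((Nat.Prime.coprime_iff_not_dvd Nat.prime_two).mpr hodd))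
            have h22 : (4 : ℕ) = 2 ^ 2 := by norm_num
            rw [h22]
            exact Nat.Coprime.pow_right 2 this
          have h1' : orderOf h = 1 :=
            Nat.eq_one_of_dvd_coprimes hcop hd2 hd1
          have hh1 : h = 1 := orderOf_eq_one_iff.mp h1'
          rw [hh1]; simp

/-- If `N_L(R) ≤ C_L(R)` for a Sylow `r`-subgroup `R`, `r ≠ p`, of a group `L` generated by
`p`-elements, then `R` is trivial. -/
theorem card_sylow_eq_one_of_gen {L : Type*} [Group L] [Finite L] (p : ℕ) [Fact p.Prime]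
    (hgen : Subgroup.closure {g : L | ∃ j : ℕ, g ^ p ^ j = 1} = ⊤) {r : ℕ} [Fact r.Prime]
    (hrp : r ≠ p) (R : Sylow r L)
    (hN : Subgroup.normalizer ((R : Subgroup L) : Set L) ≤ Subgroup.centralizer ((R : Subgroup L) : Set L)) :
    (R : Subgroup L) = ⊥ := by
  have hr := (Fact.out : r.Prime)
  have hp := (Fact.out : p.Prime)
  have hM := MonoidHom.ker_transferSylow_isComplement' R hN
  have htop : (MonoidHom.transferSylow R hN).ker = ⊤ := by
    rw [eq_top_iff, ← hgen, Subgroup.closure_le]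
    rintro g ⟨j, hj⟩
    rw [SetLike.mem_coe, MonoidHom.mem_ker]
    set y := MonoidHom.transferSylow R hN g with hy
    have h1 : y ^ p ^ j = 1 := by rw [hy, ← map_pow, hj, map_one]
    obtain ⟨k, hk⟩ := R.isPGroup' y
    have hd1 : orderOf y ∣ p ^ j := orderOf_dvd_of_pow_eq_one h1
    have hd2 : orderOf y ∣ r ^ k := orderOf_dvd_of_pow_eq_one hk
    have hcop : Nat.Coprime (p ^ j) (r ^ k) :=
      Nat.Coprime.pow j k ((Nat.coprime_primes hp hr).mpr (Ne.symm hrp))
    exact orderOf_eq_one_iff.mp (Nat.eq_one_of_dvd_coprimes hcop hd1 hd2)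
  rw [htop] at hM
  exact Subgroup.isComplement'_top_left.mp hM

/-- A subgroup of `SL₂(E)` (`E` finite of odd characteristic `p`) generated by `p`-elements and
with an abelian Sylow `2`-subgroup is a `p`-group. -/
theorem isPGroup_of_abelian_sylow_two (hp2 : p ≠ 2) (L : Subgroup SL2)
    (hgen : Subgroup.closure {g : L | ∃ j : ℕ, g ^ p ^ j = 1} = ⊤) (R2 : Sylow 2 L)
    (hab : ∀ x ∈ R2, ∀ y ∈ R2, x * y = y * x) : IsPGroup p L := by
  have hp := (Fact.out : p.Prime)
  have h2 : (2 : E) ≠ 0 := two_ne_zero_of_charP (p := p) hp2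
  have : Fact (Nat.Prime 2) := ⟨Nat.prime_two⟩
  -- `|L|` is odd
  have hR2 : (R2 : Subgroup L) = ⊥ :=
    card_sylow_eq_one_of_gen p hgen (Ne.symm hp2) R2
      (normalizer_le_centralizer_sylow hp2 L (Ne.symm hp2) R2 hab (Or.inl rfl))
  have hodd : ¬ 2 ∣ Nat.card L := by
    intro hdvd
    exact R2.ne_bot_of_dvd_card hdvd hR2
  have hcard0 : Nat.card L ≠ 0 := Nat.card_pos.ne'
  have hpow := Nat.eq_prime_pow_of_unique_prime_dvd (p := p) hcard0 (by
    intro d hd hdvd
    by_contra hdp
    have : Fact d.Prime := ⟨hd⟩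
    obtain ⟨Rd⟩ : Nonempty (Sylow d L) := inferInstance
    have hRd : (Rd : Subgroup L) ≠ ⊥ := Rd.ne_bot_of_dvd_card hdvd
    have hnt : Nontrivial (Rd : Subgroup L) := (Subgroup.nontrivial_iff_ne_bot _).mpr hRd
    have hcn : Nontrivial (Subgroup.center (Rd : Subgroup L)) := Rd.isPGroup'.center_nontrivial
    obtain ⟨⟨z₀, hz₀c⟩, hz₀1⟩ := exists_ne (1 : Subgroup.center (Rd : Subgroup L))
    have hz₀ne : (z₀ : L) ≠ 1 := by
      intro h
      apply hz₀1
      apply Subtype.ext
      apply Subtype.ext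
      exact h
    -- `z₀` is not scalar
    have hz₀s : ¬ IsScalarSL ((z₀ : L) : SL2) := by
      intro hs
      have hsq : ((z₀ : L) : SL2) * ((z₀ : L) : SL2) = 1 := hs.mul_self
      have hsq' : (z₀ : L) ^ 2 = 1 := by
        apply Subtype.ext
        rw [Subgroup.coe_pow, Subgroup.coe_one, sq]
        exact hsq
      have hd1 : orderOf (z₀ : L) ∣ 2 := orderOf_dvd_of_pow_eq_one hsq'
      have hd2 : orderOf (z₀ : L) ∣ Nat.card L := orderOf_dvd_natCard _
      have hcop : Nat.Coprime (Nat.card L) 2 :=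
        (Nat.coprime_comm.mp ((Nat.Prime.coprime_iff_not_dvd Nat.prime_two).mpr hodd))
      exact hz₀ne (orderOf_eq_one_iff.mp (Nat.eq_one_of_dvd_coprimes hcop hd2 hd1))
    have hcomm : ∀ x ∈ (Rd : Subgroup L), ((z₀ : L) : SL2) * x = x * (z₀ : L) := by
      intro x hx
      have := Subgroup.mem_center_iff.mp hz₀c ⟨x, hx⟩
      have h' := congrArg (fun y : (Rd : Subgroup L) => ((y : L) : SL2)) this
      simpa using h'.symm
    have habd : ∀ x ∈ Rd, ∀ y ∈ Rd, x * y = y * x := by
      intro x hx y hy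
      apply Subtype.ext
      rw [Subgroup.coe_mul, Subgroup.coe_mul]
      exact comm_of_comm_nonscalar hz₀s (hcomm x hx) (hcomm y hy)
    exact hRd (card_sylow_eq_one_of_gen p hgen hdp Rd
      (normalizer_le_centralizer_sylow hp2 L hdp Rd habd (Or.inr hodd))))
  exact IsPGroup.of_card hpow

end grp

end Cfsg.Agent.Lib.Helper52
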