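import Mathlib
import Cfsg.Agent.Lib.Helper52.SL2Sylow
import Cfsg.Agent.Lib.Helper52.QuadBridge
import Cfsg.Agent.S0199
import Cfsg.Prelude.Def_Solvable

/-!
# Quadratic pairs force non-abelian Sylow 2-subgroups (S0593, S0595)
-/

set_option autoImplicit false

namespace Cfsg.Agent.Lib.Helper52

section

variable {G : Type*} [Group G] {p : ℕ} [Fact p.Prime]

/-- S0593. -/
theorem sylow_two_not_comm_of_quadratic_pair [Finite G] (hp : p ≠ 2) (V H : Subgroup G)
    (hV : Cfsg.IsElementaryAbelian p V) (hHV : H ≤ Subgroup.normalizer (V : Set G))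
    (hf : H ⊓ Subgroup.centralizer (V : Set G) = ⊥) (a b : G)
    (hab : H = Subgroup.closure {a, b})
    (ha : ⁅⁅V, Subgroup.zpowers a⁆, Subgroup.zpowers a⁆ = ⊥)
    (hb : ⁅⁅V, Subgroup.zpowers b⁆, Subgroup.zpowers b⁆ = ⊥) (hnp : ¬ IsPGroup p H)
    (T : Sylow 2 H) : ¬ IsMulCommutative T := by
  intro hT
  obtain ⟨E, _, _, _, φ, hφ⟩ := exists_hom_SL2_of_quadratic_pair V H hV hHV hf a b hab ha hb hnp
  have haH : a ∈ H := hab ▸ Subgroup.subset_closure (by simp)
  have hbH : b ∈ H := hab ▸ Subgroup.subset_closure (by simp)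
  have hgen := closure_pair_subtype_eq_top a b H hab haH hbH
  have hap : a ^ p = 1 := pow_p_eq_one_of_quadratic V H hV hf a haH (hHV haH) ha
  have hbp : b ^ p = 1 := pow_p_eq_one_of_quadratic V H hV hf b hbH (hHV hbH) hb
  have hsurj : Function.Surjective φ.rangeRestrict := φ.rangeRestrict_surjective
  have : Fact (Nat.Prime 2) := ⟨Nat.prime_two⟩
  apply hφ
  refine isPGroup_of_abelian_sylow_two (E := E) (p := p) hp φ.range ?_ (T.mapSurjective hsurj) ?_
  · -- generated by `p`-elements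
    have h1 : (Subgroup.closure {(⟨a, haH⟩ : H), ⟨b, hbH⟩}).map φ.rangeRestrict = ⊤ := by
      rw [hgen, ← MonoidHom.range_eq_map, MonoidHom.range_eq_top.mpr hsurj]
    rw [MonoidHom.map_closure] at h1
    rw [eq_top_iff, ← h1]
    apply Subgroup.closure_mono
    rintro _ ⟨x, hx, rfl⟩
    refine ⟨1, ?_⟩
    rw [pow_one, ← map_pow]
    rcases hx with rfl | rfl
    · have : (⟨a, haH⟩ : H) ^ p = 1 := Subtype.ext (by simpa using hap)
      rw [this, map_one]
    · have : (⟨b, hbH⟩ : H) ^ p = 1 := Subtype.ext (by simpa using hbp)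
      rw [this, map_one]
  · rintro x hx y hy
    obtain ⟨x', hx', rfl⟩ := (hx : x ∈ (T : Subgroup H).map φ.rangeRestrict)
    obtain ⟨y', hy', rfl⟩ := (hy : y ∈ (T : Subgroup H).map φ.rangeRestrict)
    have hc : (⟨x', hx'⟩ : T) * ⟨y', hy'⟩ = ⟨y', hy'⟩ * ⟨x', hx'⟩ := @mul_comm' _ _ hT _ _
    have hc' : x' * y' = y' * x' := congrArg Subtype.val hc
    rw [← map_mul, ← map_mul, hc']

/-- If a Sylow `2`-subgroup of `H` is abelian, so is every Sylow `2`-subgroup of every `H' ≤ H`. -/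
theorem sylow_two_comm_of_le [Finite G] {H' H : Subgroup G} (hle : H' ≤ H) (T' : Sylow 2 H')
    (T : Sylow 2 H) (hT : IsMulCommutative T) : IsMulCommutative T' := by
  have : Fact (Nat.Prime 2) := ⟨Nat.prime_two⟩
  have hQ : IsPGroup 2 ((T' : Subgroup H').map (Subgroup.inclusion hle)) := T'.2.map _
  obtain ⟨S, hS⟩ := hQ.exists_le_sylow
  obtain ⟨g, hg⟩ := MulAction.exists_smul_eq H S T
  refine ⟨⟨fun x y => ?_⟩⟩
  have hx : Subgroup.inclusion hle x.1 ∈ (S : Subgroup H) := hS ⟨x.1, x.2, rfl⟩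
  have hy : Subgroup.inclusion hle y.1 ∈ (S : Subgroup H) := hS ⟨y.1, y.2, rfl⟩
  have hmem : ∀ z ∈ (S : Subgroup H), g * z * g⁻¹ ∈ T := by
    intro z hz
    rw [← hg]
    show g * z * g⁻¹ ∈ ((g • S : Sylow 2 H) : Subgroup H)
    rw [Sylow.coe_subgroup_smul, Subgroup.mem_pointwise_smul_iff_inv_smul_mem]
    simpa [MulAut.smul_def, mul_assoc] using hz
  have hc : (⟨_, hmem _ hx⟩ : T) * ⟨_, hmem _ hy⟩ = ⟨_, hmem _ hy⟩ * ⟨_, hmem _ hx⟩ :=
    @mul_comm' _ _ hT _ _
  have hc' : g * Subgroup.inclusion hle x.1 * g⁻¹ * (g * Subgroup.inclusion hle y.1 * g⁻¹)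
      = g * Subgroup.inclusion hle y.1 * g⁻¹ * (g * Subgroup.inclusion hle x.1 * g⁻¹) :=
    congrArg Subtype.val hc
  have hc'' : Subgroup.inclusion hle x.1 * Subgroup.inclusion hle y.1
      = Subgroup.inclusion hle y.1 * Subgroup.inclusion hle x.1 := by
    have e : ∀ u v : H, g * u * g⁻¹ * (g * v * g⁻¹) = g * (u * v) * g⁻¹ := by
      intro u v; group
    rw [e, e] at hc'
    exact mul_left_cancel (mul_right_cancel hc')
  rw [← map_mul, ← map_mul] at hc''
  have := Subgroup.inclusion_injective hle hc''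
  exact Subtype.ext this

/-- Conjugating `V` by an element of its normalizer. -/
theorem map_conj_eq_of_mem_normalizer (V : Subgroup G) (g : G)
    (hg : g ∈ Subgroup.normalizer (V : Set G)) :
    V.map (MulAut.conj g).toMonoidHom = V := by
  ext x
  constructor
  · rintro ⟨v, hv, rfl⟩
    exact (Subgroup.mem_normalizer_iff.mp hg v).mp hv
  · intro hx
    refine ⟨g⁻¹ * x * g, ?_, by simp [mul_assoc]⟩
    apply (Subgroup.mem_normalizer_iff.mp hg (g⁻¹ * x * g)).mpr
    simpa [mul_assoc] using hx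

/-- Quadratic action is inherited by conjugates under `N(V)`. -/
theorem quadratic_conj (V : Subgroup G) (a g : G) (hg : g ∈ Subgroup.normalizer (V : Set G))
    (ha : ⁅⁅V, Subgroup.zpowers a⁆, Subgroup.zpowers a⁆ = ⊥) :
    ⁅⁅V, Subgroup.zpowers (g * a * g⁻¹)⁆, Subgroup.zpowers (g * a * g⁻¹)⁆ = ⊥ := by
  have h1 := congrArg (Subgroup.map (MulAut.conj g).toMonoidHom) ha
  rw [Subgroup.map_commutator, Subgroup.map_commutator, MonoidHom.map_zpowers,
    map_conj_eq_of_mem_normalizer V g hg, Subgroup.map_bot] at h1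
  exact h1

/-- S0595. -/
theorem sylow_two_not_comm_of_not_mem_pCore [Finite G] (hp : p ≠ 2) (V H : Subgroup G)
    (hV : Cfsg.IsElementaryAbelian p V) (hHV : H ≤ Subgroup.normalizer (V : Set G))
    (hf : H ⊓ Subgroup.centralizer (V : Set G) = ⊥) (a : G) (haH : a ∈ H)
    (hq : ⁅⁅V, Subgroup.zpowers a⁆, Subgroup.zpowers a⁆ = ⊥)
    (hna : a ∉ (Cfsg.pCore p H).map H.subtype) (T : Sylow 2 H) : ¬ IsMulCommutative T := by
  intro hT
  have hap : a ^ p = 1 := pow_p_eq_one_of_quadratic V H hV hf a haH (hHV haH) hq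
  have hαp : (⟨a, haH⟩ : H) ^ p = 1 := Subtype.ext (by simpa using hap)
  have hX : IsPGroup p (Subgroup.zpowers (⟨a, haH⟩ : H)) := by
    rintro ⟨x, hx⟩
    obtain ⟨k, rfl⟩ := Subgroup.mem_zpowers_iff.mp hx
    refine ⟨1, Subtype.ext ?_⟩
    show ((⟨a, haH⟩ : H) ^ k) ^ p ^ 1 = 1
    rw [pow_one, ← zpow_natCast, ← zpow_mul, mul_comm, zpow_mul, zpow_natCast, hαp, one_zpow]
  -- Baer–Suzuki
  obtain ⟨g, hg⟩ : ∃ g : H, ¬ IsPGroup p ↥(Subgroup.zpowers (⟨a, haH⟩ : H) ⊔
      (Subgroup.zpowers (⟨a, haH⟩ : H)).map (MulAut.conj g).toMonoidHom) := by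
    by_contra hcon
    push Not at hcon
    obtain ⟨N, hN, hNp, hXN⟩ := Cfsg.Agent.S0199.result (Subgroup.zpowers (⟨a, haH⟩ : H)) hX hcon
    apply hna
    refine ⟨⟨a, haH⟩, ?_, rfl⟩
    have hle : N ≤ Cfsg.pCore p H := le_sSup ⟨hN, hNp⟩
    exact hle (hXN (Subgroup.mem_zpowers _))
  -- the subgroup generated by `a` and its conjugate
  have hb : ⁅⁅V, Subgroup.zpowers ((g : G) * a * (g : G)⁻¹)⁆,
      Subgroup.zpowers ((g : G) * a * (g : G)⁻¹)⁆ = ⊥ := quadratic_conj V a g (hHV g.2) hq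
  have hbH : (g : G) * a * (g : G)⁻¹ ∈ H := H.mul_mem (H.mul_mem g.2 haH) (H.inv_mem g.2)
  have hle : Subgroup.closure {a, (g : G) * a * (g : G)⁻¹} ≤ H := by
    rw [Subgroup.closure_le]
    rintro x (rfl | rfl)
    · exact haH
    · exact hbH
  have hnp : ¬ IsPGroup p ↥(Subgroup.closure {a, (g : G) * a * (g : G)⁻¹}) := by
    intro hP
    apply hg
    have hsub : Subgroup.zpowers (⟨a, haH⟩ : H) ⊔
        (Subgroup.zpowers (⟨a, haH⟩ : H)).map (MulAut.conj g).toMonoidHom ≤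
        (Subgroup.closure {a, (g : G) * a * (g : G)⁻¹}).comap H.subtype := by
      rw [MonoidHom.map_zpowers]
      apply sup_le
      · rw [Subgroup.zpowers_le]
        exact Subgroup.subset_closure (by simp)
      · rw [Subgroup.zpowers_le]
        exact Subgroup.subset_closure (by simp)
    rintro ⟨y, hy⟩
    obtain ⟨n, hn⟩ := hP ⟨(y : G), hsub hy⟩
    refine ⟨n, ?_⟩
    have h1 : (y : G) ^ p ^ n = 1 := by simpa using congrArg Subtype.val hn
    apply Subtype.ext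
    rw [Subgroup.coe_pow, Subgroup.coe_one]
    apply Subtype.ext
    rw [Subgroup.coe_pow, Subgroup.coe_one]
    exact h1
  have T' : Sylow 2 ↥(Subgroup.closure {a, (g : G) * a * (g : G)⁻¹}) := default
  exact sylow_two_not_comm_of_quadratic_pair hp V _ hV (hle.trans hHV)
    (le_bot_iff.mp (hf ▸ inf_le_inf_right _ hle)) a _ rfl hq hb hnp T'
    (sylow_two_comm_of_le hle T' T hT)

end

end Cfsg.Agent.Lib.Helper52
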