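import Mathlib
import Cfsg.Agent.Lib.Helper52.QuadSylow
import Cfsg.Agent.Lib.Helper52.CharP
import Cfsg.Agent.Lib.Helper52.PCore

/-!
# S0595 in "action form"

A finite group `Y` acting faithfully on a finite abelian group `W` of exponent `p` (odd), with
abelian Sylow `2`-subgroups: every quadratically acting element lies in `O_p(Y)`.
The faithful semidirect product model `W ⋊ Y` is built here.
-/

set_option autoImplicit false

open scoped commutatorElement

namespace Cfsg.Agent.Lib.Helper52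

section sylow

/-- Abelian Sylow `2`-subgroups pass to groups that embed. -/
theorem sylow_two_comm_of_injective {G₁ G₂ : Type*} [Group G₁] [Group G₂] [Finite G₂]
    (f : G₁ →* G₂) (hf : Function.Injective f) (T₁ : Sylow 2 G₁) (T₂ : Sylow 2 G₂)
    (hT : IsMulCommutative T₂) : IsMulCommutative T₁ := by
  have : Fact (Nat.Prime 2) := ⟨Nat.prime_two⟩
  have hQ : IsPGroup 2 ((T₁ : Subgroup G₁).map f) := T₁.2.map _
  obtain ⟨S, hS⟩ := hQ.exists_le_sylow
  obtain ⟨g, hg⟩ := MulAction.exists_smul_eq G₂ S T₂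
  refine ⟨⟨fun x y => ?_⟩⟩
  have hx : f x.1 ∈ (S : Subgroup G₂) := hS ⟨x.1, x.2, rfl⟩
  have hy : f y.1 ∈ (S : Subgroup G₂) := hS ⟨y.1, y.2, rfl⟩
  have hmem : ∀ z ∈ (S : Subgroup G₂), g * z * g⁻¹ ∈ T₂ := by
    intro z hz
    rw [← hg]
    show g * z * g⁻¹ ∈ ((g • S : Sylow 2 G₂) : Subgroup G₂)
    rw [Sylow.coe_subgroup_smul, Subgroup.mem_pointwise_smul_iff_inv_smul_mem]
    simpa [MulAut.smul_def, mul_assoc] using hz
  have hc : (⟨_, hmem _ hx⟩ : T₂) * ⟨_, hmem _ hy⟩ = ⟨_, hmem _ hy⟩ * ⟨_, hmem _ hx⟩ :=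
    @mul_comm' _ _ hT _ _
  have hc' : g * f x.1 * g⁻¹ * (g * f y.1 * g⁻¹) = g * f y.1 * g⁻¹ * (g * f x.1 * g⁻¹) :=
    congrArg Subtype.val hc
  have hc'' : f x.1 * f y.1 = f y.1 * f x.1 := by
    have e : ∀ u v : G₂, g * u * g⁻¹ * (g * v * g⁻¹) = g * (u * v) * g⁻¹ := by
      intro u v; group
    rw [e, e] at hc'
    exact mul_left_cancel (mul_right_cancel hc')
  rw [← map_mul, ← map_mul] at hc''
  exact Subtype.ext (hf hc'')

/-- Abelian Sylow `2`-subgroups pass to homomorphic images. -/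
theorem sylow_two_comm_of_surjective {G₁ G₂ : Type*} [Group G₁] [Group G₂] [Finite G₁]
    (f : G₁ →* G₂) (hf : Function.Surjective f) (T₁ : Sylow 2 G₁) (hT : IsMulCommutative T₁)
    (T₂ : Sylow 2 G₂) : IsMulCommutative T₂ := by
  have : Fact (Nat.Prime 2) := ⟨Nat.prime_two⟩
  have : Finite G₂ := Finite.of_surjective f hf
  have h1 : IsMulCommutative (T₁.mapSurjective hf) := by
    refine ⟨⟨?_⟩⟩
    rintro ⟨x, hx⟩ ⟨y, hy⟩
    obtain ⟨x', hx', rfl⟩ := (hx : x ∈ (T₁ : Subgroup G₁).map f)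
    obtain ⟨y', hy', rfl⟩ := (hy : y ∈ (T₁ : Subgroup G₁).map f)
    have hc : (⟨x', hx'⟩ : T₁) * ⟨y', hy'⟩ = ⟨y', hy'⟩ * ⟨x', hx'⟩ := @mul_comm' _ _ hT _ _
    have hc' : x' * y' = y' * x' := congrArg Subtype.val hc
    apply Subtype.ext
    show f x' * f y' = f y' * f x'
    rw [← map_mul, ← map_mul, hc']
  exact sylow_two_comm_of_injective (MonoidHom.id G₂) Function.injective_id T₂ _ h1

end sylow

section model

variable {Y : Type*} [Group Y] {W : Type*} [CommGroup W] {p : ℕ}

/-- The subgroup of elements `g` of `Y` with `g w / w` fixed by `y` for all `w`. -/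
theorem div_mem_fixed_of_mem_zpowers (c : Y →* MulAut W) (y : Y)
    (hy : ∀ w, c y (c y w / w) = c y w / w) {g : Y} (hg : g ∈ Subgroup.zpowers y) (w : W) :
    c y (c g w / w) = c g w / w := by
  let S : Subgroup Y :=
    { carrier := {g | ∀ w, c y (c g w / w) = c g w / w}
      one_mem' := by intro w; simp
      mul_mem' := by
        intro g h hg hh w
        have e : c (g * h) w / w = (c g (c h w) / c h w) * (c h w / w) := by
          rw [map_mul, MulAut.mul_apply]; simp
        rw [e, map_mul, hg, hh]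
      inv_mem' := by
        intro g hg w
        have e : c g⁻¹ w / w = (c g (c g⁻¹ w) / c g⁻¹ w)⁻¹ := by
          have : c g (c g⁻¹ w) = w := by
            rw [← MulAut.mul_apply, ← map_mul, mul_inv_cancel, map_one]; rfl
          rw [this]; simp
        rw [e, map_inv, hg] }
  have hyS : y ∈ S := hy
  exact (Subgroup.zpowers_le.mpr hyS) hg w

open SemidirectProduct in
/-- The faithful semidirect product model for a quadratic action. -/
theorem semidirect_model (hexp : ∀ w : W, w ^ p = 1) (c : Y →* MulAut W)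
    (hc : Function.Injective c) (y : Y) (hy : ∀ w, c y (c y w / w) = c y w / w) :
    Cfsg.IsElementaryAbelian p ((inl : W →* W ⋊[c] Y).range) ∧
    (inr : Y →* W ⋊[c] Y).range ≤ Subgroup.normalizer (((inl : W →* W ⋊[c] Y).range : Set _)) ∧
    (inr : Y →* W ⋊[c] Y).range ⊓
      Subgroup.centralizer (((inl : W →* W ⋊[c] Y).range : Set _)) = ⊥ ∧
    ⁅⁅(inl : W →* W ⋊[c] Y).range, Subgroup.zpowers ((inr : Y →* W ⋊[c] Y) y)⁆,
      Subgroup.zpowers ((inr : Y →* W ⋊[c] Y) y)⁆ = ⊥ := by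
  refine ⟨⟨?_, ?_⟩, ?_, ?_, ?_⟩
  · refine ⟨⟨?_⟩⟩
    rintro ⟨_, ⟨v, rfl⟩⟩ ⟨_, ⟨w, rfl⟩⟩
    apply Subtype.ext
    show inl v * inl w = inl w * inl v
    rw [← map_mul, ← map_mul, mul_comm]
  · rintro _ ⟨v, rfl⟩
    rw [← map_pow, hexp, map_one]
  · have hn : ((inl : W →* W ⋊[c] Y).range).Normal := by
      rw [range_inl_eq_ker_rightHom]; infer_instance
    rw [Subgroup.normalizer_eq_top]
    exact le_top
  · rw [eq_bot_iff]
    rintro x ⟨⟨g, rfl⟩, hx⟩
    rw [Subgroup.mem_bot]
    have hx' : inr g ∈ Subgroup.centralizer (((inl : W →* W ⋊[c] Y).range : Set (W ⋊[c] Y))) := hx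
    rw [Subgroup.mem_centralizer_iff] at hx'
    have h1 : c g = 1 := by
      ext w
      have h2 := hx' (inl w) ⟨w, rfl⟩
      apply inl_injective (φ := c)
      rw [inl_aut, ← h2]
      simp [mul_assoc]
    rw [hc (h1.trans (map_one c).symm), map_one]
  · -- quadratic
    let F : Subgroup W :=
      { carrier := {w | c y w = w}
        one_mem' := by simp
        mul_mem' := by
          intro a b ha hb
          show c y (a * b) = a * b
          rw [map_mul, show c y a = a from ha, show c y b = b from hb]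
        inv_mem' := by
          intro a ha
          show c y a⁻¹ = a⁻¹
          rw [map_inv, show c y a = a from ha] }
    have h1 : ⁅(inl : W →* W ⋊[c] Y).range, Subgroup.zpowers ((inr : Y →* W ⋊[c] Y) y)⁆
        ≤ F.map (inl : W →* W ⋊[c] Y) := by
      rw [Subgroup.commutator_le]
      rintro _ ⟨w, rfl⟩ g hg
      rw [← MonoidHom.map_zpowers] at hg
      obtain ⟨g', hg', rfl⟩ := hg
      have h2 := div_mem_fixed_of_mem_zpowers c y hy hg' w
      refine ⟨(c g' w / w)⁻¹, ?_, ?_⟩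
      · show c y (c g' w / w)⁻¹ = (c g' w / w)⁻¹
        rw [map_inv, h2]
      · rw [commutatorElement_def]
        have h3 : (inr g' : W ⋊[c] Y) * inl w⁻¹ * inr g'⁻¹ = inl (c g' w⁻¹) := (inl_aut g' w⁻¹).symm
        have h4 : (inl w : W ⋊[c] Y) * inr g' * (inl w)⁻¹ * (inr g')⁻¹
            = inl w * (inr g' * inl w⁻¹ * inr g'⁻¹) := by
          simp [mul_assoc]
        rw [h4, h3, ← map_mul]
        congr 1
        rw [map_inv, inv_div, div_eq_mul_inv]
    have h5 : F.map (inl : W →* W ⋊[c] Y) ≤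
        Subgroup.centralizer ((Subgroup.zpowers ((inr : Y →* W ⋊[c] Y) y) : Set (W ⋊[c] Y))) := by
      rintro _ ⟨w, hw, rfl⟩
      rw [Subgroup.mem_centralizer_iff]
      intro g hg
      have hw' : c y w = w := hw
      have h6 : Commute ((inr : Y →* W ⋊[c] Y) y) (inl w) := by
        show inr y * inl w = inl w * inr y
        have h7 := inl_aut (φ := c) y w
        rw [hw'] at h7
        calc (inr y : W ⋊[c] Y) * inl w = (inr y * inl w * inr y⁻¹) * inr y := by
              simp [mul_assoc]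
          _ = inl w * inr y := by rw [← h7]
      obtain ⟨k, rfl⟩ := Subgroup.mem_zpowers_iff.mp hg
      exact (h6.zpow_left k).eq
    rw [eq_bot_iff]
    calc ⁅⁅(inl : W →* W ⋊[c] Y).range, Subgroup.zpowers ((inr : Y →* W ⋊[c] Y) y)⁆,
          Subgroup.zpowers ((inr : Y →* W ⋊[c] Y) y)⁆
        ≤ ⁅F.map (inl : W →* W ⋊[c] Y), Subgroup.zpowers ((inr : Y →* W ⋊[c] Y) y)⁆ :=
          Subgroup.commutator_mono h1 le_rfl
      _ = ⊥ := Subgroup.commutator_eq_bot_iff_le_centralizer.mpr h5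

end model

section main

variable {Y : Type*} [Group Y] [Finite Y] {W : Type*} [CommGroup W] [Finite W] {p : ℕ}
  [Fact p.Prime]

open SemidirectProduct in
/-- **S0595 in action form.** -/
theorem mem_pCore_of_quadratic_action (hp : p ≠ 2) (hexp : ∀ w : W, w ^ p = 1)
    (c : Y →* MulAut W) (hc : Function.Injective c) (y : Y)
    (hy : ∀ w, c y (c y w / w) = c y w / w) (T : Sylow 2 Y) (hT : IsMulCommutative T) :
    y ∈ Cfsg.pCore p Y := by
  obtain ⟨hV, hHV, hf, hq⟩ := semidirect_model (p := p) hexp c hc y hy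
  have : Finite (W ⋊[c] Y) := Finite.of_equiv _ (equivProd (φ := c)).symm
  have : Fact (Nat.Prime 2) := ⟨Nat.prime_two⟩
  by_contra hcon
  let e : Y ≃* (inr : Y →* W ⋊[c] Y).range := MonoidHom.ofInjective (inr_injective (φ := c))
  have T' : Sylow 2 ((inr : Y →* W ⋊[c] Y).range) := default
  have hT' : IsMulCommutative T' :=
    sylow_two_comm_of_injective e.symm.toMonoidHom e.symm.injective T' T hT
  refine sylow_two_not_comm_of_not_mem_pCore hp _ _ hV hHV hf (inr y) ⟨y, rfl⟩ hq ?_ T' hT'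
  rintro ⟨h, hh, hhy⟩
  apply hcon
  have h1 : h = e y := Subtype.ext hhy
  rw [← pCore_map_equiv p e] at hh
  obtain ⟨y', hy', hy'e⟩ := hh
  have : y' = y := e.injective (hy'e.trans h1)
  exact this ▸ hy'

end main

end Cfsg.Agent.Lib.Helper52
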