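import Mathlib
import Cfsg.Agent.Lib.Helper31.BG134Defs2
import Cfsg.Agent.Lib.Helper31.BG12a
import Cfsg.Agent.Lib.Helper55.SylowIn
import Cfsg.Agent.Lib.Helper13.BG12B
import Cfsg.Agent.Lib.Helper31.Transitivity
import Cfsg.Agent.S1350
import Cfsg.Agent.S0025

/-!
# K-S1428-A2 (keystone 142824): a complement of `M_σ` containing `P` and normalizing `Sq`
-/

set_option autoImplicit false

namespace Cfsg.Agent.Lib.Helper52.BG134

open Cfsg Cfsg.Agent.Lib.Helper55 Cfsg.Agent.Lib.Helper31.BG134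

open scoped Pointwise

variable {G : Type*} [Group G] [Finite G]

omit [Finite G] in
/-- conjugating a complement of a normal subgroup `N` of `M` by an element of `M` gives a
complement -/
theorem isComplIn_cj {E N M : Subgroup G} (h : IsComplIn E N M)
    (hn : M ≤ Subgroup.normalizer (N : Set G)) {c : G} (hc : c ∈ M) :
    IsComplIn (cj c E) N M := by
  obtain ⟨hEM, hNM, hinf, hprod⟩ := h
  have hcM : cj c M = M := cj_eq_self_of_mem hc
  have hcN : cj c N = N := cj_eq_self_iff.mpr (hn hc)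
  refine ⟨?_, hNM, ?_, ?_⟩
  · have := cj_mono (g := c) hEM
    rwa [hcM] at this
  · have h1 : cj c (E ⊓ N) = cj c E ⊓ cj c N := cj_inf c E N
    rw [hcN, hinf, cj_bot] at h1
    exact h1.symm
  · intro m hm
    have hm' : c⁻¹ * m * c ∈ M := M.mul_mem (M.mul_mem (M.inv_mem hc) hm) hc
    obtain ⟨a, ha, b, hb, hab⟩ := hprod _ hm'
    refine ⟨c * a * c⁻¹, conj_mem_cj ha, c * b * c⁻¹, ?_, ?_⟩
    · have : c * b * c⁻¹ ∈ cj c N := conj_mem_cj hb
      rwa [hcN] at this
    · have : m = c * (c⁻¹ * m * c) * c⁻¹ := by group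
      rw [this, hab]; group

/-- KEYSTONE 142824  K-S1428-A2. -/
theorem Ctx.caseA_compl {M P R H : Subgroup G} {p r : ℕ} (c : Ctx M P R H p r)
    {q : ℕ} [Fact q.Prime] {Sq : Subgroup G} (hSq : IsSylowIn q ⊤ Sq) (hSqC : Sq ≤ CP M P) :
    ∃ E : Subgroup G, IsComplIn E (sigmaCore M) M ∧ P ≤ E ∧
      E ≤ Subgroup.normalizer (Sq : Set G) := by
  have hG := c.hG
  have hM := c.hM
  have hHall := (Cfsg.Agent.S1350.result hG M hM).1
  have hn : M ≤ Subgroup.normalizer (sigmaCore M : Set G) :=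
    Cfsg.Agent.Lib.Helper31.le_normalizer_piCoreOf (sigma M) M
  have hpp : p.Prime := c.hp.1
  have hpσ : p ∉ sigma M := c.hp.2.1
  -- a complement containing `P`
  have hK : ∀ s : ℕ, s.Prime → s ∣ Nat.card P → s ∉ sigma M := by
    intro s hs hsd
    rw [c.hPc] at hsd
    have : s = p := (Nat.prime_dvd_prime_iff_eq hs hpp).mp hsd
    rw [this]; exact hpσ
  obtain ⟨E₁, hE₁, hPE₁⟩ :=
    Cfsg.Agent.Lib.Helper13.BG12.exists_complIn_ge hG hM hHall c.hPM hK
  -- coprimality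
  have hcopE : (Nat.card E₁).Coprime (Nat.card (sigmaCore M)) :=
    Cfsg.Agent.Lib.Helper13.BG12.coprime_of_primes_disjoint
      (Cfsg.Agent.Lib.Helper13.BG12.complIn_prime_not_mem_sigma hHall hE₁) hHall.2.1
  have hStop : sigmaCore M ≠ ⊤ := fun h => hM.1 (top_le_iff.mp (h ▸ hHall.1))
  have hsolv : Group.IsSolvable ↥(sigmaCore M) := Cfsg.Agent.Lib.Helper55.ms_solvable hG hStop
  have hE₁n : E₁ ≤ Subgroup.normalizer (sigmaCore M : Set G) := hE₁.1.trans hn
  -- an `E₁`-invariant Sylow `q`-subgroup of `M_σ`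
  obtain ⟨P₁, -, hE₁P₁⟩ := Cfsg.Agent.S0025.result E₁ (sigmaCore M) hE₁n hcopE (Or.inr hsolv) q
    ⊥ bot_le (IsPGroup.of_bot) (by rw [Subgroup.normalizer_eq_top_iff.mpr Subgroup.normal_bot]; exact le_top)
  obtain ⟨S', hS'⟩ : ∃ S' : Subgroup G, S' = (P₁ : Subgroup (sigmaCore M)).map (sigmaCore M).subtype :=
    ⟨_, rfl⟩
  have hS'syl : IsSylowIn q (sigmaCore M) S' := by rw [hS']; exact isSylowIn_of_sylow P₁
  have hE₁S' : E₁ ≤ Subgroup.normalizer (S' : Set G) := by rw [hS']; exact hE₁P₁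
  -- both `S'` and `Sq` are `P`-invariant `q`-subgroups of `M_σ`
  have hPn : P ≤ Subgroup.normalizer (sigmaCore M : Set G) := c.hPM.trans hn
  have hcopP : (Nat.card P).Coprime (Nat.card (sigmaCore M)) :=
    Nat.Coprime.coprime_dvd_left (Subgroup.card_dvd_of_le hPE₁) hcopE
  have hSqσ : Sq ≤ sigmaCore M := hSqC.trans inf_le_left
  have hPSq : P ≤ Subgroup.normalizer (Sq : Set G) := by
    intro x hx
    have hxc : x ∈ Subgroup.centralizer (Sq : Set G) := by
      rw [Subgroup.mem_centralizer_iff]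
      intro y hy
      have hy' : y ∈ Subgroup.centralizer (P : Set G) := (hSqC hy).2
      rw [Subgroup.mem_centralizer_iff] at hy'
      exact (hy' x hx).symm
    exact Subgroup.centralizer_le_normalizer (Sq : Set G) hxc
  obtain ⟨S, d, hSσ, hSq', -, hS'S, hdσ, hdP, hSqd⟩ :=
    Cfsg.Agent.Lib.Helper31.exists_inv_sylow_pair P (sigmaCore M) hPn hcopP (Or.inr hsolv) q
      S' Sq hS'syl.1 hSqσ hS'syl.2.1 hSq.2.1 (hPE₁.trans hE₁S') hPSq
  have hSS' : S = S' := hS'syl.2.2 S hSσ hSq' hS'S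
  have hSqeq : cj d S' = Sq := by
    have h1 : Sq ≤ cj d S' := by
      rw [← hSS']
      exact hSqd
    exact hSq.2.2 _ le_top (isPGroup_cj hS'syl.2.1) h1
  have hdM : d ∈ M := hHall.1 hdσ
  refine ⟨cj d E₁, isComplIn_cj hE₁ hn hdM, ?_, ?_⟩
  · -- `cj d P = P`
    intro x hx
    rw [mem_cj]
    rw [Subgroup.mem_centralizer_iff] at hdP
    have : d⁻¹ * x * d = x := by
      have := hdP x hx
      calc d⁻¹ * x * d = d⁻¹ * (x * d) := by group
        _ = d⁻¹ * (d * x) := by rw [this]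
        _ = x := by group
    rw [this]
    exact hPE₁ hx
  · have h1 : cj d E₁ ≤ cj d (Subgroup.normalizer (S' : Set G)) := cj_mono hE₁S'
    rw [cj_normalizer, hSqeq] at h1
    exact h1

end Cfsg.Agent.Lib.Helper52.BG134
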