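import Mathlib
import Cfsg.Agent.Lib.Helper15.BG142Defs
import Cfsg.Agent.Lib.Helper13.BG12B
import Cfsg.Agent.Lib.Helper12.CNMaxSub
import Cfsg.Agent.Lib.Helper14.BG134G8
import Cfsg.Agent.Lib.Helper16.BG134Asm
import Cfsg.Agent.Lib.Helper91.BG125e
import Cfsg.Agent.S1350
import Cfsg.Agent.S1418
import Cfsg.Agent.S1420
import Cfsg.Agent.S1428

/-!
# BG Theorem 14.2 pack (S1430/S1431), keystone 143015 (K-TX-15): BG 13.7 as a corollary of T-X
-/

set_option autoImplicit false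
set_option linter.unusedSectionVars false
set_option linter.unusedVariables false

namespace Cfsg.Agent.Lib.Helper52.BG142

open Cfsg Cfsg.Agent.Lib.Helper55 Cfsg.Agent.Lib.Helper31.BG134 Cfsg.Agent.Lib.Helper15.BG139
  Cfsg.Agent.Lib.Helper15.BG142

variable {G : Type*} [Group G] [Finite G]

/-- **KEYSTONE 143015  K-TX-15**: BG 13.7 (`tau12_regular`, form `H137`) is a corollary of T-X. -/
theorem h137_of_htx (hG : IsMinSimpleOddOrder G) (hSP : HSP G) (hTX : HTX G) : H137 G := by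
  intro M E P A p q hM hE hp hPE hPc hq hAE hAe hAc hCA
  by_contra hC1
  have hC1' : CP M P ≠ ⊥ := hC1
  have hpp : p.Prime := hp.1
  have hqp : q.Prime := hq.1
  haveI : Fact p.Prime := ⟨hpp⟩
  haveI : Fact q.Prime := ⟨hqp⟩
  have hEM : E ≤ M := hE.1
  have hPM : P ≤ M := hPE.trans hEM
  have hMtop : M ≠ ⊤ := hM.1
  -- `P ≠ ⊥`, `P ≠ ⊤`
  have hP1 : P ≠ ⊥ := by
    intro h
    rw [h, Subgroup.card_bot] at hPc
    exact hpp.one_lt.ne' hPc.symm
  have hPtop : P ≠ ⊤ := fun h => hMtop (top_le_iff.mp (h ▸ hPM))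
  -- Step 1: `R ≤ A ⊓ C(P)` of order `q`
  have hAq : IsPGroup q A := IsPGroup.of_card (n := 2) hAc
  have hACq : IsPGroup q ↥(A ⊓ Subgroup.centralizer (P : Set G)) := hAq.to_le inf_le_left
  have hdvd : q ∣ Nat.card ↥(A ⊓ Subgroup.centralizer (P : Set G)) := by
    obtain ⟨n, hn⟩ := IsPGroup.iff_card.mp hACq
    rcases Nat.eq_zero_or_pos n with h0 | h0
    · exfalso
      rw [h0, pow_zero] at hn
      exact hCA (Subgroup.card_eq_one.mp hn)
    · rw [hn]
      exact dvd_pow_self q h0.ne'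
  obtain ⟨x₀, hx₀⟩ := exists_prime_orderOf_dvd_card' q hdvd
  obtain ⟨x, hxAC, hxo⟩ : ∃ x : G, x ∈ A ⊓ Subgroup.centralizer (P : Set G) ∧ orderOf x = q :=
    ⟨(x₀ : G), x₀.2, by rw [← hx₀, Subgroup.orderOf_coe]⟩
  obtain ⟨R, hRdef⟩ : ∃ R : Subgroup G, R = Subgroup.zpowers x := ⟨_, rfl⟩
  have hxR : x ∈ R := by rw [hRdef]; exact Subgroup.mem_zpowers x
  have hRc : Nat.card R = q := by rw [hRdef, Nat.card_zpowers, hxo]
  have hRAC : R ≤ A ⊓ Subgroup.centralizer (P : Set G) := by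
    rw [hRdef, Subgroup.zpowers_le]; exact hxAC
  have hRA : R ≤ A := hRAC.trans inf_le_left
  have hRCP : R ≤ Subgroup.centralizer (P : Set G) := hRAC.trans inf_le_right
  have hRE : R ≤ E := hRA.trans hAE
  have hRM : R ≤ M := hRE.trans hEM
  have hR1 : R ≠ ⊥ := by
    intro h
    rw [h, Subgroup.card_bot] at hRc
    exact hqp.one_lt.ne' hRc.symm
  have hRtop : R ≠ ⊤ := fun h => hMtop (top_le_iff.mp (h ▸ hRM))
  have hRq : IsPGroup q R := IsPGroup.of_card (n := 1) (by rw [hRc, pow_one])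
  have hPp : IsPGroup p P := IsPGroup.of_card (n := 1) (by rw [hPc, pow_one])
  have hx1 : x ≠ 1 := by
    intro h
    rw [h, orderOf_one] at hxo
    exact hqp.one_lt.ne' hxo.symm
  -- Step 2: `CP M P ≤ CP M R`
  have h28 := Cfsg.Agent.S1428.result hG M hM E hE p hp P hPE hPc R (le_inf hRE hRCP)
    (by rw [hRc]; exact hqp)
  have hCR1 : sigmaCore M ⊓ Subgroup.centralizer (R : Set G) ≠ ⊥ := by
    intro h
    rw [h] at h28
    exact hC1 (le_bot_iff.mp h28)
  -- Step 3: `M` is the only maximal subgroup over `C_G(R)`, and over `N_G(R)`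
  have h18 := (Cfsg.Agent.S1418.result hG M hM E hE q hq A ⟨hAE, hAe, hAc⟩).2.2 R hRA hRc hCR1
  obtain ⟨hCRM, hCRuniq⟩ := h18
  have hNRM : Subgroup.normalizer (R : Set G) ≤ M := by
    obtain ⟨K, hK, hNK⟩ := Cfsg.Agent.Lib.Helper12.CNMaxSub.exists_coatom_normalizer_le hG hR1 hRtop
    have hCK : Subgroup.centralizer (R : Set G) ≤ K :=
      (Subgroup.centralizer_le_normalizer (R : Set G)).trans hNK
    rw [← hCRuniq K hK hCK]
    exact hNK
  -- Step 4: a maximal subgroup `H ≥ N_G(P)`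
  obtain ⟨H, hH, hNPH⟩ := Cfsg.Agent.Lib.Helper12.CNMaxSub.exists_coatom_normalizer_le hG hP1 hPtop
  have hpH : p ∈ sigma H := hTX M P H p hM hPM hPc (Or.inl hp) hC1' hH hNPH
  have hMH : M ≠ H := fun h => hp.2.1 (h ▸ hpH)
  have hCPH : Subgroup.centralizer (P : Set G) ≤ H :=
    (Subgroup.centralizer_le_normalizer (P : Set G)).trans hNPH
  have hPH : P ≤ H := Subgroup.le_normalizer.trans hNPH
  have hPHσ : P ≤ sigmaCore H :=
    Cfsg.Agent.Lib.Helper91.BG125.le_sigmaCore_of_mem_sigma hG hH hpH hPp hPH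
  have hRH : R ≤ H := hRCP.trans hCPH
  have hCPMH : CP M P ≤ sigmaCore M ⊓ H := le_inf inf_le_left (inf_le_right.trans hCPH)
  -- Step 5: `q ∉ σ(H)`
  have hqH : q ∉ sigma H := by
    intro hqH
    have h := (Cfsg.Agent.Lib.Helper14.BG134.tau2_and_compl hG hH hM hMH hqH hq.2.1 hRq hR1 hRH
      hNRM).2.2
    rw [h] at hCPMH
    exact hC1 (le_bot_iff.mp hCPMH)
  -- Step 6: `q ∉ τ₂(H)`
  have hxH : x ∈ H := hRH hxR
  have hq2H : q ∉ tau2 H := by
    intro hq2H
    have hHall := (Cfsg.Agent.S1350.result hG H hH).1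
    obtain ⟨EH, hEH, -⟩ := Cfsg.Agent.Lib.Helper13.BG12.exists_complIn_ge hG hH hHall
      (K := ⊥) bot_le (by
        intro r hr hrd
        rw [Subgroup.card_bot] at hrd
        exact absurd (Nat.dvd_one.mp hrd) hr.one_lt.ne')
    have hxhat : x ∈ sigmaHat H := by
      refine ⟨hxH, ?_⟩
      obtain ⟨y, hy1⟩ := (Subgroup.ne_bot_iff_exists_ne_one.mp hP1)
      refine ⟨(y : G), hPHσ y.2, fun h => hy1 (Subtype.ext h), ?_⟩
      have := (Subgroup.mem_centralizer_iff.mp (hRCP hxR)) (y : G) y.2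
      exact this.symm
    have h20 := (Cfsg.Agent.S1420.result hG H hH EH hEH).2.2.2 x hxH hx1 (by
      intro r hr hrd
      rw [hxo] at hrd
      have : r = q := (Nat.prime_dvd_prime_iff_eq hr hqp).mp hrd
      rw [this]; exact hq2H) hxhat
    have hCxR : Subgroup.centralizer ({x} : Set G) ≤ Subgroup.centralizer (R : Set G) := by
      intro g hg
      rw [Subgroup.mem_centralizer_iff] at hg ⊢
      intro z hz
      rw [hRdef] at hz
      obtain ⟨k, rfl⟩ := Subgroup.mem_zpowers_iff.mp hz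
      have hc : Commute x g := hg x (Set.mem_singleton x)
      exact (hc.zpow_left k).eq
    exact hMH (h20.2 M hM (hCxR.trans hCRM))
  -- Step 7: `q ∈ τ₁(H) ∪ τ₃(H)` and T-X for `(H, R, M)`
  have hqdH : q ∣ Nat.card H := by
    rw [← hRc]
    exact Subgroup.card_dvd_of_le hRH
  have hq13 : q ∈ tau1 H ∨ q ∈ tau3 H := by
    rcases Cfsg.Agent.Lib.Helper16.BG134.mem_tau_cases hG hH hqp hqdH hqH with h | h | h
    · exact Or.inl h
    · exact absurd h hq2H
    · exact Or.inr h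
  have hPCR : P ≤ Subgroup.centralizer (R : Set G) := by
    intro y hy
    rw [Subgroup.mem_centralizer_iff]
    intro z hz
    have := (Subgroup.mem_centralizer_iff.mp (hRCP hz)) y hy
    exact this.symm
  have hCPHR : CP H R ≠ ⊥ := by
    intro h
    have : P ≤ CP H R := le_inf hPHσ hPCR
    rw [h] at this
    exact hP1 (le_bot_iff.mp this)
  exact hq.2.1 (hTX H R M q hH hRH hRc hq13 hCPHR hM hNRM)

end Cfsg.Agent.Lib.Helper52.BG142
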