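import Mathlib
import Cfsg.Agent.Lib.Helper02.BG1310Defs
import Cfsg.Agent.Lib.Helper01.BG134P1
import Cfsg.Agent.Lib.Helper13.BG12B
import Cfsg.Agent.Lib.Helper16.BG134Asm
import Cfsg.Agent.Lib.Helper41.BG134Z
import Cfsg.Agent.Lib.Helper71.BG10Sub
import Cfsg.Agent.S1350

/-!
# BG Lemma 13.10 ("Lemma D"), keystone 143113 (K-LD2-Z): the conclusion for a nonregular `M`
-/

set_option autoImplicit false
set_option linter.unusedSectionVars false
set_option linter.unusedVariables false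

namespace Cfsg.Agent.Lib.Helper52.BG1310

open Cfsg Cfsg.Agent.Lib.Helper55 Cfsg.Agent.Lib.Helper31.BG134 Cfsg.Agent.Lib.Helper15.BG139
  Cfsg.Agent.Lib.Helper02.BG1310

variable {G : Type*} [Group G] [Finite G]

/-- **KEYSTONE 143113  K-LD2-Z** (conclusion for a nonregular `M`). -/
theorem nr_conclusion {M E E₁ E₃ : Subgroup G} (d : NRS M E E₁ E₃)
    (hI : TypeI M E₁ E₃ → CP M E₃ ≤ CP M E₁)
    (hIIa : TypeII M E₁ E₃ → CP M E₃ ≤ Subgroup.centralizer (E₁ : Set G) → False)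
    (hIIb : TypeII M E₁ E₃ → ¬ CP M E₃ ≤ Subgroup.centralizer (E₁ : Set G) → False) :
    CP M E ≠ ⊥ ∧ ∀ Q : Subgroup G, Q ≤ E → (Nat.card Q).Prime →
      CP M Q = CP M E ∧ E ≤ Subgroup.normalizer (Q : Set G) := by
  have hG := d.nr.hG
  have hM := d.nr.hM
  have hE := d.nr.hE
  have hE₁E : E₁ ≤ E := d.nr.hE₁.1
  have hE₃E : E₃ ≤ E := d.nr.hE₃.1
  have hEM : E ≤ M := hE.1
  -- type (I)
  have tI : TypeI M E₁ E₃ := by
    rcases d.hdich with h | h
    · exact h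
    · exfalso
      by_cases hc : CP M E₃ ≤ Subgroup.centralizer (E₁ : Set G)
      · exact hIIa h hc
      · exact hIIb h hc
  have h31 : CP M E₃ ≤ CP M E₁ := hI tI
  have h13 : CP M E₁ ≤ CP M E₃ := tI.2
  have hC13 : CP M E₁ = CP M E₃ := le_antisymm h13 h31
  -- `CP M E = CP M E₁`
  have hCE : CP M E = CP M E₁ := by
    apply le_antisymm
    · exact le_inf inf_le_left (inf_le_right.trans (Subgroup.centralizer_le hE₁E))
    · refine le_inf inf_le_left ?_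
      intro x hx
      have hx1 : x ∈ Subgroup.centralizer (E₁ : Set G) := (Subgroup.mem_inf.mp hx).2
      have hx3 : x ∈ Subgroup.centralizer (E₃ : Set G) := (Subgroup.mem_inf.mp (h13 hx)).2
      rw [Subgroup.mem_centralizer_iff]
      intro e he
      obtain ⟨a, ha, b, hb, rfl⟩ := d.hfac e he
      have h1 := (Subgroup.mem_centralizer_iff.mp hx3) a ha
      have h2 := (Subgroup.mem_centralizer_iff.mp hx1) b hb
      rw [mul_assoc, h2, ← mul_assoc, h1, mul_assoc]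
  refine ⟨by rw [hCE]; exact d.hC₁ne, ?_⟩
  intro Q hQE hQc
  obtain ⟨r, hr⟩ : ∃ r : ℕ, r = Nat.card Q := ⟨_, rfl⟩
  have hrp : r.Prime := hr ▸ hQc
  haveI : Fact r.Prime := ⟨hrp⟩
  have hQ1 : Q ≠ ⊥ := by
    intro h
    rw [h, Subgroup.card_bot] at hr
    exact hrp.one_lt.ne' hr
  have hQr : IsPGroup r Q := IsPGroup.of_card (n := 1) (by rw [← hr, pow_one])
  have hrE : r ∣ Nat.card E := hr ▸ Subgroup.card_dvd_of_le hQE
  have hrM : r ∣ Nat.card M := hrE.trans (Subgroup.card_dvd_of_le hEM)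
  have hHall := (Cfsg.Agent.S1350.result hG M hM).1
  have hrσ : r ∉ sigma M :=
    Cfsg.Agent.Lib.Helper13.BG12.complIn_prime_not_mem_sigma hHall hE r hrp hrE
  have hQprimes : ∀ π : Set ℕ, r ∈ π → ∀ p : ℕ, p.Prime → p ∣ Nat.card Q → p ∈ π := by
    intro π hπ p hp hpd
    rw [← hr] at hpd
    have : p = r := (Nat.prime_dvd_prime_iff_eq hp hrp).mp hpd
    rw [this]; exact hπ
  rcases Cfsg.Agent.Lib.Helper16.BG134.mem_tau_cases hG hM hrp hrM hrσ with h1 | h2 | h3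
  · -- `r ∈ τ₁(M)`: `Q` is conjugate into `E₁`, hence central in `E`
    have hrE₃ : ¬ r ∣ Nat.card E₃ := by
      intro h
      have := d.nr.hE₃.2.1 r hrp h
      exact h1.2.2.2.1 this.2.2.1
    obtain ⟨l, hlE, hlQ⟩ := Cfsg.Agent.Lib.Helper01.BG134.exists_conj_le_of_factor E E₃ E₁ Q hE₃E
      hE₁E d.hE₃n d.hfac hrE₃ hQE hQr
    have hQ'c : (Nat.card (cj l Q)).Prime := by rw [card_cj]; exact hQc
    have hE₃Q' : E₃ ≤ Subgroup.centralizer ((cj l Q : Subgroup G) : Set G) := tI.1 (cj l Q) hlQ hQ'c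
    have hE₁comm : ∀ a ∈ E₁, ∀ b ∈ E₁, a * b = b * a := by
      intro a ha b hb
      haveI := d.hE₁c
      obtain ⟨g, hg⟩ := IsCyclic.exists_generator (α := E₁)
      obtain ⟨i, hi⟩ := Subgroup.mem_zpowers_iff.mp (hg ⟨a, ha⟩)
      obtain ⟨j, hj⟩ := Subgroup.mem_zpowers_iff.mp (hg ⟨b, hb⟩)
      have hab : (⟨a, ha⟩ : E₁) * ⟨b, hb⟩ = ⟨b, hb⟩ * ⟨a, ha⟩ := by
        rw [← hi, ← hj]
        exact ((Commute.refl g).zpow_zpow i j).eq
      exact congrArg Subtype.val hab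
    have hE₁Q' : E₁ ≤ Subgroup.centralizer ((cj l Q : Subgroup G) : Set G) := by
      intro b hb
      rw [Subgroup.mem_centralizer_iff]
      intro z hz
      exact hE₁comm z (hlQ hz) b hb
    have hEQ' : E ≤ Subgroup.centralizer ((cj l Q : Subgroup G) : Set G) := by
      intro e he
      obtain ⟨a, ha, b, hb, rfl⟩ := d.hfac e he
      exact Subgroup.mul_mem _ (hE₃Q' ha) (hE₁Q' hb)
    have hQQ' : Q = cj l Q := by
      apply Subgroup.eq_of_le_of_card_ge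
      · intro y hy
        have hz : l * y * l⁻¹ ∈ cj l Q := conj_mem_cj hy
        have hcomm := (Subgroup.mem_centralizer_iff.mp (hEQ' hlE)) (l * y * l⁻¹) hz
        -- `(l y l⁻¹) l = l (l y l⁻¹)`, so `y = l y l⁻¹`
        have hy' : y = l * y * l⁻¹ := by
          have h2 : l * y = l * (l * y * l⁻¹) := by
            rw [← hcomm]; group
          exact mul_left_cancel h2
        rw [hy']; exact hz
      · rw [card_cj]
    have hQE₁ : Q ≤ E₁ := by rw [hQQ']; exact hlQ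
    have hEQ : E ≤ Subgroup.centralizer (Q : Set G) := by rw [hQQ']; exact hEQ'
    refine ⟨?_, hEQ.trans (Subgroup.centralizer_le_normalizer (Q : Set G))⟩
    rw [d.hC₁ Q hQE₁ hQ1, hCE]
  · exact absurd h2 (d.hτ2 r)
  · -- `r ∈ τ₃(M)`: `Q ≤ E₃`
    have hQE₃ : Q ≤ E₃ :=
      Cfsg.Agent.Lib.Helper71.BG10.le_of_isPiHallOf_normal d.nr.hE₃ d.hE₃n hQE (hQprimes _ h3)
    refine ⟨by rw [d.hC₃ Q hQE₃ hQ1, hCE, hC13], ?_⟩
    intro e he
    rw [← cj_eq_self_iff]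
    have h1 : cj e Q ≤ E₃ := by
      have h2 : cj e Q ≤ cj e E₃ := cj_mono hQE₃
      rwa [cj_eq_self_iff.mpr (d.hE₃n he)] at h2
    exact Cfsg.Agent.Lib.Helper41.BG134.z_eq_of_le_cyclic d.hE₃c h1 hQE₃ (card_cj e Q)

end Cfsg.Agent.Lib.Helper52.BG1310
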