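import Mathlib
import Cfsg.Agent.Lib.Helper31.BG137Defs
import Cfsg.Agent.Lib.Helper13.BG12B
import Cfsg.Agent.S1350
import Cfsg.Agent.S1414

/-!
# BG Lemma 13.7, nonabelian case, keystone 137713 (K-137N-J2): `EL'` centralizes `S₁`
-/

set_option autoImplicit false
set_option linter.unusedSectionVars false
set_option linter.unusedVariables false

namespace Cfsg.Agent.Lib.Helper52.BG137

open Cfsg Cfsg.Agent.Lib.Helper55 Cfsg.Agent.Lib.Helper31.BG137 Cfsg.Agent.Lib.Helper15.BG139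
open scoped commutatorElement

/-- in a finite group with a normal complement `N` of a Sylow `q`-subgroup, every element of order prime
to `q` lies in `N` -/
theorem mem_normal_complement_of_coprime {X : Type*} [Group X] [Finite X] {q : ℕ} [Fact q.Prime]
    (P : Sylow q X) (N : Subgroup X) [N.Normal] (hc : N.IsComplement' (P : Subgroup X)) (x : X)
    (hx : (orderOf x).Coprime q) : x ∈ N := by
  have hidx : N.index = Nat.card (P : Subgroup X) := hc.symm.index_eq_card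
  obtain ⟨k, hk⟩ := (P.isPGroup'.exists_card_eq)
  rw [← QuotientGroup.eq_one_iff]
  have h1 : orderOf (QuotientGroup.mk x : X ⧸ N) ∣ orderOf x :=
    orderOf_dvd_of_pow_eq_one (by rw [← QuotientGroup.mk_pow, pow_orderOf_eq_one]; rfl)
  have h2 : orderOf (QuotientGroup.mk x : X ⧸ N) ∣ q ^ k := by
    have := orderOf_dvd_natCard (QuotientGroup.mk x : X ⧸ N)
    rwa [← Subgroup.index_eq_card, hidx, hk] at this
  have h4 : orderOf (QuotientGroup.mk x : X ⧸ N) = 1 :=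
    Nat.eq_one_of_dvd_coprimes (Nat.Coprime.pow_right k hx) h1 h2
  exact orderOf_eq_one_iff.mp h4

variable {G : Type*} [Group G] [Finite G]

/-- **KEYSTONE 137713  K-137N-J2** (step (j), `EL'` centralizes `S₁`). -/
theorem commutator_le_centralizer_sylow (hG : IsMinSimpleOddOrder G) {L S₁ EL : Subgroup G} {q : ℕ}
    [Fact q.Prime]
    (hL : IsCoatom L) (hqL : q ∈ sigma L) (hqi : ¬ IsIdealPrime q G)
    (hS₁ : IsSylowIn q (sigmaCore L) S₁) (hEL : IsComplIn EL (sigmaCore L) L)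
    (hELS : EL ≤ Subgroup.normalizer (S₁ : Set G)) :
    ⁅EL, EL⁆ ≤ Subgroup.centralizer (S₁ : Set G) := by
  have hq : q.Prime := Fact.out
  have hqdvd : q ∣ Nat.card L := hqL.2.1
  have hqβ : q ∉ beta L := fun h => hqi h.2
  obtain ⟨P, N, hNn, hNc⟩ := ((Cfsg.Agent.S1414.result hG L hL).2.2.2.2 q hq hqdvd hqβ).1
  have hNn' : N.Normal := hNn
  have hHall := (Cfsg.Agent.S1350.result hG L hL).1
  -- `EL` is a `q'`-group
  have hqEL : ¬ q ∣ Nat.card EL := fun h =>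
    Cfsg.Agent.Lib.Helper13.BG12.complIn_prime_not_mem_sigma hHall hEL q hq h hqL
  have hELL : EL ≤ L := hEL.1
  have hσL : sigmaCore L ≤ L := hEL.2.1
  have hS₁L : S₁ ≤ L := hS₁.1.trans hσL
  have hderL : ⁅EL, EL⁆ ≤ ⁅L, L⁆ := Subgroup.commutator_mono hELL hELL
  have hderEL : ⁅EL, EL⁆ ≤ EL := Subgroup.commutator_le_self EL
  have hLnorm : (⁅L, L⁆ : Subgroup G) ≤ L := Subgroup.commutator_le_self L
  -- elements of `L'` of order prime to `q` lie in `N`
  have key : ∀ x : G, ∀ hx : x ∈ ⁅L, L⁆, (orderOf x).Coprime q → (⟨x, hx⟩ : ↥⁅L, L⁆) ∈ N := by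
    intro x hx hco
    apply mem_normal_complement_of_coprime P N hNc
    rwa [← Subgroup.orderOf_mk x hx] at hco
  -- `N` is a `q'`-group
  have hNq : ¬ q ∣ Nat.card N := by
    have h1 : (P : Subgroup ↥⁅L, L⁆).index = Nat.card N := hNc.index_eq_card
    rw [← h1]
    exact P.not_dvd_index
  have hcoEL : ∀ d ∈ EL, (orderOf d).Coprime q := by
    intro d hd
    have h1 : orderOf d ∣ Nat.card EL := by
      have := orderOf_dvd_natCard (⟨d, hd⟩ : EL)
      rwa [Subgroup.orderOf_mk] at this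
    rw [Nat.coprime_comm, Nat.Prime.coprime_iff_not_dvd hq]
    exact fun h => hqEL (h.trans h1)
  intro d hd
  rw [Subgroup.mem_centralizer_iff]
  intro s hs
  have hsL : s ∈ L := hS₁L hs
  have hdEL : d ∈ EL := hderEL hd
  have hdL' : d ∈ ⁅L, L⁆ := hderL hd
  -- the commutator `d * s * d⁻¹ * s⁻¹`
  have hcS : d * s * d⁻¹ * s⁻¹ ∈ S₁ := by
    have h1 : d * s * d⁻¹ ∈ S₁ := (Subgroup.mem_normalizer_iff.mp (hELS hdEL) s).mp hs
    exact S₁.mul_mem h1 (S₁.inv_mem hs)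
  have hconjL' : s * d⁻¹ * s⁻¹ ∈ ⁅L, L⁆ := by
    have h1 : s * d⁻¹ * s⁻¹ = ⁅s, d⁻¹⁆ * d⁻¹ := by
      rw [commutatorElement_def]; group
    rw [h1]
    exact Subgroup.mul_mem _
      (Subgroup.commutator_mem_commutator hsL (L.inv_mem (hLnorm hdL'))) (Subgroup.inv_mem _ hdL')
  have hcoconj : (orderOf (s * d⁻¹ * s⁻¹)).Coprime q := by
    have h1 : orderOf (s * d⁻¹ * s⁻¹) = orderOf d := by
      rw [← orderOf_inv d]
      have hsc : SemiconjBy s d⁻¹ (s * d⁻¹ * s⁻¹) := by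
        unfold SemiconjBy; group
      exact (hsc.orderOf_eq s).symm
    rw [h1]
    exact hcoEL d hdEL
  have hN1 := key d hdL' (hcoEL d hdEL)
  have hN2 := key (s * d⁻¹ * s⁻¹) hconjL' hcoconj
  have hcL' : d * s * d⁻¹ * s⁻¹ ∈ ⁅L, L⁆ := by
    have : d * s * d⁻¹ * s⁻¹ = d * (s * d⁻¹ * s⁻¹) := by group
    rw [this]
    exact Subgroup.mul_mem _ hdL' hconjL'
  have hcN : (⟨d * s * d⁻¹ * s⁻¹, hcL'⟩ : ↥⁅L, L⁆) ∈ N := by
    have : (⟨d * s * d⁻¹ * s⁻¹, hcL'⟩ : ↥⁅L, L⁆) = ⟨d, hdL'⟩ * ⟨s * d⁻¹ * s⁻¹, hconjL'⟩ := by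
      apply Subtype.ext
      simp only [Subgroup.coe_mul]
      group
    rw [this]
    exact N.mul_mem hN1 hN2
  -- its order is a power of `q` and prime to `q`
  have ho1 : orderOf (d * s * d⁻¹ * s⁻¹) ∣ Nat.card N := by
    have := orderOf_dvd_natCard (⟨⟨d * s * d⁻¹ * s⁻¹, hcL'⟩, hcN⟩ : N)
    rwa [Subgroup.orderOf_mk, Subgroup.orderOf_mk] at this
  obtain ⟨k, hk⟩ := (hS₁.2.1) ⟨d * s * d⁻¹ * s⁻¹, hcS⟩
  have hk' : (d * s * d⁻¹ * s⁻¹) ^ q ^ k = 1 := by
    have := congrArg Subtype.val hk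
    simpa using this
  have ho2 : orderOf (d * s * d⁻¹ * s⁻¹) ∣ q ^ k := orderOf_dvd_of_pow_eq_one hk'
  have hco : (Nat.card N).Coprime (q ^ k) := by
    apply Nat.Coprime.pow_right
    rw [Nat.coprime_comm, Nat.Prime.coprime_iff_not_dvd hq]
    exact hNq
  have ho3 : orderOf (d * s * d⁻¹ * s⁻¹) = 1 :=
    Nat.eq_one_of_dvd_coprimes hco ho1 ho2
  have h1 : d * s * d⁻¹ * s⁻¹ = 1 := orderOf_eq_one_iff.mp ho3
  have h2 : d * s = s * d := by
    have := congrArg (fun t => t * s * d) h1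
    simpa [mul_assoc] using this
  exact h2.symm

end Cfsg.Agent.Lib.Helper52.BG137
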