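import Mathlib

set_option autoImplicit false

/-!
# S2279 (two regular unipotents generate `SL_n(F)`, `n ≥ 4`): the pure field / number theory part

`lucas_not_dvd`: `p ∤ binom(p^e n₁ + p^e - 1, p^e)` when `p ∤ n₁`.
`fill_of_relations`: additive subgroups `S 0, …, S (n-2)` of a finite field with the UP / DOWN / corner
relations are all everything.
-/

namespace Cfsg.Agent.Lib.Helper52.RU3

theorem lucas_not_dvd (p : ℕ) [hp : Fact p.Prime] (e n1 : ℕ) (h : ¬ p ∣ n1) :
    ¬ p ∣ Nat.choose (p ^ e * n1 + p ^ e - 1) (p ^ e) := by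
  induction e with
  | zero => simpa using h
  | succ e ih =>
    have hp1 : 1 ≤ p := hp.out.one_lt.le
    have hppos : 0 < p := hp.out.pos
    set A := p ^ e * n1 + p ^ e with hA
    have hA1 : 1 ≤ A := by
      have : 1 ≤ p ^ e := Nat.one_le_pow _ _ hppos
      omega
    have e1 : p ^ (e + 1) * n1 + p ^ (e + 1) = p * A := by rw [hA]; ring
    obtain ⟨B, hB⟩ : ∃ B, A = B + 1 := ⟨A - 1, by omega⟩
    have e2 : p ^ (e + 1) * n1 + p ^ (e + 1) - 1 = (p - 1) + p * B := by
      rw [e1, hB, Nat.mul_succ]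
      omega
    have hmod := Choose.choose_modEq_choose_mod_mul_choose_div_nat
      (n := p ^ (e + 1) * n1 + p ^ (e + 1) - 1) (k := p ^ (e + 1)) (p := p)
    have m1 : (p ^ (e + 1) * n1 + p ^ (e + 1) - 1) % p = p - 1 := by
      rw [e2, Nat.add_mul_mod_self_left, Nat.mod_eq_of_lt (by omega)]
    have m2 : (p ^ (e + 1) * n1 + p ^ (e + 1) - 1) / p = B := by
      rw [e2, Nat.add_mul_div_left _ _ hppos, Nat.div_eq_of_lt (by omega), zero_add]
    have m3 : p ^ (e + 1) % p = 0 := by
      rw [pow_succ]; exact Nat.mul_mod_left _ _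
    have m4 : p ^ (e + 1) / p = p ^ e := by
      rw [pow_succ]; exact Nat.mul_div_cancel _ hppos
    rw [m1, m2, m3, m4, Nat.choose_zero_right, one_mul] at hmod
    have hBA : B = p ^ e * n1 + p ^ e - 1 := by omega
    intro hdvd
    apply ih
    rw [← hBA]
    exact (Nat.modEq_zero_iff_dvd.mp ((hmod.symm.trans (Nat.modEq_zero_iff_dvd.mpr hdvd))))

theorem fill_of_relations {F : Type*} [Field F] [Fintype F] (n : ℕ) (hn : 4 ≤ n) {l : F} (hl0 : l ≠ 0)
    (hl : ∀ x : F, x ≠ 0 → ∃ k : ℕ, x = l ^ (k + 1))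
    (S : ℕ → AddSubgroup F)
    (hUP : ∀ k, k + 3 ≤ n → ∀ s ∈ S k, l * s ∈ S (k + 1))
    (hDOWN : ∀ k, 1 ≤ k → k + 2 ≤ n → ∀ t ∈ S (n - 2), ∀ s ∈ S k, t * s ∈ S (k - 1))
    (h3 : l ^ 3 ∈ S 2)
    (hG : l ∈ S 0 → ∀ r, 1 ≤ r → r + 2 ≤ n → ∀ s ∈ S (n - 2 - r),
      l * ((Nat.choose (n + r - 2) (n - 1) : ℕ) : F) * s ∈ S (n - 2)) :
    ∀ k, k + 2 ≤ n → S k = ⊤ := by
  classical
  obtain ⟨m, rfl⟩ : ∃ m, n = m + 4 := ⟨n - 4, by omega⟩
  have hsub : m + 4 - 2 = m + 2 := rfl
  rw [hsub] at hDOWN hG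
  have hq2 : 2 ≤ Fintype.card F := Fintype.one_lt_card
  -- Step A
  have hA : ∀ j, j ≤ m → l ^ (3 + j) ∈ S (2 + j) := by
    intro j
    induction j with
    | zero => intro _; simpa using h3
    | succ j ih =>
      intro hj
      have := hUP (2 + j) (by omega) _ (ih (by omega))
      have e : l * l ^ (3 + j) = l ^ (3 + (j + 1)) := by ring
      rw [e] at this
      have e2 : 2 + j + 1 = 2 + (j + 1) := by ring
      rwa [e2] at this
  have hT : l ^ (m + 3) ∈ S (m + 2) := by
    have := hA m le_rfl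
    rwa [show 3 + m = m + 3 by ring, show 2 + m = m + 2 by ring] at this
  -- the set K
  set K : Set F := {x | l⁻¹ * x ∈ S (m + 2)} with hKdef
  have hK_zero : (0 : F) ∈ K := by
    show l⁻¹ * 0 ∈ S (m + 2); rw [mul_zero]; exact (S (m + 2)).zero_mem
  have hK_add : ∀ x y, x ∈ K → y ∈ K → x + y ∈ K := by
    intro x y hx hy
    show l⁻¹ * (x + y) ∈ S (m + 2); rw [mul_add]; exact (S (m + 2)).add_mem hx hy
  have hK_mul : ∀ x y, x ∈ K → y ∈ K → x * y ∈ K := by
    intro x y hx hy
    have h1 := hDOWN (m + 2) (by omega) (by omega) _ hx _ hy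
    have h2 := hUP (m + 1) (by omega) _ (by simpa using h1)
    show l⁻¹ * (x * y) ∈ S (m + 2)
    have e : l⁻¹ * (x * y) = l * (l⁻¹ * x * (l⁻¹ * y)) := by field_simp
    rw [e]; exact h2
  have hK_ln : l ^ (m + 4) ∈ K := by
    show l⁻¹ * l ^ (m + 4) ∈ S (m + 2)
    have e : l⁻¹ * l ^ (m + 4) = l ^ (m + 3) := by
      rw [pow_succ l (m + 3)]; field_simp
    rw [e]; exact hT
  have hK_pow : ∀ x, x ∈ K → ∀ k : ℕ, x ^ (k + 1) ∈ K := by
    intro x hx k
    induction k with
    | zero => simpa using hx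
    | succ k ih => rw [pow_succ]; exact hK_mul _ _ ih hx
  have hK_one : (1 : F) ∈ K := by
    have hne : l ^ (m + 4) ≠ 0 := pow_ne_zero _ hl0
    have h1 := FiniteField.pow_card_sub_one_eq_one (l ^ (m + 4)) hne
    have h2 := hK_pow _ hK_ln (Fintype.card F - 2)
    rw [show Fintype.card F - 2 + 1 = Fintype.card F - 1 by omega, h1] at h2
    exact h2
  have hK_pow0 : ∀ x, x ∈ K → ∀ k : ℕ, x ^ k ∈ K := by
    intro x hx k
    cases k with
    | zero => simpa using hK_one
    | succ k => exact hK_pow x hx k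
  have hK_inv : ∀ x, x ∈ K → x ≠ 0 → x⁻¹ ∈ K := by
    intro x hx hx0
    have h1 := FiniteField.pow_card_sub_one_eq_one x hx0
    have h2 : x⁻¹ = x ^ (Fintype.card F - 2) := by
      have : x * x ^ (Fintype.card F - 2) = 1 := by
        rw [← pow_succ', show Fintype.card F - 2 + 1 = Fintype.card F - 1 by omega, h1]
      exact (eq_inv_of_mul_eq_one_right this).symm ▸ rfl
    rw [h2]; exact hK_pow0 x hx _
  have hK_nat : ∀ c : ℕ, (c : F) ∈ K := by
    intro c
    induction c with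
    | zero => simpa using hK_zero
    | succ c ih => rw [Nat.cast_succ]; exact hK_add _ _ ih hK_one
  -- Step B
  have hB : ∀ j, j ≤ m + 2 → ∀ x ∈ K, l⁻¹ ^ (j + 1) * x ∈ S (m + 2 - j) := by
    intro j
    induction j with
    | zero =>
      intro _ x hx
      have hx' : l⁻¹ * x ∈ S (m + 2) := hx
      show l⁻¹ ^ (0 + 1) * x ∈ S (m + 2 - 0)
      rw [zero_add, pow_one, Nat.sub_zero]
      exact hx'
    | succ j ih =>
      intro hj x hx
      have h1 := ih (by omega) x hx
      have ht : l⁻¹ * 1 ∈ S (m + 2) := hK_one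
      have h2 := hDOWN (m + 2 - j) (by omega) (by omega) _ ht _ h1
      have e : l⁻¹ * 1 * (l⁻¹ ^ (j + 1) * x) = l⁻¹ ^ (j + 1 + 1) * x := by ring
      rw [e, show m + 2 - j - 1 = m + 2 - (j + 1) by omega] at h2
      exact h2
  have hl_S0 : l ∈ S 0 := by
    have := hB (m + 2) le_rfl _ hK_ln
    have e : l⁻¹ ^ (m + 2 + 1) * l ^ (m + 4) = l := by
      rw [inv_pow, pow_succ l (m + 3)]; field_simp
    rw [e] at this
    simpa using this
  -- Step C
  have hC : ∀ i, i ≤ m + 1 → ((Nat.choose (m + 3 + i) (m + 3) : ℕ) : F) * l⁻¹ ^ i ∈ K := by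
    intro i hi
    have hs := hB (i + 1) (by omega) 1 hK_one
    have h1 := hG hl_S0 (i + 1) (by omega) (by omega) _ (by
      rw [show m + 2 - (i + 1) = m + 2 - (i + 1) from rfl]; exact hs)
    show l⁻¹ * (((Nat.choose (m + 3 + i) (m + 3) : ℕ) : F) * l⁻¹ ^ i) ∈ S (m + 2)
    have e : l⁻¹ * (((Nat.choose (m + 3 + i) (m + 3) : ℕ) : F) * l⁻¹ ^ i) =
        l * ((Nat.choose (m + 4 + (i + 1) - 2) (m + 4 - 1) : ℕ) : F) * (l⁻¹ ^ (i + 1 + 1) * 1) := by
      have e0 : m + 4 + (i + 1) - 2 = m + 3 + i := by omega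
      have e1 : m + 4 - 1 = m + 3 := rfl
      rw [e0, e1, pow_succ, pow_succ]
      field_simp
    rw [e]; exact h1
  -- Step D: K is everything
  have hKtop : ∀ x : F, x ∈ K := by
    obtain ⟨p, hchar⟩ := CharP.exists F
    have := hchar
    have hpf : Fact p.Prime := ⟨CharP.char_is_prime F p⟩
    have hp2 : 2 ≤ p := hpf.out.two_le
    obtain ⟨e, n1, hn1, hnn⟩ := Nat.exists_eq_pow_mul_and_not_dvd (n := m + 4) (by omega) p
      (by omega)
    -- g0 = (l⁻¹)^(p^e) ∈ K
    have hg0 : l⁻¹ ^ (p ^ e) ∈ K := by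
      by_cases h1 : n1 = 1
      · rw [h1, mul_one] at hnn
        have : l ^ (p ^ e) ∈ K := by rw [← hnn]; exact hK_ln
        rw [inv_pow]
        exact hK_inv _ this (pow_ne_zero _ hl0)
      · have hn1pos : n1 ≠ 0 := by
          intro h0; rw [h0, mul_zero] at hnn; omega
        have hpe : 1 ≤ p ^ e := Nat.one_le_pow _ _ (by omega)
        have hle : p ^ e ≤ m + 1 := by
          have hn12 : 2 ≤ n1 := by omega
          by_cases h3 : 3 ≤ n1
          · by_cases hpe1 : p ^ e = 1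
            · rw [hpe1, one_mul] at hnn; omega
            · have : 2 ≤ p ^ e := by omega
              nlinarith
          · have hn1' : n1 = 2 := by omega
            rw [hn1'] at hn1 hnn
            have hp3 : 3 ≤ p := by
              rcases Nat.lt_or_ge p 3 with h | h
              · have hp2' : p = 2 := by omega
                rw [hp2'] at hn1
                exact absurd (dvd_refl 2) hn1
              · exact h
            have he1 : e ≠ 0 := by
              intro h0; rw [h0, pow_zero] at hnn; omega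
            have : 3 ≤ p ^ e := by
              calc 3 ≤ p := hp3
                _ = p ^ 1 := (pow_one p).symm
                _ ≤ p ^ e := Nat.pow_le_pow_right (by omega) (by omega)
            omega
        have hc := hC (p ^ e) hle
        have hsymm : Nat.choose (m + 3 + p ^ e) (m + 3) = Nat.choose (p ^ e * n1 + p ^ e - 1) (p ^ e) := by
          rw [← hnn, show m + 4 + p ^ e - 1 = m + 3 + p ^ e by omega]
          exact Nat.choose_symm_add
        have hnd := lucas_not_dvd p e n1 hn1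
        rw [← hsymm] at hnd
        have hc0 : ((Nat.choose (m + 3 + p ^ e) (m + 3) : ℕ) : F) ≠ 0 := by
          rw [Ne, CharP.cast_eq_zero_iff F p]; exact hnd
        have hcinv := hK_inv _ (hK_nat (Nat.choose (m + 3 + p ^ e) (m + 3))) hc0
        have := hK_mul _ _ hcinv hc
        rwa [← mul_assoc, inv_mul_cancel₀ hc0, one_mul] at this
    intro x
    by_cases hx : x = 0
    · rw [hx]; exact hK_zero
    · -- x⁻¹ = y^(p^e)
      have hinj : Function.Injective (fun y : F => y ^ (p ^ e)) := by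
        have := (iterateFrobenius F p e).injective
        intro a b hab
        apply this
        simpa [iterateFrobenius_def] using hab
      have hsurj := Finite.surjective_of_injective hinj
      obtain ⟨y, hy⟩ := hsurj x⁻¹
      have hy0 : y ≠ 0 := by
        intro h0
        rw [h0] at hy
        simp only at hy
        rw [zero_pow (by positivity)] at hy
        exact hx (inv_eq_zero.mp hy.symm)
      obtain ⟨k, hk⟩ := hl y hy0
      have hx' : x = (l⁻¹ ^ (p ^ e)) ^ (k + 1) := by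
        have : x⁻¹ = (l ^ (p ^ e)) ^ (k + 1) := by
          rw [← hy]; simp only; rw [hk, ← pow_mul, ← pow_mul, mul_comm]
        rw [inv_pow, inv_pow, ← this, inv_inv]
      rw [hx']
      exact hK_pow _ hg0 k
  -- Step E
  intro k hk
  rw [eq_top_iff]
  intro y _
  have := hB (m + 2 - k) (by omega) (l ^ (m + 2 - k + 1) * y) (hKtop _)
  have e : l⁻¹ ^ (m + 2 - k + 1) * (l ^ (m + 2 - k + 1) * y) = y := by
    rw [inv_pow]; field_simp
  rw [e, show m + 2 - (m + 2 - k) = k by omega] at this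
  exact this

/-- The same statement in the shape proposed by helper65 (msg 6506): characteristic given, the
`g_j`-relation for all pairs `i < j`. -/
theorem sk_eq_top {F : Type*} [Field F] [Fintype F] (p : ℕ) [Fact p.Prime] [CharP F p] (n : ℕ)
    (hn : 4 ≤ n) (l : F) (hl0 : l ≠ 0)
    (hl : ∀ x : F, x ≠ 0 → ∃ k : ℕ, x = l ^ (k + 1))
    (S : ℕ → AddSubgroup F)
    (h1 : l ^ 3 ∈ S 2)
    (h2 : ∀ k, k + 3 ≤ n → ∀ s ∈ S k, l * s ∈ S (k + 1))
    (h3 : ∀ k, 1 ≤ k → k + 2 ≤ n → ∀ s' ∈ S (n - 2), ∀ s ∈ S k, s' * s ∈ S (k - 1))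
    (h4 : l ∈ S 0 → ∀ i j, i < j → j + 2 ≤ n → ∀ s ∈ S i,
      ((Nat.choose (n + (j - i) - 2) (n - 1) : ℕ) : F) * l * s ∈ S j) :
    ∀ k, k + 2 ≤ n → S k = ⊤ :=
  fill_of_relations n hn hl0 hl S h2 h3 h1 (by
    intro h0 r hr1 hr2 s hs
    have := h4 h0 (n - 2 - r) (n - 2) (by omega) (by omega) s hs
    rw [show n - 2 - (n - 2 - r) = r by omega] at this
    rw [mul_comm l]; exact this)

end Cfsg.Agent.Lib.Helper52.RU3
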