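import Mathlib
import Cfsg.Prelude.Def_PLocal
import Cfsg.Agent.Lib.Helper75.PGroupFrattini
import Cfsg.Agent.Lib.Helper52.PCore
import Cfsg.Agent.Lib.Helper52.QuadBridge

/-!
# Plumbing for `Cfsg.IsActionPStable`

`isActionPStable_of_criterion`: if a class `Pr` of groups is closed under the quotients and
subgroups that occur, and quadratic elements of faithful `Pr`-groups on elementary abelian
`p`-groups lie in `O_p`, then every finite `Pr`-group is `p`-stable in the action sense.
-/

set_option autoImplicit false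

open scoped commutatorElement

universe u

namespace Cfsg.Agent.Lib.Helper52

/-- Criterion: in every finite `Pr`-group `Y` acting faithfully on a finite abelian group of
exponent `p`, quadratically acting elements lie in `O_p(Y)`. -/
def QuadCriterion (p : ℕ) (Pr : ∀ (X : Type u) [Group X], Prop) : Prop :=
  ∀ (Y : Type u) [Group Y] [Finite Y] (W : Type u) [CommGroup W] [Finite W], Pr Y →
    (∀ w : W, w ^ p = 1) → ∀ (c : Y →* MulAut W), Function.Injective c → ∀ y : Y,
      (∀ w, c y (c y w / w) = c y w / w) → y ∈ Cfsg.pCore p Y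

section part1

variable {G : Type u} [Group G] [Finite G] {p : ℕ}

/-- Part 1: `p`-stability on a normal elementary abelian subgroup. -/
theorem isPStableOn_of_criterion (Pr : ∀ (X : Type u) [Group X], Prop)
    (hcrit : QuadCriterion p Pr) (V : Subgroup G) [V.Normal]
    (hV : Cfsg.IsElementaryAbelian p V)
    (hPr : Pr (G ⧸ Subgroup.centralizer (V : Set G))) : Cfsg.IsPStableOn p V := by
  intro a hq
  let _ : CommGroup V :=
    { (inferInstance : Group V) with mul_comm := fun x y => @mul_comm' _ _ hV.1 x y }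
  have hexp : ∀ v : V, v ^ p = 1 := fun v => Subtype.ext (by simp [hV.2 v v.2])
  have hker : Subgroup.centralizer (V : Set G) ≤ (MulAut.conjNormal (H := V)).ker := by
    intro g hg
    rw [MonoidHom.mem_ker]
    ext v
    rw [MulAut.conjNormal_apply]
    have := Subgroup.mem_centralizer_iff.mp hg v v.2
    show g * v * g⁻¹ = v
    rw [← this]; simp
  let cbar : G ⧸ Subgroup.centralizer (V : Set G) →* MulAut V :=
    QuotientGroup.lift _ MulAut.conjNormal hker
  have hinj : Function.Injective cbar := by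
    rw [injective_iff_map_eq_one]
    intro x hx
    induction x using QuotientGroup.induction_on with
    | H g =>
      rw [QuotientGroup.lift_mk] at hx
      rw [QuotientGroup.eq_one_iff, Subgroup.mem_centralizer_iff]
      intro v hv
      have h1 : g * v * g⁻¹ = v := by
        rw [← MulAut.conjNormal_apply (H := V) g ⟨v, hv⟩, hx]; rfl
      calc v * g = (g * v * g⁻¹) * g := by rw [h1]
        _ = g * v := by simp
  refine hcrit _ V hPr hexp cbar hinj (QuotientGroup.mk a) ?_
  intro v
  have e : cbar (QuotientGroup.mk a) = MulAut.conjNormal a := QuotientGroup.lift_mk _ _ a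
  rw [e]
  apply Subtype.ext
  rw [MulAut.conjNormal_apply, Subgroup.coe_div, MulAut.conjNormal_apply, div_eq_mul_inv]
  exact conj_comm_of_quadratic V a hq v v.2

end part1

section part3

variable {P : Type*} [Group P] {p : ℕ}

/-- Elements of `Ω₁(Z(J))`. -/
theorem mem_of_mem_omegaOne_center (J : Subgroup P) {x : P}
    (hx : x ∈ Cfsg.omegaOne p (J ⊓ Subgroup.centralizer (J : Set P))) :
    (x ∈ J ∧ x ∈ Subgroup.centralizer (J : Set P)) ∧ x ^ p = 1 := by
  let B : Subgroup P :=
    { carrier := {x | (x ∈ J ∧ x ∈ Subgroup.centralizer (J : Set P)) ∧ x ^ p = 1}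
      one_mem' := ⟨⟨J.one_mem, Subgroup.one_mem _⟩, one_pow _⟩
      mul_mem' := by
        rintro a b ⟨⟨haJ, haC⟩, hap⟩ ⟨⟨hbJ, hbC⟩, hbp⟩
        refine ⟨⟨J.mul_mem haJ hbJ, Subgroup.mul_mem _ haC hbC⟩, ?_⟩
        have hc : Commute a b := (Subgroup.mem_centralizer_iff.mp hbC a haJ)
        rw [hc.mul_pow, hap, hbp, one_mul]
      inv_mem' := by
        rintro a ⟨⟨haJ, haC⟩, hap⟩
        exact ⟨⟨J.inv_mem haJ, Subgroup.inv_mem _ haC⟩, by rw [inv_pow, hap, inv_one]⟩ }
  have hle : Cfsg.omegaOne p (J ⊓ Subgroup.centralizer (J : Set P)) ≤ B := by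
    unfold Cfsg.omegaOne
    rw [Subgroup.closure_le]
    rintro y ⟨hy, hyp⟩
    exact ⟨Subgroup.mem_inf.mp hy, hyp⟩
  exact hle hx

end part3

section part3'

variable {G : Type u} [Group G] {p : ℕ}

theorem isElementaryAbelian_of_le_omegaCenterThompson (S : Subgroup G) (N : Subgroup G)
    (V : Subgroup ↥N)
    (h : V.map N.subtype ≤ (Cfsg.omegaCenterThompson p ↥S).map S.subtype) :
    Cfsg.IsElementaryAbelian p V := by
  have key : ∀ v ∈ V, ∃ s : ↥S, ((s ∈ Cfsg.thompsonSubgroup p ↥S ∧
      s ∈ Subgroup.centralizer (Cfsg.thompsonSubgroup p ↥S : Set ↥S)) ∧ s ^ p = 1) ∧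
      (s : G) = (v : G) := by
    intro v hv
    obtain ⟨s, hs, hsv⟩ := h ⟨v, hv, rfl⟩
    exact ⟨s, mem_of_mem_omegaOne_center _ hs, hsv⟩
  refine ⟨⟨⟨?_⟩⟩, ?_⟩
  · rintro ⟨v, hv⟩ ⟨w, hw⟩
    obtain ⟨s, ⟨⟨hsJ, _⟩, _⟩, hsv⟩ := key v hv
    obtain ⟨t, ⟨⟨_, htC⟩, _⟩, htw⟩ := key w hw
    have hc : s * t = t * s := (Subgroup.mem_centralizer_iff.mp htC s hsJ)
    apply Subtype.ext
    apply Subtype.ext
    show (v : G) * (w : G) = (w : G) * (v : G)
    rw [← hsv, ← htw]
    exact congrArg Subtype.val hc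
  · intro v hv
    obtain ⟨s, ⟨_, hsp⟩, hsv⟩ := key v hv
    apply Subtype.ext
    rw [Subgroup.coe_pow, Subgroup.coe_one, ← hsv]
    have := congrArg Subtype.val hsp
    simpa using this

end part3'

section part2

variable {G : Type u} [Group G] (K : Subgroup G) [K.Normal]

instance frattini_normal_aux : (frattini ↥K).Normal :=
  Subgroup.normal_of_characteristic _

/-- The action of `G` on `K / Φ(K)` induced by conjugation. -/
noncomputable def frattiniQuotAct : G →* MulAut (↥K ⧸ frattini ↥K) where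
  toFun g := QuotientGroup.congr (frattini ↥K) (frattini ↥K) (MulAut.conjNormal g)
    (Subgroup.characteristic_iff_map_eq.mp frattini_characteristic _)
  map_one' := by
    ext x
    induction x using QuotientGroup.induction_on with
    | H k =>
      show (QuotientGroup.mk (MulAut.conjNormal (1 : G) k) : ↥K ⧸ frattini ↥K) = QuotientGroup.mk k
      rw [map_one]; rfl
  map_mul' g h := by
    ext x
    induction x using QuotientGroup.induction_on with
    | H k =>
      show (QuotientGroup.mk (MulAut.conjNormal (g * h) k) : ↥K ⧸ frattini ↥K)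
        = QuotientGroup.mk (MulAut.conjNormal g (MulAut.conjNormal h k))
      rw [map_mul]; rfl

theorem frattiniQuotAct_mk (g : G) (k : ↥K) :
    frattiniQuotAct K g (QuotientGroup.mk k) = QuotientGroup.mk (MulAut.conjNormal g k) := rfl

omit [K.Normal] in
/-- Membership in the Frattini subgroup of `K` via the image in `G`. -/
theorem mem_frattini_of_coe_mem (k : ↥K) (h : (k : G) ∈ (frattini ↥K).map K.subtype) :
    k ∈ frattini ↥K := by
  obtain ⟨z, hz, hzk⟩ := h
  have : z = k := Subtype.ext hzk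
  exact this ▸ hz

theorem mem_ker_frattiniQuotAct_iff [((frattini ↥K).map K.subtype).Normal] (g : G) :
    g ∈ (frattiniQuotAct K).ker ↔
      g ∈ Cfsg.sectionKernel K ((frattini ↥K).map K.subtype) := by
  have hN : ((frattini ↥K).map K.subtype).Normal := inferInstance
  constructor
  · intro hg
    rw [MonoidHom.mem_ker] at hg
    show QuotientGroup.mk' _ g ∈ Subgroup.centralizer _
    rw [Subgroup.mem_centralizer_iff]
    rintro _ ⟨k, hk, rfl⟩
    show (QuotientGroup.mk k : G ⧸ _) * QuotientGroup.mk g = QuotientGroup.mk g * QuotientGroup.mk k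
    rw [← QuotientGroup.mk_mul, ← QuotientGroup.mk_mul, QuotientGroup.eq]
    have h1 := congrArg (fun f : MulAut (↥K ⧸ frattini ↥K) => f (QuotientGroup.mk ⟨k, hk⟩)) hg
    simp only [frattiniQuotAct_mk, MulAut.one_apply] at h1
    rw [QuotientGroup.eq] at h1
    have h2 : (((MulAut.conjNormal g ⟨k, hk⟩ : ↥K)⁻¹ * ⟨k, hk⟩ : ↥K) : G)
        ∈ (frattini ↥K).map K.subtype := ⟨_, h1, rfl⟩
    have h3 : (((MulAut.conjNormal g ⟨k, hk⟩ : ↥K)⁻¹ * ⟨k, hk⟩ : ↥K) : G)
        = g * k⁻¹ * g⁻¹ * k := by
      rw [Subgroup.coe_mul, Subgroup.coe_inv, MulAut.conjNormal_apply]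
      simp [mul_assoc]
    rw [h3] at h2
    -- conjugate by `g⁻¹` and invert
    have h4 := hN.conj_mem _ h2 g⁻¹
    have h5 := Subgroup.inv_mem _ h4
    have h6 : (g⁻¹ * (g * k⁻¹ * g⁻¹ * k) * g⁻¹⁻¹)⁻¹ = (k * g)⁻¹ * (g * k) := by group
    rw [h6] at h5
    exact h5
  · intro hg
    rw [MonoidHom.mem_ker]
    have hg' : QuotientGroup.mk' ((frattini ↥K).map K.subtype) g ∈ Subgroup.centralizer
        ((K.map (QuotientGroup.mk' ((frattini ↥K).map K.subtype)) :
          Subgroup (G ⧸ (frattini ↥K).map K.subtype)) :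
          Set (G ⧸ (frattini ↥K).map K.subtype)) := hg
    rw [Subgroup.mem_centralizer_iff] at hg'
    ext x
    induction x using QuotientGroup.induction_on with
    | H k =>
      rw [frattiniQuotAct_mk, MulAut.one_apply, QuotientGroup.eq]
      apply mem_frattini_of_coe_mem
      have h1 := hg' (QuotientGroup.mk' _ (k : G)) ⟨k, k.2, rfl⟩
      have h1' : (QuotientGroup.mk (k : G) : G ⧸ _) * QuotientGroup.mk g
          = QuotientGroup.mk g * QuotientGroup.mk (k : G) := h1
      rw [← QuotientGroup.mk_mul, ← QuotientGroup.mk_mul, QuotientGroup.eq] at h1'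
      have h3 : (((MulAut.conjNormal g k : ↥K)⁻¹ * k : ↥K) : G) = g * (k : G)⁻¹ * g⁻¹ * k := by
        rw [Subgroup.coe_mul, Subgroup.coe_inv, MulAut.conjNormal_apply]
        simp [mul_assoc]
      rw [h3]
      have h4 := hN.conj_mem _ (Subgroup.inv_mem _ h1') g
      have h6 : g * (((k : G) * g)⁻¹ * (g * k))⁻¹ * g⁻¹ = g * (k : G)⁻¹ * g⁻¹ * k := by group
      rw [h6] at h4
      exact h4

end part2

section part2'

variable {G : Type u} [Group G] [Finite G] {p : ℕ} [Fact p.Prime]

/-- Part 2: `p`-stability on the Frattini quotient of a normal `p`-subgroup. -/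
theorem isPStableOnSection_frattini_of_criterion (Pr : ∀ (X : Type u) [Group X], Prop)
    (hcrit : QuadCriterion p Pr) (K : Subgroup G) [K.Normal] (hK : IsPGroup p K)
    [((frattini ↥K).map K.subtype).Normal]
    (hPr : Pr (G ⧸ (frattiniQuotAct K).ker)) :
    Cfsg.IsPStableOnSection p K ((frattini ↥K).map K.subtype) := by
  intro a hq
  let _ : CommGroup (↥K ⧸ frattini ↥K) :=
    { (inferInstance : Group (↥K ⧸ frattini ↥K)) with
      mul_comm := Cfsg.Agent.Lib.Helper75.frattini_quotient_comm hK }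
  have hexp : ∀ w : ↥K ⧸ frattini ↥K, w ^ p = 1 :=
    Cfsg.Agent.Lib.Helper75.frattini_quotient_pow hK
  have hker : Cfsg.sectionKernel K ((frattini ↥K).map K.subtype) = (frattiniQuotAct K).ker := by
    ext g; exact (mem_ker_frattiniQuotAct_iff K g).symm
  have hy : ∀ w, QuotientGroup.kerLift (frattiniQuotAct K) (QuotientGroup.mk a)
      (QuotientGroup.kerLift (frattiniQuotAct K) (QuotientGroup.mk a) w / w)
      = QuotientGroup.kerLift (frattiniQuotAct K) (QuotientGroup.mk a) w / w := by
    intro w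
    rw [QuotientGroup.kerLift_mk]
    induction w using QuotientGroup.induction_on with
    | H k =>
      rw [frattiniQuotAct_mk, ← QuotientGroup.mk_div, frattiniQuotAct_mk, QuotientGroup.eq]
      apply mem_frattini_of_coe_mem
      apply hq
      -- the element is `⁅a, x⁻¹⁆` with `x⁻¹ = ⁅k, a⁆`
      have h1 : ⁅(k : G), a⁆ ∈ ⁅K, Subgroup.zpowers a⁆ :=
        Subgroup.commutator_mem_commutator k.2 (Subgroup.mem_zpowers a)
      have h2 : ⁅⁅(k : G), a⁆, a⁆ ∈ ⁅⁅K, Subgroup.zpowers a⁆, Subgroup.zpowers a⁆ :=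
        Subgroup.commutator_mem_commutator h1 (Subgroup.mem_zpowers a)
      have h3 := Subgroup.inv_mem _ h2
      have h4 : (((MulAut.conjNormal a (MulAut.conjNormal a k / k) : ↥K)⁻¹ *
          (MulAut.conjNormal a k / k) : ↥K) : G) = ⁅⁅(k : G), a⁆, a⁆⁻¹ := by
        rw [Subgroup.coe_mul, Subgroup.coe_inv, MulAut.conjNormal_apply, Subgroup.coe_div,
          MulAut.conjNormal_apply, commutatorElement_def, commutatorElement_def, div_eq_mul_inv]
        group
      rw [h4]
      exact h3
  have hmem := hcrit (G ⧸ (frattiniQuotAct K).ker) (↥K ⧸ frattini ↥K) hPr hexp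
    (QuotientGroup.kerLift (frattiniQuotAct K)) (QuotientGroup.kerLift_injective _)
    (QuotientGroup.mk a) hy
  refine ⟨(Cfsg.pCore p (G ⧸ (frattiniQuotAct K).ker)).comap
    (QuotientGroup.mk' (frattiniQuotAct K).ker), ?_, ?_, ?_, hmem⟩
  · have : (Cfsg.pCore p (G ⧸ (frattiniQuotAct K).ker)).Normal := Cfsg.pCore_normal p _
    infer_instance
  · rw [hker]
    intro g hg
    show QuotientGroup.mk' _ g ∈ Cfsg.pCore p _
    have h0 : QuotientGroup.mk' (frattiniQuotAct K).ker g = 1 := (QuotientGroup.eq_one_iff g).mpr hg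
    rw [h0]
    exact Subgroup.one_mem _
  · rw [hker]
    obtain ⟨n, hn⟩ := (pCore_isPGroup p (G ⧸ (frattiniQuotAct K).ker)).exists_card_eq
    refine ⟨n, ?_⟩
    have h2 := Subgroup.relIndex_comap (⊥ : Subgroup (G ⧸ (frattiniQuotAct K).ker))
      (QuotientGroup.mk' (frattiniQuotAct K).ker)
      ((Cfsg.pCore p (G ⧸ (frattiniQuotAct K).ker)).comap
        (QuotientGroup.mk' (frattiniQuotAct K).ker))
    rw [MonoidHom.comap_bot, QuotientGroup.ker_mk',
      Subgroup.map_comap_eq_self_of_surjective (QuotientGroup.mk'_surjective _),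
      Subgroup.relIndex_bot_left, hn] at h2
    exact h2

end part2'

section master

variable {G : Type u} [Group G] [Finite G] {p : ℕ} [Fact p.Prime]

/-- **Plumbing theorem** for `IsActionPStable`. -/
theorem isActionPStable_of_criterion (Pr : ∀ (X : Type u) [Group X], Prop)
    (hcrit : QuadCriterion p Pr)
    (hquot : ∀ (X : Type u) [Group X] [Finite X] (N : Subgroup X) [N.Normal], Pr X → Pr (X ⧸ N))
    (hsub : ∀ (H : Subgroup G), Pr G → Pr ↥H) (hG : Pr G) : Cfsg.IsActionPStable p G := by
  refine ⟨?_, ?_, ?_⟩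
  · intro V _ hV
    exact isPStableOn_of_criterion Pr hcrit V hV (hquot G _ hG)
  · exact isPStableOnSection_frattini_of_criterion Pr hcrit (Cfsg.pCore p G)
      (pCore_isPGroup p G) (hquot G _ hG)
  · intro S V _ hle
    have hV := isElementaryAbelian_of_le_omegaCenterThompson (p := p) (S : Subgroup G) _ V hle
    exact isPStableOn_of_criterion Pr hcrit V hV (hquot _ _ (hsub _ hG))

end master

end Cfsg.Agent.Lib.Helper52
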