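import Cfsg.Agent.Lib.Helper52.VIter

set_option autoImplicit false

namespace Cfsg.Agent.Lib.Helper52

theorem pResidual_normal (p : ℕ) (L : Type*) [Group L] : (Cfsg.pResidual p L).Normal := by
  rw [← Subgroup.normalizer_eq_top_iff, eq_top_iff]
  have h : (⊤ : Subgroup L) ≤ Subgroup.normalizer (Cfsg.pResidual p L : Set L) := by
    apply le_normalizer_of_map_conj_le
    intro g _
    unfold Cfsg.pResidual
    rw [MonoidHom.map_closure]
    apply Subgroup.closure_mono
    rintro _ ⟨x, hx, rfl⟩
    show Nat.Coprime (orderOf ((MulAut.conj g).toMonoidHom x)) p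
    rw [orderOf_injective (MulAut.conj g).toMonoidHom (MulAut.conj g).injective x]
    exact hx
  exact h

instance pResidualNormal (p : ℕ) (L : Type*) [Group L] : (Cfsg.pResidual p L).Normal :=
  pResidual_normal p L

theorem quotient_pResidual_isPGroup (p : ℕ) [Fact p.Prime] (L : Type*) [Group L] [Finite L] :
    IsPGroup p (L ⧸ Cfsg.pResidual p L) := by
  have hp : p.Prime := Fact.out
  intro q
  obtain ⟨g, rfl⟩ := QuotientGroup.mk_surjective q
  refine ⟨(orderOf g).factorization p, ?_⟩
  rw [← QuotientGroup.mk_pow, QuotientGroup.eq_one_iff]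
  apply Subgroup.subset_closure
  show Nat.Coprime (orderOf (g ^ p ^ (orderOf g).factorization p)) p
  rw [orderOf_pow, Nat.gcd_eq_right (Nat.ordProj_dvd _ _)]
  exact (Nat.coprime_ordCompl hp (orderOf_pos g).ne').symm

theorem pResidual_sup_eq_top {p : ℕ} [Fact p.Prime] {L : Type*} [Group L] [Finite L]
    (T : Subgroup L) (hT : (T.index).Coprime p) : Cfsg.pResidual p L ⊔ T = ⊤ := by
  obtain ⟨j, hj⟩ := (quotient_pResidual_isPGroup p L).exists_card_eq
  rw [← Subgroup.index_eq_card] at hj
  rw [← Subgroup.index_eq_one]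
  have h1 : (Cfsg.pResidual p L ⊔ T).index ∣ p ^ j := by
    rw [← hj]
    exact Subgroup.index_dvd_of_le le_sup_left
  have h2 : (Cfsg.pResidual p L ⊔ T).index ∣ T.index := Subgroup.index_dvd_of_le le_sup_right
  have h3 : ((Cfsg.pResidual p L ⊔ T).index).Coprime (p ^ j) :=
    Nat.Coprime.pow_right j (Nat.Coprime.coprime_dvd_left h2 hT)
  exact Nat.Coprime.eq_one_of_dvd h3 h1

variable {X : Type*} [Group X]

/-- Ambient form: a finite subgroup `H` is generated by `O^p(H)` and any subgroup of `H` of index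
prime to `p`. -/
theorem le_pResidual_sup {p : ℕ} [Fact p.Prime] (H T : Subgroup X) [Finite H]
    (hT : (T.relIndex H).Coprime p) :
    H ≤ (Cfsg.pResidual p H).map H.subtype ⊔ T := by
  have h := pResidual_sup_eq_top (T.subgroupOf H) hT
  have h2 : (Cfsg.pResidual p H ⊔ T.subgroupOf H).map H.subtype = H := by
    rw [h, ← MonoidHom.range_eq_map, Subgroup.range_subtype]
  rw [Subgroup.map_sup, Subgroup.subgroupOf_map_subtype] at h2
  calc H = (Cfsg.pResidual p H).map H.subtype ⊔ T ⊓ H := h2.symm
    _ ≤ (Cfsg.pResidual p H).map H.subtype ⊔ T := sup_le_sup_left inf_le_left _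

end Cfsg.Agent.Lib.Helper52
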