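import Cfsg.Agent.Lib.Helper06.Hall4.Defs

/-!
# K-H4-TR (keystone 422118, row S4221, architect helper6): an element of odd order commuting with
`x, y` and fixing all regular points is trivial.
-/

set_option autoImplicit false
set_option linter.unusedVariables false
set_option linter.unusedSectionVars false

open Equiv

namespace Cfsg.Agent.Lib.Helper52.Hall4

open Cfsg.Agent.Lib.Helper06.Hall4

variable {α : Type*} [Fintype α] [DecidableEq α]

/-- four distinct fixed points contradict `nfix t ≤ 3` -/
theorem four_fixed_absurd (t : Perm α) (h : nfix t ≤ 3) {p1 p2 p3 p4 : α}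
    (h12 : p1 ≠ p2) (h13 : p1 ≠ p3) (h14 : p1 ≠ p4) (h23 : p2 ≠ p3) (h24 : p2 ≠ p4)
    (h34 : p3 ≠ p4) (f1 : t p1 = p1) (f2 : t p2 = p2) (f3 : t p3 = p3) (f4 : t p4 = p4) :
    False := by
  classical
  have hsub : (({p1, p2, p3, p4} : Finset α) : Set α) ⊆ Function.fixedPoints t := by
    intro z hz
    simp only [Finset.coe_insert, Finset.coe_singleton, Set.mem_insert_iff,
      Set.mem_singleton_iff] at hz
    rcases hz with rfl | rfl | rfl | rfl
    · exact f1
    · exact f2
    · exact f3
    · exact f4
  have hcard : ({p1, p2, p3, p4} : Finset α).card = 4 := by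
    rw [Finset.card_insert_of_notMem, Finset.card_insert_of_notMem,
      Finset.card_insert_of_notMem, Finset.card_singleton]
    · simpa using h34
    · simp [h23, h24]
    · simp [h12, h13, h14]
  have h1 := Set.ncard_le_ncard hsub (Set.toFinite _)
  rw [Set.ncard_coe_finset, hcard] at h1
  unfold nfix at h
  omega

/-- an element of odd order with `e (e p) = p` fixes `p` -/
theorem apply_eq_of_sq_apply {e : Perm α} {k : ℕ} (hk : Odd k) (hek : e ^ k = 1) {p : α}
    (h : e (e p) = p) : e p = p := by
  obtain ⟨m, rfl⟩ := hk
  have h2 : ∀ n : ℕ, (e ^ (2 * n)) p = p := by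
    intro n
    induction n with
    | zero => simp
    | succ n ih =>
      rw [Nat.mul_succ, pow_add, Perm.mul_apply]
      have : (e ^ 2) p = p := by
        rw [pow_two, Perm.mul_apply]
        exact h
      rw [this, ih]
  have h3 : (e ^ (2 * m + 1)) p = e p := by
    rw [pow_succ', Perm.mul_apply, h2]
  rw [hek] at h3
  exact h3.symm

/-- the general step: `t` has at most three fixed points, two of which are swapped by `s`;
`e` of odd order commutes with `s` and `t`: then `e` fixes every fixed point of `t`. -/
theorem fix_of_fixed {s t e : Perm α} {p q : α} (hpq : p ≠ q) (ht : nfix t ≤ 3)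
    (tp : t p = p) (tq : t q = q) (sp : s p = q) (sq : s q = p) (hst : s * t = t * s)
    (het : t * e = e * t) (hes : s * e = e * s) {k : ℕ} (hk : Odd k) (hek : e ^ k = 1) :
    ∀ j, t j = j → e j = j := by
  have hst' : ∀ z, s (t z) = t (s z) := fun z => by
    have := congrArg (fun f : Perm α => f z) hst
    simpa [Perm.mul_apply] using this
  have het' : ∀ z, t (e z) = e (t z) := fun z => by
    have := congrArg (fun f : Perm α => f z) het
    simpa [Perm.mul_apply] using this
  have hes' : ∀ z, s (e z) = e (s z) := fun z => by
    have := congrArg (fun f : Perm α => f z) hes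
    simpa [Perm.mul_apply] using this
  -- Claim 1
  have claim1 : ∀ j, t j = j → j ≠ p → j ≠ q → e j = j := by
    intro j tj jp jq
    have tsj : t (s j) = s j := by rw [← hst', tj]
    have sjq : s j ≠ q := by
      intro h
      rw [← sp] at h
      exact jp (s.injective h)
    have sjp : s j ≠ p := by
      intro h
      rw [← sq] at h
      exact jq (s.injective h)
    have sj : s j = j := by
      by_contra hne
      exact four_fixed_absurd t ht hpq (Ne.symm jp) (Ne.symm sjp) (Ne.symm jq) (Ne.symm sjq)
        (Ne.symm hne) tp tq tj tsj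
    have tej : t (e j) = e j := by rw [het', tj]
    have sej : s (e j) = e j := by rw [hes', sj]
    have ejp : e j ≠ p := by
      intro h
      rw [h, sp] at sej
      exact hpq sej.symm
    have ejq : e j ≠ q := by
      intro h
      rw [h, sq] at sej
      exact hpq sej
    by_contra hne
    exact four_fixed_absurd t ht hpq (Ne.symm jp) (Ne.symm ejp) (Ne.symm jq) (Ne.symm ejq)
      (Ne.symm hne) tp tq tj tej
  -- Claim 2
  have tep : t (e p) = e p := by rw [het', tp]
  have ep : e p = p := by
    by_cases h1 : e p = p
    · exact h1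
    · by_cases h2 : e p = q
      · have eq' : e q = p := by
          rw [← sp, ← hes', h2, sq]
        apply apply_eq_of_sq_apply hk hek
        rw [h2, eq']
      · have := claim1 (e p) tep h1 h2
        exact e.injective this
  have eq : e q = q := by
    rw [← sp, ← hes', ep]
  intro j tj
  by_cases jp : j = p
  · rw [jp, ep]
  · by_cases jq : j = q
    · rw [jq, eq]
    · exact claim1 j tj jp jq

/-- LEAF TR (422118). -/
theorem eq_one_of_fix_reg (G : Subgroup (Perm α)) {a b c d : α} {x y : Perm α}
    (hV : VData G a b c d x y) (hfx : nfix x ≤ 3) (hfy : nfix y ≤ 3) (hfz : nfix (x * y) ≤ 3)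
    {e : Perm α} {k : ℕ} (hk : Odd k) (hek : e ^ k = 1) (hex : x * e = e * x) (hey : y * e = e * y)
    (hreg : ∀ j ∈ Preg x y, e j = j) : e = 1 := by
  have hxy : ∀ z, x (y z) = y (x z) := fun z => by
    have := congrArg (fun f : Perm α => f z) hV.comm
    simpa [Perm.mul_apply] using this
  have hxx : ∀ z, x (x z) = z := fun z => by
    have := congrArg (fun f : Perm α => f z) hV.x2
    simpa [Perm.mul_apply] using this
  have hyy : ∀ z, y (y z) = z := fun z => by
    have := congrArg (fun f : Perm α => f z) hV.y2
    simpa [Perm.mul_apply] using this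
  -- fixed points of `x`
  have hFx : ∀ j, x j = j → e j = j :=
    fix_of_fixed (s := y) (t := x) hV.hab hfx hV.xa hV.xb hV.ya hV.yb hV.comm.symm hex hey hk hek
  -- fixed points of `y`
  have hFy : ∀ j, y j = j → e j = j :=
    fix_of_fixed (s := x) (t := y) hV.hcd hfy hV.yc hV.yd hV.xc hV.xd hV.comm hey hex hk hek
  -- fixed points of `z = x * y`
  have hzx : x * (x * y) = (x * y) * x := by
    rw [mul_assoc, ← hV.comm]
  have hze : (x * y) * e = e * (x * y) := by
    rw [mul_assoc, hey, ← mul_assoc, hex, mul_assoc]
  ext j
  rw [Perm.one_apply]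
  by_cases h1 : x j = j
  · exact hFx j h1
  · by_cases h2 : y j = j
    · exact hFy j h2
    · by_cases h3 : x (y j) = j
      · have zj : (x * y) j = j := by rw [Perm.mul_apply]; exact h3
        have zxj : (x * y) (x j) = x j := by
          rw [Perm.mul_apply, ← hxy, h3]
        exact fix_of_fixed (s := x) (t := x * y) (p := j) (q := x j) (Ne.symm h1) hfz zj zxj rfl
          (hxx j) hzx hze hex hk hek j zj
      · exact hreg j ⟨h1, h2, h3⟩

end Cfsg.Agent.Lib.Helper52.Hall4
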