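import Mathlib

set_option autoImplicit false

namespace Cfsg.Agent.Lib.Helper52.SylTwo

open Equiv Equiv.Perm

/-- **K-SylTwo-D1.** Twice the order of a Sylow 2-subgroup of `Alt(n)` is the 2-part of `n!`. -/
theorem two_mul_card_sylow_two_alt (n : ℕ) (hn : 2 ≤ n) (P : Sylow 2 ↥(alternatingGroup (Fin n))) :
    2 * Nat.card ↥(P : Subgroup ↥(alternatingGroup (Fin n))) = 2 ^ (n.factorial.factorization 2) := by
  have : Fact (Nat.Prime 2) := ⟨Nat.prime_two⟩
  have : Nontrivial (Fin n) := Fin.nontrivial_iff_two_le.mpr hn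
  have h1 : Nat.card ↥(P : Subgroup ↥(alternatingGroup (Fin n)))
      = 2 ^ (Nat.card ↥(alternatingGroup (Fin n))).factorization 2 := P.card_eq_multiplicity
  have h2 : 2 * Nat.card ↥(alternatingGroup (Fin n)) = n.factorial := by
    rw [Nat.card_eq_fintype_card, two_mul_card_alternatingGroup, Fintype.card_perm, Fintype.card_fin]
  have hpos : Nat.card ↥(alternatingGroup (Fin n)) ≠ 0 := Nat.card_pos.ne'
  have h3 : n.factorial.factorization 2 = (Nat.card ↥(alternatingGroup (Fin n))).factorization 2 + 1 := by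
    rw [← h2, Nat.factorization_mul (by norm_num) hpos]
    simp [Nat.Prime.factorization_self Nat.prime_two, add_comm]
  rw [h1, h3, pow_succ, mul_comm]

end Cfsg.Agent.Lib.Helper52.SylTwo
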