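import Cfsg.Agent.Lib.Helper46.UTiDefs
import Cfsg.Agent.Lib.Helper46.UTiB1

set_option autoImplicit false
set_option linter.unusedSectionVars false
set_option linter.unusedVariables false

/-!
# K-UTi-B2 (keystone 595302, S5953 pack of helper46): hermitian ports of `Helper98.Sy` / `Helper98.Ti`
basic lemmas: orthogonal complements inside nondegenerate subspaces, orthogonal sums,
invariance of the orthogonal complement, the parts `V0`, `V1` of an isometry of order `r`.
-/

namespace Cfsg.Agent.Lib.Helper52.UTi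

open Module Polynomial Cfsg.Agent.Lib.Helper98.Elus Cfsg.Agent.Lib.Helper46.UTi

universe u

variable {F : Type u} [Field F] [Fintype F] {V : Type u} [AddCommGroup V] [Module F V]
  [FiniteDimensional F V] {q : ℕ} {H : V → V → F}

/-- the orthogonal complement of a nondegenerate subspace inside a nondegenerate subspace -/
theorem compl_props (hF : Fintype.card F = q ^ 2) (hH : IsHerm q H) (W' W : Submodule F V)
    (hW' : NonDeg H W') (hle : W' ≤ W) (hW : NonDeg H W) :
    W' ⊔ (orth hH W' ⊓ W) = W ∧ W' ⊓ (orth hH W' ⊓ W) = ⊥ ∧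
      NonDeg H (orth hH W' ⊓ W) ∧
      finrank F W' + finrank F ↥(orth hH W' ⊓ W) = finrank F W := by
  have hc := isCompl_orth hF hH W' hW'
  have h1 : W' ⊔ (orth hH W' ⊓ W) = W := by
    rw [← sup_inf_assoc_of_le _ hle, hc.sup_eq_top, top_inf_eq]
  have h2 : W' ⊓ (orth hH W' ⊓ W) = ⊥ := by
    rw [eq_bot_iff, ← hc.inf_eq_bot]
    exact inf_le_inf le_rfl inf_le_left
  refine ⟨h1, h2, ?_, ?_⟩
  · intro u hu hu'
    obtain ⟨hu1, hu2⟩ := Submodule.mem_inf.mp hu
    apply hW u hu2
    intro w hw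
    rw [← h1] at hw
    obtain ⟨a, ha, b, hb, rfl⟩ := Submodule.mem_sup.mp hw
    rw [hH.add_right hF, hu' b hb, add_zero]
    exact hu1 a ha
  · have h := Submodule.finrank_sup_add_finrank_inf_eq W' (orth hH W' ⊓ W)
    rw [h1, h2, finrank_bot] at h
    omega

/-- orthogonal sum of nondegenerate subspaces -/
theorem nonDeg_sup (hF : Fintype.card F = q ^ 2) (hH : IsHerm q H) (W1 W2 : Submodule F V)
    (h1 : NonDeg H W1) (h2 : NonDeg H W2) (h12 : Ort H W1 W2) :
    NonDeg H (W1 ⊔ W2) ∧ W1 ⊓ W2 = ⊥ := by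
  have h21 : Ort H W2 W1 := Ort.symm hF hH h12
  constructor
  · intro u hu hu'
    obtain ⟨a, ha, b, hb, rfl⟩ := Submodule.mem_sup.mp hu
    have ha0 : a = 0 := by
      apply h1 a ha
      intro x hx
      have := hu' x (Submodule.mem_sup_left hx)
      rw [hH.add_left, h21 b hb x hx, add_zero] at this
      exact this
    have hb0 : b = 0 := by
      apply h2 b hb
      intro x hx
      have := hu' x (Submodule.mem_sup_right hx)
      rw [hH.add_left, h12 a ha x hx, zero_add] at this
      exact this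
    rw [ha0, hb0, add_zero]
  · rw [eq_bot_iff]
    intro u hu
    obtain ⟨hu1, hu2⟩ := Submodule.mem_inf.mp hu
    rw [Submodule.mem_bot]
    apply h1 u hu1
    intro v hv
    exact h21 u hu2 v hv

theorem finrank_sup_of_ort (hF : Fintype.card F = q ^ 2) (hH : IsHerm q H)
    (W1 W2 : Submodule F V) (h1 : NonDeg H W1) (h2 : NonDeg H W2) (h12 : Ort H W1 W2) :
    finrank F ↥(W1 ⊔ W2) = finrank F W1 + finrank F W2 := by
  have h := Submodule.finrank_sup_add_finrank_inf_eq W1 W2
  rw [(nonDeg_sup hF hH W1 W2 h1 h2 h12).2, finrank_bot] at h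
  omega

/-- the orthogonal complement of an invariant subspace is invariant -/
theorem inv_orth (hF : Fintype.card F = q ^ 2) (hH : IsHerm q H) (N : ℕ) (hN : 0 < N)
    (y : V →ₗ[F] V) (hy : y ^ N = 1) (hiso : Iso H y) (W : Submodule F V) (hW : Inv y W) :
    Inv y (orth hH W) := by
  intro v hv
  rw [mem_orth] at hv ⊢
  intro n hn
  have h1 : y ((y ^ (N - 1)) n) = n := by
    rw [← Module.End.mul_apply, ← pow_succ', Nat.sub_add_cancel hN, hy, Module.End.one_apply]
  rw [← h1, hiso]
  exact hv _ (hW.pow_mem _ n hn)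

/-- additivity in the second variable over finite sums -/
theorem herm_sum_right (hF : Fintype.card F = q ^ 2) (hH : IsHerm q H) {ι : Type*}
    (s : Finset ι) (v : ι → V) (x : V) : H x (∑ i ∈ s, v i) = ∑ i ∈ s, H x (v i) := by
  classical
  induction s using Finset.induction_on with
  | empty => simp [hH.zero_right hF]
  | insert a s ha ih =>
    rw [Finset.sum_insert ha, Finset.sum_insert ha, hH.add_right hF, ih]

/-- the fixed space is orthogonal to the kernel of the geometric sum -/
theorem ort_V0_V1 (hF : Fintype.card F = q ^ 2) (hH : IsHerm q H) (r : ℕ) (hrF : (r : F) ≠ 0)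
    (y : V →ₗ[F] V) (hy : y ^ r = 1) (hiso : Iso H y) : Ort H (V0 y) (V1 r y) := by
  intro u hu v hv
  have h1 : ∀ k : ℕ, H u ((y ^ k) v) = H u v := by
    intro k
    have h2 := iso_pow y hiso k u v
    rw [pow_apply_of_mem_V0 y u hu k] at h2
    exact h2
  have h2 : H u (gsum r y v) = (r : F) * H u v := by
    rw [gsum_apply, herm_sum_right hF hH]
    simp only [h1, Finset.sum_const, Finset.card_range, nsmul_eq_mul]
  rw [(mem_V1 r y v).mp hv, hH.zero_right hF] at h2
  rcases mul_eq_zero.mp h2.symm with h | h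
  · exact absurd h hrF
  · exact h

/-- the parts of a nondegenerate invariant subspace -/
theorem nonDeg_inf_parts (hF : Fintype.card F = q ^ 2) (hH : IsHerm q H) (r : ℕ)
    (hrF : (r : F) ≠ 0) (y : V →ₗ[F] V) (hy : y ^ r = 1) (hiso : Iso H y) (W : Submodule F V)
    (hW : NonDeg H W) (hWinv : Inv y W) : NonDeg H (W ⊓ V0 y) ∧ NonDeg H (W ⊓ V1 r y) := by
  have hort := ort_V0_V1 hF hH r hrF y hy hiso
  have hort' : Ort H (V1 r y) (V0 y) := Ort.symm hF hH hort
  have hdec : ∀ w ∈ W, ∃ a ∈ W ⊓ V0 y, ∃ b ∈ W ⊓ V1 r y, w = a + b := by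
    intro w hw
    have hG : gsum r y w ∈ W := by
      rw [gsum_apply]
      exact Submodule.sum_mem _ fun k _ => hWinv.pow_mem k w hw
    have hG0 : gsum r y w ∈ V0 y := by
      rw [mem_V0]
      have := congrArg (fun g => g w) (mul_gsum r y hy)
      simpa [Module.End.mul_apply] using this
    refine ⟨(r : F)⁻¹ • gsum r y w, ?_, w - (r : F)⁻¹ • gsum r y w, ?_, by abel⟩
    · exact Submodule.smul_mem _ _ (Submodule.mem_inf.mpr ⟨hG, hG0⟩)
    · refine Submodule.mem_inf.mpr ⟨Submodule.sub_mem _ hw (Submodule.smul_mem _ _ hG), ?_⟩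
      rw [mem_V1, map_sub, map_smul]
      have := congrArg (fun g => g w) (gsum_mul_gsum r y hy)
      simp only [Module.End.mul_apply, LinearMap.smul_apply] at this
      rw [this, smul_smul, inv_mul_cancel₀ hrF, one_smul, sub_self]
  constructor
  · intro u hu hu'
    apply hW u (Submodule.mem_inf.mp hu).1
    intro w hw
    obtain ⟨a, ha, b, hb, rfl⟩ := hdec w hw
    rw [hH.add_right hF, hu' a ha, zero_add]
    exact hort u (Submodule.mem_inf.mp hu).2 b (Submodule.mem_inf.mp hb).2
  · intro u hu hu'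
    apply hW u (Submodule.mem_inf.mp hu).1
    intro w hw
    obtain ⟨a, ha, b, hb, rfl⟩ := hdec w hw
    rw [hH.add_right hF, hu' b hb, add_zero]
    exact hort' u (Submodule.mem_inf.mp hu).2 a (Submodule.mem_inf.mp ha).2

/-- sums of mutually orthogonal totally isotropic subspaces -/
theorem ort_sup_self (hF : Fintype.card F = q ^ 2) (hH : IsHerm q H) (L W : Submodule F V)
    (hL : Ort H L L) (hW : Ort H W W) (hLW : Ort H L W) : Ort H (L ⊔ W) (L ⊔ W) := by
  have hWL : Ort H W L := Ort.symm hF hH hLW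
  intro a ha b hb
  obtain ⟨a1, ha1, a2, ha2, rfl⟩ := Submodule.mem_sup.mp ha
  obtain ⟨b1, hb1, b2, hb2, rfl⟩ := Submodule.mem_sup.mp hb
  rw [hH.add_left, hH.add_right hF, hH.add_right hF, hL a1 ha1 b1 hb1, hLW a1 ha1 b2 hb2,
    hWL a2 ha2 b1 hb1, hW a2 ha2 b2 hb2]
  simp

end Cfsg.Agent.Lib.Helper52.UTi
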