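import Mathlib
import Cfsg.Agent.Lib.Helper15.BG147Defs
import Cfsg.Agent.Lib.Helper78.BG1310Aux
import Cfsg.Agent.Lib.Helper14.BG134G8
import Cfsg.Agent.Lib.Helper64.BG14K
import Cfsg.Agent.Lib.Helper16.BG134Asm
import Cfsg.Agent.Lib.Helper71.BG11a

/-!
# K-147C-C2 (keystone 147102, BG 14.7 local closure lemma, architect helper15): prime-order subgroups
of `H_σ ⊓ M` have order in `κ(M)`.
-/

set_option autoImplicit false
set_option linter.unusedVariables false
set_option linter.unusedSectionVars false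

namespace Cfsg.Agent.Lib.Helper52.BG147

open Cfsg Cfsg.Agent.Lib.Helper55 Cfsg.Agent.Lib.Helper31.BG134 Cfsg.Agent.Lib.Helper15.BG139
  Cfsg.Agent.Lib.Helper15.BG142 Cfsg.Agent.Lib.Helper15.BG147

variable {G : Type*} [Group G] [Finite G]

/-- LEAF C2 (147102) -/
theorem kappa_of_le {M K X H : Subgroup G} (c : CL M K X H) (c1 : CL1 M K X H) :
    ∀ Z' : Subgroup G, Z' ≤ sigmaCore H ⊓ M → (Nat.card Z').Prime → Nat.card Z' ∈ kappa M := by
  intro Z' hZ' hr
  have hG := c.hG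
  have hZσ : Z' ≤ sigmaCore H := hZ'.trans inf_le_left
  have hZM : Z' ≤ M := hZ'.trans inf_le_right
  have hZH : Z' ≤ H := hZσ.trans (Cfsg.Agent.Lib.Helper71.BG11.sigmaCore_le H)
  -- `r ∈ σ(H)`
  have hrσH : Nat.card Z' ∈ sigma H :=
    Cfsg.Agent.Lib.Helper71.BG11.sigmaCore_pi hG c.hH hr (Subgroup.card_dvd_of_le hZσ)
  -- `r ∉ σ(M)`
  have hrσM : Nat.card Z' ∉ sigma M := fun h =>
    hsp hG M H c.hM c.hH c1.hnc _ h hrσH
  have hrM : Nat.card Z' ∣ Nat.card M := Subgroup.card_dvd_of_le hZM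
  -- `C_{M_σ}(Z') ≠ 1`
  have hKsC : KStar M K ≤ Subgroup.centralizer (Z' : Set G) := by
    have h1 : Z' ≤ Subgroup.centralizer (KStar M K : Set G) := hZ'.trans c1.hcomm
    exact Subgroup.le_centralizer_iff.mp h1
  have hC : CP M Z' ≠ ⊥ := by
    intro h
    apply c1.hKs
    have : KStar M K ≤ CP M Z' := le_inf inf_le_left hKsC
    rw [h] at this
    exact le_bot_iff.mp this
  rcases Cfsg.Agent.Lib.Helper16.BG134.mem_tau_cases hG c.hM hr hrM hrσM with h1 | h2 | h3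
  · exact Cfsg.Agent.Lib.Helper64.BG14.mem_kappa_of_cent_ne_bot hG c.hM hr hrM hrσM h1.2.2.2.2
      hZM rfl hC
  · exfalso
    have hN : Subgroup.normalizer (Z' : Set G) ≤ M :=
      Cfsg.Agent.Lib.Helper78.BG1310.normalizer_le_of_tau2_cent hG c.hM hZM hr h2 hC
    have hne : M ≠ H := by
      have := c1.hnc 1
      rwa [cj_one] at this
    haveI : Fact (Nat.card Z').Prime := ⟨hr⟩
    have h := Cfsg.Agent.Lib.Helper14.BG134.tau2_and_compl hG c.hH c.hM hne hrσH hrσM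
      (Cfsg.Agent.Lib.Helper78.BG1310.isPGroup_of_card_prime hr)
      (Cfsg.Agent.Lib.Helper78.BG1310.ne_bot_of_card_prime hr) hZH hN
    apply c1.hKs
    rw [← c1.hσ]
    exact h.2.2
  · exact Cfsg.Agent.Lib.Helper64.BG14.mem_kappa_of_cent_ne_bot hG c.hM hr hrM hrσM h3.2.2.2
      hZM rfl hC

end Cfsg.Agent.Lib.Helper52.BG147
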