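import Mathlib
import Cfsg.Agent.Lib.Helper15.BG147Defs
import Cfsg.Agent.Lib.Helper78.BG1310Aux
import Cfsg.Agent.Lib.Helper64.BG14K
import Cfsg.Agent.Lib.Helper16.BG134Asm
import Cfsg.Agent.Lib.Helper71.BG11a

/-!
# K-147C-C5 + C6 (keystones 147105, 147106, BG 14.7 local closure lemma, architect helper15)
-/

set_option autoImplicit false
set_option linter.unusedVariables false
set_option linter.unusedSectionVars false

namespace Cfsg.Agent.Lib.Helper52.BG147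

open Cfsg Cfsg.Agent.Lib.Helper55 Cfsg.Agent.Lib.Helper31.BG134 Cfsg.Agent.Lib.Helper15.BG139
  Cfsg.Agent.Lib.Helper15.BG142 Cfsg.Agent.Lib.Helper15.BG147

variable {G : Type*} [Group G] [Finite G]

/-- LEAF C5 (147105) -/
theorem kstar_primes {M K X H : Subgroup G} (c : CL M K X H) (c1 : CL1 M K X H) :
    ∀ Y : Subgroup G, Y ≤ KStar M K → (Nat.card Y).Prime → Nat.card Y ∈ kappa H := by
  intro Y hY hq
  have hG := c.hG
  obtain ⟨E, ks⟩ := exists_ks hG c.hM c.hK c.hK1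
  have hKM : K ≤ M := c.hK.1
  have hXM : X ≤ M := c.hXK.trans hKM
  have hYσ : Y ≤ sigmaCore M := hY.trans inf_le_left
  have hYH : Y ≤ H := (hY.trans le_sup_right).trans c1.hZH
  have hqσM : Nat.card Y ∈ sigma M :=
    Cfsg.Agent.Lib.Helper71.BG11.sigmaCore_pi hG c.hM hq (Subgroup.card_dvd_of_le hYσ)
  have hqσH : Nat.card Y ∉ sigma H := hsp hG M H c.hM c.hH c1.hnc _ hqσM
  have hqH : Nat.card Y ∣ Nat.card H := Subgroup.card_dvd_of_le hYH
  -- `Y` centralizes `X`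
  have hYcX : Y ≤ Subgroup.centralizer (X : Set G) :=
    (hY.trans inf_le_right).trans (Subgroup.centralizer_le c.hXK)
  have hXcY : X ≤ Subgroup.centralizer (Y : Set G) := Subgroup.le_centralizer_iff.mp hYcX
  have hX1 : X ≠ ⊥ := Cfsg.Agent.Lib.Helper78.BG1310.ne_bot_of_card_prime c.hXp
  have hC : CP H Y ≠ ⊥ := by
    intro h
    apply hX1
    have : X ≤ CP H Y := le_inf c1.hXσ hXcY
    rw [h] at this
    exact le_bot_iff.mp this
  rcases Cfsg.Agent.Lib.Helper16.BG134.mem_tau_cases hG c.hH hq hqH hqσH with h1 | h2 | h3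
  · exact Cfsg.Agent.Lib.Helper64.BG14.mem_kappa_of_cent_ne_bot hG c.hH hq hqH hqσH h1.2.2.2.2
      hYH rfl hC
  · exfalso
    have hN : Subgroup.normalizer (Y : Set G) ≤ H :=
      Cfsg.Agent.Lib.Helper78.BG1310.normalizer_le_of_tau2_cent hG c.hH hYH hq h2 hC
    have hYCP : Y ≤ CP M X := le_inf hYσ hYcX
    have hHM : H = M := ha hG M X Y (Nat.card X) c.hM hXM rfl (ks.h13 X c.hXK c.hXp) hYCP hq
      H c.hH hN
    have := c1.hnc 1
    rw [cj_one] at this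
    exact this hHM.symm
  · exact Cfsg.Agent.Lib.Helper64.BG14.mem_kappa_of_cent_ne_bot hG c.hH hq hqH hqσH h3.2.2.2
      hYH rfl hC

/-- elements of `K` normalize the subgroups of prime order of `K` -/
theorem conj_mem_of_ks {M K E : Subgroup G} (ks : KS M K E) {X : Subgroup G} (hXK : X ≤ K)
    (hXp : (Nat.card X).Prime) {k x : G} (hk : k ∈ K) (hx : x ∈ X) : k * x * k⁻¹ ∈ X := by
  have h1 : cj k X ≤ K := by
    intro z hz
    rw [mem_cj] at hz
    have h2 := hXK hz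
    have h3 : z = k * (k⁻¹ * z * k) * k⁻¹ := by group
    rw [h3]
    exact K.mul_mem (K.mul_mem hk h2) (K.inv_mem hk)
  have h2 : cj k X = X := ks.huniq X (cj k X) hXK h1 hXp (card_cj k X)
  rw [← h2, mem_cj]
  have h3 : k⁻¹ * (k * x * k⁻¹) * k = x := by group
  rw [h3]
  exact hx

/-- LEAF C6 (147106) -/
theorem k_primes {M K X H : Subgroup G} (c : CL M K X H) (c1 : CL1 M K X H) :
    ∀ X2 : Subgroup G, X2 ≤ K → (Nat.card X2).Prime → Nat.card X2 ∉ sigma H →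
      Nat.card X2 ∈ kappa H := by
  intro X2 hX2K hp2 hσ
  have hG := c.hG
  obtain ⟨E, ks⟩ := exists_ks hG c.hM c.hK c.hK1
  have hKM : K ≤ M := c.hK.1
  have hX2M : X2 ≤ M := hX2K.trans hKM
  have hX2H : X2 ≤ H := (hX2K.trans le_sup_left).trans c1.hZH
  have hp2H : Nat.card X2 ∣ Nat.card H := Subgroup.card_dvd_of_le hX2H
  -- `p ∈ σ(H)`
  have hpσH : Nat.card X ∈ sigma H :=
    Cfsg.Agent.Lib.Helper71.BG11.sigmaCore_pi hG c.hH c.hXp (Subgroup.card_dvd_of_le c1.hXσ)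
  have hne : Nat.card X ≠ Nat.card X2 := by
    intro h
    rw [h] at hpσH
    exact hσ hpσH
  -- `X ⊓ X2 = ⊥`
  have hinf : X ⊓ X2 = ⊥ := by
    by_contra hne'
    have h1 : Nat.card ↥(X ⊓ X2) ∣ Nat.card X := Subgroup.card_dvd_of_le inf_le_left
    have h2 : Nat.card ↥(X ⊓ X2) ∣ Nat.card X2 := Subgroup.card_dvd_of_le inf_le_right
    have h3 : Nat.card ↥(X ⊓ X2) ≠ 1 := by
      intro h
      exact hne' (Subgroup.card_eq_one.mp h)
    have h4 : Nat.card ↥(X ⊓ X2) = Nat.card X := ((Nat.dvd_prime c.hXp).mp h1).resolve_left h3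
    have h5 : Nat.card ↥(X ⊓ X2) = Nat.card X2 := ((Nat.dvd_prime hp2).mp h2).resolve_left h3
    exact hne (h4.symm.trans h5)
  -- `X` centralizes `X2`
  have hXcX2 : X ≤ Subgroup.centralizer (X2 : Set G) := by
    intro x hx
    rw [Subgroup.mem_centralizer_iff]
    intro y hy
    have hxK : x ∈ K := c.hXK hx
    have hyK : y ∈ K := hX2K hy
    have h1 : x * y * x⁻¹ * y⁻¹ ∈ X2 :=
      X2.mul_mem (conj_mem_of_ks ks hX2K hp2 hxK hy) (X2.inv_mem hy)
    have h2 : x * y * x⁻¹ * y⁻¹ ∈ X := by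
      have h3 : x * y * x⁻¹ * y⁻¹ = x * (y * x⁻¹ * y⁻¹) := by group
      rw [h3]
      exact X.mul_mem hx (conj_mem_of_ks ks c.hXK c.hXp hyK (X.inv_mem hx))
    have h4 : x * y * x⁻¹ * y⁻¹ ∈ X ⊓ X2 := ⟨h2, h1⟩
    rw [hinf, Subgroup.mem_bot] at h4
    have h5 : x * y = (x * y * x⁻¹ * y⁻¹) * (y * x) := by group
    rw [h4, one_mul] at h5
    exact h5.symm
  have hX1 : X ≠ ⊥ := Cfsg.Agent.Lib.Helper78.BG1310.ne_bot_of_card_prime c.hXp
  have hC : CP H X2 ≠ ⊥ := by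
    intro h
    apply hX1
    have : X ≤ CP H X2 := le_inf c1.hXσ hXcX2
    rw [h] at this
    exact le_bot_iff.mp this
  rcases Cfsg.Agent.Lib.Helper16.BG134.mem_tau_cases hG c.hH hp2 hp2H hσ with h1 | h2 | h3
  · exact Cfsg.Agent.Lib.Helper64.BG14.mem_kappa_of_cent_ne_bot hG c.hH hp2 hp2H hσ h1.2.2.2.2
      hX2H rfl hC
  · exfalso
    have hN : Subgroup.normalizer (X2 : Set G) ≤ H :=
      Cfsg.Agent.Lib.Helper78.BG1310.normalizer_le_of_tau2_cent hG c.hH hX2H hp2 h2 hC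
    have hCM : CP M X2 ≠ ⊥ := by
      intro h
      apply ks.hKs
      have : KStar M K ≤ CP M X2 := le_inf inf_le_left (inf_le_right.trans
        (Subgroup.centralizer_le hX2K))
      rw [h] at this
      exact le_bot_iff.mp this
    exact hσ (htx' hG M X2 H (Nat.card X2) c.hM hX2M rfl (ks.h13 X2 hX2K hp2) hCM c.hH hN)
  · exact Cfsg.Agent.Lib.Helper64.BG14.mem_kappa_of_cent_ne_bot hG c.hH hp2 hp2H hσ h3.2.2.2
      hX2H rfl hC

end Cfsg.Agent.Lib.Helper52.BG147
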