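import Cfsg.Agent.S3772

set_option autoImplicit false
open scoped commutatorElement

namespace Cfsg.Agent.Lib.Helper52

open Cfsg.Agent.S3772

section

variable {G : Type*} [Group G] [Fintype G] {z : G} {Φ : Subgroup G}

theorem sg_inv_of_mem (hzz : z * z = 1) (hΦ : ∀ t ∈ Φ, t = 1 ∨ t = z) {t : G} (ht : t ∈ Φ) :
    t⁻¹ = t := by
  rcases hΦ t ht with rfl | rfl
  · simp
  · exact inv_eq_of_mul_eq_one_left hzz

theorem comm_symm_of_mem (hzz : z * z = 1) (hΦ : ∀ t ∈ Φ, t = 1 ∨ t = z)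
    (hcomm : ∀ x y : G, ⁅x, y⁆ ∈ Φ) (x y : G) : ⁅x, y⁆ = ⁅y, x⁆ := by
  rw [← commutatorElement_inv y x, sg_inv_of_mem hzz hΦ (hcomm y x)]

/-- Orthogonality over a subgroup `A`: `∑_{a ∈ A} sg [x, a]` is `|A|` or `0` according as `x`
centralizes `A` or not. -/
theorem sum_sg_comm_subgroup (hz1 : z ≠ 1) (hzz : z * z = 1) (hΦ : ∀ t ∈ Φ, t = 1 ∨ t = z)
    (hcent : ∀ t ∈ Φ, ∀ g : G, g * t = t * g) (hcomm : ∀ x y : G, ⁅x, y⁆ ∈ Φ)
    (A : Subgroup G) [Fintype A] (x : G) :
    (x ∈ Subgroup.centralizer (A : Set G) ∧ ∑ a : A, sg ⁅x, (a : G)⁆ = (Fintype.card A : ℤ)) ∨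
      (x ∉ Subgroup.centralizer (A : Set G) ∧ ∑ a : A, sg ⁅x, (a : G)⁆ = 0) := by
  have hmul : ∀ a a' : A, sg ⁅x, ((a * a' : A) : G)⁆ = sg ⁅x, (a : G)⁆ * sg ⁅x, (a' : G)⁆ := by
    intro a a'
    rw [Subgroup.coe_mul, comm_mul_right x a a' (hcent _ (hcomm x a')),
      sg_mul hz1 hzz hΦ (hcomm x a) (hcomm x a')]
  rcases sum_mul_char (fun a : A => sg ⁅x, (a : G)⁆) hmul (fun a => sg_pm _) with
    ⟨hall, hsum⟩ | ⟨⟨a₀, ha₀⟩, hsum⟩
  · left
    refine ⟨?_, hsum⟩
    rw [Subgroup.mem_centralizer_iff]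
    intro a ha
    have := (sg_eq_one_iff _).mp (hall ⟨a, ha⟩)
    rw [commutatorElement_eq_one_iff_mul_comm] at this
    exact this.symm
  · right
    refine ⟨fun hx => ?_, hsum⟩
    rw [Subgroup.mem_centralizer_iff] at hx
    have h1 : ⁅x, (a₀ : G)⁆ = 1 := by
      rw [commutatorElement_eq_one_iff_mul_comm]
      exact (hx a₀ a₀.2).symm
    simp only [h1, sg_one] at ha₀
    norm_num at ha₀

/-- Orthogonality over the whole group. -/
theorem sum_sg_comm_univ (hz1 : z ≠ 1) (hzz : z * z = 1) (hΦ : ∀ t ∈ Φ, t = 1 ∨ t = z)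
    (hcent : ∀ t ∈ Φ, ∀ g : G, g * t = t * g) (hcomm : ∀ x y : G, ⁅x, y⁆ ∈ Φ) (a : G) :
    (a ∈ Subgroup.center G ∧ ∑ x : G, sg ⁅x, a⁆ = (Fintype.card G : ℤ)) ∨
      (a ∉ Subgroup.center G ∧ ∑ x : G, sg ⁅x, a⁆ = 0) := by
  have hmul : ∀ x x' : G, sg ⁅x * x', a⁆ = sg ⁅x, a⁆ * sg ⁅x', a⁆ := by
    intro x x'
    rw [comm_symm_of_mem hzz hΦ hcomm (x * x') a, comm_symm_of_mem hzz hΦ hcomm x a,
      comm_symm_of_mem hzz hΦ hcomm x' a,
      comm_mul_right a x x' (hcent _ (hcomm a x')), sg_mul hz1 hzz hΦ (hcomm a x) (hcomm a x')]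
  rcases sum_mul_char (fun x : G => sg ⁅x, a⁆) hmul (fun x => sg_pm _) with
    ⟨hall, hsum⟩ | ⟨⟨x₀, hx₀⟩, hsum⟩
  · left
    refine ⟨?_, hsum⟩
    rw [Subgroup.mem_center_iff]
    intro g
    have := (sg_eq_one_iff _).mp (hall g)
    rw [commutatorElement_eq_one_iff_mul_comm] at this
    exact this
  · right
    refine ⟨fun ha => ?_, hsum⟩
    have h1 : ⁅x₀, a⁆ = 1 := by
      rw [commutatorElement_eq_one_iff_mul_comm]
      exact (Subgroup.mem_center_iff.mp ha x₀)
    simp only [h1, sg_one] at hx₀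
    norm_num at hx₀


/-- Double counting: `|A| |C(A)| ≤ |G| |Z(G)|`. -/
theorem card_mul_card_centralizer_le (hz1 : z ≠ 1) (hzz : z * z = 1)
    (hΦ : ∀ t ∈ Φ, t = 1 ∨ t = z)
    (hcent : ∀ t ∈ Φ, ∀ g : G, g * t = t * g) (hcomm : ∀ x y : G, ⁅x, y⁆ ∈ Φ)
    (A : Subgroup G) :
    Nat.card A * Nat.card (Subgroup.centralizer (A : Set G)) ≤
      Nat.card G * Nat.card (Subgroup.center G) := by
  classical
  have : Fintype A := Fintype.ofFinite A
  have h1 : ∑ x : G, ∑ a : A, sg ⁅x, (a : G)⁆ =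
      (Fintype.card A : ℤ) *
        ((Finset.univ.filter (fun x : G => x ∈ Subgroup.centralizer (A : Set G))).card : ℤ) := by
    have : ∀ x : G, ∑ a : A, sg ⁅x, (a : G)⁆ =
        if x ∈ Subgroup.centralizer (A : Set G) then (Fintype.card A : ℤ) else 0 := by
      intro x
      rcases sum_sg_comm_subgroup hz1 hzz hΦ hcent hcomm A x with ⟨hx, hs⟩ | ⟨hx, hs⟩
      · rw [if_pos hx, hs]
      · rw [if_neg hx, hs]
    simp only [this]
    rw [Finset.sum_ite, Finset.sum_const, Finset.sum_const_zero, add_zero, nsmul_eq_mul, mul_comm]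
  have h2 : ∑ x : G, ∑ a : A, sg ⁅x, (a : G)⁆ =
      (Fintype.card G : ℤ) *
        ((Finset.univ.filter (fun a : A => (a : G) ∈ Subgroup.center G)).card : ℤ) := by
    rw [Finset.sum_comm]
    have : ∀ a : A, ∑ x : G, sg ⁅x, (a : G)⁆ =
        if (a : G) ∈ Subgroup.center G then (Fintype.card G : ℤ) else 0 := by
      intro a
      rcases sum_sg_comm_univ hz1 hzz hΦ hcent hcomm (a : G) with ⟨hx, hs⟩ | ⟨hx, hs⟩
      · rw [if_pos hx, hs]
      · rw [if_neg hx, hs]
    simp only [this]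
    rw [Finset.sum_ite, Finset.sum_const, Finset.sum_const_zero, add_zero, nsmul_eq_mul, mul_comm]
  have h3 : Nat.card (Subgroup.centralizer (A : Set G)) =
      (Finset.univ.filter (fun x : G => x ∈ Subgroup.centralizer (A : Set G))).card :=
    Nat.subtype_card _ (by simp)
  have h4 : (Finset.univ.filter (fun a : A => (a : G) ∈ Subgroup.center G)).card ≤
      Nat.card (Subgroup.center G) := by
    rw [← Nat.subtype_card (p := fun a : A => (a : G) ∈ Subgroup.center G) _ (by simp)]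
    refine Nat.card_le_card_of_injective
      (fun a : {a : A // (a : G) ∈ Subgroup.center G} => (⟨(a.1 : G), a.2⟩ : Subgroup.center G))
      ?_
    intro a b hab
    have : ((a.1 : A) : G) = ((b.1 : A) : G) := by
      have h' := congrArg (fun c : Subgroup.center G => (c : G)) hab
      exact h'
    exact Subtype.ext (Subtype.ext this)
  have h5 : (Nat.card A : ℤ) * (Nat.card (Subgroup.centralizer (A : Set G)) : ℤ) =
      (Nat.card G : ℤ) *
        ((Finset.univ.filter (fun a : A => (a : G) ∈ Subgroup.center G)).card : ℤ) := by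
    rw [h3, Nat.card_eq_fintype_card, Nat.card_eq_fintype_card, ← h1, h2]
  have h6 : Nat.card A * Nat.card (Subgroup.centralizer (A : Set G)) =
      Nat.card G * (Finset.univ.filter (fun a : A => (a : G) ∈ Subgroup.center G)).card := by
    exact_mod_cast h5
  rw [h6]
  exact Nat.mul_le_mul_left _ h4


/-- If `A` is a self-centralizing subgroup of exponent `2`, then `∑ χ = |A|`. -/
theorem sum_chi_eq_card_of_self_centralizing (hz1 : z ≠ 1) (hzz : z * z = 1)
    (hΦ : ∀ t ∈ Φ, t = 1 ∨ t = z)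
    (hcent : ∀ t ∈ Φ, ∀ g : G, g * t = t * g) (hsq : ∀ x : G, x * x ∈ Φ)
    (hcomm : ∀ x y : G, ⁅x, y⁆ ∈ Φ)
    (A : Subgroup G) (hA2 : ∀ a ∈ A, a * a = 1)
    (hCA : ∀ x : G, x ∈ Subgroup.centralizer (A : Set G) ↔ x ∈ A) :
    ∑ x : G, chi x = (Nat.card A : ℤ) := by
  classical
  have : Fintype A := Fintype.ofFinite A
  have hchi := chi_mul hz1 hzz hΦ hcent hsq hcomm
  have hchiA : ∀ a : A, chi (a : G) = 1 := by
    intro a
    unfold chi
    rw [hA2 a a.2, sg_one]
  have h1 : ∀ a : A, ∑ x : G, chi x = ∑ x : G, sg ⁅x, (a : G)⁆ * chi x := by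
    intro a
    rw [← Equiv.sum_comp (Equiv.mulLeft (a : G)) (fun x => chi x)]
    apply Finset.sum_congr rfl
    intro x _
    show chi ((a : G) * x) = _
    rw [hchi (a : G) x, hchiA a, mul_one]
  have h2 : (Fintype.card A : ℤ) * ∑ x : G, chi x =
      ∑ x : G, chi x * ∑ a : A, sg ⁅x, (a : G)⁆ := by
    have : (Fintype.card A : ℤ) * ∑ x : G, chi x = ∑ _a : A, ∑ x : G, chi x := by
      rw [Finset.sum_const, Finset.card_univ, nsmul_eq_mul]
    rw [this]
    calc ∑ a : A, ∑ x : G, chi x = ∑ a : A, ∑ x : G, sg ⁅x, (a : G)⁆ * chi x :=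
          Finset.sum_congr rfl (fun a _ => h1 a)
      _ = ∑ x : G, ∑ a : A, sg ⁅x, (a : G)⁆ * chi x := Finset.sum_comm
      _ = ∑ x : G, chi x * ∑ a : A, sg ⁅x, (a : G)⁆ := by
          apply Finset.sum_congr rfl
          intro x _
          rw [Finset.mul_sum]
          apply Finset.sum_congr rfl
          intro a _
          ring
  have h3 : ∀ x : G, chi x * ∑ a : A, sg ⁅x, (a : G)⁆ =
      if x ∈ A then (Fintype.card A : ℤ) else 0 := by
    intro x
    rcases sum_sg_comm_subgroup hz1 hzz hΦ hcent hcomm A x with ⟨hx, hs⟩ | ⟨hx, hs⟩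
    · have hxA : x ∈ A := (hCA x).mp hx
      rw [if_pos hxA, hs, hchiA ⟨x, hxA⟩, one_mul]
    · have hxA : x ∉ A := fun h => hx ((hCA x).mpr h)
      rw [if_neg hxA, hs, mul_zero]
  simp only [h3] at h2
  rw [Finset.sum_ite, Finset.sum_const, Finset.sum_const_zero, add_zero, nsmul_eq_mul] at h2
  have h4 : (Finset.univ.filter (fun x : G => x ∈ A)).card = Fintype.card A := by
    rw [Fintype.card_subtype]
  rw [h4] at h2
  have hpos : (Fintype.card A : ℤ) ≠ 0 := by
    have : 0 < Fintype.card A := Fintype.card_pos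
    exact_mod_cast this.ne'
  rw [Nat.card_eq_fintype_card]
  exact mul_left_cancel₀ hpos h2

end

end Cfsg.Agent.Lib.Helper52

namespace Cfsg.Agent.Lib.Helper52

open Cfsg.Agent.S3772

/-- In an extraspecial `2`-group of order `2^(2m+1)` containing an elementary abelian subgroup of
order `2^(m+1)` (plus type), the number of solutions of `x² = 1` is `2^(2m) + 2^m`; moreover all
fourth powers are trivial. -/
theorem card_sq_eq_one_of_extraspecial_plus {E : Type*} [Group E] [Finite E] (m : ℕ)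
    (hE : Cfsg.IsExtraspecial 2 E) (hcard : Nat.card E = 2 ^ (2 * m + 1)) (A : Subgroup E)
    (hA : Cfsg.IsElementaryAbelian 2 A) (hAcard : Nat.card A = 2 ^ (m + 1)) :
    Nat.card {x : E // x ^ 2 = 1} = 2 ^ (2 * m) + 2 ^ m ∧ ∀ x : E, x ^ 4 = 1 := by
  classical
  have : Fintype E := Fintype.ofFinite E
  obtain ⟨⟨hP, hfc, -⟩, hZ⟩ := hE
  have hΦcard : Nat.card (frattini E) = 2 := by rw [hfc]; exact hZ
  obtain ⟨z, hz1, hzz, hzΦ, hΦz, hcent, hsq, hcomm⟩ := setup hP hΦcard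
  obtain ⟨hAc, hA2⟩ := hA
  have hA2' : ∀ a ∈ A, a * a = 1 := fun a ha => by rw [← pow_two]; exact hA2 a ha
  have hle : A ≤ Subgroup.centralizer (A : Set E) := by
    intro a ha
    rw [Subgroup.mem_centralizer_iff]
    intro b hb
    have := hAc.is_comm.comm (⟨b, hb⟩ : A) ⟨a, ha⟩
    exact congrArg Subtype.val this
  have hbound := card_mul_card_centralizer_le hz1 hzz hΦz hcent hcomm A
  rw [hAcard, hcard, hZ] at hbound
  have hCcard : Nat.card (Subgroup.centralizer (A : Set E)) ≤ Nat.card A := by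
    rw [hAcard]
    have e : (2 : ℕ) ^ (2 * m + 1) * 2 = 2 ^ (m + 1) * 2 ^ (m + 1) := by
      rw [← pow_add, ← pow_succ]
      congr 1
      omega
    rw [e] at hbound
    exact Nat.le_of_mul_le_mul_left hbound (by positivity)
  have hCeq : A = Subgroup.centralizer (A : Set E) := Subgroup.eq_of_le_of_card_ge hle hCcard
  have hCA : ∀ x : E, x ∈ Subgroup.centralizer (A : Set E) ↔ x ∈ A := by
    intro x
    rw [← hCeq]
  have hT := sum_chi_eq_card_of_self_centralizing hz1 hzz hΦz hcent hsq hcomm A hA2' hCA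
  rw [sum_chi_eq, ← Nat.card_eq_fintype_card, hcard, hAcard] at hT
  constructor
  · have h2 : (2 : ℤ) * (Nat.card {x : E // x ^ 2 = 1} : ℤ) = 2 * ((2 : ℤ) ^ (2 * m) + 2 ^ m) := by
      push_cast at hT
      have e1 : (2 : ℤ) ^ (2 * m + 1) = 2 * 2 ^ (2 * m) := by rw [pow_succ]; ring
      have e2 : (2 : ℤ) ^ (m + 1) = 2 * 2 ^ m := by rw [pow_succ]; ring
      rw [e1, e2] at hT
      linarith
    have h3 : (Nat.card {x : E // x ^ 2 = 1} : ℤ) = (2 : ℤ) ^ (2 * m) + 2 ^ m := by linarith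
    exact_mod_cast h3
  · intro x
    have hx : x * x ∈ frattini E := hsq x
    have : x ^ 4 = (x * x) * (x * x) := by
      rw [← pow_two, ← pow_two, ← pow_mul]
    rw [this]
    rcases hΦz _ hx with h | h
    · rw [h, one_mul]
    · rw [h, hzz]

/-- The number of elements of order `4` in `2^{1+2m}_+` is `2^(2m) - 2^m`. -/
theorem card_orderOf_four_of_extraspecial_plus {E : Type*} [Group E] [Finite E] (m : ℕ)
    (hE : Cfsg.IsExtraspecial 2 E) (hcard : Nat.card E = 2 ^ (2 * m + 1)) (A : Subgroup E)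
    (hA : Cfsg.IsElementaryAbelian 2 A) (hAcard : Nat.card A = 2 ^ (m + 1)) :
    Nat.card {x : E // orderOf x = 4} = 2 ^ (2 * m) - 2 ^ m := by
  classical
  have : Fintype E := Fintype.ofFinite E
  obtain ⟨h1, h4⟩ := card_sq_eq_one_of_extraspecial_plus m hE hcard A hA hAcard
  have hiff : ∀ x : E, orderOf x = 4 ↔ ¬ x ^ 2 = 1 := by
    intro x
    constructor
    · intro h hx
      have := orderOf_dvd_of_pow_eq_one hx
      rw [h] at this
      omega
    · intro hx
      have hd : orderOf x ∣ 4 := orderOf_dvd_of_pow_eq_one (h4 x)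
      have : orderOf x ∣ 2 ^ 2 := hd
      obtain ⟨k, hk, hk'⟩ := (Nat.dvd_prime_pow Nat.prime_two).mp this
      interval_cases k
      · exfalso
        apply hx
        rw [pow_zero, orderOf_eq_one_iff] at hk'
        rw [hk', one_pow]
      · exfalso
        apply hx
        rw [pow_one] at hk'
        rw [← hk']
        exact pow_orderOf_eq_one x
      · exact hk'
  have e : Nat.card {x : E // orderOf x = 4} = Nat.card {x : E // ¬ x ^ 2 = 1} :=
    Nat.card_congr (Equiv.subtypeEquivRight hiff)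
  rw [e, Nat.card_eq_fintype_card, Fintype.card_subtype_compl, ← Nat.card_eq_fintype_card,
    ← Nat.card_eq_fintype_card, hcard, h1]
  have e1 : (2 : ℕ) ^ (2 * m + 1) = 2 ^ (2 * m) + 2 ^ (2 * m) := by rw [pow_succ]; ring
  rw [e1]
  omega

end Cfsg.Agent.Lib.Helper52
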