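import Mathlib
import Cfsg.Agent.Lib.Helper32.CoprimeHall

/-!
Keystone 143809 K-153-I2 (pack K-153 = S1438, architect helper32), parallel hand:
`exists_normalizer_conj_of_not_dvd` (PURE): fusion in a Hall subgroup `H` of `N` with `q ∤ |H|` is
controlled by `N_M(H)`, via Hall conjugacy in the solvable group `T = H Q`.
-/

set_option autoImplicit false

namespace Cfsg.Agent.Lib.Helper52.BG153

open Cfsg
open scoped Pointwise

variable {G : Type*} [Group G]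

/-- elements of `H ⊔ Q` are products `h * q` when `H` normalizes `Q` -/
theorem exists_mul_of_mem_sup {H Q : Subgroup G} (hn : H ≤ Subgroup.normalizer (Q : Set G))
    {t : G} (ht : t ∈ H ⊔ Q) : ∃ h ∈ H, ∃ z ∈ Q, t = h * z := by
  have h1 := Subgroup.coe_mul_of_left_le_normalizer_right H Q hn
  have ht' : t ∈ ((H ⊔ Q : Subgroup G) : Set G) := ht
  rw [h1] at ht'
  obtain ⟨h, hh, z, hz, rfl⟩ := ht'
  exact ⟨h, hh, z, hz, rfl⟩

/-- `|H ⊔ Q| = |H| |Q|` when `H` normalizes `Q` and `H ∩ Q = 1` -/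
theorem card_sup_of_normalizes {H Q : Subgroup G} (hn : H ≤ Subgroup.normalizer (Q : Set G))
    (hd : H ⊓ Q = ⊥) : Nat.card ↥(H ⊔ Q) = Nat.card H * Nat.card Q := by
  rw [← Nat.card_prod]
  symm
  refine Nat.card_congr (Equiv.ofBijective
    (fun p : H × Q => (⟨(p.1 : G) * (p.2 : G),
      Subgroup.mul_mem _ ((le_sup_left : H ≤ H ⊔ Q) p.1.2) ((le_sup_right : Q ≤ H ⊔ Q) p.2.2)⟩ :
        ↥(H ⊔ Q))) ⟨?_, ?_⟩)
  · rintro ⟨⟨h, hh⟩, ⟨z, hz⟩⟩ ⟨⟨h', hh'⟩, ⟨z', hz'⟩⟩ he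
    have he' : h * z = h' * z' := congrArg Subtype.val he
    have h2 : h'⁻¹ * h = z' * z⁻¹ := by
      have : h'⁻¹ * (h * z) * z⁻¹ = h'⁻¹ * (h' * z') * z⁻¹ := by rw [he']
      simpa [mul_assoc] using this
    have h3 : h'⁻¹ * h ∈ H ⊓ Q :=
      ⟨H.mul_mem (H.inv_mem hh') hh, by rw [h2]; exact Q.mul_mem hz' (Q.inv_mem hz)⟩
    rw [hd, Subgroup.mem_bot] at h3
    have h4 : h = h' := by
      have : h' * (h'⁻¹ * h) = h' * 1 := by rw [h3]
      simpa using this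
    subst h4
    have h5 : z = z' := mul_left_cancel he'
    subst h5
    rfl
  · rintro ⟨t, ht⟩
    obtain ⟨h, hh, z, hz, rfl⟩ := exists_mul_of_mem_sup hn ht
    exact ⟨(⟨h, hh⟩, ⟨z, hz⟩), rfl⟩

variable [Finite G]

/-- 143809 K-153-I2 (PURE) -/
theorem exists_normalizer_conj_of_not_dvd {M N H Q : Subgroup G} {q : ℕ} (hq : q.Prime)
    (hsolv : Group.IsSolvable M)
    (hNM : N ≤ M) (hMN : M ≤ Subgroup.normalizer (N : Set G)) (hHN : H ≤ N)
    (hHall : (Nat.card H).Coprime (H.relIndex N))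
    (hQN : Q ≤ N) (hMQ : M ≤ Subgroup.normalizer (Q : Set G)) (hQp : IsPGroup q Q)
    (hQS : (Nat.card Q).Coprime (Q.relIndex N))
    (huniq : ∀ T T' : Subgroup G, Q ≤ T → T ≤ N → Q ≤ T' → T' ≤ N →
      (Nat.card T).Coprime (T.relIndex N) → Nat.card T' = Nat.card T → T' = T)
    (hqH : ¬ q ∣ Nat.card H) {x m : G} (hx : x ∈ H) (hm : m ∈ M) (hy : m * x * m⁻¹ ∈ H) :
    ∃ n ∈ M ⊓ Subgroup.normalizer (H : Set G), n * x * n⁻¹ = m * x * m⁻¹ := by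
  classical
  have : Fact q.Prime := ⟨hq⟩
  obtain ⟨k, hk⟩ := hQp.exists_card_eq
  have hcop : (Nat.card H).Coprime (Nat.card Q) := by
    rw [hk]
    exact Nat.Coprime.pow_right _ ((Nat.Prime.coprime_iff_not_dvd hq).2 hqH).symm
  have hdisj : H ⊓ Q = ⊥ := disjoint_iff.mp (Subgroup.disjoint_of_coprime_natCard hcop)
  have hHM : H ≤ M := hHN.trans hNM
  have hHnQ : H ≤ Subgroup.normalizer (Q : Set G) := hHM.trans hMQ
  -- the group `T = H Q`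
  obtain ⟨T, hT⟩ : ∃ T : Subgroup G, T = H ⊔ Q := ⟨_, rfl⟩
  have hHT : H ≤ T := hT ▸ le_sup_left
  have hQT : Q ≤ T := hT ▸ le_sup_right
  have hTN : T ≤ N := hT ▸ sup_le hHN hQN
  have hTM : T ≤ M := hTN.trans hNM
  have hTcard : Nat.card T = Nat.card H * Nat.card Q := by
    rw [hT]; exact card_sup_of_normalizes hHnQ hdisj
  have hTHall : (Nat.card T).Coprime (T.relIndex N) := by
    rw [hTcard]
    refine Nat.Coprime.mul_left ?_ ?_
    · exact Nat.Coprime.coprime_dvd_right (Subgroup.relIndex_dvd_of_le_left N hHT) hHall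
    · exact Nat.Coprime.coprime_dvd_right (Subgroup.relIndex_dvd_of_le_left N hQT) hQS
  -- `T` is `m`-invariant
  have hmQ := Subgroup.mem_normalizer_iff''.mp (hMQ hm)
  have hmN := Subgroup.mem_normalizer_iff.mp (hMN hm)
  have hT'eq : T.map (MulAut.conj m).toMonoidHom = T := by
    refine huniq T (T.map (MulAut.conj m).toMonoidHom) hQT hTN ?_ ?_ hTHall ?_
    · intro z hz
      refine ⟨m⁻¹ * z * m, hQT ((hmQ z).mp hz), ?_⟩
      simp [MulAut.conj_apply, mul_assoc]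
    · rintro _ ⟨t, ht, rfl⟩
      exact (hmN t).mp (hTN ht)
    · exact Subgroup.card_map_of_injective (MulAut.conj m).injective
  have hconjT : ∀ t ∈ T, m * t * m⁻¹ ∈ T := by
    intro t ht
    rw [← hT'eq]
    exact ⟨t, ht, by simp [MulAut.conj_apply]⟩
  -- Hall conjugacy in `T`
  have hsT : Group.IsSolvable T :=
    Group.isSolvable_of_isSolvable_injective (f := Subgroup.inclusion hTM)
      (Subgroup.inclusion_injective hTM)
  have hKT : H.map (MulAut.conj m).toMonoidHom ≤ T := by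
    rintro _ ⟨h, hh, rfl⟩
    exact hconjT h (hHT hh)
  have hKc : Nat.card (H.map (MulAut.conj m).toMonoidHom) = Nat.card H :=
    Subgroup.card_map_of_injective (MulAut.conj m).injective
  obtain ⟨u, huT, hu⟩ := Cfsg.Agent.Lib.Helper32.hall_conj_in T hsT (Nat.card H) (Nat.card Q)
    hTcard hcop hHT hKT rfl hKc
  -- `u h u⁻¹ ∈ m H m⁻¹` and conversely
  have hu1 : ∀ h ∈ H, ∃ h' ∈ H, m * h' * m⁻¹ = u * h * u⁻¹ := by
    intro h hh
    have : u * h * u⁻¹ ∈ MulAut.conj u • H :=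
      (Subgroup.mem_smul_pointwise_iff_exists _ _ _).2 ⟨h, hh, by simp [MulAut.smul_def]⟩
    rw [hu] at this
    obtain ⟨h', hh', he⟩ := this
    exact ⟨h', hh', by simpa [MulAut.conj_apply] using he⟩
  have hu2 : ∀ h ∈ H, ∃ h' ∈ H, u * h' * u⁻¹ = m * h * m⁻¹ := by
    intro h hh
    have : m * h * m⁻¹ ∈ H.map (MulAut.conj m).toMonoidHom := ⟨h, hh, by simp [MulAut.conj_apply]⟩
    rw [← hu] at this
    obtain ⟨h', hh', he⟩ := (Subgroup.mem_smul_pointwise_iff_exists _ _ _).1 this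
    exact ⟨h', hh', by simpa [MulAut.smul_def] using he⟩
  -- decompose `u⁻¹ = h₁ q₁`
  obtain ⟨h₁, hh₁, q₁, hq₁, hdec⟩ := exists_mul_of_mem_sup hHnQ (hT ▸ T.inv_mem huT : u⁻¹ ∈ H ⊔ Q)
  -- `n = q₁ m`
  have hq₁eq : q₁ = h₁⁻¹ * u⁻¹ := by rw [hdec]; group
  have hnM : q₁ * m ∈ M := M.mul_mem (hNM (hQN hq₁)) hm
  have hnorm : q₁ * m ∈ Subgroup.normalizer (H : Set G) := by
    rw [Subgroup.mem_normalizer_iff]
    intro h
    constructor
    · intro hh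
      obtain ⟨h', hh', he⟩ := hu2 h hh
      have : q₁ * m * h * (q₁ * m)⁻¹ = h₁⁻¹ * h' * h₁ := by
        have h3 : q₁ * m * h * (q₁ * m)⁻¹ = q₁ * (m * h * m⁻¹) * q₁⁻¹ := by group
        rw [h3, ← he, hq₁eq]; group
      rw [this]
      exact H.mul_mem (H.mul_mem (H.inv_mem hh₁) hh') hh₁
    · intro hh
      -- `h₁ (q₁ m h m⁻¹ q₁⁻¹) h₁⁻¹ = u⁻¹ (m h m⁻¹) u ∈ H`
      have h4 : h₁ * (q₁ * m * h * (q₁ * m)⁻¹) * h₁⁻¹ ∈ H :=
        H.mul_mem (H.mul_mem hh₁ hh) (H.inv_mem hh₁)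
      obtain ⟨h', hh', he⟩ := hu1 _ h4
      have h5 : u * (h₁ * (q₁ * m * h * (q₁ * m)⁻¹) * h₁⁻¹) * u⁻¹ = m * h * m⁻¹ := by
        rw [hq₁eq]; group
      rw [h5] at he
      have h6 : h' = h := by
        have : m⁻¹ * (m * h' * m⁻¹) * m = m⁻¹ * (m * h * m⁻¹) * m := by rw [he]
        simpa [mul_assoc] using this
      rw [← h6]; exact hh'
  refine ⟨q₁ * m, ⟨hnM, hnorm⟩, ?_⟩
  -- `[q₁, y] ∈ Q ∩ H = 1`
  obtain ⟨y, hyd⟩ : ∃ y, y = m * x * m⁻¹ := ⟨_, rfl⟩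
  rw [← hyd] at hy ⊢
  have h7 : q₁ * m * x * (q₁ * m)⁻¹ = q₁ * y * q₁⁻¹ := by rw [hyd]; group
  have h8 : q₁ * y * q₁⁻¹ ∈ H := by
    rw [← h7]; exact (Subgroup.mem_normalizer_iff.mp hnorm x).mp hx
  have hyQ := Subgroup.mem_normalizer_iff.mp (hHnQ hy)
  have h9 : q₁ * y * q₁⁻¹ * y⁻¹ ∈ H ⊓ Q := by
    refine ⟨H.mul_mem h8 (H.inv_mem hy), ?_⟩
    have : q₁ * y * q₁⁻¹ * y⁻¹ = q₁ * (y * q₁⁻¹ * y⁻¹) := by group
    rw [this]
    exact Q.mul_mem hq₁ ((hyQ q₁⁻¹).mp (Q.inv_mem hq₁))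
  rw [hdisj, Subgroup.mem_bot] at h9
  rw [h7]
  have : q₁ * y * q₁⁻¹ * y⁻¹ * y = 1 * y := by rw [h9]
  simpa using this

end Cfsg.Agent.Lib.Helper52.BG153
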