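import Mathlib

/-! K-GAG leaf G06 (S4839): a split extension `G = N L` with the Camina property has `p ∤ [G:N]`. -/

set_option autoImplicit false

namespace Cfsg.Agent.Lib.Helper52.Gag

variable {G : Type*} [Group G] [Finite G]

theorem split_kill {p : ℕ} [Fact p.Prime] (N : Subgroup G) [N.Normal]
    (hNp : IsPGroup p N) (hN1 : N ≠ ⊥)
    (hcam : ∀ x : G, x ∉ N → ∀ n ∈ N, IsConj x (x * n))
    (L : Subgroup G) (hLN : L ⊓ N = ⊥) (hNL : ∀ g : G, ∃ n ∈ N, ∃ l ∈ L, g = n * l) :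
    ¬ p ∣ N.index := by
  intro hp
  have hcompl : Subgroup.IsComplement' N L := by
    apply Subgroup.isComplement'_of_disjoint_and_mul_eq_univ
    · rw [disjoint_iff, inf_comm]; exact hLN
    · apply Set.eq_univ_of_forall
      intro g
      obtain ⟨n, hn, l, hl, rfl⟩ := hNL g
      exact Set.mul_mem_mul hn hl
  have hidx : N.index = Nat.card L := hcompl.symm.index_eq_card
  rw [hidx] at hp
  obtain ⟨u0, hu0⟩ := exists_prime_orderOf_dvd_card' p hp
  obtain ⟨u, hu_def⟩ : ∃ u : G, u = (u0 : G) := ⟨_, rfl⟩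
  have huL : u ∈ L := hu_def ▸ u0.2
  have hu : orderOf u = p := by rw [hu_def, Subgroup.orderOf_coe, hu0]
  have hu1 : u ≠ 1 := by
    intro h
    rw [h, orderOf_one] at hu
    exact (Fact.out : p.Prime).one_lt.ne hu
  have huN : u ∉ N := by
    intro h
    have : u ∈ L ⊓ N := ⟨huL, h⟩
    rw [hLN, Subgroup.mem_bot] at this
    exact hu1 this
  -- surjectivity
  have hsurj : ∀ n ∈ N, ∃ n' ∈ N, n' * u * n'⁻¹ = u * n := by
    intro n hn
    obtain ⟨g, hg⟩ := isConj_iff.mp (hcam u huN n hn)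
    obtain ⟨n', hn', l, hl, rfl⟩ := hNL g
    refine ⟨n', hn', ?_⟩
    obtain ⟨u', hu'⟩ : ∃ u', u' = l * u * l⁻¹ := ⟨_, rfl⟩
    have hu'L : u' ∈ L := by rw [hu']; exact L.mul_mem (L.mul_mem hl huL) (L.inv_mem hl)
    have hg' : n' * u' * n'⁻¹ = u * n := by rw [← hg, hu']; group
    have hu_eq : u = n' * u' * n'⁻¹ * n⁻¹ := by rw [hg']; group
    have he : u'⁻¹ * u = (u'⁻¹ * n' * u') * (n'⁻¹ * n⁻¹) := by
      conv_lhs => rw [hu_eq]
      group
    have h1 : u'⁻¹ * u ∈ N := by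
      rw [he]
      refine N.mul_mem ?_ (N.mul_mem (N.inv_mem hn') (N.inv_mem hn))
      have := (inferInstance : N.Normal).conj_mem n' hn' u'⁻¹
      simpa using this
    have h2 : u'⁻¹ * u ∈ L := L.mul_mem (L.inv_mem hu'L) huL
    have h3 : u'⁻¹ * u = 1 := by
      have : u'⁻¹ * u ∈ L ⊓ N := ⟨h2, h1⟩
      rwa [hLN, Subgroup.mem_bot] at this
    have h4 : u' = u := inv_mul_eq_one.mp h3
    rw [h4] at hg'
    exact hg'
  have hmem : ∀ n' : ↥N, u⁻¹ * (n' : G) * u * (n' : G)⁻¹ ∈ N := fun n' =>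
    N.mul_mem (by
      have := (inferInstance : N.Normal).conj_mem (n' : G) n'.2 u⁻¹
      simpa using this) (N.inv_mem n'.2)
  let f : ↥N → ↥N := fun n' => ⟨u⁻¹ * (n' : G) * u * (n' : G)⁻¹, hmem n'⟩
  have hfs : Function.Surjective f := by
    intro n
    obtain ⟨n', hn', h⟩ := hsurj (n : G) n.2
    refine ⟨⟨n', hn'⟩, Subtype.ext ?_⟩
    show u⁻¹ * n' * u * n'⁻¹ = (n : G)
    calc u⁻¹ * n' * u * n'⁻¹ = u⁻¹ * (n' * u * n'⁻¹) := by group
      _ = u⁻¹ * (u * n) := by rw [h]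
      _ = n := by group
  have hfi : Function.Injective f := Finite.injective_iff_surjective.mpr hfs
  -- a nontrivial fixed point of `u` on `N`
  let φ : ↥(Subgroup.zpowers u) →* MulAut ↥N :=
    (MulAut.conjNormal (H := N)).comp (Subgroup.zpowers u).subtype
  letI : MulAction ↥(Subgroup.zpowers u) ↥N := MulAction.compHom ↥N φ
  have hZ : IsPGroup p ↥(Subgroup.zpowers u) := by
    apply IsPGroup.of_card (n := 1)
    rw [Nat.card_zpowers, hu, pow_one]
  have hpN : p ∣ Nat.card ↥N := by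
    obtain ⟨k, hk⟩ := IsPGroup.iff_card.mp hNp
    rcases Nat.eq_zero_or_pos k with rfl | hk0
    · exfalso; apply hN1; rw [pow_zero] at hk; exact Subgroup.card_eq_one.mp hk
    · rw [hk]; exact dvd_pow_self p hk0.ne'
  obtain ⟨b, hb, hb1⟩ := hZ.exists_fixed_point_of_prime_dvd_card_of_fixed_point ↥N hpN
    (a := (1 : ↥N)) (by intro g; exact map_one (φ g))
  have hfix : u * (b : G) * u⁻¹ = (b : G) := by
    have h0 := hb ⟨u, Subgroup.mem_zpowers u⟩
    have h2 : ((MulAut.conjNormal u : MulAut ↥N) b : G) = b := congrArg Subtype.val h0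
    rwa [MulAut.conjNormal_apply] at h2
  have hfb : f b = f 1 := by
    apply Subtype.ext
    show u⁻¹ * (b : G) * u * (b : G)⁻¹ = u⁻¹ * ((1 : ↥N) : G) * u * ((1 : ↥N) : G)⁻¹
    have : u⁻¹ * (b : G) * u = (b : G) := by
      calc u⁻¹ * (b : G) * u = u⁻¹ * (u * (b : G) * u⁻¹) * u := by rw [hfix]
        _ = (b : G) := by group
    rw [this]
    simp
  exact hb1 (hfi hfb).symm

end Cfsg.Agent.Lib.Helper52.Gag
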