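import Mathlib
import Cfsg.Agent.Lib.Helper72.SNCDefs

/-! K-SNC leaf 4 (S4073 converse): dihedral groups of order `2k`, `k` odd, are NNT. -/

set_option autoImplicit false

namespace Cfsg.Agent.Lib.Helper52.SNC

open Cfsg.Agent.Lib.Helper72.SNC

universe u v

open DihedralGroup in
theorem nnt_dihedral (k : ℕ) (hk : Odd k) : NNT (DihedralGroup k) := by
  intro N hN hnc
  have hk0 : NeZero k := ⟨by rintro rfl; simp at hk⟩
  -- `N` contains a reflection
  have hsr : ∃ i : ZMod k, sr i ∈ N := by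
    by_contra hno
    push Not at hno
    apply hnc
    refine ⟨⟨fun a b => Subtype.ext ?_⟩⟩
    obtain ⟨a, ha⟩ := a
    obtain ⟨b, hb⟩ := b
    cases a with
    | r i =>
      cases b with
      | r j => show r i * r j = r j * r i; rw [r_mul_r, r_mul_r, add_comm]
      | sr j => exact absurd hb (hno j)
    | sr i => exact absurd ha (hno i)
  obtain ⟨i, hi⟩ := hsr
  -- `r (-2) ∈ N`
  have h1 : r 1 * sr i * (r 1)⁻¹ ∈ N := hN.conj_mem _ hi _
  have h2 : sr i * (r 1 * sr i * (r 1)⁻¹) ∈ N := N.mul_mem hi h1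
  have e2 : sr i * (r 1 * sr i * (r 1)⁻¹) = r (-2 : ZMod k) := by
    rw [inv_r, r_mul_sr, sr_mul_r, sr_mul_sr]
    congr 1
    ring
  rw [e2] at h2
  -- powers of `r (-2)`
  have hpow : ∀ m : ℕ, (r (-2 : ZMod k)) ^ m = r ((m : ZMod k) * (-2)) := by
    intro m
    induction m with
    | zero => rw [pow_zero, Nat.cast_zero, zero_mul, r_zero]
    | succ m ih => rw [pow_succ, ih, r_mul_r]; congr 1; push_cast; ring
  have h2u : (2 : ZMod k) * (2 : ZMod k)⁻¹ = 1 := by
    have := ZMod.coe_mul_inv_eq_one (n := k) 2 (Nat.coprime_two_left.mpr hk)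
    simpa using this
  have hr : ∀ j : ZMod k, r j ∈ N := by
    intro j
    have hm : r j = (r (-2 : ZMod k)) ^ ((-(j * (2 : ZMod k)⁻¹)).val) := by
      rw [hpow, ZMod.natCast_zmod_val]
      congr 1
      calc j = j * ((2 : ZMod k) * (2 : ZMod k)⁻¹) := by rw [h2u, mul_one]
        _ = -(j * (2 : ZMod k)⁻¹) * (-2) := by ring
    rw [hm]
    exact N.pow_mem h2 _
  rw [eq_top_iff]
  intro x _
  cases x with
  | r j => exact hr j
  | sr j =>
    have : sr j = sr i * r (j - i) := by rw [sr_mul_r]; congr 1; ring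
    rw [this]
    exact N.mul_mem hi (hr _)

end Cfsg.Agent.Lib.Helper52.SNC
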