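import Cfsg.Agent.Lib.Helper48.StODefs
import Cfsg.Agent.Lib.Helper86.StOR0a

/-! K-StO keystone 254720 C5b `conj_w0_mem_B_iff` (pack K-StO = S2547, architect helper48):
`w0` exchanges `B` and `B⁻`. -/

set_option autoImplicit false
set_option linter.unusedSectionVars false
set_option linter.unusedVariables false

namespace Cfsg.Agent.Lib.Helper52.StO

open Cfsg Cfsg.Agent.Lib.Helper48.StO Matrix

variable {m : ℕ} {F : Type*} [Field F]

theorem w0Mat_apply (a c : OI m) : w0Mat m F a c = if dualE m a = c then 1 else 0 := by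
  unfold w0Mat
  simp [Equiv.Perm.permMatrix, PEquiv.toMatrix_apply, Equiv.toPEquiv_apply]

theorem w0Mat_mul_self : w0Mat m F * w0Mat m F = 1 := by
  ext a c
  rw [Matrix.mul_apply]
  simp only [w0Mat_apply, ite_mul, one_mul, zero_mul, Finset.sum_ite_eq, Finset.mem_univ, if_true,
    dualE_dualE, Matrix.one_apply]

theorem mat_w0_inv : mat (w0 m F)⁻¹ = w0Mat m F := by
  rw [mat_inv, Cfsg.Agent.Lib.Helper86.StO.mat_w0]
  exact Matrix.inv_eq_left_inv w0Mat_mul_self

theorem c5b_entry (b : OG m F) (a c : OI m) :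
    mat ((w0 m F)⁻¹ * b * w0 m F) a c = mat b (dualE m a) (dualE m c) := by
  rw [mat_mul, mat_mul, mat_w0_inv, Cfsg.Agent.Lib.Helper86.StO.mat_w0, Matrix.mul_apply]
  simp only [Matrix.mul_apply, w0Mat_apply, ite_mul, one_mul, zero_mul, mul_ite, mul_one, mul_zero,
    Finset.sum_ite_eq, Finset.mem_univ, if_true]
  rw [Finset.sum_eq_single (dualE m c)]
  · rw [if_pos (dualE_dualE m c)]
  · intro j _ hj
    rw [if_neg]
    intro h
    apply hj
    rw [← h, dualE_dualE]
  · intro h; exact absurd (Finset.mem_univ _) h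

theorem c5b_pos_le (a : OI m) : pos m a ≤ 2 * m := by
  rcases a with a | a | a <;> simp only [pos] <;> omega

theorem conj_w0_mem_B_iff (b : OG m F) :
    (w0 m F)⁻¹ * b * w0 m F ∈ Bsub m F ↔ b ∈ Bminus m F := by
  rw [mem_Bsub_iff, mem_Bminus_iff]
  constructor
  · intro h a c hac
    have h1 := h (dualE m a) (dualE m c) (by
      rw [pos_dualE, pos_dualE]
      have := c5b_pos_le a
      have := c5b_pos_le c
      omega)
    rw [c5b_entry, dualE_dualE, dualE_dualE] at h1
    exact h1
  · intro h a c hac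
    rw [c5b_entry]
    apply h
    rw [pos_dualE, pos_dualE]
    have := c5b_pos_le a
    have := c5b_pos_le c
    omega

end Cfsg.Agent.Lib.Helper52.StO
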