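import Cfsg.Agent.Lib.Helper49.StSpDefs
import Cfsg.Agent.Lib.Helper64.StBMain

/-!
Keystone 254521 K-StSp-A2 (S2545 pack, architect helper49): central elements of `B` are in the
kernel of the Steinberg character `stChar P` (they fix every coset of every standard parabolic).
-/

set_option autoImplicit false

namespace Cfsg.Agent.Lib.Helper52.StSp

open Cfsg

/-- a central element of `H` fixes every coset of `H` -/
theorem fixedBy_eq_univ_of_center {G : Type*} [Group G] (H : Subgroup G) (z : G)
    (hz : z ∈ Subgroup.center G) (hzH : z ∈ H) :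
    MulAction.fixedBy (G ⧸ H) z = Set.univ := by
  ext x
  simp only [MulAction.mem_fixedBy, Set.mem_univ, iff_true]
  induction x using QuotientGroup.induction_on with
  | H g =>
    show ((z * g : G) : G ⧸ H) = (g : G ⧸ H)
    rw [QuotientGroup.eq]
    have h1 : z * g = g * z := (Subgroup.mem_center_iff.1 hz g).symm
    rw [h1]
    have h2 : (g * z)⁻¹ * g = z⁻¹ := by group
    rw [h2]
    exact H.inv_mem hzH

/-- a central element of `H` has the same value of the permutation character on `G ⧸ H` as `1` -/
theorem fixedPointCharacter_center {G : Type*} [Group G] (H : Subgroup G) (z : G)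
    (hz : z ∈ Subgroup.center G) (hzH : z ∈ H) :
    Cfsg.fixedPointCharacter H z = Cfsg.fixedPointCharacter H 1 := by
  unfold Cfsg.fixedPointCharacter
  rw [fixedBy_eq_univ_of_center H z hz hzH,
    fixedBy_eq_univ_of_center H 1 (Subgroup.one_mem _) (Subgroup.one_mem _)]

theorem stChar_center {G : Type*} [Group G] [Finite G] (P : Cfsg.BNPair G) (z : G)
    (hz : z ∈ Subgroup.center G) (hzB : z ∈ P.B) :
    Cfsg.Agent.Lib.Helper64.StB.stChar P z = Cfsg.Agent.Lib.Helper64.StB.stChar P 1 := by
  unfold Cfsg.Agent.Lib.Helper64.StB.stChar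
  refine Finset.sum_congr rfl (fun J _ => ?_)
  have hzJ : z ∈ P.parabolic (↑J : Set G) := by
    unfold Cfsg.BNPair.parabolic
    exact (le_sup_left : P.B ≤ P.B ⊔ Subgroup.closure (↑J : Set G)) hzB
  rw [fixedPointCharacter_center _ z hz hzJ]

end Cfsg.Agent.Lib.Helper52.StSp
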