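import Cfsg.Agent.Lib.Helper99.OTsDefs
import Cfsg.Agent.Lib.Helper50.TypeCriteria
import Cfsg.Agent.Lib.Helper50.GeoBridge
import Cfsg.Agent.Lib.Helper50.PlusForm
import Cfsg.Agent.Lib.Helper08.POmegaIso
import Cfsg.Agent.Lib.Helper19.QuadMat
import Cfsg.Agent.Lib.Helper43.Dickson

/-!
# K-OTs-O11 (keystone 597311, rows S5973 + S5987, architect helper99): transport of an abstract
quadratic space of plus type (ALL characteristics) with an isometry of odd order to `Ω⁺`.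
-/

set_option autoImplicit false
set_option linter.unusedSimpArgs false
set_option linter.unusedSectionVars false
set_option linter.unusedVariables false
set_option linter.style.haveILetI false

namespace Cfsg.Agent.Lib.Helper52.OTs

open Module Cfsg.Agent.Lib.Helper98.Elus Cfsg.Agent.Lib.Helper98.Sy Cfsg.Agent.Lib.Helper99.OTs
open scoped Matrix MatrixGroups

universe u
variable {F : Type u} [Field F] {V : Type u} [AddCommGroup V] [Module F V]

/-- squares of isometries lie in `Ω` (all characteristics), for the plus form of dimension `2d`,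
`d ≥ 3` -/
theorem sq_mem_Omega_plus [Fintype F] (d : ℕ) (hd3 : 3 ≤ d)
    (g : ↥(Cfsg.isometryGroup F (⇑(Cfsg.Agent.Lib.Helper50.QPlus d F)))) :
    g * g ∈ Cfsg.Omega F (⇑(Cfsg.Agent.Lib.Helper50.QPlus d F)) := by
  classical
  by_cases h2 : (2 : F) = 0
  · haveI : CharP F 2 := CharTwo.of_one_ne_zero_of_two_eq_zero one_ne_zero h2
    haveI : Nonempty (Fin d ⊕ Fin d) := ⟨Sum.inl ⟨0, by omega⟩⟩
    have hcard : Fintype.card (Fin d ⊕ Fin d) ≠ 4 := by
      rw [Fintype.card_sum, Fintype.card_fin]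
      omega
    have hidx := Cfsg.Agent.Lib.Helper43.index_Omega_char_two
      (Q := Cfsg.Agent.Lib.Helper50.QPlus d F)
      Cfsg.Agent.Lib.Helper50.QPlus_nondegenerate (Or.inr hcard)
    have := Subgroup.sq_mem_of_index_two hidx g
    rwa [sq] at this
  · exact Cfsg.Agent.Lib.Helper08.sq_mem_Omega h2 (Cfsg.Agent.Lib.Helper50.QPlus d F)
      Cfsg.Agent.Lib.Helper50.QPlus_nondegenerate g

/-- LEAF O11 (transport to `Ω⁺`, all characteristics). -/
theorem transport_plus_q [Fintype F] (r : ℕ) (hr : Odd r) (d : ℕ) (hd3 : 3 ≤ d)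
    [FiniteDimensional F V] (Q : QuadraticForm F V) (hnd : NonDeg (QuadraticMap.polarBilin Q) ⊤)
    (hV : finrank F V = 2 * d) (hplus : PlusOn Q ⊤) (y : V →ₗ[F] V) (hiso : QIso Q y) (hy : y ^ r = 1)
    (hns : ∀ z : F, y ≠ z • 1) :
    ∃ x : GL (Fin d ⊕ Fin d) F, x ∈ Cfsg.Geo.omegaGL (Cfsg.quadFormPlus d F) ∧
      ((x ^ r : GL (Fin d ⊕ Fin d) F) : Matrix (Fin d ⊕ Fin d) (Fin d ⊕ Fin d) F) =
        (1 : F) • (1 : Matrix (Fin d ⊕ Fin d) (Fin d ⊕ Fin d) F) ∧
      (∀ z : F, (x : Matrix (Fin d ⊕ Fin d) (Fin d ⊕ Fin d) F) ≠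
        z • (1 : Matrix (Fin d ⊕ Fin d) (Fin d ⊕ Fin d) F)) ∧
      ∃ E : (Fin d ⊕ Fin d → F) ≃ₗ[F] V,
        (∀ w, E (Matrix.toLin' (x : Matrix (Fin d ⊕ Fin d) (Fin d ⊕ Fin d) F) w) = y (E w)) ∧
        ∀ w, Q (E w) = Cfsg.quadFormPlus d F w := by
  classical
  obtain ⟨Z, _, hZ, hZd⟩ := hplus
  have hZd' : finrank F Z = d := by
    rw [finrank_top, hV] at hZd
    omega
  have hQND : Cfsg.Agent.Lib.Helper50.QND Q := by
    intro v hv
    apply hnd v Submodule.mem_top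
    intro w _
    exact hv w
  obtain ⟨φ, hφ⟩ := Cfsg.Agent.Lib.Helper50.plusType_of_totally_singular d Q hQND hV Z
    (le_of_eq hZd'.symm) hZ
  -- the basis attached to `φ`
  let b : Basis (Fin d ⊕ Fin d) F V := Basis.ofEquivFun φ
  obtain ⟨M, hM⟩ : ∃ M, M = LinearMap.toMatrix b b y := ⟨_, rfl⟩
  have hinter : ∀ w : Fin d ⊕ Fin d → F,
      φ.symm (Matrix.toLin' M w) = y (φ.symm w) := by
    intro w
    apply φ.injective
    rw [LinearEquiv.apply_symm_apply, Matrix.toLin'_apply]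
    have h1 := LinearMap.toMatrix_mulVec_repr b b y (φ.symm w)
    have h3 : (b.repr (φ.symm w) : Fin d ⊕ Fin d → F) = w := by
      have := φ.apply_symm_apply w
      exact this
    rw [h3] at h1
    rw [← hM] at h1
    rw [h1]
    rfl
  have hform : ∀ w : Fin d ⊕ Fin d → F, Q (φ.symm w) = Cfsg.quadFormPlus d F w := by
    intro w
    rw [← hφ, LinearEquiv.apply_symm_apply]
  have hMQ : ∀ w : Fin d ⊕ Fin d → F,
      Cfsg.quadFormPlus d F (M *ᵥ w) = Cfsg.quadFormPlus d F w := by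
    intro w
    have h1 : M *ᵥ w = φ (y (φ.symm w)) := by
      rw [← hinter, LinearEquiv.apply_symm_apply, Matrix.toLin'_apply]
    rw [h1, hφ, hiso, ← hφ, LinearEquiv.apply_symm_apply]
  have hMp : M ^ r = 1 := by
    rw [hM, LinearMap.toMatrix_pow, hy, LinearMap.toMatrix_one]
  have hp1 : 1 ≤ r := hr.pos
  have hMM : M * M ^ (r - 1) = 1 := by
    rw [← pow_succ', Nat.sub_add_cancel hp1, hMp]
  have hMM' : M ^ (r - 1) * M = 1 := by
    rw [← pow_succ, Nat.sub_add_cancel hp1, hMp]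
  let x₀ : GL (Fin d ⊕ Fin d) F := ⟨M, M ^ (r - 1), hMM, hMM'⟩
  have hx₀iso : x₀ ∈ Cfsg.isometryGroup F (⇑(Cfsg.Agent.Lib.Helper50.QPlus d F)) := by
    rw [Cfsg.Agent.Lib.Helper50.QPlus_coe, Cfsg.Agent.Lib.Helper19.mem_isometryGroup_iff]
    exact hMQ
  let g : ↥(Cfsg.isometryGroup F (⇑(Cfsg.Agent.Lib.Helper50.QPlus d F))) := ⟨x₀, hx₀iso⟩
  have hx₀p : x₀ ^ r = 1 := by
    apply Units.ext
    rw [Units.val_pow_eq_pow_val]
    exact hMp
  have hgp : g ^ r = 1 := by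
    apply Subtype.ext
    rw [SubmonoidClass.coe_pow]
    exact hx₀p
  obtain ⟨k, hk⟩ := hr
  have hgsq : g = g ^ (k + 1) * g ^ (k + 1) := by
    rw [← pow_add]
    have : k + 1 + (k + 1) = r + 1 := by omega
    rw [this, pow_succ, hgp, one_mul]
  have hgΩ : g ∈ Cfsg.Omega F (⇑(Cfsg.Agent.Lib.Helper50.QPlus d F)) := by
    rw [hgsq]
    exact sq_mem_Omega_plus d hd3 (g ^ (k + 1))
  have hmem : x₀ ∈ Cfsg.Geo.omegaGL (Cfsg.quadFormPlus d F) := by
    have h1 := Cfsg.Agent.Lib.Helper50.coe_mem_omegaGL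
      (⇑(Cfsg.Agent.Lib.Helper50.QPlus d F)) g hgΩ
    exact h1
  refine ⟨x₀, hmem, ?_, ?_, φ.symm, hinter, hform⟩
  · rw [hx₀p, one_smul]
    rfl
  · intro z hz
    change M = z • 1 at hz
    apply hns z
    apply (LinearMap.toMatrix b b).injective
    rw [← hM, hz, map_smul, LinearMap.toMatrix_one]

end Cfsg.Agent.Lib.Helper52.OTs
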