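import Cfsg.Agent.Lib.Helper52.CosetGraph
import Cfsg.Agent.Lib.Helper52.PCore

set_option autoImplicit false

namespace Cfsg.Agent.Lib.Helper52

theorem coprime_of_pow_factorization_eq {p a r b : ℕ} (hp : p.Prime) (hab : a * r = b) (hb : b ≠ 0)
    (h : p ^ a.factorization p = p ^ b.factorization p) : r.Coprime p := by
  have ha : a ≠ 0 := by
    rintro rfl
    simp at hab
    exact hb hab.symm
  have hr : r ≠ 0 := by
    rintro rfl
    simp at hab
    exact hb hab.symm
  have h1 : a.factorization p = b.factorization p := Nat.pow_right_injective hp.two_le h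
  rw [← hab, Nat.factorization_mul ha hr] at h1
  have h2 : r.factorization p = 0 := by
    simp at h1
    exact h1
  have h3 : ¬ p ∣ r := by
    intro hd
    have := (hp.factorization_pos_of_dvd hr hd)
    omega
  exact ((Nat.Prime.coprime_iff_not_dvd hp).mpr h3).symm

theorem relIndex_coprime_of_sylow_card_eq {p : ℕ} [Fact p.Prime] {X : Type*} [Group X]
    (A B : Subgroup X) [Finite A]
    (h : ∀ S : Sylow p ↥(A ⊓ B), ∀ P : Sylow p A, Nat.card S = Nat.card P) :
    (B.relIndex A).Coprime p := by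
  have hp : p.Prime := Fact.out
  have : Finite ↥(A ⊓ B) := Finite.of_injective (Subgroup.inclusion (inf_le_left : A ⊓ B ≤ A))
    (Subgroup.inclusion_injective _)
  obtain ⟨S⟩ : Nonempty (Sylow p ↥(A ⊓ B)) := inferInstance
  obtain ⟨P⟩ : Nonempty (Sylow p A) := inferInstance
  have h1 := h S P
  have hS : Nat.card S = p ^ (Nat.card ↥(A ⊓ B)).factorization p := S.card_eq_multiplicity
  have hP : Nat.card P = p ^ (Nat.card A).factorization p := P.card_eq_multiplicity
  rw [hS, hP] at h1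
  have hmul : Nat.card ↥(A ⊓ B) * B.relIndex A = Nat.card A := by
    have := (B.subgroupOf A).card_mul_index
    rw [← this, Subgroup.relIndex]
    congr 1
    rw [inf_comm, ← Subgroup.subgroupOf_map_subtype, Subgroup.card_subtype]
  exact coprime_of_pow_factorization_eq hp hmul Nat.card_pos.ne' h1

theorem charP_relIndex_coprime {p : ℕ} [Fact p.Prime] {X : Type*} [Group X] {M₁ M₂ : Subgroup X}
    (h : Cfsg.IsCharPAmalgamPair p M₁ M₂) :
    (M₂.relIndex M₁).Coprime p ∧ (M₁.relIndex M₂).Coprime p := by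
  obtain ⟨-, hf1, hf2, -, -, hs, -, -⟩ := h
  obtain ⟨P₁⟩ : Nonempty (Sylow p M₁) := inferInstance
  obtain ⟨P₂⟩ : Nonempty (Sylow p M₂) := inferInstance
  constructor
  · exact relIndex_coprime_of_sylow_card_eq M₁ M₂ (fun S P => (hs S P P₂).1)
  · apply relIndex_coprime_of_sylow_card_eq M₂ M₁
    intro S P
    have e : M₂ ⊓ M₁ = M₁ ⊓ M₂ := inf_comm _ _
    revert S
    rw [e]
    intro S
    exact (hs S P₁ P).2

/-- Adjacent vertices of the coset graph are `inl x`, `inr x` in some order. -/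
theorem adj_cases {X : Type*} [Group X] {M₁ M₂ : Subgroup X} {δ μ : Cfsg.CosetVertex M₁ M₂}
    (h : (Cfsg.cosetGraph M₁ M₂).Adj δ μ) :
    ∃ x : X, (δ = Sum.inl (x : X ⧸ M₁) ∧ μ = Sum.inr (x : X ⧸ M₂)) ∨
      (μ = Sum.inl (x : X ⧸ M₁) ∧ δ = Sum.inr (x : X ⧸ M₂)) := by
  rw [cosetGraph_adj_iff] at h
  rcases h with ⟨x, h1, h2⟩ | ⟨x, h1, h2⟩
  · exact ⟨x, Or.inl ⟨h1, h2⟩⟩
  · exact ⟨x, Or.inr ⟨h1, h2⟩⟩

theorem finite_map {X Y : Type*} [Group X] [Group Y] (M : Subgroup X) [Finite M] (f : X →* Y) :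
    Finite (M.map f) := by
  have : ((M.map f : Subgroup Y) : Set Y) = f '' (M : Set X) := Subgroup.coe_map f M
  have hfin : (f '' (M : Set X)).Finite := (Set.toFinite (M : Set X)).image f
  rw [← this] at hfin
  exact hfin.to_subtype

theorem finite_stabilizer {X : Type*} [Group X] {M₁ M₂ : Subgroup X} [Finite M₁] [Finite M₂]
    (δ : Cfsg.CosetVertex M₁ M₂) : Finite (MulAction.stabilizer X δ) := by
  rcases δ with a | b
  · obtain ⟨x, rfl⟩ := QuotientGroup.mk_surjective a
    rw [stabilizer_inl]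
    exact finite_map _ _
  · obtain ⟨x, rfl⟩ := QuotientGroup.mk_surjective b
    rw [stabilizer_inr]
    exact finite_map _ _

theorem relIndex_stabilizer_of_adj {p : ℕ} [Fact p.Prime] {X : Type*} [Group X]
    {M₁ M₂ : Subgroup X} (h : Cfsg.IsCharPAmalgamPair p M₁ M₂) {δ μ : Cfsg.CosetVertex M₁ M₂}
    (hadj : (Cfsg.cosetGraph M₁ M₂).Adj δ μ) :
    ((MulAction.stabilizer X μ).relIndex (MulAction.stabilizer X δ)).Coprime p := by
  obtain ⟨x, ⟨rfl, rfl⟩ | ⟨rfl, rfl⟩⟩ := adj_cases hadj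
  · rw [stabilizer_inl, stabilizer_inr,
      Subgroup.relIndex_map_map_of_injective _ _ (MulAut.conj x).injective]
    exact (charP_relIndex_coprime h).1
  · rw [stabilizer_inl, stabilizer_inr,
      Subgroup.relIndex_map_map_of_injective _ _ (MulAut.conj x).injective]
    exact (charP_relIndex_coprime h).2

theorem vertexQ_le_stabilizer_of_adj {p : ℕ} [Fact p.Prime] {X : Type*} [Group X]
    {M₁ M₂ : Subgroup X} (h : Cfsg.IsCharPAmalgamPair p M₁ M₂) {δ μ : Cfsg.CosetVertex M₁ M₂}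
    (hadj : (Cfsg.cosetGraph M₁ M₂).Adj δ μ) :
    Cfsg.vertexQ p δ ≤ MulAction.stabilizer X μ := by
  have : Finite M₁ := h.2.1
  have : Finite M₂ := h.2.2.1
  have := finite_stabilizer δ
  exact pCoreOf_le_of_coprime_relIndex _ _ (relIndex_stabilizer_of_adj h hadj)

end Cfsg.Agent.Lib.Helper52
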