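import Mathlib
import Cfsg.Agent.Lib.Helper55.FrakM

/-!
# The gallery argument for asymmetric subgroups

Let `Y ≤ R ≤ T ≤ M` with `M ≤ N(Y) ∩ N(R)`, `C_T(Y) ≤ R`, and assume that conjugates of `Y`
normalizing each other commute (`Y` is asymmetric).  Then some subgroup `N` with `Y ≤ N ≤ T` is
normalized by `M` and by `N_G(T)`.

The proof is an induction on the number of `M`-letters of a word in `M` and `H = N_G(T)`: with
`U₁ = ⟨Y^H⟩` and `R₀ = C_T(U₁)` one shows `U₁ ≤ R₀^x` for all `x ∈ ⟨M, H⟩`.
-/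

set_option autoImplicit false
set_option linter.unusedSectionVars false
set_option linter.style.haveILetI false

namespace Cfsg.Agent.Lib.Helper52

open Subgroup
open Cfsg.Agent.Lib.Helper55 (cj mem_cj conj_mem_cj cj_one cj_mul cj_inv_cj cj_cj_inv cj_mono
  cj_le_iff le_cj_iff cj_eq_self_iff cj_inf cj_centralizer cj_normalizer le_normalizer_of_cj_le)

section AsymGallery

variable {G : Type*} [Group G]

/-- words `h₀ m₁ h₁ ⋯ m_k h_k` with `h_i ∈ H`, `m_i ∈ M` -/
inductive GReach (M H : Subgroup G) : ℕ → G → Prop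
  | base {h : G} (hh : h ∈ H) : GReach M H 0 h
  | step {k : ℕ} {w m h : G} (hw : GReach M H k w) (hm : m ∈ M) (hh : h ∈ H) :
      GReach M H (k + 1) (w * m * h)

variable {M H : Subgroup G}

theorem GReach.mul_right {k : ℕ} {w : G} (hw : GReach M H k w) {h : G} (hh : h ∈ H) :
    GReach M H k (w * h) := by
  cases hw with
  | base hh' => exact GReach.base (H.mul_mem hh' hh)
  | step hw' hm hh' =>
    rw [mul_assoc]
    exact GReach.step hw' hm (H.mul_mem hh' hh)

theorem GReach.left {k : ℕ} {w : G} (hw : GReach M H k w) {h m : G} (hh : h ∈ H) (hm : m ∈ M) :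
    GReach M H (k + 1) (h * m * w) := by
  induction hw with
  | base hh' => exact GReach.step (GReach.base hh) hm hh'
  | step hw' hm' hh' ih =>
    have e : ∀ w m' h' : G, h * m * (w * m' * h') = (h * m * w) * m' * h' := by
      intro w m' h'; group
    rw [e]
    exact GReach.step ih hm' hh'

theorem GReach.inv {k : ℕ} {w : G} (hw : GReach M H k w) : GReach M H k w⁻¹ := by
  induction hw with
  | base hh => exact GReach.base (H.inv_mem hh)
  | step hw' hm hh ih =>
    have e : ∀ w m h : G, (w * m * h)⁻¹ = h⁻¹ * m⁻¹ * w⁻¹ := by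
      intro w m h; group
    rw [e]
    exact ih.left (H.inv_mem hh) (M.inv_mem hm)

theorem GReach.mul {j k : ℕ} {x y : G} (hx : GReach M H j x) (hy : GReach M H k y) :
    GReach M H (j + k) (x * y) := by
  induction hy with
  | base hh => exact hx.mul_right hh
  | step hw' hm hh ih =>
    have e : ∀ w m h : G, x * (w * m * h) = (x * w) * m * h := by
      intro w m h; group
    rw [e, ← add_assoc]
    exact GReach.step ih hm hh

theorem exists_greach {x : G} (hx : x ∈ M ⊔ H) : ∃ k, GReach M H k x := by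
  rw [sup_eq_closure] at hx
  induction hx using closure_induction with
  | mem y hy =>
    rcases hy with hy | hy
    · refine ⟨1, ?_⟩
      have : y = 1 * y * 1 := by group
      rw [this]
      exact GReach.step (GReach.base H.one_mem) hy H.one_mem
    · exact ⟨0, GReach.base hy⟩
  | one => exact ⟨0, GReach.base H.one_mem⟩
  | mul x y _ _ hx hy =>
    obtain ⟨j, hj⟩ := hx
    obtain ⟨k, hk⟩ := hy
    exact ⟨j + k, hj.mul hk⟩
  | inv x _ hx =>
    obtain ⟨j, hj⟩ := hx
    exact ⟨j, hj.inv⟩

/-- **the gallery argument** -/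
theorem asym_gallery (M T R Y : Subgroup G)
    (hYM : M ≤ normalizer (Y : Set G)) (hRM : M ≤ normalizer (R : Set G))
    (hYR : Y ≤ R) (hRT : R ≤ T) (hTM : T ≤ M)
    (hC : T ⊓ centralizer (Y : Set G) ≤ R)
    (hasym : ∀ a b : G, cj a Y ≤ normalizer ((cj b Y : Subgroup G) : Set G) →
      cj b Y ≤ normalizer ((cj a Y : Subgroup G) : Set G) →
      cj a Y ≤ centralizer ((cj b Y : Subgroup G) : Set G)) :
    ∃ N : Subgroup G, Y ≤ N ∧ N ≤ T ∧ M ⊔ normalizer (T : Set G) ≤ normalizer (N : Set G) := by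
  obtain ⟨H, hH⟩ : ∃ H : Subgroup G, H = normalizer (T : Set G) := ⟨_, rfl⟩
  rw [← hH]
  obtain ⟨U, hU⟩ : ∃ U : Subgroup G, U = ⨆ h : ↥H, cj (h : G) Y := ⟨_, rfl⟩
  obtain ⟨R₀, hR₀⟩ : ∃ R₀ : Subgroup G, R₀ = T ⊓ centralizer (U : Set G) := ⟨_, rfl⟩
  have a1 : ∀ h ∈ H, cj h T = T := fun h hh => cj_eq_self_iff.mpr (hH ▸ hh)
  have a2 : ∀ h ∈ H, cj h Y ≤ T := by
    intro h hh
    have := cj_mono (g := h) (hYR.trans hRT)
    rwa [a1 h hh] at this
  have a3 : ∀ h ∈ H, T ≤ normalizer ((cj h Y : Subgroup G) : Set G) := by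
    intro h hh
    have := cj_mono (g := h) (hTM.trans hYM)
    rwa [a1 h hh, cj_normalizer] at this
  have hcjU : ∀ h : ↥H, cj (h : G) Y ≤ U := by
    intro h
    rw [hU]
    exact le_iSup (fun h : ↥H => cj (h : G) Y) h
  have hYU : Y ≤ U := by
    have := hcjU ⟨1, H.one_mem⟩
    rwa [cj_one] at this
  have b1 : U ≤ T := by
    rw [hU]
    exact iSup_le (fun h => a2 h h.2)
  -- a criterion for `U ≤ C(cj x U)`
  have crit : ∀ x : G, (∀ h₁ h₂ : ↥H, cj (h₁ : G) Y ≤
      centralizer ((cj x (cj (h₂ : G) Y) : Subgroup G) : Set G)) →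
      U ≤ centralizer ((cj x U : Subgroup G) : Set G) := by
    intro x hx
    rw [le_centralizer_iff]
    have : cj x U = ⨆ h : ↥H, cj x (cj (h : G) Y) := by
      rw [hU]
      exact Subgroup.map_iSup _ _
    rw [this]
    apply iSup_le
    intro h₂
    rw [le_centralizer_iff, hU]
    apply iSup_le
    intro h₁
    exact hx h₁ h₂
  have b3 : U ≤ centralizer (U : Set G) := by
    have := crit 1 (by
      intro h₁ h₂
      rw [cj_one]
      exact hasym _ _ ((a2 _ h₁.2).trans (a3 _ h₂.2)) ((a2 _ h₂.2).trans (a3 _ h₁.2)))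
    rwa [cj_one] at this
  have c1 : R₀ ≤ R := by
    rw [hR₀]
    exact (inf_le_inf_left T (centralizer_le (by exact_mod_cast hYU))).trans hC
  have d1 : U ≤ R₀ := by
    rw [hR₀]
    exact le_inf b1 b3
  have e1 : ∀ h ∈ H, cj h U = U := by
    intro h hh
    have key : ∀ g ∈ H, cj g U ≤ U := by
      intro g hg
      have : cj g U = ⨆ h' : ↥H, cj g (cj (h' : G) Y) := by
        rw [hU]
        exact Subgroup.map_iSup _ _
      rw [this]
      apply iSup_le
      intro h'
      rw [← cj_mul]
      exact hcjU ⟨g * h', H.mul_mem hg h'.2⟩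
    apply le_antisymm (key h hh)
    have := key h⁻¹ (H.inv_mem hh)
    rwa [← le_cj_iff] at this
  have e2 : ∀ h ∈ H, cj h R₀ = R₀ := by
    intro h hh
    rw [hR₀, cj_inf, cj_centralizer, a1 h hh, e1 h hh]
  -- the main induction
  have main : ∀ k : ℕ, ∀ x : G, GReach M H k x → U ≤ cj x R₀ := by
    intro k
    induction k using Nat.strong_induction_on with
    | _ k ih =>
      intro x hx
      cases hx with
      | base hh =>
        rw [e2 _ hh]
        exact d1
      | @step k' w m h hw hm hh =>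
        -- first containment
        have step1 : ∀ w m h : G, GReach M H k' w → m ∈ M → h ∈ H → U ≤ cj (w * m * h) T := by
          intro w m h hw hm hh
          have h1 : U ≤ cj w R₀ := ih k' (Nat.lt_succ_self k') w hw
          have h2 : cj w R₀ ≤ cj w R := cj_mono c1
          have h3 : cj m R = R := cj_eq_self_iff.mpr (hRM hm)
          have h4 : cj (w * m * h) T = cj (w * m) T := by
            rw [cj_mul (w * m) h, a1 h hh]
          rw [h4, cj_mul w m]
          refine (h1.trans h2).trans ?_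
          rw [← h3]
          rw [h3]
          have : cj w R ≤ cj w (cj m T) := by
            apply cj_mono
            rw [← h3]
            exact cj_mono hRT
          exact this
        have i1 : U ≤ cj (w * m * h) T := step1 w m h hw hm hh
        have hinv : GReach M H (k' + 1) (w * m * h)⁻¹ := (GReach.step hw hm hh).inv
        have i2 : cj (w * m * h) U ≤ T := by
          obtain ⟨w', m', h', hw', hm', hh', hxe⟩ : ∃ w' m' h' : G, GReach M H k' w' ∧ m' ∈ M ∧
              h' ∈ H ∧ (w * m * h)⁻¹ = w' * m' * h' := by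
            generalize (w * m * h)⁻¹ = y at hinv
            cases hinv with
            | step hw' hm' hh' => exact ⟨_, _, _, hw', hm', hh', rfl⟩
          have := step1 w' m' h' hw' hm' hh'
          rw [← hxe, le_cj_iff, inv_inv] at this
          exact this
        obtain ⟨x, hx⟩ : ∃ x : G, x = w * m * h := ⟨_, rfl⟩
        rw [← hx] at i1 i2 ⊢
        have i3 : U ≤ centralizer ((cj x U : Subgroup G) : Set G) := by
          apply crit
          intro h₁ h₂
          rw [← cj_mul]
          apply hasym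
          · rw [cj_mul, ← cj_normalizer]
            exact ((hcjU h₁).trans i1).trans (cj_mono (a3 _ h₂.2))
          · rw [cj_mul]
            exact ((cj_mono (hcjU h₂)).trans i2).trans (a3 _ h₁.2)
        rw [hR₀, cj_inf, cj_centralizer]
        exact le_inf i1 i3
  -- the normal subgroup
  refine ⟨⨅ x : ↥(M ⊔ H), cj (x : G) R₀, ?_, ?_, ?_⟩
  · apply hYU.trans
    apply le_iInf
    intro x
    obtain ⟨k, hk⟩ := exists_greach x.2
    exact main k _ hk
  · refine (iInf_le _ ⟨1, (M ⊔ H).one_mem⟩).trans ?_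
    rw [cj_one, hR₀]
    exact inf_le_left
  · apply le_normalizer_of_cj_le
    intro g hg
    apply le_iInf
    intro x
    have h1 : (⨅ x : ↥(M ⊔ H), cj (x : G) R₀) ≤ cj (g⁻¹ * x) R₀ :=
      iInf_le (fun x : ↥(M ⊔ H) => cj (x : G) R₀) ⟨g⁻¹ * x, (M ⊔ H).mul_mem ((M ⊔ H).inv_mem hg) x.2⟩
    have h2 := cj_mono (g := g) h1
    rwa [← cj_mul, mul_inv_cancel_left] at h2

end AsymGallery

end Cfsg.Agent.Lib.Helper52
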