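import Mathlib
import Cfsg.Agent.Lib.Helper16.BG1363Defs
import Cfsg.Agent.Lib.Helper55.Basic
import Cfsg.Agent.Lib.Helper03.FrobThompson
import Cfsg.Agent.Lib.Helper31.BG12a
import Cfsg.Agent.Lib.Helper71.BG11a
import Cfsg.Agent.S1432

set_option autoImplicit false

/-!
# K-1363 leaf D (136304): `K` acts without fixed points on `H_σ`, hence `H_σ` is nilpotent

Proof text by helper66 (origin/helper66: wip66/BG1363D.lean.txt), compiled and fixed by helper52
(warm BG closure) at helper66's request.
-/

namespace Cfsg.Agent.Lib.Helper52.BG1363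

open Cfsg Subgroup Cfsg.Agent.Lib.Helper55 Cfsg.Agent.Lib.Helper11.BG14D Cfsg.Agent.Lib.Helper16.BG1363

variable {G : Type*} [Group G] [Finite G]

/-- a subgroup of prime order is generated by each of its nonidentity elements -/
theorem le_zpowers_of_card_prime {K : Subgroup G} (hp : (Nat.card K).Prime) {k : G} (hk : k ∈ K)
    (hk1 : k ≠ 1) : K ≤ Subgroup.zpowers k := by
  have hle : Subgroup.zpowers k ≤ K := by
    rw [Subgroup.zpowers_le]; exact hk
  have hdvd : orderOf k ∣ Nat.card K := Subgroup.orderOf_dvd_natCard K hk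
  have hord : orderOf k = Nat.card K := by
    rcases (Nat.dvd_prime hp).mp hdvd with h | h
    · exact absurd (orderOf_eq_one_iff.mp h) hk1
    · exact h
  have hcard : Nat.card (Subgroup.zpowers k) = Nat.card K := by
    rw [Nat.card_zpowers, hord]
  exact (Subgroup.eq_of_le_of_card_ge hle (le_of_eq hcard.symm)).ge

/-- commuting with a generator of a group of prime order is commuting with the group -/
theorem commute_of_card_prime {K : Subgroup G} (hp : (Nat.card K).Prime) {k : G} (hk : k ∈ K)
    (hk1 : k ≠ 1) {y : G} (hy : k * y = y * k) : ∀ z ∈ K, z * y = y * z := by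
  intro z hz
  obtain ⟨n, rfl⟩ := Subgroup.mem_zpowers_iff.mp (le_zpowers_of_card_prime hp hk hk1 hz)
  have : Commute k y := hy
  exact (this.zpow_left n).eq

/-- KEYSTONE 136304  K-1363-D  `NU.fpf`. -/
theorem NU.fpf (hG : IsMinSimpleOddOrder G) {M K U R H Ms : Subgroup G} {r : ℕ} (c : NU M K U R H r)
    (pf : PF M K Ms) (hp : (Nat.card K).Prime) (hUKH : U ⊔ K ≤ H)
    (hnc : ∀ g : G, H ≠ M.map (MulAut.conj g).toMonoidHom) (hpH : Nat.card K ∉ sigma H) :
    sigmaCore H ⊓ centralizer (K : Set G) = ⊥ ∧ Group.IsNilpotent (sigmaCore H) := by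
  classical
  haveI : Fact (Nat.card K).Prime := ⟨hp⟩
  have hKH : K ≤ H := le_sup_right.trans hUKH
  -- `p ∈ σ(M*)`
  have hpMs : Nat.card K ∈ sigma Ms := by
    have hdvd : Nat.card K ∣ Nat.card (sigmaCore Ms) := Subgroup.card_dvd_of_le pf.hKMs
    exact Cfsg.Agent.Lib.Helper71.BG11.sigmaCore_pi hG pf.hMs hp hdvd
  have hnotMs : ∀ g : G, H ≠ Ms.map (MulAut.conj g).toMonoidHom := by
    intro g hg
    apply hpH
    rw [hg]
    exact Cfsg.Agent.Lib.Helper31.BG12.mem_sigma_cj hpMs g
  -- the fixed points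
  have hbot : sigmaCore H ⊓ centralizer (K : Set G) = ⊥ := by
    rw [eq_bot_iff]
    intro x hx
    rw [Subgroup.mem_bot]
    by_contra hx1
    obtain ⟨hxσ, hxc⟩ := hx
    obtain ⟨k, hk1⟩ := (Subgroup.ne_bot_iff_exists_ne_one).mp c.hK1
    have hkK : (k : G) ∈ K := k.2
    have hk1' : (k : G) ≠ 1 := fun h => hk1 (Subtype.ext h)
    have hkx : (k : G) * x = x * (k : G) := (Subgroup.mem_centralizer_iff.mp hxc) (k : G) hkK
    have hord : ∀ q : ℕ, q.Prime → q ∣ orderOf (k : G) → q = Nat.card K := by
      intro q hq hqd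
      have : q ∣ Nat.card K := hqd.trans (Subgroup.orderOf_dvd_natCard K hkK)
      exact (Nat.prime_dvd_prime_iff_eq hq hp).mp this
    have hpk : Nat.card K ∣ orderOf (k : G) := by
      have hdvd : orderOf (k : G) ∣ Nat.card K := Subgroup.orderOf_dvd_natCard K hkK
      rcases (Nat.dvd_prime hp).mp hdvd with h | h
      · exact absurd (orderOf_eq_one_iff.mp h) hk1'
      · rw [h]
    have hkmem : (k : G) ∈ H ⊓ Subgroup.centralizer ({x} : Set G) := by
      refine ⟨hKH hkK, ?_⟩
      show (k : G) ∈ Subgroup.centralizer ({x} : Set G)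
      rw [Subgroup.mem_centralizer_iff]
      intro h hh
      rw [Set.mem_singleton_iff] at hh
      rw [hh]; exact hkx.symm
    have hσ : ∀ q : ℕ, q.Prime → q ∣ orderOf (k : G) → q ∉ sigma H := by
      intro q hq hqd
      rw [hord q hq hqd]; exact hpH
    rcases Cfsg.Agent.S1432.result hG H c.hH x hxσ hx1 (k : G) hkmem hk1' hσ with h1 | h2
    · -- kappa case
      have hκ : Nat.card K ∈ kappa H := h1.1 _ hp hpk
      obtain ⟨g, hg | hg⟩ := pf.h69 H c.hH ⟨_, hκ⟩
      · exact hnc g hg
      · exact hnotMs g hg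
    · -- tau2 case
      obtain ⟨_, _, hle, huniq⟩ := h2
      have hCle : Subgroup.centralizer ({(k : G)} : Set G) ≤ Ms := by
        intro y hy
        apply pf.hCK
        rw [Subgroup.mem_centralizer_iff]
        have hky : (k : G) * y = y * (k : G) :=
          (Subgroup.mem_centralizer_iff.mp hy) (k : G) (Set.mem_singleton _)
        exact commute_of_card_prime hp hkK hk1' hky
      have hMsH : Ms = H := huniq Ms pf.hMs hCle
      apply hpH
      rw [← hMsH]; exact hpMs
  refine ⟨hbot, ?_⟩
  apply Cfsg.Agent.Lib.Helper03.FrobThompson.isNilpotent_of_fpf (sigmaCore H) K c.hK1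
  · intro e he u hu
    have hen : e ∈ Subgroup.normalizer (sigmaCore H : Set G) :=
      Cfsg.Agent.Lib.Helper71.BG11.le_normalizer_sigmaCore H (hKH he)
    exact (Subgroup.mem_normalizer_iff.mp hen u).mp hu
  · intro e he he1 u hu heu
    have hall := commute_of_card_prime hp he he1 heu
    have : u ∈ sigmaCore H ⊓ centralizer (K : Set G) := by
      refine ⟨hu, ?_⟩
      show u ∈ Subgroup.centralizer (K : Set G)
      rw [Subgroup.mem_centralizer_iff]
      exact hall
    rw [hbot, Subgroup.mem_bot] at this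
    exact this

end Cfsg.Agent.Lib.Helper52.BG1363
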