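import Mathlib
import Cfsg.Agent.Lib.Helper71.BG10Hall
import Cfsg.Agent.Lib.Helper71.BG11a
import Cfsg.Agent.Lib.Helper31.FittingHall

/-!
Keystone 138108 K-1381-G (pack K-1381 = S1381, architect helper71): if `M' = M_σ` the nilpotent
complement `U'` of `M_F` in `M'` has `N_G(U') ≤ M`.  The general form (a nontrivial nilpotent Hall
subgroup of `M_σ` has its normalizer in `M`) is the statement of K-1382-C (138203).
-/

set_option autoImplicit false

namespace Cfsg.Agent.Lib.Helper52.BG1381

open Cfsg Subgroup Cfsg.Agent.Lib.Helper55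

variable {G : Type*} [Group G] [Finite G]

omit [Finite G] in
theorem card_mul_relIndex' {H K : Subgroup G} (h : H ≤ K) :
    Nat.card H * H.relIndex K = Nat.card K := by
  have := Subgroup.relIndex_mul_relIndex ⊥ H K bot_le h
  rwa [Subgroup.relIndex_bot_left, Subgroup.relIndex_bot_left] at this

/-- a prime dividing `|H|` does not divide `|K : H|` when `H` is a Hall subgroup of `K`; so the
`r`-parts of `|H|` and `|K|` agree -/
theorem factorization_eq_of_hall {H K : Subgroup G} (h : H ≤ K) {r : ℕ} (hr : r.Prime)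
    (hri : ¬ r ∣ H.relIndex K) :
    (Nat.card K).factorization r = (Nat.card H).factorization r := by
  rw [← card_mul_relIndex' h, Nat.factorization_mul Nat.card_pos.ne'
    (fun h0 => hri (by rw [h0]; exact dvd_zero r)), Finsupp.add_apply,
    Nat.factorization_eq_zero_of_not_dvd hri, add_zero]

/-- the statement of K-1382-C: a nontrivial nilpotent Hall subgroup of `M_σ` has its normalizer
in `M` -/
theorem normalizer_le_of_nilpotent_hall (hG : IsMinSimpleOddOrder G) {M : Subgroup G}
    (hM : IsCoatom M) {U' : Subgroup G}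
    (hU'σ : U' ≤ sigmaCore M) (hU'1 : U' ≠ ⊥) (hnil : Group.IsNilpotent U')
    (hhall : (Nat.card U').Coprime (U'.relIndex (sigmaCore M))) :
    Subgroup.normalizer (U' : Set G) ≤ M := by
  classical
  have hσM : sigmaCore M ≤ M := Cfsg.Agent.Lib.Helper71.BG11.sigmaCore_le M
  have hU'M : U' ≤ M := hU'σ.trans hσM
  -- a prime divisor `r` of `|U'|`
  have hU'c : Nat.card U' ≠ 1 := fun h => hU'1 (Subgroup.card_eq_one.mp h)
  obtain ⟨r, hr, hrU⟩ := Nat.exists_prime_and_dvd hU'c
  haveI : Fact r.Prime := ⟨hr⟩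
  have hrσ : r ∈ sigma M :=
    Cfsg.Agent.Lib.Helper71.BG11.sigmaCore_pi hG hM hr (hrU.trans (Subgroup.card_dvd_of_le hU'σ))
  -- the Sylow `r`-subgroup of `U'`
  obtain ⟨P⟩ : Nonempty (Sylow r ↥U') := inferInstance
  have hPn : (P : Subgroup ↥U').Normal := by
    have htfae : Group.IsNilpotent ↥U' ↔ ∀ (p : ℕ) (_hp : Fact p.Prime) (P : Sylow p ↥U'),
        (P : Subgroup ↥U').Normal := (isNilpotent_of_finite_tfae (G := ↥U')).out 0 3
    exact htfae.mp hnil r inferInstance P
  haveI : Subsingleton (Sylow r ↥U') := (Sylow.unique_of_normal P hPn).instSubsingleton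
  obtain ⟨R, hRd⟩ : ∃ R : Subgroup G, R = (P : Subgroup ↥U').map U'.subtype := ⟨_, rfl⟩
  have hRU : R ≤ U' := hRd ▸ Subgroup.map_subtype_le _
  have hRp : IsPGroup r R := hRd ▸ P.isPGroup'.map _
  have hRcard : Nat.card R = r ^ (Nat.card U').factorization r := by
    rw [hRd, Subgroup.card_map_of_injective U'.subtype_injective]
    exact P.card_eq_multiplicity
  -- `N_G(U') ≤ N_G(R)`
  have hNN : Subgroup.normalizer (U' : Set G) ≤ Subgroup.normalizer (R : Set G) := by
    intro g hg
    rw [← cj_eq_self_iff] at hg ⊢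
    have h1 : cj g R ≤ U' := by rw [← hg]; exact cj_mono hRU
    have h2 : IsPGroup r (cj g R) := isPGroup_cj hRp
    have h3 : cj g R ≤ R := by
      obtain ⟨P', hP'⟩ := (h2.comap_subtype (K := U')).exists_le_sylow
      have hPP : P' = P := Subsingleton.elim _ _
      intro x hx
      have hxU : x ∈ U' := h1 hx
      have : (⟨x, hxU⟩ : ↥U') ∈ (P : Subgroup ↥U') := by
        rw [← hPP]
        apply hP'
        exact hx
      rw [hRd]
      exact ⟨⟨x, hxU⟩, this, rfl⟩
    exact Subgroup.eq_of_le_of_card_ge h3 (by rw [card_cj])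
  -- `R` is a Sylow `r`-subgroup of `M`
  have hri1 : ¬ r ∣ U'.relIndex (sigmaCore M) := by
    intro hri
    have h1 : r ∣ Nat.gcd (Nat.card U') (U'.relIndex (sigmaCore M)) := Nat.dvd_gcd hrU hri
    rw [Nat.Coprime.gcd_eq_one hhall] at h1
    exact hr.one_lt.ne' (Nat.dvd_one.mp h1)
  have hri2 : ¬ r ∣ (sigmaCore M).relIndex M := fun hri =>
    Cfsg.Agent.Lib.Helper71.BG11.sigmaCore_index hG hM hrσ
      (hri.trans (Subgroup.relIndex_dvd_index_of_le hσM))
  have hfac : (Nat.card M).factorization r = (Nat.card U').factorization r := by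
    rw [factorization_eq_of_hall hσM hr hri2, factorization_eq_of_hall hU'σ hr hri1]
  have hRM : R ≤ M := hRU.trans hU'M
  have hcardRM : Nat.card (R.subgroupOf M) = r ^ (Nat.card M).factorization r := by
    rw [hfac, ← hRcard]
    exact Nat.card_congr (Subgroup.subgroupOfEquivOfLe hRM).toEquiv
  have hT := isSylowIn_of_sylow (Sylow.ofCard (R.subgroupOf M) hcardRM)
  rw [Sylow.coe_ofCard, Subgroup.map_subgroupOf_eq_of_le hRM] at hT
  exact hNN.trans (Cfsg.Agent.Lib.Helper71.BG10.sigma_normalizer_le hrσ hT)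

/-- KEYSTONE 138108  K-1381-G  `normalizer_le_of_typeP`. -/
theorem normalizer_le_of_typeP (hG : IsMinSimpleOddOrder G) {M W₁ U' W₂ : Subgroup G} (hM : IsCoatom M)
    (h : IsTypePWith M W₁ U' W₂) (hd : ⁅M, M⁆ = sigmaCore M) (hU' : U' ≠ ⊥) :
    normalizer (U' : Set G) ≤ M := by
  have hσM : sigmaCore M ≤ M := Cfsg.Agent.Lib.Helper71.BG11.sigmaCore_le M
  have hcompl : IsComplIn (fittingHallOf M) U' (sigmaCore M) := hd ▸ h.U_compl
  have hU'σ : U' ≤ sigmaCore M := hcompl.2.1
  have hcop : (Nat.card (fittingHallOf M)).Coprime (Nat.card U') :=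
    Cfsg.Agent.Lib.Helper31.coprime_card_of_isComplIn_fittingHallOf hσM hcompl
  have hcard : Nat.card (fittingHallOf M) * Nat.card U' = Nat.card (sigmaCore M) :=
    Cfsg.Agent.Lib.Helper31.IsComplIn.card_mul hcompl
  have hrel : U'.relIndex (sigmaCore M) = Nat.card (fittingHallOf M) := by
    have h1 := card_mul_relIndex' hU'σ
    rw [← hcard, mul_comm] at h1
    exact Nat.eq_of_mul_eq_mul_right Nat.card_pos h1
  refine normalizer_le_of_nilpotent_hall hG hM hU'σ hU' h.U_nilpotent ?_
  rw [hrel]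
  exact hcop.symm

end Cfsg.Agent.Lib.Helper52.BG1381
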