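import Mathlib
import Cfsg.Agent.Lib.Helper15.BG139Defs
import Cfsg.Agent.Lib.Helper96.BG134A4
import Cfsg.Agent.S1415
import Cfsg.Agent.S1427

/-!
# BG Theorem 13.9 (S1378), keystone 137806 (K-S1378-L7): BG 13.5, the prime action of `E₁` on `M_σ`
-/

set_option autoImplicit false
set_option linter.unusedSectionVars false
set_option linter.unusedVariables false

namespace Cfsg.Agent.Lib.Helper52.BG139

open Cfsg Cfsg.Agent.Lib.Helper55 Cfsg.Agent.Lib.Helper31.BG134 Cfsg.Agent.Lib.Helper15.BG139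

variable {G : Type*} [Group G] [Finite G]

/-- `S1427.result` packaged as `H1427 G` -/
theorem h1427_of_minSimple (hG : IsMinSimpleOddOrder G) : H1427 G := by
  intro L hL E' hE' r _ R hR1 hRc x hx hx1
  exact Cfsg.Agent.S1427.result hG L hL E' hE' r R hR1 hRc x hx hx1

/-- **KEYSTONE 137806  K-S1378-L7** (step 7 = BG 13.5). -/
theorem primeAct (hG : IsMinSimpleOddOrder G) {M E E₁ : Subgroup G} (hM : IsCoatom M)
    (h28 : H1428 G) (hE : IsComplIn E (sigmaCore M) M) (hE₁ : IsPiHallOf (tau1 M) E₁ E) :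
    PrimeAct M E₁ := by
  have h27 : H1427 G := h1427_of_minSimple hG
  have hE₁c : IsCyclic E₁ := (Cfsg.Agent.S1415.result hG M hM E hE).2.1 E₁ hE₁
  obtain ⟨g₀, hg₀⟩ := hE₁c.exists_generator
  -- a generator as an element of `G`
  obtain ⟨g, hg⟩ : ∃ g : G, E₁ = Subgroup.zpowers g := by
    refine ⟨(g₀ : G), ?_⟩
    apply le_antisymm
    · intro e he
      have h1 := hg₀ ⟨e, he⟩
      rw [Subgroup.mem_zpowers_iff] at h1 ⊢
      obtain ⟨k, hk⟩ := h1
      refine ⟨k, ?_⟩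
      have h2 := congrArg (Subtype.val) hk
      simpa using h2
    · rw [Subgroup.zpowers_le]
      exact g₀.2
  have hgE₁ : g ∈ E₁ := by rw [hg]; exact Subgroup.mem_zpowers g
  have hcardE₁ : Nat.card E₁ = orderOf g := by rw [hg, Nat.card_zpowers]
  have hcomm : ∀ a ∈ E₁, ∀ b ∈ E₁, a * b = b * a := by
    intro a ha b hb
    rw [hg] at ha hb
    rw [Subgroup.mem_zpowers_iff] at ha hb
    obtain ⟨i, rfl⟩ := ha
    obtain ⟨j, rfl⟩ := hb
    exact (Commute.refl g).zpow_zpow i j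
  intro x hx hx1 z hz
  obtain ⟨hzσ, hzx⟩ := Subgroup.mem_inf.mp hz
  have hzx' : z * x = x * z := by
    rw [Subgroup.mem_centralizer_iff] at hzx
    exact (hzx x (Set.mem_singleton x)).symm
  -- a subgroup `P₀ ≤ zpowers x` of prime order `u₀`
  have hox : orderOf x ≠ 1 := by
    intro h
    exact hx1 (orderOf_eq_one_iff.mp h)
  obtain ⟨u₀, hu₀, hu₀x⟩ := Nat.exists_prime_and_dvd hox
  set y₀ : G := x ^ (orderOf x / u₀) with hy₀
  have hP₀c : Nat.card (Subgroup.zpowers y₀) = u₀ :=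
    Cfsg.Agent.Lib.Helper96.BG134.card_zpowers_pow_div x hu₀x
  have hy₀E₁ : y₀ ∈ E₁ := Subgroup.pow_mem _ hx _
  have hP₀E₁ : Subgroup.zpowers y₀ ≤ E₁ := by rw [Subgroup.zpowers_le]; exact hy₀E₁
  have hu₀τ : u₀ ∈ tau1 M := by
    apply hE₁.2.1 u₀ hu₀
    rw [← hP₀c]
    exact Subgroup.card_dvd_of_le hP₀E₁
  have hzy₀ : z * y₀ = y₀ * z := by
    have : Commute z x := hzx'
    exact (this.pow_right _)
  -- `z` centralizes every subgroup of prime order of `E₁`
  apply Cfsg.Agent.Lib.Helper96.BG134.mem_centralizer_of_forall_prime hG h27 hM hE hE₁ hE₁c hg hzσ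
  intro u hu
  obtain ⟨hup, hug, -⟩ := Nat.mem_primeFactors.mp hu
  set yu : G := g ^ (orderOf g / u) with hyu
  have hUc : Nat.card (Subgroup.zpowers yu) = u :=
    Cfsg.Agent.Lib.Helper96.BG134.card_zpowers_pow_div g hug
  have hyuE₁ : yu ∈ E₁ := Subgroup.pow_mem _ hgE₁ _
  have hUE₁ : Subgroup.zpowers yu ≤ E₁ := by rw [Subgroup.zpowers_le]; exact hyuE₁
  have hUle : Subgroup.zpowers yu ≤ E ⊓ Subgroup.centralizer ((Subgroup.zpowers y₀ : Subgroup G) : Set G) := by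
    refine le_inf (hUE₁.trans hE₁.1) ?_
    intro a ha
    rw [Subgroup.mem_centralizer_iff]
    intro b hb
    exact hcomm b (hP₀E₁ hb) a (hUE₁ ha)
  have key := h28 M hM E hE u₀ hu₀τ (Subgroup.zpowers y₀) (hP₀E₁.trans hE₁.1) hP₀c
    (Subgroup.zpowers yu) hUle (by rw [hUc]; exact hup)
  have hz1 : z ∈ sigmaCore M ⊓ Subgroup.centralizer ((Subgroup.zpowers y₀ : Subgroup G) : Set G) := by
    refine Subgroup.mem_inf.mpr ⟨hzσ, ?_⟩
    rw [Subgroup.mem_centralizer_iff]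
    intro b hb
    rw [SetLike.mem_coe, Subgroup.mem_zpowers_iff] at hb
    obtain ⟨k, rfl⟩ := hb
    have : Commute z y₀ := hzy₀
    exact (this.zpow_right k).symm
  exact (Subgroup.mem_inf.mp (key hz1)).2

end Cfsg.Agent.Lib.Helper52.BG139
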