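import Mathlib
import Cfsg.Agent.Lib.Helper15.BG147Defs
import Cfsg.Agent.Lib.Helper78.BG1310Aux
import Cfsg.Agent.S1404

/-!
# K-147C-C10 (keystone 147110, BG 14.7 local closure lemma, architect helper15): the maximal
subgroup over `N_G(X)` is unique.
-/

set_option autoImplicit false
set_option linter.unusedVariables false
set_option linter.unusedSectionVars false

namespace Cfsg.Agent.Lib.Helper52.BG147

open Cfsg Cfsg.Agent.Lib.Helper55 Cfsg.Agent.Lib.Helper31.BG134 Cfsg.Agent.Lib.Helper15.BG139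
  Cfsg.Agent.Lib.Helper15.BG142 Cfsg.Agent.Lib.Helper15.BG147

variable {G : Type*} [Group G] [Finite G]

/-- LEAF C10 (147110) -/
theorem home_unique (hG : IsMinSimpleOddOrder G) {M K X : Subgroup G} (hM : IsCoatom M)
    (hK : IsPiHallOf (kappa M) K M) (hK1 : K ≠ ⊥) (hXK : X ≤ K) (hXp : (Nat.card X).Prime)
    {H H' : Subgroup G} (hH : IsCoatom H) (hNH : Subgroup.normalizer (X : Set G) ≤ H)
    (hH' : IsCoatom H') (hNH' : Subgroup.normalizer (X : Set G) ≤ H') : H = H' := by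
  obtain ⟨E, ks⟩ := exists_ks hG hM hK hK1
  have hKM : K ≤ M := hK.1
  have hXM : X ≤ M := hXK.trans hKM
  have hXH : X ≤ H := Subgroup.le_normalizer.trans hNH
  have hXH' : X ≤ H' := Subgroup.le_normalizer.trans hNH'
  have hCM : CP M X ≠ ⊥ := by
    intro h
    apply ks.hKs
    have : KStar M K ≤ CP M X := le_inf inf_le_left (inf_le_right.trans
      (Subgroup.centralizer_le hXK))
    rw [h] at this
    exact le_bot_iff.mp this
  have h13 := ks.h13 X hXK hXp
  have hpH : Nat.card X ∈ sigma H := htx' hG M X H (Nat.card X) hM hXM rfl h13 hCM hH hNH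
  have hpH' : Nat.card X ∈ sigma H' := htx' hG M X H' (Nat.card X) hM hXM rfl h13 hCM hH' hNH'
  -- `H' = cj g H`
  obtain ⟨g, hg⟩ : ∃ g : G, cj g H = H' := by
    by_contra hne
    have hne' : ∀ g : G, cj g H ≠ H' := fun g h => hne ⟨g, h⟩
    exact hsp hG H H' hH hH' hne' _ hpH hpH'
  -- `cj g⁻¹ X ≤ H`
  have hconj : cj g⁻¹ X ≤ H := by
    rw [cj_le_iff, inv_inv, hg]
    exact hXH'
  haveI : Fact (Nat.card X).Prime := ⟨hXp⟩
  obtain ⟨m, hm, c, hc, hgmc⟩ := (Cfsg.Agent.S1404.result hG H hH (Nat.card X) hpH X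
    (Cfsg.Agent.Lib.Helper78.BG1310.isPGroup_of_card_prime hXp)
    (Cfsg.Agent.Lib.Helper78.BG1310.ne_bot_of_card_prime hXp) hXH).1 g⁻¹ hconj
  have hcH : c ∈ H := hNH (Subgroup.centralizer_le_normalizer (X : Set G) hc)
  have hginv : g⁻¹ ∈ H := by
    rw [hgmc]
    exact H.mul_mem hm hcH
  have hgH : g ∈ H := by
    have := H.inv_mem hginv
    rwa [inv_inv] at this
  rw [← hg, cj_eq_self_of_mem hgH]

end Cfsg.Agent.Lib.Helper52.BG147
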