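import Mathlib
import Cfsg.Agent.Lib.Helper15.BG147Defs
import Cfsg.Agent.Lib.Helper78.BG1310Aux
import Cfsg.Agent.Lib.Helper54.BG134A3a
import Cfsg.Agent.Lib.Helper12.CNMaxSub
import Cfsg.Agent.Lib.Helper71.BG11a

/-!
# K-147C-C9 (keystone 147109, BG 14.7 local closure lemma, architect helper15): the partner
Hall `κ(H)`-subgroup `KH ⊇ R0`.
-/

set_option autoImplicit false
set_option linter.unusedVariables false
set_option linter.unusedSectionVars false

namespace Cfsg.Agent.Lib.Helper52.BG147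

open Cfsg Cfsg.Agent.Lib.Helper55 Cfsg.Agent.Lib.Helper31.BG134 Cfsg.Agent.Lib.Helper15.BG139
  Cfsg.Agent.Lib.Helper15.BG142 Cfsg.Agent.Lib.Helper15.BG147

variable {G : Type*} [Group G] [Finite G]

/-- LEAF C9 (147109) -/
theorem exists_KH_of_R0 {M K X H R0 : Subgroup G} (c : CL M K X H) (c1 : CL1 M K X H)
    (hD : sigmaCore H ⊓ M ≤ K) (hZ : M ⊓ H = K ⊔ KStar M K)
    (hR0Z : R0 ≤ K ⊔ KStar M K) (hsup : (K ⊓ sigmaCore H) ⊔ R0 = K ⊔ KStar M K)
    (hKsR : KStar M K ≤ R0) (hR0κ : ∀ r : ℕ, r.Prime → r ∣ Nat.card R0 → r ∈ kappa H) :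
    ∃ KH : Subgroup G, IsPiHallOf (kappa H) KH H ∧ KStar M K ≤ KH ∧ KH ≤ K ⊔ KStar M K ∧
      KStar H KH = K ⊓ sigmaCore H ∧ KH ⊔ KStar H KH = K ⊔ KStar M K := by
  have hG := c.hG
  obtain ⟨E, ks⟩ := exists_ks hG c.hM c.hK c.hK1
  have hKM : K ≤ M := c.hK.1
  have hXM : X ≤ M := c.hXK.trans hKM
  have hR0H : R0 ≤ H := hR0Z.trans c1.hZH
  obtain ⟨KH, hKH, hR0KH⟩ := Cfsg.Agent.Lib.Helper54.BG134.exists_isPiHallOf_ge
    (ms_solvable hG c.hH.1) (kappa H) hR0H hR0κ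
  have hKsKH : KStar M K ≤ KH := hKsR.trans hR0KH
  have hKH1 : KH ≠ ⊥ := by
    intro h
    apply c1.hKs
    rw [h] at hKsKH
    exact le_bot_iff.mp hKsKH
  obtain ⟨E', ks'⟩ := exists_ks hG c.hH hKH hKH1
  -- an element `y` of prime order of `K*`
  obtain ⟨q, hq, hqd⟩ := Nat.exists_prime_and_dvd (n := Nat.card (KStar M K)) (by
    intro h
    exact c1.hKs (Subgroup.card_eq_one.mp h))
  haveI : Fact q.Prime := ⟨hq⟩
  obtain ⟨y', hy'⟩ := exists_prime_orderOf_dvd_card' q hqd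
  obtain ⟨y, hyKs, hyo⟩ : ∃ y : G, y ∈ KStar M K ∧ orderOf y = q :=
    ⟨(y' : G), y'.2, by rw [Subgroup.orderOf_coe]; exact hy'⟩
  have hy1 : y ≠ 1 := by
    intro h
    rw [h, orderOf_one] at hyo
    exact hq.one_lt.ne hyo
  have hyKH : y ∈ KH := hKsKH hyKs
  obtain ⟨Y, hYdef⟩ : ∃ Y : Subgroup G, Y = Subgroup.zpowers y := ⟨_, rfl⟩
  have hYc : Nat.card Y = q := by rw [hYdef, Nat.card_zpowers, hyo]
  have hYp : (Nat.card Y).Prime := by rw [hYc]; exact hq
  have hYKs : Y ≤ KStar M K := by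
    rw [hYdef, Subgroup.zpowers_le]
    exact hyKs
  have hYKH : Y ≤ KH := hYKs.trans hKsKH
  have hYcent : Subgroup.centralizer (Y : Set G) = Subgroup.centralizer ({y} : Set G) := by
    rw [hYdef]
    apply le_antisymm
    · apply Subgroup.centralizer_le
      intro z hz
      rw [Set.mem_singleton_iff] at hz
      rw [hz]
      exact Subgroup.mem_zpowers y
    · exact Cfsg.Agent.Lib.Helper78.BG1310.centralizer_singleton_le_zpowers y
  -- `N(Y) ≤ M`
  have hNYM : Subgroup.normalizer (Y : Set G) ≤ M := by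
    obtain ⟨L, hL, hNL⟩ := Cfsg.Agent.Lib.Helper12.CNMaxSub.exists_coatom_normalizer_le hG
      (Cfsg.Agent.Lib.Helper78.BG1310.ne_bot_of_card_prime hYp)
      (Cfsg.Agent.Lib.Helper78.BG1310.ne_top_of_card_prime hG hYp)
    have hYCP : Y ≤ CP M X := le_inf (hYKs.trans inf_le_left)
      ((hYKs.trans inf_le_right).trans (Subgroup.centralizer_le c.hXK))
    have hLM : L = M := ha hG M X Y (Nat.card X) c.hM hXM rfl (ks.h13 X c.hXK c.hXp) hYCP hYp
      L hL hNL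
    rw [← hLM]
    exact hNL
  -- `KStar H KH = K ⊓ sigmaCore H`
  have hpa := ks'.hpa y hyKH hy1
  have hKsH : KStar H KH = K ⊓ sigmaCore H := by
    rw [← hpa]
    apply le_antisymm
    · intro g hg
      have hgσ : g ∈ sigmaCore H := hg.1
      have hgc : g ∈ Subgroup.centralizer (Y : Set G) := by
        rw [hYcent]
        exact hg.2
      have hgM : g ∈ M := hNYM (Subgroup.centralizer_le_normalizer (Y : Set G) hgc)
      exact ⟨hD ⟨hgσ, hgM⟩, hgσ⟩
    · intro g hg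
      have hgK : g ∈ K := hg.1
      have hgσ : g ∈ sigmaCore H := hg.2
      have hgc : g ∈ Subgroup.centralizer (KStar M K : Set G) := c1.hcomm ⟨hgσ, hKM hgK⟩
      refine ⟨hgσ, ?_⟩
      show g ∈ Subgroup.centralizer ({y} : Set G)
      rw [Subgroup.mem_centralizer_iff]
      intro z hz
      rw [Set.mem_singleton_iff] at hz
      rw [hz]
      exact (Subgroup.mem_centralizer_iff.mp hgc) y hyKs
  have hNY := ks'.hN Y hYKH hYp
  have hle : KH ⊔ KStar H KH ≤ K ⊔ KStar M K := by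
    rw [← hNY, ← hZ]
    intro g hg
    exact ⟨hNYM hg.2, hg.1⟩
  have hge : K ⊔ KStar M K ≤ KH ⊔ KStar H KH := by
    rw [← hsup, hKsH]
    exact sup_le le_sup_right (hR0KH.trans le_sup_left)
  exact ⟨KH, hKH, hKsKH, le_sup_left.trans hle, hKsH, le_antisymm hle hge⟩

end Cfsg.Agent.Lib.Helper52.BG147
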