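import Mathlib

set_option autoImplicit false

/-!
# K-CD3-GRP (S4460, keystone 446025): the group lemma (Isaacs 12.3(b)), pure group theory

`X` finite solvable nonabelian, `X'` contained in every nontrivial normal subgroup, `X` not a `p`-group:
then `X = X' ⋊ Q` with `X'` an elementary abelian `r`-group, `Q` abelian of order prime to `r`, and every
element outside `X'` acts fixed-point-freely on `X'`.
-/

namespace Cfsg.Agent.Lib.Helper52.CD3

universe u

/-- a subgroup normalised by `D` and by `Q` with `D ⊔ Q = ⊤` is normal -/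
theorem grp_normal_of_sup {X : Type u} [Group X] (D Q E : Subgroup X) (hDQ : D ⊔ Q = ⊤)
    (hD : ∀ d ∈ D, ∀ e ∈ E, d * e * d⁻¹ ∈ E) (hQ : ∀ n ∈ Q, ∀ e ∈ E, n * e * n⁻¹ ∈ E) :
    E.Normal := by
  rw [← Subgroup.normalizer_eq_top_iff, eq_top_iff, ← hDQ]
  have key : ∀ (A : Subgroup X), (∀ d ∈ A, ∀ e ∈ E, d * e * d⁻¹ ∈ E) → A ≤ Subgroup.normalizer (E : Set X) := by
    intro A hA d hd
    rw [Subgroup.mem_normalizer_iff]
    intro h
    constructor
    · intro hh
      exact hA d hd h hh
    · intro hh
      have := hA d⁻¹ (A.inv_mem hd) _ hh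
      simpa [mul_assoc] using this
  exact sup_le (key D hD) (key Q hQ)

/-- every subgroup containing the commutator subgroup is normal -/
theorem grp_normal_of_commutator_le {X : Type u} [Group X] (H : Subgroup X) (h : commutator X ≤ H) :
    H.Normal := by
  refine ⟨fun x hx g => ?_⟩
  have h1 : g * x * g⁻¹ * x⁻¹ ∈ commutator X := by
    rw [commutator_def]
    have := Subgroup.commutator_mem_commutator (Subgroup.mem_top g) (Subgroup.mem_top x)
    rwa [commutatorElement_def] at this
  have h2 : g * x * g⁻¹ = (g * x * g⁻¹ * x⁻¹) * x := by group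
  rw [h2]
  exact H.mul_mem (h h1) hx

theorem frobenius_structure {X : Type u} [Group X] [Finite X] (hsolv : Group.IsSolvable X)
    (hnab : ∃ a b : X, a * b ≠ b * a)
    (hmin : ∀ L : Subgroup X, L.Normal → L ≠ ⊥ → commutator X ≤ L)
    (hnp : ∀ p : ℕ, p.Prime → ¬ IsPGroup p X) :
    ∃ (r : ℕ) (Q : Subgroup X), r.Prime ∧ IsPGroup r (commutator X) ∧
      (∀ a ∈ commutator X, ∀ b ∈ commutator X, a * b = b * a) ∧
      (∀ a ∈ Q, ∀ b ∈ Q, a * b = b * a) ∧
      commutator X ⊓ Q = ⊥ ∧ commutator X ⊔ Q = ⊤ ∧ (Nat.card Q).Coprime r ∧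
      (∀ q ∈ Q, q ≠ 1 → ∀ v ∈ commutator X, q * v = v * q → v = 1) ∧
      (∀ g : X, g ∉ commutator X → ∀ v ∈ commutator X, g * v = v * g → v = 1) ∧
      (commutator X).index = Nat.card Q ∧ 1 < Nat.card Q ∧
      ∃ a : ℕ, 0 < a ∧ Nat.card (commutator X) = r ^ a := by
  classical
  set D : Subgroup X := commutator X with hDdef
  have hDn : D.Normal := inferInstance
  have comm_mem : ∀ a b : X, a * b * a⁻¹ * b⁻¹ ∈ D := by
    intro a b
    rw [hDdef, commutator_def]
    have := Subgroup.commutator_mem_commutator (Subgroup.mem_top a) (Subgroup.mem_top b)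
    rwa [commutatorElement_def] at this
  -- (1) `D ≠ ⊥`
  have hDne : D ≠ ⊥ := by
    obtain ⟨a, b, hab⟩ := hnab
    intro h
    have h1 := comm_mem a b
    rw [h, Subgroup.mem_bot] at h1
    apply hab
    have : a * b = (a * b * a⁻¹ * b⁻¹) * (b * a) := by group
    rw [this, h1, one_mul]
  -- (2) `D` is abelian
  have hDab : ∀ a ∈ D, ∀ b ∈ D, a * b = b * a := by
    have hD2n : (⁅D, D⁆ : Subgroup X).Normal := inferInstance
    have hD2le : (⁅D, D⁆ : Subgroup X) ≤ D := Subgroup.commutator_le_left D D
    have hD2 : (⁅D, D⁆ : Subgroup X) = ⊥ := by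
      by_contra hne
      have hge : D ≤ ⁅D, D⁆ := hmin _ hD2n hne
      have heq : (⁅D, D⁆ : Subgroup X) = D := le_antisymm hD2le hge
      obtain ⟨n, hn⟩ := (Group.isSolvable_def X).mp hsolv
      have hser : ∀ k, derivedSeries X (k + 1) = D := by
        intro k
        induction k with
        | zero =>
          rw [derivedSeries_succ, derivedSeries_zero, hDdef, commutator_def]
        | succ k ih => rw [derivedSeries_succ, ih, heq]
      cases n with
      | zero =>
        rw [derivedSeries_zero] at hn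
        apply hDne
        rw [eq_bot_iff, ← hn]
        exact le_top
      | succ n =>
        rw [hser n] at hn
        exact hDne hn
    intro a ha b hb
    have h1 := Subgroup.commutator_mem_commutator ha hb
    rw [hD2, Subgroup.mem_bot, commutatorElement_def] at h1
    have : a * b = (a * b * a⁻¹ * b⁻¹) * (b * a) := by group
    rw [this, h1, one_mul]
  -- (3) the prime `r`
  have hcardD : Nat.card D ≠ 1 := by
    intro h
    exact hDne ((Subgroup.card_eq_one).mp h)
  obtain ⟨r, hr, hrdvd⟩ := Nat.exists_prime_and_dvd hcardD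
  have : Fact r.Prime := ⟨hr⟩
  let T : Subgroup X :=
    { carrier := {x | x ∈ D ∧ x ^ r = 1}
      mul_mem' := by
        rintro a b ⟨ha, ha'⟩ ⟨hb, hb'⟩
        refine ⟨D.mul_mem ha hb, ?_⟩
        have hc : Commute a b := hDab a ha b hb
        rw [hc.mul_pow, ha', hb', one_mul]
      one_mem' := ⟨D.one_mem, one_pow _⟩
      inv_mem' := by
        rintro a ⟨ha, ha'⟩
        exact ⟨D.inv_mem ha, by rw [inv_pow, ha', inv_one]⟩ }
  have hTn : T.Normal := by
    refine ⟨fun x hx g => ?_⟩
    obtain ⟨hx1, hx2⟩ := hx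
    refine ⟨hDn.conj_mem x hx1 g, ?_⟩
    rw [conj_pow, hx2, mul_one, mul_inv_cancel]
  have hTne : T ≠ ⊥ := by
    obtain ⟨x, hx⟩ := exists_prime_orderOf_dvd_card' (G := D) r hrdvd
    intro h
    have hxT : (x : X) ∈ T := by
      refine ⟨x.2, ?_⟩
      have : x ^ r = 1 := by rw [← hx]; exact pow_orderOf_eq_one x
      have := congrArg Subtype.val this
      simpa using this
    rw [h, Subgroup.mem_bot] at hxT
    have hx1 : x = 1 := Subtype.ext hxT
    rw [hx1, orderOf_one] at hx
    exact hr.one_lt.ne hx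
  have hDT : D ≤ T := hmin T hTn hTne
  have hDr : ∀ x ∈ D, x ^ r = 1 := fun x hx => (hDT hx).2
  have hDp : IsPGroup r D := by
    intro g
    refine ⟨1, ?_⟩
    apply Subtype.ext
    rw [pow_one]
    simpa using hDr g g.2
  -- (4) a second prime `q`
  obtain ⟨q, hq, hqdvd, hqr⟩ : ∃ q : ℕ, q.Prime ∧ q ∣ Nat.card X ∧ q ≠ r := by
    by_contra hcon
    push Not at hcon
    have hpos : Nat.card X ≠ 0 := Nat.card_pos.ne'
    have := Nat.eq_prime_pow_of_unique_prime_dvd hpos (p := r) (fun {d} hd hdv => hcon d hd hdv)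
    exact hnp r hr (IsPGroup.of_card this)
  have : Fact q.Prime := ⟨hq⟩
  obtain ⟨S⟩ : Nonempty (Sylow q X) := inferInstance
  have hSne : (S : Subgroup X) ≠ ⊥ := S.ne_bot_of_dvd_card hqdvd
  -- (5) Frattini
  set H : Subgroup X := D ⊔ (S : Subgroup X) with hHdef
  have hHn : H.Normal := grp_normal_of_commutator_le H le_sup_left
  have hSH : (S : Subgroup X) ≤ H := le_sup_right
  set Q : Subgroup X := Subgroup.normalizer ((S : Subgroup X) : Set X) with hQdef
  have hfrat : Q ⊔ D = ⊤ := by
    have h1 := Sylow.normalizer_sup_eq_top (S.subtype hSH)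
    rw [Sylow.coe_subtype, Subgroup.subgroupOf_map_subtype, inf_eq_left.mpr hSH] at h1
    have hSQ : (S : Subgroup X) ≤ Q := Subgroup.le_normalizer
    rw [eq_top_iff, ← h1]
    refine sup_le le_sup_left (sup_le le_sup_right (hSQ.trans le_sup_left))
  have hDQtop : D ⊔ Q = ⊤ := by rw [sup_comm]; exact hfrat
  -- (6) `D ⊓ Q = ⊥`
  have hDQbot : D ⊓ Q = ⊥ := by
    have hEn : (D ⊓ Q).Normal := by
      apply grp_normal_of_sup D Q (D ⊓ Q) hDQtop
      · intro d hd e he
        have : d * e * d⁻¹ = e := by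
          rw [hDab d hd e he.1, mul_assoc, mul_inv_cancel, mul_one]
        rw [this]; exact he
      · intro n hn e he
        exact ⟨hDn.conj_mem e he.1 n, Q.mul_mem (Q.mul_mem hn he.2) (Q.inv_mem hn)⟩
    by_contra hne
    have hDE : D ≤ D ⊓ Q := hmin _ hEn hne
    have hDleQ : D ≤ Q := hDE.trans inf_le_right
    have hQtop : Q = ⊤ := by
      rw [eq_top_iff, ← hDQtop]
      exact sup_le hDleQ le_rfl
    have hSn : (S : Subgroup X).Normal := Subgroup.normalizer_eq_top_iff.mp hQtop
    have hDS : D ≤ (S : Subgroup X) := hmin _ hSn hSne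
    apply hDne
    rw [eq_bot_iff]
    intro x hx
    rw [Subgroup.mem_bot]
    obtain ⟨k, hk⟩ := S.2 ⟨x, hDS hx⟩
    have hk' : x ^ q ^ k = 1 := by
      have := congrArg Subtype.val hk
      simpa using this
    have h1 : orderOf x ∣ r := orderOf_dvd_of_pow_eq_one (hDr x hx)
    have h2 : orderOf x ∣ q ^ k := orderOf_dvd_of_pow_eq_one hk'
    have hcop : Nat.Coprime r (q ^ k) :=
      Nat.Coprime.pow_right k ((Nat.coprime_primes hr hq).mpr (Ne.symm hqr))
    have h3 : orderOf x ∣ 1 := by
      have := Nat.dvd_gcd h1 h2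
      rwa [hcop.gcd_eq_one] at this
    exact orderOf_eq_one_iff.mp (Nat.dvd_one.mp h3)
  -- (7) `Q` abelian
  have hQab : ∀ a ∈ Q, ∀ b ∈ Q, a * b = b * a := by
    intro a ha b hb
    have h1 : a * b * a⁻¹ * b⁻¹ ∈ D ⊓ Q :=
      ⟨comm_mem a b, Q.mul_mem (Q.mul_mem (Q.mul_mem ha hb) (Q.inv_mem ha)) (Q.inv_mem hb)⟩
    rw [hDQbot, Subgroup.mem_bot] at h1
    have : a * b = (a * b * a⁻¹ * b⁻¹) * (b * a) := by group
    rw [this, h1, one_mul]
  -- (8) fixed-point-freeness
  have key : ∀ n ∈ Q, n ≠ 1 → ∀ v ∈ D, n * v = v * n → v = 1 := by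
    intro n hn hn1 v hv hnv
    set C : Subgroup X := D ⊓ Subgroup.centralizer {n} with hCdef
    have hCmem : ∀ x, x ∈ C ↔ x ∈ D ∧ n * x = x * n := by
      intro x
      rw [hCdef, Subgroup.mem_inf, Subgroup.mem_centralizer_iff]
      simp
    have hCn : C.Normal := by
      apply grp_normal_of_sup D Q C hDQtop
      · intro d hd e he
        have he' := (hCmem e).mp he
        have : d * e * d⁻¹ = e := by
          rw [hDab d hd e he'.1, mul_assoc, mul_inv_cancel, mul_one]
        rw [this]; exact he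
      · intro m hm e he
        have he' := (hCmem e).mp he
        rw [hCmem]
        refine ⟨hDn.conj_mem e he'.1 m, ?_⟩
        have h1 : n * m = m * n := hQab n hn m hm
        have h2 : n * m⁻¹ = m⁻¹ * n := hQab n hn m⁻¹ (Q.inv_mem hm)
        calc n * (m * e * m⁻¹) = (n * m) * e * m⁻¹ := by group
          _ = m * (n * e) * m⁻¹ := by rw [h1]; group
          _ = m * e * (n * m⁻¹) := by rw [he'.2]; group
          _ = m * e * m⁻¹ * n := by rw [h2]; group
    have hCbot : C = ⊥ := by
      by_contra hne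
      have hDC : D ≤ C := hmin C hCn hne
      -- `n` is central
      have hcent : ∀ g : X, g * n = n * g := by
        intro g
        have hg : g ∈ D ⊔ Q := by rw [hDQtop]; exact Subgroup.mem_top g
        obtain ⟨d, hd, m, hm, rfl⟩ := Subgroup.mem_sup_of_normal_left.mp hg
        have h1 : n * d = d * n := ((hCmem d).mp (hDC hd)).2
        have h2 : n * m = m * n := hQab n hn m hm
        calc d * m * n = d * (m * n) := by group
          _ = d * (n * m) := by rw [h2]
          _ = (d * n) * m := by group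
          _ = (n * d) * m := by rw [h1]
          _ = n * (d * m) := by group
      have hZn : (Subgroup.zpowers n).Normal := by
        refine ⟨fun x hx g => ?_⟩
        have hxc : ∀ g : X, g * x = x * g := by
          obtain ⟨k, rfl⟩ := Subgroup.mem_zpowers_iff.mp hx
          intro g
          have : Commute g n := hcent g
          exact (this.zpow_right k)
        have : g * x * g⁻¹ = x := by rw [hxc g, mul_assoc, mul_inv_cancel, mul_one]
        rw [this]; exact hx
      have hZne : Subgroup.zpowers n ≠ ⊥ := Subgroup.zpowers_ne_bot.mpr hn1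
      have hDZ : D ≤ Subgroup.zpowers n := hmin _ hZn hZne
      have hZQ : Subgroup.zpowers n ≤ Q := Subgroup.zpowers_le.mpr hn
      apply hDne
      rw [eq_bot_iff, ← hDQbot]
      exact le_inf le_rfl (hDZ.trans hZQ)
    have hvC : v ∈ C := (hCmem v).mpr ⟨hv, hnv⟩
    rw [hCbot, Subgroup.mem_bot] at hvC
    exact hvC
  have key2 : ∀ g : X, g ∉ D → ∀ v ∈ D, g * v = v * g → v = 1 := by
    intro g hg v hv hgv
    have hg' : g ∈ D ⊔ Q := by rw [hDQtop]; exact Subgroup.mem_top g
    obtain ⟨d, hd, n, hn, rfl⟩ := Subgroup.mem_sup_of_normal_left.mp hg'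
    have hn1 : n ≠ 1 := by
      intro h
      apply hg
      rw [h, mul_one]
      exact hd
    apply key n hn hn1 v hv
    have h1 : v * d = d * v := hDab v hv d hd
    have h2 : d * (n * v) = d * (v * n) := by
      calc d * (n * v) = d * n * v := by group
        _ = v * (d * n) := hgv
        _ = (v * d) * n := by group
        _ = (d * v) * n := by rw [h1]
        _ = d * (v * n) := by group
    exact mul_left_cancel h2
  -- (9) coprimality
  have hcop : (Nat.card Q).Coprime r := by
    rw [Nat.coprime_comm, Nat.Prime.coprime_iff_not_dvd hr]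
    intro hdvd
    obtain ⟨n, hn⟩ := exists_prime_orderOf_dvd_card' (G := Q) r hdvd
    have hn1 : (n : X) ≠ 1 := by
      intro h
      have : n = 1 := Subtype.ext h
      rw [this, orderOf_one] at hn
      exact hr.one_lt.ne hn
    have hord : orderOf (n : X) = r := by rw [← hn]; exact Subgroup.orderOf_coe n
    have hZp : IsPGroup r (Subgroup.zpowers (n : X)) := by
      apply IsPGroup.of_card (n := 1)
      rw [Nat.card_zpowers, hord, pow_one]
    set P : Subgroup X := Subgroup.zpowers (n : X) ⊔ D with hPdef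
    have hPp : IsPGroup r P := IsPGroup.to_sup_of_normal_right hZp hDp
    have hnP : (n : X) ∈ P := (le_sup_left : Subgroup.zpowers (n : X) ≤ P) (Subgroup.mem_zpowers _)
    have hDP : D ≤ P := le_sup_right
    have : Nontrivial P := ⟨⟨⟨(n : X), hnP⟩, 1, fun h => hn1 (congrArg Subtype.val h)⟩⟩
    have := hPp.center_nontrivial
    obtain ⟨z, hz⟩ := exists_ne (1 : Subgroup.center P)
    have hz1 : ((z : P) : X) ≠ 1 := by
      intro h
      apply hz
      apply Subtype.ext
      apply Subtype.ext
      exact h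
    have hzc : ∀ y ∈ P, ((z : P) : X) * y = y * ((z : P) : X) := by
      intro y hy
      have := (Subgroup.mem_center_iff.mp z.2) ⟨y, hy⟩
      have := congrArg Subtype.val this
      simpa using this.symm
    by_cases hzD : ((z : P) : X) ∈ D
    · apply hz1
      apply key (n : X) n.2 hn1 _ hzD
      exact (hzc _ hnP).symm
    · apply hDne
      rw [eq_bot_iff]
      intro v hv
      rw [Subgroup.mem_bot]
      exact key2 _ hzD v hv (hzc v (hDP hv))
  -- (10) the counting conjuncts
  have hQne : Q ≠ ⊥ := by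
    intro h
    rw [h, sup_bot_eq] at hDQtop
    apply hnp r hr
    intro g
    obtain ⟨k, hk⟩ := hDp ⟨g, by rw [hDQtop]; exact Subgroup.mem_top g⟩
    refine ⟨k, ?_⟩
    have := congrArg Subtype.val hk
    simpa using this
  have hindex : D.index = Nat.card Q := by
    apply Subgroup.IsComplement'.index_eq_card
    apply Subgroup.isComplement'_of_disjoint_and_mul_eq_univ
    · rw [disjoint_iff, inf_comm]; exact hDQbot
    · rw [← Subgroup.mul_normal Q D, hfrat]; rfl
  obtain ⟨a, ha⟩ := hDp.exists_card_eq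
  have ha0 : 0 < a := by
    rcases Nat.eq_zero_or_pos a with h | h
    · rw [h, pow_zero] at ha
      exact absurd ha hcardD
    · exact h
  exact ⟨r, Q, hr, hDp, hDab, hQab, hDQbot, hDQtop, hcop, key, key2, hindex,
    (Subgroup.one_lt_card_iff_ne_bot Q).mpr hQne, a, ha0, ha⟩

end Cfsg.Agent.Lib.Helper52.CD3
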