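import Cfsg.Agent.S1853
import Cfsg.Agent.Lib.Helper03.PGroupFrattini
import Cfsg.Prelude.Def_Transfer

set_option autoImplicit false

namespace Cfsg.Agent.Lib.Helper52

/-- In a finite group, `g S g⁻¹ ≤ S` forces `g ∈ N(S)`. -/
theorem mem_normalizer_of_map_conj_le_finite {G : Type*} [Group G] [Finite G] (S : Subgroup G)
    (g : G) (h : S.map (MulAut.conj g).toMonoidHom ≤ S) :
    g ∈ Subgroup.normalizer (S : Set G) := by
  have hcard : Nat.card (S.map (MulAut.conj g).toMonoidHom) = Nat.card S :=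
    Subgroup.card_map_of_injective (MulAut.conj g).injective
  have heq : S.map (MulAut.conj g).toMonoidHom = S :=
    Subgroup.eq_of_le_of_card_ge h (le_of_eq hcard.symm)
  rw [Subgroup.mem_normalizer_iff]
  intro x
  constructor
  · intro hx
    exact h ⟨x, hx, rfl⟩
  · intro hx
    rw [← heq] at hx
    obtain ⟨s, hs, hsx⟩ := hx
    have : s = x := (MulAut.conj g).injective hsx
    rwa [← this]

/-- A homomorphism to a group of order `2` kills `O^2(G)`. -/
theorem pResidual_le_ker_of_card_two {G A : Type*} [Group G] [Group A] (hA : Nat.card A = 2)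
    (f : G →* A) : Cfsg.pResidual 2 G ≤ f.ker := by
  unfold Cfsg.pResidual
  rw [Subgroup.closure_le]
  intro g hg
  have hg' : Nat.Coprime (orderOf g) 2 := hg
  have : Finite A := Nat.finite_of_card_ne_zero (by omega)
  have h1 : orderOf (f g) ∣ orderOf g := orderOf_map_dvd f g
  have h2 : orderOf (f g) ∣ 2 := hA ▸ orderOf_dvd_natCard (f g)
  have h3 : orderOf (f g) ∣ Nat.gcd (orderOf g) 2 := Nat.dvd_gcd h1 h2
  rw [hg'] at h3
  have h4 : orderOf (f g) = 1 := Nat.dvd_one.mp h3
  exact orderOf_eq_one_iff.mp h4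

/-- Key transfer step: if `G = O^2(G)`, `x` is a central involution of the Sylow `2`-subgroup `S`
not killed by a homomorphism `ϕ` of `S` onto a group of order `2`, then some element of `N_G(S)`
moves `x`. -/
theorem exists_normalizer_moves {G : Type*} [Group G] [Finite G] (S : Sylow 2 G)
    {A : Type*} [CommGroup A] [Finite A] [IsCyclic A] (hA : Nat.card A = 2)
    (ϕ : (S : Subgroup G) →* A) (hres : Cfsg.pResidual 2 G = ⊤) (x : G)
    (hxS : x ∈ (S : Subgroup G)) (hxc : x ∈ Subgroup.centralizer ((S : Subgroup G) : Set G))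
    (hx2 : x ^ 2 = 1) (hϕx : ϕ ⟨x, hxS⟩ ≠ 1) :
    ∃ g ∈ Subgroup.normalizer ((S : Subgroup G) : Set G), g * x * g⁻¹ ≠ x := by
  have hx1 : x ≠ 1 := by
    rintro rfl
    apply hϕx
    have : (⟨1, hxS⟩ : (S : Subgroup G)) = 1 := rfl
    rw [this, map_one]
  have hord : orderOf x = 2 := orderOf_eq_prime hx2 hx1
  have htr : MonoidHom.transfer ϕ x = 1 := by
    have := pResidual_le_ker_of_card_two hA (MonoidHom.transfer ϕ)
    rw [hres] at this
    exact this (Subgroup.mem_top x)
  obtain ⟨g, hgker, -, hgmap⟩ := Cfsg.Agent.S1853.thompson_general (S := S) ϕ x hord hxS hϕx htr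
  have hSC : (S : Subgroup G) ⊓ Subgroup.centralizer {x} = (S : Subgroup G) := by
    apply inf_eq_left.mpr
    intro s hs
    rw [Subgroup.mem_centralizer_singleton_iff]
    exact (Subgroup.mem_centralizer_iff.mp hxc s hs)
  rw [hSC] at hgmap
  have hgN : g ∈ Subgroup.normalizer ((S : Subgroup G) : Set G) :=
    mem_normalizer_of_map_conj_le_finite _ g (hgmap.trans inf_le_left)
  refine ⟨g, hgN, fun heq => ?_⟩
  rw [heq] at hgker
  exact hϕx ((Cfsg.Agent.S1853.mem_kerG_iff (S : Subgroup G) ϕ ⟨x, hxS⟩).mp hgker)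

end Cfsg.Agent.Lib.Helper52
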