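import Mathlib
import Cfsg.Agent.Lib.Helper55.Coprime

/-!
# Inheritance of characteristic `p`

`charP_inherit`: let `L` have characteristic `p` (`C_L(O_p(L)) ≤ O_p(L)`), and let `R ≤ L` be a
`p`-subgroup normalized by `O_p(L)` with `C_L(R) ≤ R`.  Then every subgroup `H` with `R ≤ H ≤ L`
has characteristic `p`.
-/

set_option autoImplicit false
set_option linter.unusedSectionVars false
set_option linter.style.haveILetI false

namespace Cfsg.Agent.Lib.Helper52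

open Subgroup
open scoped commutatorElement
open Cfsg.Agent.Lib.Helper55 (pCoreOf_le isPGroup_pCoreOf le_normalizer_pCoreOf le_pCoreOf
  normalizer_le_normalizer_pCoreOf)

section CharPInherit

variable {G : Type*} [Group G]

/-- the stabilizer of the chain `D ≥ E ≥ 1` (elements normalizing `D`, centralizing `E`, and
acting trivially on `D` modulo `E`) -/
def chainStab (D E : Subgroup G) : Subgroup G where
  carrier := {x | x ∈ normalizer (D : Set G) ∧ x ∈ centralizer (E : Set G) ∧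
    ∀ d ∈ D, x * d * x⁻¹ * d⁻¹ ∈ E}
  one_mem' := by
    refine ⟨one_mem _, one_mem _, ?_⟩
    intro d _
    have : (1 : G) * d * 1⁻¹ * d⁻¹ = 1 := by group
    rw [this]; exact E.one_mem
  mul_mem' := by
    rintro x y ⟨hx1, hx2, hx3⟩ ⟨hy1, hy2, hy3⟩
    refine ⟨mul_mem hx1 hy1, mul_mem hx2 hy2, ?_⟩
    intro d hd
    have e1 : x * y * d * (x * y)⁻¹ * d⁻¹ = x * (y * d * y⁻¹ * d⁻¹) * x⁻¹ * (x * d * x⁻¹ * d⁻¹) := by
      group
    have h1 : y * d * y⁻¹ * d⁻¹ ∈ E := hy3 d hd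
    have h2 : x * (y * d * y⁻¹ * d⁻¹) * x⁻¹ = y * d * y⁻¹ * d⁻¹ := by
      have := (mem_centralizer_iff.mp hx2) _ h1
      rw [← this]; group
    rw [e1, h2]
    exact E.mul_mem h1 (hx3 d hd)
  inv_mem' := by
    rintro x ⟨hx1, hx2, hx3⟩
    refine ⟨inv_mem hx1, inv_mem hx2, ?_⟩
    intro d hd
    have h1 : x * d * x⁻¹ * d⁻¹ ∈ E := hx3 d hd
    have e1 : x⁻¹ * d * x⁻¹⁻¹ * d⁻¹ = x⁻¹ * (x * d * x⁻¹ * d⁻¹)⁻¹ * x := by group
    have h2 : x⁻¹ * (x * d * x⁻¹ * d⁻¹)⁻¹ * x = (x * d * x⁻¹ * d⁻¹)⁻¹ := by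
      have := (mem_centralizer_iff.mp hx2) _ (E.inv_mem h1)
      calc x⁻¹ * (x * d * x⁻¹ * d⁻¹)⁻¹ * x = x⁻¹ * ((x * d * x⁻¹ * d⁻¹)⁻¹ * x) := by group
        _ = x⁻¹ * (x * (x * d * x⁻¹ * d⁻¹)⁻¹) := by rw [this]
        _ = (x * d * x⁻¹ * d⁻¹)⁻¹ := by group
    rw [e1, h2]
    exact E.inv_mem h1

theorem mem_chainStab {D E : Subgroup G} {x : G} : x ∈ chainStab D E ↔
    x ∈ normalizer (D : Set G) ∧ x ∈ centralizer (E : Set G) ∧
      ∀ d ∈ D, x * d * x⁻¹ * d⁻¹ ∈ E := Iff.rfl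

/-- powers of an element of the chain stabilizer -/
theorem chainStab_pow {D E : Subgroup G} {x : G} (hx : x ∈ chainStab D E) {d : G} (hd : d ∈ D)
    (n : ℕ) : x ^ n * d * (x ^ n)⁻¹ * d⁻¹ = (x * d * x⁻¹ * d⁻¹) ^ n := by
  obtain ⟨hx1, hx2, hx3⟩ := hx
  have h1 : x * d * x⁻¹ * d⁻¹ ∈ E := hx3 d hd
  induction n with
  | zero => simp
  | succ n ih =>
    have hn : (x * d * x⁻¹ * d⁻¹) ^ n ∈ E := E.pow_mem h1 n
    have hc : x * (x * d * x⁻¹ * d⁻¹) ^ n * x⁻¹ = (x * d * x⁻¹ * d⁻¹) ^ n := by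
      have := (mem_centralizer_iff.mp hx2) _ hn
      rw [← this]; group
    have e1 : x ^ (n + 1) * d * (x ^ (n + 1))⁻¹ * d⁻¹ =
        x * (x ^ n * d * (x ^ n)⁻¹ * d⁻¹) * x⁻¹ * (x * d * x⁻¹ * d⁻¹) := by
      rw [pow_succ']; group
    rw [e1, ih, hc, pow_succ]

variable [Finite G] {p : ℕ} [hp : Fact p.Prime]

/-- the chain stabilizer inside a group `L` of characteristic `p`, for `D = O_p(L)`, is a
`p`-group -/
theorem chainStab_isPGroup {L D E : Subgroup G} (hD : IsPGroup p D) (hED : E ≤ D)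
    (hL : L ⊓ centralizer (D : Set G) ≤ D) : IsPGroup p ↥(chainStab D E ⊓ L) := by
  have hE : IsPGroup p E := hD.to_le hED
  obtain ⟨i, hi⟩ := hE.exists_card_eq
  rw [IsPGroup]
  rintro ⟨x, hx⟩
  obtain ⟨hxS, hxL⟩ := Subgroup.mem_inf.mp hx
  -- `x ^ |E|` centralizes `D`
  have h1 : x ^ (p ^ i) ∈ centralizer (D : Set G) := by
    rw [mem_centralizer_iff]
    intro d hd
    have h2 := chainStab_pow hxS hd (p ^ i)
    have h3 : (x * d * x⁻¹ * d⁻¹) ^ (p ^ i) = 1 := by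
      have hm : x * d * x⁻¹ * d⁻¹ ∈ E := hxS.2.2 d hd
      have := pow_card_eq_one' (G := ↥E) (x := ⟨_, hm⟩)
      rw [hi] at this
      exact congrArg Subtype.val this
    rw [h3] at h2
    have : x ^ (p ^ i) * d = d * x ^ (p ^ i) := by
      calc x ^ (p ^ i) * d = (x ^ (p ^ i) * d * (x ^ (p ^ i))⁻¹ * d⁻¹) * d * x ^ (p ^ i) := by group
        _ = d * x ^ (p ^ i) := by rw [h2]; group
    exact this.symm
  have h4 : x ^ (p ^ i) ∈ D := hL (Subgroup.mem_inf.mpr ⟨L.pow_mem hxL _, h1⟩)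
  obtain ⟨j, hj⟩ := hD ⟨_, h4⟩
  refine ⟨i + j, ?_⟩
  apply Subtype.ext
  have := congrArg Subtype.val hj
  simp only [Subgroup.coe_pow, Subgroup.coe_one] at this ⊢
  rw [pow_add, pow_mul]
  exact this

/-- **inheritance of characteristic `p`** -/
theorem charP_inherit {L R H : Subgroup G}
    (hL : L ⊓ centralizer ((Cfsg.pCoreOf p L : Subgroup G) : Set G) ≤ Cfsg.pCoreOf p L)
    (hRH : R ≤ H) (hHL : H ≤ L) (hRp : IsPGroup p R)
    (hDR : Cfsg.pCoreOf p L ≤ normalizer (R : Set G))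
    (hCR : L ⊓ centralizer (R : Set G) ≤ R) :
    H ⊓ centralizer ((Cfsg.pCoreOf p H : Subgroup G) : Set G) ≤ Cfsg.pCoreOf p H := by
  obtain ⟨D, hD⟩ : ∃ D : Subgroup G, D = Cfsg.pCoreOf p L := ⟨_, rfl⟩
  obtain ⟨DH, hDH⟩ : ∃ DH : Subgroup G, DH = Cfsg.pCoreOf p H := ⟨_, rfl⟩
  rw [← hD] at hL hDR
  rw [← hDH]
  have hDp : IsPGroup p D := hD ▸ isPGroup_pCoreOf L
  have hDL : D ≤ L := hD ▸ pCoreOf_le L
  have hLD : L ≤ normalizer (D : Set G) := hD ▸ le_normalizer_pCoreOf L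
  have hDHp : IsPGroup p DH := hDH ▸ isPGroup_pCoreOf H
  have hDHH : DH ≤ H := hDH ▸ pCoreOf_le H
  have hHDH : H ≤ normalizer (DH : Set G) := hDH ▸ le_normalizer_pCoreOf H
  obtain ⟨E, hE⟩ : ∃ E : Subgroup G, E = R ⊓ D := ⟨_, rfl⟩
  have hED : E ≤ D := hE ▸ inf_le_right
  have hER : E ≤ R := hE ▸ inf_le_left
  -- `E ≤ O_p(H)`
  have hHD : H ⊓ D ≤ DH := by
    rw [hDH]
    apply le_pCoreOf inf_le_left _ (hDp.to_le inf_le_right)
    exact (le_inf le_normalizer (hHL.trans hLD)).trans Subgroup.inf_normalizer_le_normalizer_inf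
  have hEDH : E ≤ DH := (le_inf (hER.trans hRH) hED).trans hHD
  obtain ⟨C, hC⟩ : ∃ C : Subgroup G, C = H ⊓ centralizer (DH : Set G) := ⟨_, rfl⟩
  rw [← hC]
  have hCH : C ≤ H := hC ▸ inf_le_left
  have hCcent : C ≤ centralizer (DH : Set G) := hC ▸ inf_le_right
  have hHC : H ≤ normalizer (C : Set G) := by
    rw [hC]
    exact (le_inf le_normalizer (hHDH.trans
      (Cfsg.Agent.Lib.Helper55.normalizer_le_normalizer_centralizer DH))).trans
      Subgroup.inf_normalizer_le_normalizer_inf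
  have hCE : C ≤ centralizer (E : Set G) :=
    hCcent.trans (centralizer_le (by exact_mod_cast hEDH))
  -- `[R, D] ≤ E`, elementwise
  have hRD : ∀ r ∈ R, ∀ d ∈ D, r * d * r⁻¹ * d⁻¹ ∈ E := by
    intro r hr d hd
    rw [hE]
    refine Subgroup.mem_inf.mpr ⟨?_, ?_⟩
    · have h1 : d * r⁻¹ * d⁻¹ ∈ R :=
        (mem_normalizer_iff.mp (hDR hd) r⁻¹).mp (R.inv_mem hr)
      have : r * d * r⁻¹ * d⁻¹ = r * (d * r⁻¹ * d⁻¹) := by group
      rw [this]
      exact R.mul_mem hr h1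
    · have h1 : r * d * r⁻¹ ∈ D := (mem_normalizer_iff.mp (hLD (hHL (hRH hr))) d).mp hd
      exact D.mul_mem h1 (D.inv_mem hd)
  have hRE : R ≤ normalizer (E : Set G) := by
    rw [hE]
    exact (le_inf le_normalizer ((hRH.trans hHL).trans hLD)).trans
      Subgroup.inf_normalizer_le_normalizer_inf
  -- commutators `[c, r]` lie in the chain stabilizer
  have hcomm : ∀ c ∈ C, ∀ r ∈ R, c * r * c⁻¹ * r⁻¹ ∈ chainStab D E ⊓ C := by
    intro c hc r hr
    have hcL : c ∈ L := hHL (hCH hc)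
    have hrL : r ∈ L := hHL (hRH hr)
    have hcE := mem_centralizer_iff.mp (hCE hc)
    have hcEi : ∀ e ∈ E, c * e * c⁻¹ = e := by
      intro e he
      have := hcE e he
      rw [← this]; group
    have hcEi' : ∀ e ∈ E, c⁻¹ * e * c = e := by
      intro e he
      have := hcE e he
      calc c⁻¹ * e * c = c⁻¹ * (e * c) := by group
        _ = c⁻¹ * (c * e) := by rw [this]
        _ = e := by group
    refine Subgroup.mem_inf.mpr ⟨⟨?_, ?_, ?_⟩, ?_⟩
    · exact mul_mem (mul_mem (mul_mem (hLD hcL) (hLD hrL)) (inv_mem (hLD hcL)))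
        (inv_mem (hLD hrL))
    · rw [mem_centralizer_iff]
      intro e he
      have h1 : r⁻¹ * e * r ∈ E := by
        have := (mem_normalizer_iff.mp (hRE (R.inv_mem hr)) e).mp he
        simpa using this
      have h2 : c⁻¹ * (r⁻¹ * e * r) * c = r⁻¹ * e * r := hcEi' _ h1
      have h3 : c * e * c⁻¹ = e := hcEi e he
      have key : (c * r * c⁻¹ * r⁻¹) * e * (c * r * c⁻¹ * r⁻¹)⁻¹ = e := by
        calc (c * r * c⁻¹ * r⁻¹) * e * (c * r * c⁻¹ * r⁻¹)⁻¹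
            = c * r * (c⁻¹ * (r⁻¹ * e * r) * c) * r⁻¹ * c⁻¹ := by group
          _ = c * r * (r⁻¹ * e * r) * r⁻¹ * c⁻¹ := by rw [h2]
          _ = c * e * c⁻¹ := by group
          _ = e := h3
      calc e * (c * r * c⁻¹ * r⁻¹)
          = ((c * r * c⁻¹ * r⁻¹) * e * (c * r * c⁻¹ * r⁻¹)⁻¹) * (c * r * c⁻¹ * r⁻¹) := by rw [key]
        _ = (c * r * c⁻¹ * r⁻¹) * e := by group
    · intro d hd
      -- the computation modulo `E`
      obtain ⟨e₁, he₁⟩ : ∃ e₁ : G, e₁ = r⁻¹ * d * r⁻¹⁻¹ * d⁻¹ := ⟨_, rfl⟩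
      have he₁E : e₁ ∈ E := he₁ ▸ hRD r⁻¹ (R.inv_mem hr) d hd
      obtain ⟨d₂, hd₂⟩ : ∃ d₂ : G, d₂ = c⁻¹ * d * c := ⟨_, rfl⟩
      have hd₂D : d₂ ∈ D := by
        have := (mem_normalizer_iff.mp (inv_mem (hLD hcL)) d).mp hd
        rw [hd₂]; simpa using this
      obtain ⟨e₂, he₂⟩ : ∃ e₂ : G, e₂ = r * d₂ * r⁻¹ * d₂⁻¹ := ⟨_, rfl⟩
      have he₂E : e₂ ∈ E := he₂ ▸ hRD r hr d₂ hd₂D
      obtain ⟨e₁', he₁'⟩ : ∃ e₁' : G, e₁' = r * e₁ * r⁻¹ := ⟨_, rfl⟩
      have he₁'E : e₁' ∈ E := by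
        rw [he₁']
        exact (mem_normalizer_iff.mp (hRE hr) e₁).mp he₁E
      have k1 : c⁻¹ * e₁ * c = e₁ := hcEi' e₁ he₁E
      have k2 : c * (e₁' * e₂) * c⁻¹ = e₁' * e₂ := hcEi _ (E.mul_mem he₁'E he₂E)
      have key : (c * r * c⁻¹ * r⁻¹) * d * (c * r * c⁻¹ * r⁻¹)⁻¹ * d⁻¹ = e₁' * e₂ := by
        have s1 : r⁻¹ * d * r = e₁ * d := by rw [he₁]; group
        have s2 : c⁻¹ * (e₁ * d) * c = e₁ * d₂ := by
          calc c⁻¹ * (e₁ * d) * c = (c⁻¹ * e₁ * c) * (c⁻¹ * d * c) := by group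
            _ = e₁ * d₂ := by rw [k1, hd₂]
        have s3 : r * (e₁ * d₂) * r⁻¹ = e₁' * e₂ * d₂ := by
          rw [he₁', he₂]; group
        have s4 : c * (e₁' * e₂ * d₂) * c⁻¹ = e₁' * e₂ * d := by
          calc c * (e₁' * e₂ * d₂) * c⁻¹ = (c * (e₁' * e₂) * c⁻¹) * (c * d₂ * c⁻¹) := by group
            _ = e₁' * e₂ * d := by rw [k2, hd₂]; group
        calc (c * r * c⁻¹ * r⁻¹) * d * (c * r * c⁻¹ * r⁻¹)⁻¹ * d⁻¹
            = c * (r * (c⁻¹ * (r⁻¹ * d * r) * c) * r⁻¹) * c⁻¹ * d⁻¹ := by group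
          _ = c * (r * (c⁻¹ * (e₁ * d) * c) * r⁻¹) * c⁻¹ * d⁻¹ := by rw [s1]
          _ = c * (r * (e₁ * d₂) * r⁻¹) * c⁻¹ * d⁻¹ := by rw [s2]
          _ = c * (e₁' * e₂ * d₂) * c⁻¹ * d⁻¹ := by rw [s3]
          _ = e₁' * e₂ * d * d⁻¹ := by rw [s4]
          _ = e₁' * e₂ := by group
      rw [key]
      exact E.mul_mem he₁'E he₂E
    · have h1 : r * c⁻¹ * r⁻¹ ∈ C :=
        (mem_normalizer_iff.mp (hHC (hRH hr)) c⁻¹).mp (C.inv_mem hc)
      have : c * r * c⁻¹ * r⁻¹ = c * (r * c⁻¹ * r⁻¹) := by group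
      rw [this]
      exact C.mul_mem hc h1
  -- the normal `p`-subgroup `P₀` of `C`
  obtain ⟨P₀, hP₀⟩ : ∃ P₀ : Subgroup G, P₀ = chainStab D E ⊓ C := ⟨_, rfl⟩
  have hP₀p : IsPGroup p P₀ := by
    have h1 : IsPGroup p ↥(chainStab D E ⊓ L) := chainStab_isPGroup hDp hED hL
    rw [hP₀]
    exact h1.to_le (inf_le_inf_left _ (hCH.trans hHL))
  have hP₀C : P₀ ≤ C := hP₀ ▸ inf_le_right
  have hCP₀ : C ≤ normalizer (P₀ : Set G) := by
    intro c hc
    have hcL : c ∈ L := hHL (hCH hc)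
    have hcE := mem_centralizer_iff.mp (hCE hc)
    have hcEi : ∀ e ∈ E, c * e * c⁻¹ = e := by
      intro e he
      have := hcE e he
      rw [← this]; group
    have hcEi' : ∀ e ∈ E, c⁻¹ * e * c = e := by
      intro e he
      have := hcE e he
      calc c⁻¹ * e * c = c⁻¹ * (e * c) := by group
        _ = c⁻¹ * (c * e) := by rw [this]
        _ = e := by group
    -- conjugation by an element of `C` preserves `P₀`
    have hconj : ∀ c' ∈ C, ∀ x ∈ P₀, c' * x * c'⁻¹ ∈ P₀ := by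
      intro c' hc' x hx
      have hc'L : c' ∈ L := hHL (hCH hc')
      have hc'E := mem_centralizer_iff.mp (hCE hc')
      have hc'Ei : ∀ e ∈ E, c' * e * c'⁻¹ = e := by
        intro e he
        have := hc'E e he
        rw [← this]; group
      have hc'Ei' : ∀ e ∈ E, c'⁻¹ * e * c' = e := by
        intro e he
        have := hc'E e he
        calc c'⁻¹ * e * c' = c'⁻¹ * (e * c') := by group
          _ = c'⁻¹ * (c' * e) := by rw [this]
          _ = e := by group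
      rw [hP₀] at hx ⊢
      obtain ⟨⟨hx1, hx2, hx3⟩, hxC⟩ := Subgroup.mem_inf.mp hx
      refine Subgroup.mem_inf.mpr ⟨⟨?_, ?_, ?_⟩, ?_⟩
      · exact mul_mem (mul_mem (hLD hc'L) hx1) (inv_mem (hLD hc'L))
      · rw [mem_centralizer_iff]
        intro e he
        have h1 := (mem_centralizer_iff.mp hx2) e he
        have key : (c' * x * c'⁻¹) * e * (c' * x * c'⁻¹)⁻¹ = e := by
          calc (c' * x * c'⁻¹) * e * (c' * x * c'⁻¹)⁻¹
              = c' * (x * (c'⁻¹ * e * c') * x⁻¹) * c'⁻¹ := by group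
            _ = c' * (x * e * x⁻¹) * c'⁻¹ := by rw [hc'Ei' e he]
            _ = c' * (e * x * x⁻¹) * c'⁻¹ := by rw [h1]
            _ = c' * e * c'⁻¹ := by group
            _ = e := hc'Ei e he
        calc e * (c' * x * c'⁻¹) = ((c' * x * c'⁻¹) * e * (c' * x * c'⁻¹)⁻¹) * (c' * x * c'⁻¹) := by
              rw [key]
          _ = (c' * x * c'⁻¹) * e := by group
      · intro d hd
        obtain ⟨d', hd'⟩ : ∃ d' : G, d' = c'⁻¹ * d * c' := ⟨_, rfl⟩
        have hd'D : d' ∈ D := by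
          have := (mem_normalizer_iff.mp (inv_mem (hLD hc'L)) d).mp hd
          rw [hd']; simpa using this
        have h1 : x * d' * x⁻¹ * d'⁻¹ ∈ E := hx3 d' hd'D
        have key : (c' * x * c'⁻¹) * d * (c' * x * c'⁻¹)⁻¹ * d⁻¹ = x * d' * x⁻¹ * d'⁻¹ := by
          calc (c' * x * c'⁻¹) * d * (c' * x * c'⁻¹)⁻¹ * d⁻¹
              = c' * (x * (c'⁻¹ * d * c') * x⁻¹ * (c'⁻¹ * d * c')⁻¹) * c'⁻¹ := by group
            _ = c' * (x * d' * x⁻¹ * d'⁻¹) * c'⁻¹ := by rw [hd']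
            _ = x * d' * x⁻¹ * d'⁻¹ := hc'Ei _ h1
        rw [key]; exact h1
      · exact (mem_normalizer_iff.mp (le_normalizer hc') x).mp hxC
    rw [mem_normalizer_iff]
    intro x
    constructor
    · exact hconj c hc x
    · intro hx
      have := hconj c⁻¹ (C.inv_mem hc) _ hx
      have e : c⁻¹ * (c * x * c⁻¹) * c⁻¹⁻¹ = x := by group
      rwa [e] at this
  -- `P₀ ≤ O_p(C) ≤ O_p(H)`
  have hP₀core : P₀ ≤ Cfsg.pCoreOf p C := le_pCoreOf hP₀C hCP₀ hP₀p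
  have hcoreC : Cfsg.pCoreOf p C ≤ DH := by
    rw [hDH]
    apply le_pCoreOf ((pCoreOf_le C).trans hCH) _ (isPGroup_pCoreOf C)
    exact hHC.trans (normalizer_le_normalizer_pCoreOf C)
  have hP₀DH : P₀ ≤ DH := hP₀core.trans hcoreC
  -- elements of `C` of order prime to `p` centralize `R`, hence are trivial
  have hp' : ∀ c ∈ C, (orderOf c).Coprime p → c = 1 := by
    intro c hc hcop
    have hcR : c ∈ centralizer (R : Set G) := by
      rw [mem_centralizer_iff]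
      intro r hr
      obtain ⟨x, hx⟩ : ∃ x : G, x = c * r * c⁻¹ * r⁻¹ := ⟨_, rfl⟩
      have hxP₀ : x ∈ P₀ := by rw [hx, hP₀]; exact hcomm c hc r hr
      have hxDH : x ∈ DH := hP₀DH hxP₀
      -- `c` commutes with `x`
      have hcx : x * c = c * x := (mem_centralizer_iff.mp (hCcent hc)) x hxDH
      -- `r c r⁻¹ = x⁻¹ c`
      have e1 : r * c * r⁻¹ = x⁻¹ * c := by rw [hx]; group
      have hcomm' : Commute x⁻¹ c := by
        have : Commute x c := hcx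
        exact this.inv_left
      -- orders
      obtain ⟨n, hn⟩ : ∃ n : ℕ, n = orderOf c := ⟨_, rfl⟩
      have h1 : (r * c * r⁻¹) ^ n = 1 := by
        have : (r * c * r⁻¹) ^ n = r * c ^ n * r⁻¹ := by
          rw [← conj_pow]
        rw [this, hn, pow_orderOf_eq_one]; group
      rw [e1, hcomm'.mul_pow, hn, pow_orderOf_eq_one, mul_one, ← hn] at h1
      -- `x⁻¹` has `p`-power order and `x⁻¹ ^ n = 1` with `n` prime to `p`
      obtain ⟨k, hk⟩ := hDHp ⟨x⁻¹, DH.inv_mem hxDH⟩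
      have hk' : x⁻¹ ^ (p ^ k) = 1 := by
        have := congrArg Subtype.val hk
        simpa using this
      have h2 : orderOf x⁻¹ ∣ n := orderOf_dvd_of_pow_eq_one h1
      have h3 : orderOf x⁻¹ ∣ p ^ k := orderOf_dvd_of_pow_eq_one hk'
      have h4 : (orderOf x⁻¹).Coprime (orderOf x⁻¹) := by
        apply Nat.Coprime.coprime_dvd_left h2
        apply Nat.Coprime.coprime_dvd_right h3
        rw [hn]
        exact Nat.Coprime.pow_right k hcop
      have h5 : orderOf x⁻¹ = 1 := (Nat.coprime_self _).mp h4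
      have h6 : x⁻¹ = 1 := orderOf_eq_one_iff.mp h5
      have h7 : x = 1 := inv_eq_one.mp h6
      rw [hx] at h7
      calc r * c = (c * r * c⁻¹ * r⁻¹)⁻¹ * (c * r) := by group
        _ = c * r := by rw [h7]; group
    have hcR' : c ∈ R := hCR (Subgroup.mem_inf.mpr ⟨hHL (hCH hc), hcR⟩)
    obtain ⟨k, hk⟩ := hRp ⟨c, hcR'⟩
    have hk' : c ^ (p ^ k) = 1 := by
      have := congrArg Subtype.val hk
      simpa using this
    have h3 : orderOf c ∣ p ^ k := orderOf_dvd_of_pow_eq_one hk'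
    have h4 : (orderOf c).Coprime (orderOf c) :=
      Nat.Coprime.coprime_dvd_right h3 (Nat.Coprime.pow_right k hcop)
    exact orderOf_eq_one_iff.mp ((Nat.coprime_self _).mp h4)
  -- hence `C` is a `p`-group
  have hCp : IsPGroup p C := by
    rw [IsPGroup]
    rintro ⟨c, hc⟩
    obtain ⟨k, m, hm, hkm⟩ := Nat.exists_eq_pow_mul_and_not_dvd (orderOf_pos c).ne' p
      hp.out.ne_one
    refine ⟨k, ?_⟩
    apply Subtype.ext
    simp only [Subgroup.coe_pow, Subgroup.coe_one]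
    have h1 : (orderOf (c ^ (p ^ k))).Coprime p := by
      rw [orderOf_pow' c (pow_ne_zero k hp.out.ne_zero), hkm,
        Nat.gcd_eq_right (Dvd.intro _ rfl), Nat.mul_div_cancel_left _ (pow_pos hp.out.pos k)]
      exact ((Nat.Prime.coprime_iff_not_dvd hp.out).mpr hm).symm
    exact hp' _ (C.pow_mem hc _) h1
  rw [hDH]
  exact le_pCoreOf hCH hHC hCp

end CharPInherit

end Cfsg.Agent.Lib.Helper52
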