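import Mathlib

/-!
# The commutator map `v ↦ [v, a]` on an abelian subgroup `V` normalized by `a`
-/

set_option autoImplicit false

namespace Cfsg.Agent.Lib.Helper52

open Subgroup
open scoped commutatorElement

section CommHom

variable {G : Type*} [Group G]

theorem commutatorElement_mem_of_mem_normalizer {V : Subgroup G} {a v : G}
    (ha : a ∈ normalizer (V : Set G)) (hv : v ∈ V) : ⁅v, a⁆ ∈ V := by
  have h1 : a * v⁻¹ * a⁻¹ ∈ V := (mem_normalizer_iff.mp ha v⁻¹).mp (V.inv_mem hv)
  have : ⁅v, a⁆ = v * (a * v⁻¹ * a⁻¹) := by rw [commutatorElement_def]; group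
  rw [this]
  exact V.mul_mem hv h1

/-- `v ↦ [v, a]` as an endomorphism of the abelian subgroup `V`. -/
def commHom (V : Subgroup G) (hVc : ∀ x ∈ V, ∀ y ∈ V, x * y = y * x) (a : G)
    (ha : a ∈ normalizer (V : Set G)) : V →* V where
  toFun v := ⟨⁅(v : G), a⁆, commutatorElement_mem_of_mem_normalizer ha v.2⟩
  map_one' := by
    apply Subtype.ext
    simp
  map_mul' := by
    intro v w
    apply Subtype.ext
    have h1 : a * (v : G)⁻¹ * a⁻¹ ∈ V := (mem_normalizer_iff.mp ha _).mp (V.inv_mem v.2)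
    have h2 : ⁅(w : G), a⁆ ∈ V := commutatorElement_mem_of_mem_normalizer ha w.2
    have h3 := hVc _ h2 _ h1
    show ⁅(v : G) * (w : G), a⁆ = ⁅(v : G), a⁆ * ⁅(w : G), a⁆
    calc ⁅(v : G) * (w : G), a⁆ = (v : G) * (⁅(w : G), a⁆ * (a * (v : G)⁻¹ * a⁻¹)) := by
          simp only [commutatorElement_def]; group
      _ = (v : G) * ((a * (v : G)⁻¹ * a⁻¹) * ⁅(w : G), a⁆) := by rw [h3]
      _ = ⁅(v : G), a⁆ * ⁅(w : G), a⁆ := by simp only [commutatorElement_def]; group

@[simp] theorem commHom_apply (V : Subgroup G) (hVc : ∀ x ∈ V, ∀ y ∈ V, x * y = y * x) (a : G)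
    (ha : a ∈ normalizer (V : Set G)) (v : V) :
    ((commHom V hVc a ha v : V) : G) = ⁅(v : G), a⁆ := rfl

theorem commHom_ker (V : Subgroup G) (hVc : ∀ x ∈ V, ∀ y ∈ V, x * y = y * x) (a : G)
    (ha : a ∈ normalizer (V : Set G)) :
    (commHom V hVc a ha).ker = (centralizer ({a} : Set G)).subgroupOf V := by
  ext v
  rw [MonoidHom.mem_ker, mem_subgroupOf, mem_centralizer_iff]
  constructor
  · intro h x hx
    rw [Set.mem_singleton_iff] at hx
    subst hx
    have h1 : ⁅(v : G), x⁆ = 1 := congrArg Subtype.val h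
    rw [commutatorElement_eq_one_iff_mul_comm] at h1
    exact h1.symm
  · intro h
    apply Subtype.ext
    show ⁅(v : G), a⁆ = 1
    rw [commutatorElement_eq_one_iff_mul_comm]
    exact (h a rfl).symm

theorem centralizer_zpowers_eq (a : G) :
    centralizer ((zpowers a : Subgroup G) : Set G) = centralizer ({a} : Set G) := by
  apply le_antisymm
  · exact centralizer_le (by
      intro x hx
      rw [Set.mem_singleton_iff] at hx
      subst hx
      exact mem_zpowers x)
  · intro g hg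
    have h1 : a ∈ centralizer ({g} : Set G) := by
      rw [mem_centralizer_iff]
      intro x hx
      rw [Set.mem_singleton_iff] at hx
      subst hx
      exact ((mem_centralizer_iff.mp hg) a rfl).symm
    have h2 : zpowers a ≤ centralizer ({g} : Set G) := zpowers_le.mpr h1
    rw [mem_centralizer_iff]
    intro x hx
    exact ((mem_centralizer_iff.mp (h2 hx)) g rfl).symm

/-- `[V, ⟨a⟩]` is the image of the commutator map. -/
theorem commutator_zpowers_eq_range [Finite G] (V : Subgroup G)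
    (hVc : ∀ x ∈ V, ∀ y ∈ V, x * y = y * x) (a : G) (ha : a ∈ normalizer (V : Set G)) :
    ⁅V, zpowers a⁆ = (commHom V hVc a ha).range.map V.subtype := by
  apply le_antisymm
  · rw [commutator_le]
    intro v hv g hg
    rw [← mem_powers_iff_mem_zpowers, Submonoid.mem_powers_iff] at hg
    obtain ⟨k, rfl⟩ := hg
    induction k generalizing v with
    | zero =>
      rw [pow_zero]
      simp
    | succ k ih =>
      have hak : a ^ k ∈ normalizer (V : Set G) := pow_mem ha k
      have hv' : a ^ k * v * (a ^ k)⁻¹ ∈ V := (mem_normalizer_iff.mp hak v).mp hv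
      have e : ⁅v, a ^ (k + 1)⁆ = ⁅v, a ^ k⁆ * ⁅a ^ k * v * (a ^ k)⁻¹, a⁆ := by
        rw [pow_succ]
        simp only [commutatorElement_def]
        have hc : a ^ k * a = a * a ^ k := (pow_succ a k).symm.trans (pow_succ' a k)
        have hc2 : (a ^ k)⁻¹ * a⁻¹ = a⁻¹ * (a ^ k)⁻¹ := by
          rw [← mul_inv_rev, ← mul_inv_rev, hc]
        calc v * (a ^ k * a) * v⁻¹ * (a ^ k * a)⁻¹
            = v * a ^ k * a * v⁻¹ * (a⁻¹ * (a ^ k)⁻¹) := by rw [mul_inv_rev]; group
          _ = v * a ^ k * a * v⁻¹ * ((a ^ k)⁻¹ * a⁻¹) := by rw [hc2]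
          _ = v * a ^ k * v⁻¹ * (a ^ k)⁻¹ * (a ^ k * v * (a ^ k)⁻¹ * a *
                (a ^ k * v * (a ^ k)⁻¹)⁻¹ * a⁻¹) := by
              have : a ^ k * v * (a ^ k)⁻¹ * a * (a ^ k * v * (a ^ k)⁻¹)⁻¹ * a⁻¹
                  = a ^ k * v * ((a ^ k)⁻¹ * a * a ^ k) * v⁻¹ * (a ^ k)⁻¹ * a⁻¹ := by group
              rw [this]
              have h3 : (a ^ k)⁻¹ * a * a ^ k = a := by
                rw [mul_assoc, ← hc, ← mul_assoc, inv_mul_cancel, one_mul]
              rw [h3]
              group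
      rw [e]
      refine mul_mem (ih v hv) ?_
      exact ⟨⟨_, _⟩, ⟨⟨a ^ k * v * (a ^ k)⁻¹, hv'⟩, rfl⟩, rfl⟩
  · rintro _ ⟨_, ⟨v, rfl⟩, rfl⟩
    exact commutator_mem_commutator v.2 (mem_zpowers a)

/-- `|[V, ⟨a⟩]| * |C_V(a)| = |V|`. -/
theorem card_commutator_zpowers_mul [Finite G] (V : Subgroup G)
    (hVc : ∀ x ∈ V, ∀ y ∈ V, x * y = y * x) (a : G) (ha : a ∈ normalizer (V : Set G)) :
    Nat.card ↥⁅V, zpowers a⁆ * Nat.card ↥(V ⊓ centralizer ((zpowers a : Subgroup G) : Set G)) =
      Nat.card V := by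
  rw [commutator_zpowers_eq_range V hVc a ha, centralizer_zpowers_eq]
  have h1 : Nat.card ↥((commHom V hVc a ha).range.map V.subtype) =
      Nat.card (commHom V hVc a ha).range :=
    Nat.card_congr ((commHom V hVc a ha).range.equivMapOfInjective V.subtype
      V.subtype_injective).symm.toEquiv
  have h2 : Nat.card ↥(V ⊓ centralizer ({a} : Set G)) =
      Nat.card ↥((centralizer ({a} : Set G)).subgroupOf V) := by
    rw [inf_comm, ← Subgroup.inf_subgroupOf_right (centralizer ({a} : Set G)) V]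
    exact Nat.card_congr (Subgroup.subgroupOfEquivOfLe (inf_le_right)).symm.toEquiv
  rw [h1, h2, ← commHom_ker V hVc a ha]
  have h3 := Subgroup.card_eq_card_quotient_mul_card_subgroup (commHom V hVc a ha).ker
  rw [h3]
  congr 1
  exact Nat.card_congr (QuotientGroup.quotientKerEquivRange (commHom V hVc a ha)).symm.toEquiv

end CommHom

end Cfsg.Agent.Lib.Helper52
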