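import Mathlib
import Cfsg.Agent.Lib.Helper30.Generation
import Cfsg.Agent.Lib.Helper28.AxB
import Cfsg.Agent.Lib.Helper01.Coprime

/-!
# Elementary abelian `p`-groups acting faithfully on a `p'`-group which acts faithfully on a `p`-group

Core of Kurzweil–Stellmacher §9.3: if `K` is a `p'`-group acting faithfully on the `p`-group `V`
and `A` is an elementary abelian `p`-group acting on `V` and faithfully on `K`, then
`|A| * |C_V(A)| ≤ |V|`, and in case of equality `A` is a direct product of subgroups `B` of order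
`p` with `|V : C_V(B)| = p`.
-/

set_option autoImplicit false

namespace Cfsg.Agent.Lib.Helper52

open Subgroup
open scoped commutatorElement

section FFCore

variable {G : Type*} [Group G]

/-- `V` is a `p`-group and `K` a `p'`-group acting faithfully on `V`. -/
structure FFSetup (p : ℕ) (V K : Subgroup G) : Prop where
  hVp : IsPGroup p V
  hKV : K ≤ normalizer (V : Set G)
  hKp : ¬ p ∣ Nat.card K
  hKf : K ⊓ centralizer (V : Set G) = ⊥

/-- `A` is an elementary abelian `p`-group acting on `V` and faithfully on `K`. -/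
structure FFActs (p : ℕ) (V K A : Subgroup G) : Prop where
  hAc : ∀ x ∈ A, ∀ y ∈ A, x * y = y * x
  hAp : ∀ x ∈ A, x ^ p = 1
  hAV : A ≤ normalizer (V : Set G)
  hAK : A ≤ normalizer (K : Set G)
  hAf : A ⊓ centralizer (K : Set G) = ⊥

theorem FFActs.mono {p : ℕ} {V K A B : Subgroup G} (hA : FFActs p V K A) (hBA : B ≤ A) :
    FFActs p V K B where
  hAc := fun x hx y hy => hA.hAc x (hBA hx) y (hBA hy)
  hAp := fun x hx => hA.hAp x (hBA hx)
  hAV := hBA.trans hA.hAV
  hAK := hBA.trans hA.hAK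
  hAf := le_bot_iff.mp ((inf_le_inf_right _ hBA).trans hA.hAf.le)

theorem FFActs.isPGroup {p : ℕ} {V K A : Subgroup G} (hA : FFActs p V K A) : IsPGroup p A := by
  intro g
  refine ⟨1, ?_⟩
  rw [pow_one]
  exact Subtype.ext (hA.hAp g g.2)

theorem FFActs.le_centralizer {p : ℕ} {V K A B : Subgroup G} (hA : FFActs p V K A) (hBA : B ≤ A) :
    A ≤ centralizer (B : Set G) := by
  intro a ha
  rw [mem_centralizer_iff]
  intro b hb
  exact hA.hAc b (hBA hb) a ha

variable [Finite G] {p : ℕ} [hp : Fact p.Prime]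

/-- The key step: if the hyperplane `B` of `A` has `[C_K(B), A] ≠ 1` then `C_V(A) < C_V(B)`. -/
theorem ff_step {V K A B : Subgroup G} (hS : FFSetup p V K) (hA : FFActs p V K A) (hBA : B ≤ A)
    (hL : ⁅K ⊓ centralizer (B : Set G), A⁆ ≠ ⊥) :
    V ⊓ centralizer (A : Set G) < V ⊓ centralizer (B : Set G) := by
  have hle : V ⊓ centralizer (A : Set G) ≤ V ⊓ centralizer (B : Set G) :=
    inf_le_inf_left _ (centralizer_le hBA)
  refine lt_of_le_of_ne hle ?_
  intro heq
  apply hL
  have hUA : V ⊓ centralizer (B : Set G) ≤ centralizer (A : Set G) := heq ▸ inf_le_right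
  set X := K ⊓ centralizer (B : Set G) with hX
  have hAB : A ≤ centralizer (B : Set G) := hA.le_centralizer hBA
  have hBB : B ≤ centralizer (B : Set G) := hBA.trans hAB
  -- `L ≤ K`
  have hLK : ⁅X, A⁆ ≤ K := by
    rw [commutator_le]
    intro x hx a ha
    have hxK : x ∈ K := hx.1
    have : a * x⁻¹ * a⁻¹ ∈ K := (mem_normalizer_iff.mp (hA.hAK ha) x⁻¹).mp (K.inv_mem hxK)
    have h2 : ⁅x, a⁆ = x * (a * x⁻¹ * a⁻¹) := by rw [commutatorElement_def]; group
    rw [h2]
    exact K.mul_mem hxK this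
  have hLB : ⁅X, A⁆ ≤ centralizer (B : Set G) := by
    rw [commutator_le]
    intro x hx a ha
    rw [commutatorElement_def]
    exact mul_mem (mul_mem (mul_mem hx.2 (hAB ha)) (inv_mem hx.2)) (inv_mem (hAB ha))
  have hLU : ⁅X, A⁆ ≤ centralizer ((V ⊓ centralizer (B : Set G) : Subgroup G) : Set G) := by
    rw [commutator_le]
    intro x hx a ha
    rw [mem_centralizer_iff]
    intro u hu
    have h1 : u * a = a * u := (mem_centralizer_iff.mp (hUA hu)) a ha |>.symm
    have hu' : x⁻¹ * u * x ∈ V ⊓ centralizer (B : Set G) := by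
      refine Subgroup.mem_inf.mpr ⟨?_, ?_⟩
      · have := (mem_normalizer_iff.mp (hS.hKV (K.inv_mem hx.1)) u).mp hu.1
        simpa using this
      · exact mul_mem (mul_mem (inv_mem hx.2) hu.2) hx.2
    have h2 : (x⁻¹ * u * x) * a = a * (x⁻¹ * u * x) :=
      (mem_centralizer_iff.mp (hUA hu')) a ha |>.symm
    have h1' : a⁻¹ * u = u * a⁻¹ := by
      have : u = a * u * a⁻¹ := by rw [← h1]; group
      calc a⁻¹ * u = a⁻¹ * (a * u * a⁻¹) := by rw [← this]
        _ = u * a⁻¹ := by group
    rw [commutatorElement_def]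
    calc u * (x * a * x⁻¹ * a⁻¹) = x * ((x⁻¹ * u * x) * a) * x⁻¹ * a⁻¹ := by group
      _ = x * (a * (x⁻¹ * u * x)) * x⁻¹ * a⁻¹ := by rw [h2]
      _ = x * a * x⁻¹ * (u * a⁻¹) := by group
      _ = x * a * x⁻¹ * (a⁻¹ * u) := by rw [h1']
      _ = x * a * x⁻¹ * a⁻¹ * u := by group
  have hQ : IsPGroup p ↥(V ⊔ B) :=
    IsPGroup.to_sup_of_normal_left' hS.hVp (hA.isPGroup.to_le hBA) (hBA.trans hA.hAV)
  have hcopL : ∀ x ∈ ⁅X, A⁆, (orderOf x).Coprime p := by
    intro x hx
    have h1 : orderOf x ∣ Nat.card K := by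
      have := orderOf_dvd_natCard (⟨x, hLK hx⟩ : K)
      rwa [Subgroup.orderOf_mk] at this
    exact (Nat.Coprime.coprime_dvd_left h1
      ((Nat.Prime.coprime_iff_not_dvd hp.out).mpr hS.hKp).symm)
  have hLQ : ⁅X, A⁆ ≤ normalizer ((V ⊔ B : Subgroup G) : Set G) :=
    Cfsg.Agent.Lib.Helper28.le_normalizer_sup (hLK.trans hS.hKV)
      (hLB.trans (centralizer_le_normalizer _))
  have hLP : ⁅⁅X, A⁆, B⁆ = ⊥ := (commutator_eq_bot_iff_le_centralizer).mpr hLB
  have hLC : ⁅⁅X, A⁆, (V ⊔ B) ⊓ centralizer (B : Set G)⁆ = ⊥ := by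
    rw [commutator_eq_bot_iff_le_centralizer]
    intro l hl
    rw [mem_centralizer_iff]
    intro y hy
    have hy1 : y ∈ B ⊔ V := by rw [sup_comm]; exact hy.1
    obtain ⟨b, hb, v, hv, rfl⟩ :=
      Cfsg.Agent.Lib.Helper01.exists_mul_of_mem_sup (hBA.trans hA.hAV) hy1
    have hvC : v ∈ centralizer (B : Set G) := by
      have : v = b⁻¹ * (b * v) := by group
      rw [this]
      exact mul_mem (inv_mem (hBB hb)) hy.2
    have e1 : b * l = l * b := (mem_centralizer_iff.mp (hLB hl)) b hb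
    have e2 : v * l = l * v := (mem_centralizer_iff.mp (hLU hl)) v ⟨hv, hvC⟩
    calc b * v * l = b * (v * l) := by group
      _ = b * (l * v) := by rw [e2]
      _ = (b * l) * v := by group
      _ = l * b * v := by rw [e1]
      _ = l * (b * v) := by group
  have hmain := Cfsg.Agent.Lib.Helper28.pClosing_centralizes_pgroup (p := p) ⁅X, A⁆ (V ⊔ B) B hQ
    (Cfsg.Agent.Lib.Helper28.pClosing_of_coprime p hcopL) hLQ le_sup_right hLP hLC
  rw [commutator_eq_bot_iff_le_centralizer] at hmain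
  have : ⁅X, A⁆ ≤ K ⊓ centralizer (V : Set G) :=
    le_inf hLK (hmain.trans (centralizer_le (by exact_mod_cast (le_sup_left : V ≤ V ⊔ B))))
  rw [hS.hKf] at this
  exact le_bot_iff.mp this


omit [Finite G] in
/-- In a finite `p`-group a proper subgroup has index at least `p`. -/
theorem ff_card_mul_le_of_lt {P Q : Subgroup G} [Finite Q] (hQ : IsPGroup p Q) (h : P < Q) :
    p * Nat.card P ≤ Nat.card Q := by
  haveI : Finite P := Finite.of_injective (Subgroup.inclusion h.le) (Subgroup.inclusion_injective _)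
  obtain ⟨b, hb⟩ := IsPGroup.iff_card.mp hQ
  obtain ⟨a, ha⟩ := IsPGroup.iff_card.mp (hQ.to_le h.le)
  have hlt : Nat.card P < Nat.card Q := by
    by_contra hcon
    push Not at hcon
    exact h.ne (Subgroup.eq_of_le_of_card_ge h.le hcon)
  rw [ha, hb] at hlt ⊢
  have hab : a < b := (Nat.pow_lt_pow_iff_right hp.out.one_lt).mp hlt
  calc p * p ^ a = p ^ (a + 1) := by ring
    _ ≤ p ^ b := Nat.pow_le_pow_right hp.out.pos hab

/-- Existence of a hyperplane `B` of `A` not containing `D` with `[C_K(B), A] ≠ 1`. -/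
theorem ff_exists_hyperplane {V K A D : Subgroup G} (hKp : ¬ p ∣ Nat.card K)
    (hA : FFActs p V K A) (hDA : D ≤ A) (hD : D ≠ ⊥) :
    ∃ B : Subgroup G, B ≤ A ∧ B.relIndex A = p ∧ ¬ D ≤ B ∧
      ⁅K ⊓ centralizer (B : Set G), A⁆ ≠ ⊥ := by
  by_contra hcon
  push Not at hcon
  apply hD
  -- it suffices to show `K ≤ C(D)`
  suffices hK : K ≤ centralizer (D : Set G) by
    have h1 : D ≤ centralizer (K : Set G) := Subgroup.le_centralizer_iff.mp hK
    exact le_bot_iff.mp ((le_inf hDA h1).trans hA.hAf.le)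
  have key : ∀ B : Subgroup G, B ≤ A → B.relIndex A = p →
      K ⊓ centralizer (B : Set G) ≤ centralizer (D : Set G) := by
    intro B hBA hB
    by_cases hDB : D ≤ B
    · exact inf_le_right.trans (centralizer_le hDB)
    · have h1 := hcon B hBA hB hDB
      rw [commutator_eq_bot_iff_le_centralizer] at h1
      exact h1.trans (centralizer_le hDA)
  by_cases hA2 : p ^ 2 ≤ Nat.card A
  · exact Cfsg.Agent.Lib.Helper30.coprime_generation p A hA.hAc hA.hAp hA2 K hA.hAK hKp _ key
  · -- `|A| = p`, the hyperplane is `⊥`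
    have hAne : A ≠ ⊥ := fun h => hD (le_bot_iff.mp (h ▸ hDA))
    obtain ⟨k, hk⟩ := IsPGroup.iff_card.mp hA.isPGroup
    have hk1 : k = 1 := by
      rcases k with _ | _ | k
      · exfalso
        rw [pow_zero] at hk
        exact hAne ((Subgroup.card_eq_one).mp hk)
      · rfl
      · exfalso
        apply hA2
        rw [hk]
        exact Nat.pow_le_pow_right hp.out.pos (by omega)
    subst hk1
    rw [pow_one] at hk
    have h1 := key ⊥ bot_le (by rw [Subgroup.relIndex_bot_left, hk])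
    have h2 : centralizer (((⊥ : Subgroup G) : Subgroup G) : Set G) = ⊤ := by
      rw [Subgroup.coe_bot, Subgroup.centralizer_eq_top_iff_subset]
      intro x hx
      rw [Set.mem_singleton_iff] at hx
      subst hx
      exact (Subgroup.center G).one_mem
    rwa [h2, inf_top_eq] at h1

/-- **The basic inequality**: `|A| * |C_V(A)| ≤ |V|`. -/
theorem ff_card_le {V K : Subgroup G} (hS : FFSetup p V K) :
    ∀ (n : ℕ) (A : Subgroup G), Nat.card A = n → FFActs p V K A →
      Nat.card A * Nat.card ↥(V ⊓ centralizer (A : Set G)) ≤ Nat.card V := by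
  intro n
  induction n using Nat.strong_induction_on with
  | _ n ih =>
    intro A hn hA
    by_cases hAbot : A = ⊥
    · subst hAbot
      rw [Subgroup.card_bot, one_mul]
      exact Subgroup.card_le_of_le inf_le_left
    · obtain ⟨B, hBA, hBp, -, hL⟩ := ff_exists_hyperplane hS.hKp hA le_rfl hAbot
      have hcard : Nat.card B * p = Nat.card A := by
        rw [← hBp, ← Subgroup.relIndex_bot_left, ← Subgroup.relIndex_bot_left]
        exact Subgroup.relIndex_mul_relIndex _ _ _ bot_le hBA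
      have hstep := ff_step hS hA hBA hL
      have h1 : p * Nat.card ↥(V ⊓ centralizer (A : Set G)) ≤
          Nat.card ↥(V ⊓ centralizer (B : Set G)) :=
        ff_card_mul_le_of_lt (hS.hVp.to_le inf_le_left) hstep
      have hlt : Nat.card B < n := by
        rw [← hn, ← hcard]
        have : 0 < Nat.card B := Nat.card_pos
        have := hp.out.one_lt
        nlinarith
      have h2 := ih _ hlt B rfl (hA.mono hBA)
      calc Nat.card A * Nat.card ↥(V ⊓ centralizer (A : Set G))
          = Nat.card B * (p * Nat.card ↥(V ⊓ centralizer (A : Set G))) := by rw [← hcard]; ring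
        _ ≤ Nat.card B * Nat.card ↥(V ⊓ centralizer (B : Set G)) := Nat.mul_le_mul_left _ h1
        _ ≤ Nat.card V := h2

/-- A hyperplane `B` with `[C_K(B), A] ≠ 1` of a tight `A` is tight. -/
theorem ff_tight_hyperplane {V K A B : Subgroup G} (hS : FFSetup p V K) (hA : FFActs p V K A)
    (htight : Nat.card A * Nat.card ↥(V ⊓ centralizer (A : Set G)) = Nat.card V)
    (hBA : B ≤ A) (hBp : B.relIndex A = p) (hL : ⁅K ⊓ centralizer (B : Set G), A⁆ ≠ ⊥) :
    Nat.card B * Nat.card ↥(V ⊓ centralizer (B : Set G)) = Nat.card V := by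
  have hcard : Nat.card B * p = Nat.card A := by
    rw [← hBp, ← Subgroup.relIndex_bot_left, ← Subgroup.relIndex_bot_left]
    exact Subgroup.relIndex_mul_relIndex _ _ _ bot_le hBA
  have hstep := ff_step hS hA hBA hL
  have h1 : p * Nat.card ↥(V ⊓ centralizer (A : Set G)) ≤
      Nat.card ↥(V ⊓ centralizer (B : Set G)) :=
    ff_card_mul_le_of_lt (hS.hVp.to_le inf_le_left) hstep
  refine le_antisymm (ff_card_le hS _ B rfl (hA.mono hBA)) ?_
  calc Nat.card V = Nat.card B * (p * Nat.card ↥(V ⊓ centralizer (A : Set G))) := by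
        rw [← htight, ← hcard]; ring
    _ ≤ _ := Nat.mul_le_mul_left _ h1

omit [Finite G] hp in
/-- `|X ⊔ Y| ≤ |X| * |Y|` when `X` normalizes `Y`. -/
theorem ff_card_sup_le {X Y : Subgroup G} [Finite X] [Finite Y]
    (h : X ≤ normalizer (Y : Set G)) :
    Nat.card ↥(X ⊔ Y) ≤ Nat.card X * Nat.card Y := by
  have h1 := Cfsg.Agent.Lib.Helper01.card_sup_mul_card_inf_of_le_normalizer Y X h
  haveI : Finite ↥(Y ⊓ X) := Finite.of_injective (Subgroup.inclusion inf_le_left)
    (Subgroup.inclusion_injective _)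
  have h2 : 0 < Nat.card ↥(Y ⊓ X) := Nat.card_pos
  calc Nat.card ↥(X ⊔ Y) ≤ Nat.card ↥(X ⊔ Y) * Nat.card ↥(Y ⊓ X) := Nat.le_mul_of_pos_right _ h2
    _ = Nat.card X * Nat.card Y := by rw [h1, mul_comm]

/-- Subgroups of order `p` generating an abelian group of order `p ^ n`, `n` their number, are
independent. -/
theorem ff_iSupIndep_of_card {ι : Type*} [Fintype ι] (A : Subgroup G)
    (hAc : ∀ x ∈ A, ∀ y ∈ A, x * y = y * x) (B : ι → Subgroup G) (hBA : ∀ i, B i ≤ A)
    (hB : ∀ i, Nat.card (B i) = p) (hsup : ⨆ i, B i = A)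
    (hcard : Nat.card A = p ^ Fintype.card ι) : iSupIndep B := by
  classical
  have hnorm : ∀ X Y : Subgroup G, X ≤ A → Y ≤ A → X ≤ normalizer (Y : Set G) := by
    intro X Y hX hY
    refine le_trans ?_ (centralizer_le_normalizer _)
    intro x hx
    rw [mem_centralizer_iff]
    intro y hy
    exact hAc y (hY hy) x (hX hx)
  have bound : ∀ s : Finset ι, Nat.card ↥(⨆ i ∈ s, B i) ≤ p ^ s.card := by
    intro s
    induction s using Finset.induction_on with
    | empty => simp
    | insert a s ha ih =>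
      rw [Finset.iSup_insert, Finset.card_insert_of_notMem ha]
      have hY : (⨆ i ∈ s, B i) ≤ A := iSup₂_le fun i _ => hBA i
      calc Nat.card ↥(B a ⊔ ⨆ i ∈ s, B i) ≤ Nat.card (B a) * Nat.card ↥(⨆ i ∈ s, B i) :=
            ff_card_sup_le (hnorm _ _ (hBA a) hY)
        _ ≤ p * p ^ s.card := by rw [hB a]; exact Nat.mul_le_mul_left _ ih
        _ = p ^ (s.card + 1) := by ring
  intro i
  rw [disjoint_iff]
  have hY : (⨆ (j) (_ : j ≠ i), B j) = ⨆ j ∈ (Finset.univ.erase i), B j := by
    simp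
  have hYA : (⨆ (j) (_ : j ≠ i), B j) ≤ A := iSup₂_le fun j _ => hBA j
  have hYc : Nat.card ↥(⨆ (j) (_ : j ≠ i), B j) ≤ p ^ (Fintype.card ι - 1) := by
    rw [hY]
    refine (bound _).trans ?_
    rw [Finset.card_erase_of_mem (Finset.mem_univ i), Finset.card_univ]
  have hsplit : B i ⊔ (⨆ (j) (_ : j ≠ i), B j) = A := by
    rw [← hsup]
    exact (iSup_split_single B i).symm
  have h1 := Cfsg.Agent.Lib.Helper01.card_sup_mul_card_inf_of_le_normalizer
    (⨆ (j) (_ : j ≠ i), B j) (B i) (hnorm _ _ (hBA i) hYA)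
  rw [hsplit, hcard, hB i] at h1
  have hpos : 0 < Fintype.card ι := Fintype.card_pos_iff.mpr ⟨i⟩
  have h2 : p ^ Fintype.card ι * Nat.card ↥((⨆ (j) (_ : j ≠ i), B j) ⊓ B i) ≤
      p ^ Fintype.card ι * 1 := by
    rw [h1, mul_one]
    calc Nat.card ↥(⨆ (j) (_ : j ≠ i), B j) * p ≤ p ^ (Fintype.card ι - 1) * p :=
          Nat.mul_le_mul_right _ hYc
      _ = p ^ (Fintype.card ι - 1 + 1) := by ring
      _ = p ^ Fintype.card ι := by rw [Nat.sub_add_cancel hpos]
  have h3 : Nat.card ↥((⨆ (j) (_ : j ≠ i), B j) ⊓ B i) ≤ 1 :=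
    Nat.le_of_mul_le_mul_left h2 (pow_pos hp.out.pos _)
  rw [inf_comm]
  exact (Subgroup.card_le_one_iff_eq_bot _).mp h3

/-- **Decomposition of tight elementary abelian subgroups**. -/
theorem ff_decomp_aux {V K : Subgroup G} (hS : FFSetup p V K) :
    ∀ (n : ℕ) (A : Subgroup G), Nat.card A = n → FFActs p V K A →
      Nat.card A * Nat.card ↥(V ⊓ centralizer (A : Set G)) = Nat.card V →
      ∃ (ι : Type) (_ : Fintype ι) (B : ι → Subgroup G), Nat.card A = p ^ Fintype.card ι ∧
        (∀ i, B i ≤ A ∧ Nat.card (B i) = p ∧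
          Nat.card (B i) * Nat.card ↥(V ⊓ centralizer (B i : Set G)) = Nat.card V) ∧
        ⨆ i, B i = A := by
  intro n
  induction n using Nat.strong_induction_on with
  | _ n ih =>
    intro A hn hA htight
    by_cases hAbot : A = ⊥
    · subst hAbot
      refine ⟨PEmpty, inferInstance, fun i => i.elim, ?_, fun i => i.elim, ?_⟩
      · simp
      · simp
    · obtain ⟨B₁, hB₁A, hB₁p, -, hL₁⟩ := ff_exists_hyperplane hS.hKp hA le_rfl hAbot
      have hcard₁ : Nat.card B₁ * p = Nat.card A := by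
        rw [← hB₁p, ← Subgroup.relIndex_bot_left, ← Subgroup.relIndex_bot_left]
        exact Subgroup.relIndex_mul_relIndex _ _ _ bot_le hB₁A
      have htight₁ := ff_tight_hyperplane hS hA htight hB₁A hB₁p hL₁
      have hpos₁ : 0 < Nat.card B₁ := Nat.card_pos
      have hp1 := hp.out.one_lt
      have hlt₁ : Nat.card B₁ < n := by rw [← hn, ← hcard₁]; nlinarith
      by_cases hB₁bot : B₁ = ⊥
      · -- `|A| = p`
        subst hB₁bot
        rw [Subgroup.card_bot, one_mul] at hcard₁
        refine ⟨Unit, inferInstance, fun _ => A, ?_, fun _ => ⟨le_rfl, hcard₁.symm, htight⟩, ?_⟩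
        · simp [hcard₁]
        · simp
      · obtain ⟨B₂, hB₂A, hB₂p, hB₁₂, hL₂⟩ := ff_exists_hyperplane hS.hKp hA hB₁A hB₁bot
        have hcard₂ : Nat.card B₂ * p = Nat.card A := by
          rw [← hB₂p, ← Subgroup.relIndex_bot_left, ← Subgroup.relIndex_bot_left]
          exact Subgroup.relIndex_mul_relIndex _ _ _ bot_le hB₂A
        have htight₂ := ff_tight_hyperplane hS hA htight hB₂A hB₂p hL₂
        have hpos₂ : 0 < Nat.card B₂ := Nat.card_pos
        have hlt₂ : Nat.card B₂ < n := by rw [← hn, ← hcard₂]; nlinarith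
        have hcard₁₂ : Nat.card B₁ = Nat.card B₂ := by
          have : Nat.card B₁ * p = Nat.card B₂ * p := by rw [hcard₁, hcard₂]
          exact Nat.eq_of_mul_eq_mul_right hp.out.pos this
        obtain ⟨ι₂, _, C, -, hC, hCsup⟩ := ih _ hlt₂ B₂ rfl (hA.mono hB₂A) htight₂
        obtain ⟨ι₁, _, B, hcardι, hB, hBsup⟩ := ih _ hlt₁ B₁ rfl (hA.mono hB₁A) htight₁
        -- some `C i` is not in `B₁`
        obtain ⟨i₀, hi₀⟩ : ∃ i, ¬ C i ≤ B₁ := by
          by_contra hcon
          push Not at hcon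
          have h21 : B₂ ≤ B₁ := by rw [← hCsup]; exact iSup_le hcon
          have := Subgroup.eq_of_le_of_card_ge h21 hcard₁₂.le
          exact hB₁₂ this.ge
        have hC₀A : C i₀ ≤ A := (hC i₀).1.trans hB₂A
        have hsupA : C i₀ ⊔ B₁ = A := by
          have hle : C i₀ ⊔ B₁ ≤ A := sup_le hC₀A hB₁A
          have hlt : B₁ < C i₀ ⊔ B₁ := by
            refine lt_of_le_of_ne le_sup_right ?_
            intro h
            exact hi₀ (h ▸ le_sup_left)
          have h1 := ff_card_mul_le_of_lt (hA.isPGroup.to_le hle) hlt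
          refine Subgroup.eq_of_le_of_card_ge hle ?_
          rw [← hcard₁, mul_comm]
          exact h1
        refine ⟨Option ι₁, inferInstance, fun o => o.elim (C i₀) B, ?_, ?_, ?_⟩
        · rw [Fintype.card_option, pow_succ, ← hcardι, hcard₁]
        · intro o
          cases o with
          | none => exact ⟨hC₀A, (hC i₀).2.1, (hC i₀).2.2⟩
          | some i => exact ⟨(hB i).1.trans hB₁A, (hB i).2.1, (hB i).2.2⟩
        · rw [iSup_option]
          simp only [Option.elim_none, Option.elim_some]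
          rw [hBsup, hsupA]

/-- **Decomposition**, `Fin`-indexed and with independence. -/
theorem ff_decomp {V K A : Subgroup G} (hS : FFSetup p V K) (hA : FFActs p V K A)
    (htight : Nat.card A * Nat.card ↥(V ⊓ centralizer (A : Set G)) = Nat.card V) :
    ∃ (k : ℕ) (B : Fin k → Subgroup G), Nat.card A = p ^ k ∧
      (∀ i, B i ≤ A ∧ Nat.card (B i) = p ∧
        Nat.card (B i) * Nat.card ↥(V ⊓ centralizer (B i : Set G)) = Nat.card V) ∧
      iSupIndep B ∧ ⨆ i, B i = A := by
  obtain ⟨ι, _, B, hcard, hB, hsup⟩ := ff_decomp_aux hS _ A rfl hA htight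
  let e := Fintype.equivFin ι
  refine ⟨Fintype.card ι, fun i => B (e.symm i), hcard, fun i => hB _, ?_, ?_⟩
  · have hind := ff_iSupIndep_of_card A hA.hAc B (fun i => (hB i).1) (fun i => (hB i).2.1) hsup hcard
    exact hind.comp e.symm.injective
  · rw [← hsup]
    exact e.symm.iSup_comp (g := B)

end FFCore

end Cfsg.Agent.Lib.Helper52
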