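import Mathlib
import Cfsg.Prelude.Def_PLocal
import Cfsg.Agent.Lib.Helper52.FFCore
import Cfsg.Agent.Lib.Helper01.PPrimeCore

/-!
# Bridge from the hypotheses of KS §9.3 (S0610–S0617) to `FFSetup` / `FFActs`
-/

set_option autoImplicit false

namespace Cfsg.Agent.Lib.Helper52

open Subgroup
open scoped commutatorElement

section FFBridge

variable {G : Type*} [Group G] [Finite G] {p : ℕ} [hp : Fact p.Prime]

/-- The `p'`-core of `H` as a subgroup of `G`. -/
noncomputable def ffK (p : ℕ) (H : Subgroup G) : Subgroup G :=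
  (Cfsg.pPrimeCore p ↥H).map H.subtype

theorem ffK_le (H : Subgroup G) : ffK p H ≤ H := Subgroup.map_subtype_le _

theorem ffK_normal (H : Subgroup G) : H ≤ normalizer ((ffK p H : Subgroup G) : Set G) := by
  intro h hh
  rw [mem_normalizer_iff]
  haveI := Cfsg.Agent.Lib.Helper01.pPrimeCore_normal (G := ↥H) p
  intro x
  constructor
  · rintro ⟨y, hy, rfl⟩
    refine ⟨⟨h, hh⟩ * y * ⟨h, hh⟩⁻¹, ?_, rfl⟩
    exact (inferInstance : (Cfsg.pPrimeCore p ↥H).Normal).conj_mem y hy _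
  · rintro ⟨y, hy, hyx⟩
    have hx : x = h⁻¹ * (y : G) * h := by
      have : (y : G) = h * x * h⁻¹ := hyx
      rw [this]; group
    refine ⟨⟨h, hh⟩⁻¹ * y * ⟨h, hh⟩, ?_, ?_⟩
    · have := (inferInstance : (Cfsg.pPrimeCore p ↥H).Normal).conj_mem y hy (⟨h, hh⟩⁻¹)
      simpa using this
    · rw [hx]; rfl

theorem ffK_card (H : Subgroup G) : ¬ p ∣ Nat.card (ffK p H) := by
  have h1 : Nat.card (ffK p H) = Nat.card (Cfsg.pPrimeCore p ↥H) :=
    Nat.card_congr ((Cfsg.pPrimeCore p ↥H).equivMapOfInjective H.subtype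
      H.subtype_injective).symm.toEquiv
  rw [h1]
  have := Cfsg.Agent.Lib.Helper01.pPrimeCore_card_coprime (G := ↥H) p
  exact (Nat.Prime.coprime_iff_not_dvd hp.out).mp this.symm

theorem ff_setup {V H : Subgroup G} (hV : Cfsg.IsElementaryAbelian p V)
    (hHV : H ≤ normalizer (V : Set G)) (hf : H ⊓ centralizer (V : Set G) = ⊥) :
    FFSetup p V (ffK p H) where
  hVp := by
    intro g
    refine ⟨1, ?_⟩
    rw [pow_one]
    exact Subtype.ext (hV.2 g g.2)
  hKV := (ffK_le H).trans hHV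
  hKp := ffK_card H
  hKf := le_bot_iff.mp ((inf_le_inf_right _ (ffK_le H)).trans hf.le)

/-- A subgroup `A ≤ H` that is elementary abelian modulo `C(V)` satisfies `FFActs`. -/
theorem ff_acts {V H A : Subgroup G}
    (hHV : H ≤ normalizer (V : Set G)) (hf : H ⊓ centralizer (V : Set G) = ⊥)
    (hS1 : centralizer (Cfsg.pPrimeCore p ↥H : Set ↥H) ≤ Cfsg.pPrimeCore p ↥H)
    (hAH : A ≤ H) (hA1 : ⁅A, A⁆ ≤ centralizer (V : Set G))
    (hA2 : ∀ a ∈ A, a ^ p ∈ centralizer (V : Set G)) : FFActs p V (ffK p H) A := by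
  have hAp : ∀ x ∈ A, x ^ p = 1 := by
    intro x hx
    have : x ^ p ∈ H ⊓ centralizer (V : Set G) := ⟨H.pow_mem (hAH hx) _, hA2 x hx⟩
    rw [hf] at this
    exact this
  refine ⟨?_, hAp, hAH.trans hHV, hAH.trans (ffK_normal H), ?_⟩
  · intro x hx y hy
    have h1 : ⁅x, y⁆ ∈ H ⊓ centralizer (V : Set G) :=
      ⟨(commutator_le.mpr (fun a ha b hb => by
          rw [commutatorElement_def]
          exact H.mul_mem (H.mul_mem (H.mul_mem ha hb) (H.inv_mem ha)) (H.inv_mem hb)) :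
            ⁅H, H⁆ ≤ H) (commutator_mem_commutator (hAH hx) (hAH hy)),
        hA1 (commutator_mem_commutator hx hy)⟩
    rw [hf, mem_bot, commutatorElement_eq_one_iff_mul_comm] at h1
    exact h1
  · rw [eq_bot_iff]
    intro x hx
    rw [mem_bot]
    have hxH : x ∈ H := hAH hx.1
    have hxc : (⟨x, hxH⟩ : H) ∈ centralizer (Cfsg.pPrimeCore p ↥H : Set ↥H) := by
      rw [mem_centralizer_iff]
      intro y hy
      apply Subtype.ext
      have := (mem_centralizer_iff.mp hx.2) (y : G) ⟨y, hy, rfl⟩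
      exact this
    have hxK : (⟨x, hxH⟩ : H) ∈ Cfsg.pPrimeCore p ↥H := hS1 hxc
    have hord : orderOf (⟨⟨x, hxH⟩, hxK⟩ : Cfsg.pPrimeCore p ↥H) ∣ Nat.card (Cfsg.pPrimeCore p ↥H) :=
      orderOf_dvd_natCard _
    have hcop := Cfsg.Agent.Lib.Helper01.pPrimeCore_card_coprime (G := ↥H) p
    have hord2 : orderOf (⟨⟨x, hxH⟩, hxK⟩ : Cfsg.pPrimeCore p ↥H) ∣ p := by
      apply orderOf_dvd_of_pow_eq_one
      apply Subtype.ext; apply Subtype.ext
      exact hAp x hx.1
    have h1 : orderOf (⟨⟨x, hxH⟩, hxK⟩ : Cfsg.pPrimeCore p ↥H) = 1 :=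
      Nat.eq_one_of_dvd_coprimes hcop hord hord2
    rw [orderOf_eq_one_iff] at h1
    have := congrArg (fun z : Cfsg.pPrimeCore p ↥H => ((z : H) : G)) h1
    exact this

/-- Best offenders inside `H` satisfy `FFActs`. -/
theorem ff_acts_of_best {V H A : Subgroup G}
    (hHV : H ≤ normalizer (V : Set G)) (hf : H ⊓ centralizer (V : Set G) = ⊥)
    (hS1 : centralizer (Cfsg.pPrimeCore p ↥H : Set ↥H) ≤ Cfsg.pPrimeCore p ↥H)
    (hAH : A ≤ H) (hA : Cfsg.IsBestOffenderOn p V A) : FFActs p V (ffK p H) A :=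
  ff_acts hHV hf hS1 hAH hA.2.1 hA.2.2

/-- `|A| * |C_V(A)| = |V|` for best offenders `A ≤ H`. -/
theorem ff_best_tight {V H A : Subgroup G} (hV : Cfsg.IsElementaryAbelian p V)
    (hHV : H ≤ normalizer (V : Set G)) (hf : H ⊓ centralizer (V : Set G) = ⊥)
    (hS1 : centralizer (Cfsg.pPrimeCore p ↥H : Set ↥H) ≤ Cfsg.pPrimeCore p ↥H)
    (hAH : A ≤ H) (hA : Cfsg.IsBestOffenderOn p V A) :
    Nat.card A * Nat.card ↥(V ⊓ centralizer (A : Set G)) = Nat.card V := by
  refine le_antisymm (ff_card_le (ff_setup hV hHV hf) _ A rfl (ff_acts_of_best hHV hf hS1 hAH hA)) ?_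
  have h1 := hA.1 ⊥ bot_le
  rw [Subgroup.card_bot, one_mul] at h1
  refine le_trans ?_ h1
  refine Subgroup.card_le_of_le (le_inf le_rfl ?_)
  intro v _
  rw [mem_centralizer_iff]
  intro x hx
  rw [Subgroup.coe_bot, Set.mem_singleton_iff] at hx
  subst hx
  simp

/-- A tight subgroup of order `p` inside `H` is a best offender. -/
theorem ff_best_of_tight {V H B : Subgroup G} (hV : Cfsg.IsElementaryAbelian p V)
    (hHV : H ≤ normalizer (V : Set G)) (hf : H ⊓ centralizer (V : Set G) = ⊥)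
    (hB : FFActs p V (ffK p H) B)
    (htight : Nat.card B * Nat.card ↥(V ⊓ centralizer (B : Set G)) = Nat.card V) :
    Cfsg.IsBestOffenderOn p V B := by
  refine ⟨?_, ?_, ?_⟩
  · intro C hCB
    rw [htight]
    exact ff_card_le (ff_setup hV hHV hf) _ C rfl (hB.mono hCB)
  · rw [commutator_le]
    intro x hx y hy
    have := hB.hAc x hx y hy
    rw [← commutatorElement_eq_one_iff_mul_comm] at this
    rw [this]
    exact one_mem _
  · intro a ha
    rw [hB.hAp a ha]
    exact one_mem _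

end FFBridge

end Cfsg.Agent.Lib.Helper52
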