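import Mathlib
import Cfsg.Agent.Lib.Helper52.FFBridge
import Cfsg.Agent.Lib.Helper52.CommHom
import Cfsg.Agent.Lib.Helper55.Coprime

/-!
# Minimal offenders (tight subgroups of order `p`) in the situation of KS §9.3
-/

set_option autoImplicit false

namespace Cfsg.Agent.Lib.Helper52

open Subgroup
open scoped commutatorElement
open Cfsg.Agent.Lib.Helper55 (cj mem_cj conj_mem_cj cj_one cj_mul cj_inv_cj cj_cj_inv cj_mono
  cj_eq_self_iff cj_inf cj_centralizer card_cj isPGroup_cj)

section Tools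

variable {G : Type*} [Group G]

/-- The elements normalizing `V` and `W` and acting trivially on `V` modulo `W`. -/
def stabSub (V W : Subgroup G) : Subgroup G where
  carrier := {g | g ∈ normalizer (V : Set G) ∧ g ∈ normalizer (W : Set G) ∧ ∀ v ∈ V, ⁅v, g⁆ ∈ W}
  one_mem' := ⟨one_mem _, one_mem _, fun v _ => by simp⟩
  mul_mem' := by
    rintro g h ⟨hg1, hg2, hg3⟩ ⟨hh1, hh2, hh3⟩
    refine ⟨mul_mem hg1 hh1, mul_mem hg2 hh2, fun v hv => ?_⟩
    have e : ⁅v, g * h⁆ = ⁅v, g⁆ * (g * ⁅v, h⁆ * g⁻¹) := by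
      simp only [commutatorElement_def]; group
    rw [e]
    exact W.mul_mem (hg3 v hv) ((mem_normalizer_iff.mp hg2 _).mp (hh3 v hv))
  inv_mem' := by
    rintro g ⟨hg1, hg2, hg3⟩
    refine ⟨inv_mem hg1, inv_mem hg2, fun v hv => ?_⟩
    have e : ⁅v, g⁻¹⁆ = g⁻¹ * (⁅v, g⁆)⁻¹ * g⁻¹⁻¹ := by
      simp only [commutatorElement_def]; group
    rw [e]
    exact (mem_normalizer_iff.mp (inv_mem hg2) _).mp (W.inv_mem (hg3 v hv))

theorem mem_stabSub {V W : Subgroup G} {g : G} :
    g ∈ stabSub V W ↔ g ∈ normalizer (V : Set G) ∧ g ∈ normalizer (W : Set G) ∧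
      ∀ v ∈ V, ⁅v, g⁆ ∈ W := Iff.rfl

theorem commutator_le_of_le_stabSub {V W L : Subgroup G} (h : L ≤ stabSub V W) : ⁅V, L⁆ ≤ W := by
  rw [commutator_le]
  intro v hv l hl
  exact (h hl).2.2 v hv

/-- A subgroup `A` normalizing `V` with `[V, A] ≤ W ≤ V` lies in `stabSub V W`. -/
theorem le_stabSub_of_commutator_le {V W A : Subgroup G} (hWV : W ≤ V)
    (hAV : A ≤ normalizer (V : Set G)) (hc : ⁅V, A⁆ ≤ W) : A ≤ stabSub V W := by
  have key : ∀ a ∈ A, ∀ w ∈ W, a * w * a⁻¹ ∈ W := by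
    intro a ha w hw
    have h1 : ⁅w, a⁆ ∈ W := hc (commutator_mem_commutator (hWV hw) ha)
    have e : a * w * a⁻¹ = (⁅w, a⁆)⁻¹ * w := by
      simp only [commutatorElement_def]; group
    rw [e]
    exact W.mul_mem (W.inv_mem h1) hw
  intro a ha
  refine ⟨hAV ha, ?_, fun v hv => hc (commutator_mem_commutator hv ha)⟩
  rw [mem_normalizer_iff]
  intro w
  constructor
  · exact key a ha w
  · intro h
    have := key a⁻¹ (A.inv_mem ha) _ h
    simpa [mul_assoc] using this

/-- A subgroup of prime order contained in... : a nontrivial subgroup of a group of order `p`. -/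
theorem eq_of_le_of_card_prime {p : ℕ} (hp : p.Prime) {X P : Subgroup G} (hP : Nat.card P = p)
    (hXP : X ≤ P) (hX : X ≠ ⊥) : X = P := by
  haveI : Finite P := Nat.finite_of_card_ne_zero (hP ▸ hp.ne_zero)
  have hdvd : Nat.card X ∣ p := hP ▸ Subgroup.card_dvd_of_le hXP
  rcases (Nat.dvd_prime hp).mp hdvd with h | h
  · haveI : Finite X := Finite.of_injective (Subgroup.inclusion hXP) (Subgroup.inclusion_injective _)
    exact absurd ((Subgroup.card_eq_one).mp h) hX
  · exact Subgroup.eq_of_le_of_card_ge hXP (by rw [h, hP])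

/-- A subgroup of prime order is generated by any of its nontrivial elements. -/
theorem zpowers_eq_of_card_prime {p : ℕ} (hp : p.Prime) {P : Subgroup G} (hP : Nat.card P = p)
    {a : G} (ha : a ∈ P) (ha1 : a ≠ 1) : zpowers a = P := by
  apply eq_of_le_of_card_prime hp hP (zpowers_le.mpr ha)
  intro h
  apply ha1
  have : a ∈ zpowers a := mem_zpowers a
  rw [h, mem_bot] at this
  exact this

/-- A subgroup of prime order has a nontrivial element. -/
theorem exists_ne_one_of_card_prime {p : ℕ} (hp : p.Prime) {P : Subgroup G} (hP : Nat.card P = p) :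
    ∃ a ∈ P, a ≠ 1 := by
  by_contra hcon
  push Not at hcon
  have : P = ⊥ := (Subgroup.eq_bot_iff_forall _).mpr hcon
  rw [this, Subgroup.card_bot] at hP
  exact hp.one_lt.ne hP

/-- `A` normalizes `[V, A]` when it normalizes `V`. -/
theorem le_normalizer_commutator {V A : Subgroup G} (hAV : A ≤ normalizer (V : Set G)) :
    A ≤ normalizer ((⁅V, A⁆ : Subgroup G) : Set G) := by
  intro g hg
  rw [← cj_eq_self_iff]
  show (⁅V, A⁆).map (MulAut.conj g).toMonoidHom = ⁅V, A⁆
  rw [Subgroup.map_commutator]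
  have h1 : V.map (MulAut.conj g).toMonoidHom = V := cj_eq_self_iff.mpr (hAV hg)
  have h2 : A.map (MulAut.conj g).toMonoidHom = A := cj_eq_self_iff.mpr (le_normalizer hg)
  rw [h1, h2]

theorem cj_commutator (g : G) (X Y : Subgroup G) : cj g ⁅X, Y⁆ = ⁅cj g X, cj g Y⁆ :=
  Subgroup.map_commutator _ _ _

theorem cj_sup (g : G) (X Y : Subgroup G) : cj g (X ⊔ Y) = cj g X ⊔ cj g Y :=
  Subgroup.map_sup _ _ _

end Tools

section FFMinSec

variable {G : Type*} [Group G] [Finite G] {p : ℕ} [hp : Fact p.Prime]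

/-- The standing hypotheses of KS §9.3 (without the generation hypothesis). -/
structure FFHyp (p : ℕ) (V H : Subgroup G) : Prop where
  hV : Cfsg.IsElementaryAbelian p V
  hHV : H ≤ normalizer (V : Set G)
  hf : H ⊓ centralizer (V : Set G) = ⊥
  hS1 : centralizer (Cfsg.pPrimeCore p ↥H : Set ↥H) ≤ Cfsg.pPrimeCore p ↥H

theorem FFHyp.setup {V H : Subgroup G} (h : FFHyp p V H) : FFSetup p V (ffK p H) :=
  ff_setup h.hV h.hHV h.hf

theorem FFHyp.comm {V H : Subgroup G} (h : FFHyp p V H) : ∀ x ∈ V, ∀ y ∈ V, x * y = y * x := by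
  intro x hx y hy
  have := h.hV.1.is_comm.comm ⟨x, hx⟩ ⟨y, hy⟩
  exact congrArg Subtype.val this

theorem FFHyp.isPGroup {V H : Subgroup G} (h : FFHyp p V H) : IsPGroup p V := h.setup.hVp

/-- A *minimal offender*: a subgroup of `H` of order `p` with `|V : C_V(A)| = p`. -/
structure FFMin (p : ℕ) (V H A : Subgroup G) : Prop where
  le : A ≤ H
  card : Nat.card A = p
  tight : Nat.card A * Nat.card ↥(V ⊓ centralizer (A : Set G)) = Nat.card V

variable {V H A : Subgroup G}

theorem FFMin.comm (hA : FFMin p V H A) : ∀ x ∈ A, ∀ y ∈ A, x * y = y * x := by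
  haveI : Fact (Nat.card A).Prime := ⟨hA.card ▸ hp.out⟩
  haveI := isCyclic_of_prime_card (α := A) rfl
  intro x hx y hy
  have := IsCyclic.commGroup.mul_comm (⟨x, hx⟩ : A) ⟨y, hy⟩
  exact congrArg Subtype.val this

theorem FFMin.pow (hA : FFMin p V H A) : ∀ x ∈ A, x ^ p = 1 := by
  intro x hx
  have h1 : (⟨x, hx⟩ : A) ^ Nat.card A = 1 := pow_card_eq_one'
  rw [hA.card] at h1
  exact congrArg Subtype.val h1

theorem FFMin.acts (h : FFHyp p V H) (hA : FFMin p V H A) : FFActs p V (ffK p H) A := by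
  refine ff_acts h.hHV h.hf h.hS1 hA.le ?_ ?_
  · rw [commutator_le]
    intro x hx y hy
    have := hA.comm x hx y hy
    rw [← commutatorElement_eq_one_iff_mul_comm] at this
    rw [this]; exact one_mem _
  · intro a ha
    rw [hA.pow a ha]; exact one_mem _

theorem FFMin.isPGroup (hA : FFMin p V H A) : IsPGroup p A :=
  IsPGroup.of_card (n := 1) (by rw [hA.card, pow_one])

theorem FFMin.ne_bot (hA : FFMin p V H A) : A ≠ ⊥ := by
  intro h
  have := hA.card
  rw [h, Subgroup.card_bot] at this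
  exact hp.out.one_lt.ne this

theorem FFMin.card_cent (hA : FFMin p V H A) :
    p * Nat.card ↥(V ⊓ centralizer (A : Set G)) = Nat.card V := by
  have := hA.tight
  rwa [hA.card] at this

/-- conjugates of minimal offenders under `H` are minimal offenders -/
theorem FFMin.conj (h : FFHyp p V H) (hA : FFMin p V H A) {g : G} (hg : g ∈ H) :
    FFMin p V H (cj g A) := by
  refine ⟨?_, ?_, ?_⟩
  · rintro _ ⟨a, ha, rfl⟩
    exact H.mul_mem (H.mul_mem hg (hA.le ha)) (H.inv_mem hg)
  · rw [card_cj, hA.card]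
  · have hV : cj g V = V := cj_eq_self_iff.mpr (h.hHV hg)
    have e : V ⊓ centralizer ((cj g A : Subgroup G) : Set G) = cj g (V ⊓ centralizer (A : Set G)) := by
      rw [cj_inf, cj_centralizer, hV]
    rw [e, card_cj, card_cj]
    exact hA.tight

/-- `|[V, A]| = p` -/
theorem FFMin.card_commutator (h : FFHyp p V H) (hA : FFMin p V H A) : Nat.card ↥⁅V, A⁆ = p := by
  obtain ⟨a, haA, ha1⟩ := exists_ne_one_of_card_prime hp.out hA.card
  have hz := zpowers_eq_of_card_prime hp.out hA.card haA ha1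
  have hcm := card_commutator_zpowers_mul V h.comm a (h.hHV (hA.le haA))
  rw [hz] at hcm
  have hCpos : 0 < Nat.card ↥(V ⊓ centralizer (A : Set G)) := Nat.card_pos
  have : Nat.card ↥⁅V, A⁆ * Nat.card ↥(V ⊓ centralizer (A : Set G)) =
      p * Nat.card ↥(V ⊓ centralizer (A : Set G)) := by rw [hcm, hA.card_cent]
  exact Nat.eq_of_mul_eq_mul_right hCpos this

theorem FFMin.commutator_le (h : FFHyp p V H) (hA : FFMin p V H A) : ⁅V, A⁆ ≤ V := by
  rw [Subgroup.commutator_le]
  intro v hv a ha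
  exact commutatorElement_mem_of_mem_normalizer (h.hHV (hA.le ha)) hv

/-- quadratic action: `[V, A] ≤ C(A)` -/
theorem FFMin.quad (h : FFHyp p V H) (hA : FFMin p V H A) : ⁅V, A⁆ ≤ centralizer (A : Set G) := by
  have hR : IsPGroup p ↥⁅V, A⁆ := h.isPGroup.to_le (hA.commutator_le h)
  have hR1 : ⁅V, A⁆ ≠ ⊥ := by
    intro hb
    have := hA.card_commutator h
    rw [hb, Subgroup.card_bot] at this
    exact hp.out.one_lt.ne this
  have hne := Cfsg.Agent.Lib.Helper55.inf_centralizer_ne_bot_of_le_normalizer hA.isPGroup hR hR1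
    (le_normalizer_commutator (hA.le.trans h.hHV))
  have := eq_of_le_of_card_prime hp.out (hA.card_commutator h) inf_le_left hne
  exact this ▸ inf_le_right

/-- `A ∩ K = 1` -/
theorem FFMin.inf_K (hA : FFMin p V H A) : ffK p H ⊓ A = ⊥ := by
  rw [eq_bot_iff]
  intro x hx
  rw [mem_bot]
  have h1 : orderOf x ∣ p := orderOf_dvd_of_pow_eq_one (hA.pow x hx.2)
  have h2 : orderOf x ∣ Nat.card (ffK p H) := by
    have := orderOf_dvd_natCard (⟨x, hx.1⟩ : ffK p H)
    rwa [Subgroup.orderOf_mk] at this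
  have hcop : (Nat.card (ffK p H)).Coprime p :=
    ((Nat.Prime.coprime_iff_not_dvd hp.out).mpr (ffK_card H)).symm
  have := Nat.eq_one_of_dvd_coprimes hcop h2 h1
  exact orderOf_eq_one_iff.mp this

end FFMinSec

end Cfsg.Agent.Lib.Helper52
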