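import Mathlib
import Cfsg.Agent.Lib.Helper52.FFMin

/-!
# The subgroup generated by a minimal offender `A` and a conjugate `A^x`, `x ∈ O_{p'}(H)`
-/

set_option autoImplicit false

namespace Cfsg.Agent.Lib.Helper52

open Subgroup
open scoped commutatorElement
open Cfsg.Agent.Lib.Helper55 (cj mem_cj conj_mem_cj cj_one cj_mul cj_inv_cj cj_cj_inv cj_mono
  cj_eq_self_iff cj_inf cj_centralizer card_cj isPGroup_cj)

section FFPairSec

variable {G : Type*} [Group G] [Finite G] {p : ℕ} [hp : Fact p.Prime]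
variable {V H A : Subgroup G}

omit [Finite G] hp in
theorem le_normalizer_of_le_comm {V X Y : Subgroup G} (hVc : ∀ x ∈ V, ∀ y ∈ V, x * y = y * x)
    (hX : X ≤ V) (hY : Y ≤ V) : X ≤ normalizer (Y : Set G) := by
  refine le_trans ?_ (centralizer_le_normalizer _)
  intro x hx
  rw [mem_centralizer_iff]
  intro y hy
  exact hVc y (hY hy) x (hX hx)

omit [Finite G] hp in
theorem mem_normalizer_inf {X Y : Subgroup G} {g : G} (hX : g ∈ normalizer (X : Set G))
    (hY : g ∈ normalizer (Y : Set G)) : g ∈ normalizer ((X ⊓ Y : Subgroup G) : Set G) := by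
  rw [← cj_eq_self_iff] at hX hY ⊢
  rw [cj_inf, hX, hY]

/-- `A^x ≤ A ⊔ K` for `x ∈ K` -/
theorem cj_le_sup_K (hA : A ≤ normalizer ((ffK p H : Subgroup G) : Set G)) {x : G}
    (hx : x ∈ ffK p H) : cj x A ≤ A ⊔ ffK p H := by
  rintro _ ⟨a, ha, rfl⟩
  have h1 : a * x⁻¹ * a⁻¹ ∈ ffK p H := (mem_normalizer_iff.mp (hA ha) _).mp (inv_mem hx)
  have e : (MulAut.conj x).toMonoidHom a = x * (a * x⁻¹ * a⁻¹) * a := by
    simp [MulAut.conj_apply, mul_assoc]
  rw [e]
  exact mul_mem (mem_sup_right (mul_mem hx h1)) (mem_sup_left ha)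

/-- `|A ⊔ K| = |K| * p` -/
theorem card_sup_K (hA : FFMin p V H A) :
    Nat.card ↥(A ⊔ ffK p H) = Nat.card (ffK p H) * p := by
  have hcop : (Nat.card (ffK p H)).Coprime (Nat.card A) := by
    rw [hA.card]
    exact ((Nat.Prime.coprime_iff_not_dvd hp.out).mpr (ffK_card H)).symm
  rw [Cfsg.Agent.Lib.Helper01.card_sup_of_coprime_of_le_normalizer _ _
    (hA.le.trans (ffK_normal H)) hcop, hA.card]

/-- a `p`-subgroup of `A ⊔ K` has order at most `p` -/
theorem card_le_of_isPGroup_of_le_sup_K (hA : FFMin p V H A) {D : Subgroup G}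
    (hD : IsPGroup p D) (hDle : D ≤ A ⊔ ffK p H) : Nat.card D ≤ p := by
  obtain ⟨m, hm⟩ := IsPGroup.iff_card.mp hD
  have h1 : Nat.card D ∣ Nat.card (ffK p H) * p := card_sup_K hA ▸ Subgroup.card_dvd_of_le hDle
  rw [hm] at h1 ⊢
  rcases m with _ | _ | m
  · simpa using hp.out.one_lt.le
  · simp
  · exfalso
    have h2 : p ^ (m + 1) * p ∣ Nat.card (ffK p H) * p := by
      rw [← pow_succ]; exact h1
    have h3 : p ^ (m + 1) ∣ Nat.card (ffK p H) := Nat.dvd_of_mul_dvd_mul_right hp.out.pos h2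
    exact ffK_card H ((dvd_pow_self p (Nat.succ_ne_zero m)).trans h3)

variable (h : FFHyp p V H) (hA : FFMin p V H A) {x : G} (hxK : x ∈ ffK p H)
  (hxA : x ∉ centralizer (A : Set G))

include hA hxK hxA in
/-- `A^x ≠ A` -/
theorem pair_ne : cj x A ≠ A := by
  intro heq
  apply hxA
  exact Cfsg.Agent.Lib.Helper01.mem_centralizer_of_conj_smul_eq (hA.le.trans (ffK_normal H))
    hA.inf_K hxK heq

include hA hxK hxA in
theorem pair_inf_eq_bot : A ⊓ cj x A = ⊥ := by
  by_contra hne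
  have h1 := eq_of_le_of_card_prime hp.out hA.card inf_le_left hne
  have h2 : A ≤ cj x A := by
    calc A = A ⊓ cj x A := h1.symm
      _ ≤ cj x A := inf_le_right
  have h3 : A = cj x A := Subgroup.eq_of_le_of_card_ge h2 (by rw [card_cj])
  exact pair_ne hA hxK hxA h3.symm

include hA hxK hxA in
/-- `L ∩ K ≠ 1` -/
theorem pair_N_ne_bot : (A ⊔ cj x A) ⊓ ffK p H ≠ ⊥ := by
  have : ∃ a ∈ A, a * x ≠ x * a := by
    by_contra hcon
    push Not at hcon
    exact hxA (mem_centralizer_iff.mpr hcon)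
  obtain ⟨a, ha, hax⟩ := this
  intro hbot
  have hmem : a⁻¹ * (x * a * x⁻¹) ∈ (A ⊔ cj x A) ⊓ ffK p H := by
    refine Subgroup.mem_inf.mpr
      ⟨mul_mem (mem_sup_left (A.inv_mem ha)) (mem_sup_right (conj_mem_cj ha)), ?_⟩
    have h1 : a⁻¹ * x * a⁻¹⁻¹ ∈ ffK p H :=
      (mem_normalizer_iff.mp (ffK_normal H (hA.le (A.inv_mem ha))) _).mp hxK
    have e : a⁻¹ * (x * a * x⁻¹) = (a⁻¹ * x * a⁻¹⁻¹) * x⁻¹ := by group
    rw [e]
    exact mul_mem h1 (inv_mem hxK)
  rw [hbot, mem_bot] at hmem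
  apply hax
  have : x * a * x⁻¹ = a := by
    have := congrArg (fun z => a * z) hmem
    simpa [mul_assoc] using this
  calc a * x = (x * a * x⁻¹) * x := by rw [this]
    _ = x * a := by group

include h hA hxK in
/-- `[V, L] = [V, A] ⊔ [V, A^x]` -/
theorem pair_commutator : ⁅V, A ⊔ cj x A⁆ = ⁅V, A⁆ ⊔ ⁅V, cj x A⁆ := by
  have hB := hA.conj h (ffK_le H hxK)
  apply le_antisymm
  · apply commutator_le_of_le_stabSub
    have hWV : ⁅V, A⁆ ⊔ ⁅V, cj x A⁆ ≤ V := sup_le (hA.commutator_le h) (hB.commutator_le h)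
    exact sup_le (le_stabSub_of_commutator_le hWV (hA.le.trans h.hHV) le_sup_left)
      (le_stabSub_of_commutator_le hWV (hB.le.trans h.hHV) le_sup_right)
  · exact sup_le (commutator_mono le_rfl le_sup_left) (commutator_mono le_rfl le_sup_right)

include h hA hxK in
theorem pair_L_le : A ⊔ cj x A ≤ H :=
  sup_le hA.le (hA.conj h (ffK_le H hxK)).le

include h hA hxK in
theorem pair_W_le : ⁅V, A ⊔ cj x A⁆ ≤ V := by
  rw [Subgroup.commutator_le]
  intro v hv a ha
  exact commutatorElement_mem_of_mem_normalizer (h.hHV (pair_L_le h hA hxK ha)) hv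

include h hA hxK in
theorem pair_card_W_le : Nat.card ↥⁅V, A ⊔ cj x A⁆ ≤ p ^ 2 := by
  have hB := hA.conj h (ffK_le H hxK)
  rw [pair_commutator h hA hxK]
  calc Nat.card ↥(⁅V, A⁆ ⊔ ⁅V, cj x A⁆) ≤ Nat.card ↥⁅V, A⁆ * Nat.card ↥⁅V, cj x A⁆ :=
        ff_card_sup_le (le_normalizer_of_le_comm h.comm (hA.commutator_le h) (hB.commutator_le h))
    _ = p ^ 2 := by rw [hA.card_commutator h, hB.card_commutator h, sq]

include h hA hxK hxA in
/-- **Faithfulness**: `L` acts faithfully on `W = [V, L]`. -/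
theorem pair_faithful :
    (A ⊔ cj x A) ⊓ centralizer ((⁅V, A ⊔ cj x A⁆ : Subgroup G) : Set G) = ⊥ := by
  have hB := hA.conj h (ffK_le H hxK)
  set L := A ⊔ cj x A with hL
  set W := ⁅V, L⁆ with hW
  set K := ffK p H with hK
  set C := L ⊓ centralizer (W : Set G) with hC
  have hLH : L ≤ H := pair_L_le h hA hxK
  have hLV : L ≤ normalizer (V : Set G) := hLH.trans h.hHV
  have hLW : L ≤ normalizer (W : Set G) := le_normalizer_commutator hLV
  have hLK : L ≤ A ⊔ K :=
    sup_le le_sup_left (cj_le_sup_K (hA.le.trans (ffK_normal H)) hxK)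
  -- Step 1: `C ∩ K = 1`
  have hstep1 : C ⊓ K = ⊥ := by
    set X := C ⊓ K with hX
    have hXp : Cfsg.Agent.Lib.Helper28.PClosing p X := by
      apply Cfsg.Agent.Lib.Helper28.pClosing_of_coprime
      intro y hy
      have h1 : orderOf y ∣ Nat.card K := by
        have := orderOf_dvd_natCard (⟨y, hy.2⟩ : K)
        rwa [Subgroup.orderOf_mk] at this
      exact Nat.Coprime.coprime_dvd_left h1
        ((Nat.Prime.coprime_iff_not_dvd hp.out).mpr (ffK_card H)).symm
    have hXV : X ≤ normalizer (V : Set G) := (inf_le_left.trans inf_le_left).trans hLV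
    have h1 : ⁅X, V⁆ ≤ W := by
      rw [commutator_comm]
      exact commutator_mono le_rfl (inf_le_left.trans inf_le_left)
    have h2 : ⁅W, X⁆ = ⊥ := by
      rw [commutator_eq_bot_iff_le_centralizer, le_centralizer_iff]
      exact inf_le_left.trans inf_le_right
    have h3 : ⁅⁅X, V⁆, X⁆ = ⊥ := le_bot_iff.mp (h2 ▸ commutator_mono h1 le_rfl)
    have h4 := Cfsg.Agent.Lib.Helper28.pClosing_close hXp h.isPGroup hXV V le_rfl h3
    rw [commutator_eq_bot_iff_le_centralizer] at h4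
    have h5 : X ≤ H ⊓ centralizer (V : Set G) :=
      le_inf ((inf_le_left.trans inf_le_left).trans hLH) h4
    rw [h.hf] at h5
    exact le_bot_iff.mp h5
  -- Step 2: `|C|` divides `p`
  have hCK : C ≤ normalizer (K : Set G) := (inf_le_left.trans hLH).trans (ffK_normal H)
  have hstep2 : Nat.card C ∣ p := by
    have h1 := Cfsg.Agent.Lib.Helper01.card_sup_mul_card_inf_of_le_normalizer K C hCK
    rw [inf_comm, hstep1, Subgroup.card_bot, mul_one] at h1
    have h2 : Nat.card ↥(C ⊔ K) ∣ Nat.card ↥(A ⊔ K) :=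
      Subgroup.card_dvd_of_le (sup_le (inf_le_left.trans hLK) le_sup_right)
    rw [h1, card_sup_K hA] at h2
    exact Nat.dvd_of_mul_dvd_mul_left Nat.card_pos h2
  have hCp : IsPGroup p C := by
    rcases (Nat.dvd_prime hp.out).mp hstep2 with h1 | h1
    · exact IsPGroup.of_card (n := 0) (by rw [h1, pow_zero])
    · exact IsPGroup.of_card (n := 1) (by rw [h1, pow_one])
  -- Step 3: `C ≤ A` and `C ≤ A^x`
  have key : ∀ A' : Subgroup G, FFMin p V H A' → A' ≤ L → A' ⊔ K = A ⊔ K → C ≤ A' := by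
    intro A' hA' hA'L hsup
    have hA'C : A' ≤ normalizer (C : Set G) := by
      intro a ha
      apply mem_normalizer_inf (le_normalizer (hA'L ha))
      exact Cfsg.Agent.Lib.Helper55.normalizer_le_normalizer_centralizer W (hLW (hA'L ha))
    have hD : IsPGroup p ↥(C ⊔ A') := IsPGroup.to_sup_of_normal_left' hCp hA'.isPGroup hA'C
    have hDle : C ⊔ A' ≤ A' ⊔ ffK p H := by
      rw [hsup]
      exact sup_le (inf_le_left.trans hLK) (hA'L.trans hLK)
    have hcard := card_le_of_isPGroup_of_le_sup_K hA' hD hDle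
    have : A' = C ⊔ A' := Subgroup.eq_of_le_of_card_ge le_sup_right (by rw [hA'.card]; exact hcard)
    rw [this]
    exact le_sup_left
  have hCA : C ≤ A := key A hA le_sup_left rfl
  have hBK : cj x A ⊔ K = A ⊔ K := by
    apply le_antisymm
    · exact sup_le (cj_le_sup_K (hA.le.trans (ffK_normal H)) hxK) le_sup_right
    · refine sup_le ?_ le_sup_right
      have := cj_le_sup_K (A := cj x A) (hB.le.trans (ffK_normal H)) (inv_mem hxK)
      rw [cj_inv_cj] at this
      exact this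
  have hCB : C ≤ cj x A := key (cj x A) hB le_sup_right hBK
  have := le_inf hCA hCB
  rw [pair_inf_eq_bot hA hxK hxA] at this
  exact le_bot_iff.mp this

include h hA hxK hxA in
/-- `|[V, L]| = p ^ 2` -/
theorem pair_card_W : Nat.card ↥⁅V, A ⊔ cj x A⁆ = p ^ 2 := by
  have hB := hA.conj h (ffK_le H hxK)
  have hle := pair_card_W_le h hA hxK
  have hWp : IsPGroup p ↥⁅V, A ⊔ cj x A⁆ := h.isPGroup.to_le (pair_W_le h hA hxK)
  obtain ⟨m, hm⟩ := IsPGroup.iff_card.mp hWp
  have hAW : ⁅V, A⁆ ≤ ⁅V, A ⊔ cj x A⁆ := commutator_mono le_rfl le_sup_left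
  have hBW : ⁅V, cj x A⁆ ≤ ⁅V, A ⊔ cj x A⁆ := commutator_mono le_rfl le_sup_right
  rcases m with _ | _ | m
  · exfalso
    rw [pow_zero] at hm
    have := Subgroup.card_le_of_le hAW
    rw [hm, hA.card_commutator h] at this
    exact absurd this (not_le.mpr hp.out.one_lt)
  · exfalso
    rw [zero_add, pow_one] at hm
    have e1 : ⁅V, A⁆ = ⁅V, A ⊔ cj x A⁆ :=
      Subgroup.eq_of_le_of_card_ge hAW (by rw [hm, hA.card_commutator h])
    have e2 : ⁅V, cj x A⁆ = ⁅V, A ⊔ cj x A⁆ :=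
      Subgroup.eq_of_le_of_card_ge hBW (by rw [hm, hB.card_commutator h])
    have h1 : A ≤ centralizer ((⁅V, A ⊔ cj x A⁆ : Subgroup G) : Set G) := by
      rw [← e1, le_centralizer_iff]; exact hA.quad h
    have h2 : cj x A ≤ centralizer ((⁅V, A ⊔ cj x A⁆ : Subgroup G) : Set G) := by
      rw [← e2, le_centralizer_iff]; exact hB.quad h
    have h3 : A ≤ (A ⊔ cj x A) ⊓ centralizer ((⁅V, A ⊔ cj x A⁆ : Subgroup G) : Set G) :=
      le_inf le_sup_left h1
    rw [pair_faithful h hA hxK hxA] at h3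
    exact hA.ne_bot (le_bot_iff.mp h3)
  · rw [hm] at hle ⊢
    have : m + 1 + 1 ≤ 2 := (Nat.pow_le_pow_iff_right hp.out.one_lt).mp hle
    have : m = 0 := by omega
    subst this
    rfl

end FFPairSec

end Cfsg.Agent.Lib.Helper52
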