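import Mathlib
import Cfsg.Agent.Lib.Helper52.FFPair
import Cfsg.Agent.Lib.Helper89.GL2Essential

/-!
# `⟨A, A^x⟩ ≅ SL₂(p)` for a minimal offender `A` and `x ∈ O_{p'}(H)` not centralizing `A`
-/

set_option autoImplicit false

namespace Cfsg.Agent.Lib.Helper52

open Subgroup Matrix
open scoped commutatorElement
open Cfsg.Agent.Lib.Helper55 (cj mem_cj conj_mem_cj cj_one cj_mul cj_inv_cj cj_cj_inv cj_mono
  cj_eq_self_iff cj_inf cj_centralizer card_cj isPGroup_cj)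

section ConjAut

variable {G : Type*} [Group G]

/-- Conjugation action of `L ≤ N(W)` on `W`. -/
def conjAutOn (L W : Subgroup G) (hLW : L ≤ normalizer (W : Set G)) : L →* MulAut W where
  toFun l :=
    { toFun := fun w => ⟨(l : G) * w * (l : G)⁻¹, (mem_normalizer_iff.mp (hLW l.2) w).mp w.2⟩
      invFun := fun w => ⟨(l : G)⁻¹ * w * (l : G), by
        apply (mem_normalizer_iff.mp (hLW l.2) ((l : G)⁻¹ * w * (l : G))).mpr
        simp [mul_assoc]⟩
      left_inv := fun w => by ext; simp [mul_assoc]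
      right_inv := fun w => by ext; simp [mul_assoc]
      map_mul' := fun v w => by ext; simp [mul_assoc] }
  map_one' := by ext v; simp
  map_mul' g h := by ext v; simp [mul_assoc]

@[simp] theorem conjAutOn_coe (L W : Subgroup G) (hLW : L ≤ normalizer (W : Set G)) (l : L)
    (w : W) : ((conjAutOn L W hLW l w : W) : G) = (l : G) * w * (l : G)⁻¹ := rfl

theorem conjAutOn_injective (L W : Subgroup G) (hLW : L ≤ normalizer (W : Set G))
    (hf : L ⊓ centralizer (W : Set G) = ⊥) : Function.Injective (conjAutOn L W hLW) := by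
  rw [injective_iff_map_eq_one]
  intro g hg
  have hgc : (g : G) ∈ centralizer (W : Set G) := by
    rw [mem_centralizer_iff]
    intro w hw
    have h1 : (g : G) * w * (g : G)⁻¹ = w := by
      rw [← conjAutOn_coe L W hLW g ⟨w, hw⟩, hg]; rfl
    calc w * (g : G) = ((g : G) * w * (g : G)⁻¹) * g := by rw [h1]
      _ = g * w := by simp [mul_assoc]
  have h2 : (g : G) ∈ L ⊓ centralizer (W : Set G) := ⟨g.2, hgc⟩
  rw [hf] at h2
  exact Subtype.ext (mem_bot.mp h2)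

end ConjAut

section SLp

variable (p : ℕ) [hp : Fact p.Prime]

/-- For `p ∉ {2, 3}` there is a nontrivial `p`-element of `SL₂(p)` which is a commutator. -/
theorem exists_commutator_pElement (h2 : p ≠ 2) (h3 : p ≠ 3) :
    ∃ t u : SpecialLinearGroup (Fin 2) (ZMod p), ⁅t, u⁆ ≠ 1 ∧ ∃ k : ℕ, ⁅t, u⁆ ^ p ^ k = 1 := by
  have hp2 : (2 : ZMod p) ≠ 0 := by
    intro h
    have h' : ((2 : ℕ) : ZMod p) = 0 := by exact_mod_cast h
    rw [ZMod.natCast_eq_zero_iff] at h'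
    exact h2 ((Nat.prime_dvd_prime_iff_eq hp.out Nat.prime_two).mp h')
  have hp3 : (3 : ZMod p) ≠ 0 := by
    intro h
    have h' : ((3 : ℕ) : ZMod p) = 0 := by exact_mod_cast h
    rw [ZMod.natCast_eq_zero_iff] at h'
    exact h3 ((Nat.prime_dvd_prime_iff_eq hp.out Nat.prime_three).mp h')
  let t : SpecialLinearGroup (Fin 2) (ZMod p) :=
    ⟨!![2, 0; 0, (2 : ZMod p)⁻¹], by simp [det_fin_two, mul_inv_cancel₀ hp2]⟩
  let u : SpecialLinearGroup (Fin 2) (ZMod p) := Cfsg.Agent.Lib.Helper07.upSL 1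
  have hconj : t * u = Cfsg.Agent.Lib.Helper07.upSL 4 * t := by
    apply Subtype.ext
    show (!![2, 0; 0, (2 : ZMod p)⁻¹] : Matrix (Fin 2) (Fin 2) (ZMod p)) *
      (Cfsg.Agent.Lib.Helper07.upSL (1 : ZMod p)).val =
      (Cfsg.Agent.Lib.Helper07.upSL (4 : ZMod p)).val * !![2, 0; 0, (2 : ZMod p)⁻¹]
    simp only [Cfsg.Agent.Lib.Helper07.upSL, Cfsg.Agent.Lib.Helper07.upT]
    ext i j
    fin_cases i <;> fin_cases j <;> simp [Matrix.mul_apply, Fin.sum_univ_two]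
    have : (4 : ZMod p) * (2 : ZMod p)⁻¹ = 2 := by
      have h4 : (4 : ZMod p) = 2 * 2 := by norm_num
      rw [h4, mul_assoc, mul_inv_cancel₀ hp2, mul_one]
    exact this.symm
  have hc : ⁅t, u⁆ = Cfsg.Agent.Lib.Helper07.upSL 4 * (Cfsg.Agent.Lib.Helper07.upSL 1)⁻¹ := by
    rw [commutatorElement_def, hconj]
    show Cfsg.Agent.Lib.Helper07.upSL 4 * t * t⁻¹ * (Cfsg.Agent.Lib.Helper07.upSL 1)⁻¹ = _
    group
  refine ⟨t, u, ?_, ?_⟩
  · rw [hc]
    intro h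
    have h1 : Cfsg.Agent.Lib.Helper07.upSL (4 : ZMod p) = Cfsg.Agent.Lib.Helper07.upSL 1 :=
      mul_inv_eq_one.mp h
    have h2 := Cfsg.Agent.Lib.Helper07.upSL_injective h1
    apply hp3
    have : (3 : ZMod p) = 4 - 1 := by norm_num
    rw [this, h2, sub_self]
  · have hmem : ⁅t, u⁆ ∈ (Cfsg.Agent.Lib.Helper07.USL :
        Subgroup (SpecialLinearGroup (Fin 2) (ZMod p))) := by
      rw [hc]
      exact mul_mem (Cfsg.Agent.Lib.Helper07.upSL_mem 4)
        (inv_mem (Cfsg.Agent.Lib.Helper07.upSL_mem 1))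
    obtain ⟨k, hk⟩ := (Cfsg.Agent.Lib.Helper07.isPGroup_USL (F := ZMod p) p) ⟨_, hmem⟩
    exact ⟨k, congrArg Subtype.val hk⟩

end SLp


section PairMain

variable {G : Type*} [Group G] [Finite G] {p : ℕ} [hp : Fact p.Prime]
variable {V H A : Subgroup G}

omit [Finite G] hp in
/-- commutators of elements of `A ⊔ K` lie in `K` when `A` is abelian and normalizes `K` -/
theorem commutatorElement_mem_of_mem_sup {A K : Subgroup G}
    (hAc : ∀ x ∈ A, ∀ y ∈ A, x * y = y * x) (hAK : A ≤ normalizer (K : Set G)) {g₁ g₂ : G}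
    (h₁ : g₁ ∈ A ⊔ K) (h₂ : g₂ ∈ A ⊔ K) : ⁅g₁, g₂⁆ ∈ K := by
  obtain ⟨a₁, ha₁, k₁, hk₁, rfl⟩ := Cfsg.Agent.Lib.Helper01.exists_mul_of_mem_sup hAK h₁
  obtain ⟨a₂, ha₂, k₂, hk₂, rfl⟩ := Cfsg.Agent.Lib.Helper01.exists_mul_of_mem_sup hAK h₂
  have e : ⁅a₁ * k₁, a₂ * k₂⁆ = (a₁ * k₁ * a₁⁻¹) * ((a₁ * a₂) * (k₂ * k₁⁻¹) * (a₁ * a₂)⁻¹) *
      ((a₁ * a₂ * a₁⁻¹) * k₂⁻¹ * a₂⁻¹) := by
    simp only [commutatorElement_def]; group
  have hc : a₁ * a₂ * a₁⁻¹ = a₂ := by rw [hAc a₁ ha₁ a₂ ha₂]; group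
  rw [e, hc]
  have n1 : a₁ * k₁ * a₁⁻¹ ∈ K := (mem_normalizer_iff.mp (hAK ha₁) _).mp hk₁
  have n2 : (a₁ * a₂) * (k₂ * k₁⁻¹) * (a₁ * a₂)⁻¹ ∈ K :=
    (mem_normalizer_iff.mp (hAK (A.mul_mem ha₁ ha₂)) _).mp (K.mul_mem hk₂ (K.inv_mem hk₁))
  have n3 : a₂ * k₂⁻¹ * a₂⁻¹ ∈ K := (mem_normalizer_iff.mp (hAK ha₂) _).mp (K.inv_mem hk₂)
  exact K.mul_mem (K.mul_mem n1 n2) n3

variable (h : FFHyp p V H) (hA : FFMin p V H A) {x : G} (hxK : x ∈ ffK p H)
  (hxA : x ∉ centralizer (A : Set G))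

include h hA hxK in
theorem pair_L_le_normalizer_W :
    A ⊔ cj x A ≤ normalizer ((⁅V, A ⊔ cj x A⁆ : Subgroup G) : Set G) :=
  le_normalizer_commutator ((pair_L_le h hA hxK).trans h.hHV)

include h hA hxK hxA in
/-- **The embedding into `GL₂(p)`, with image `SL₂(p)`.** -/
theorem pair_embed : ∃ e : MulAut ↥⁅V, A ⊔ cj x A⁆ ≃* GL (Fin 2) (ZMod p),
    (e.toMonoidHom.comp (conjAutOn (A ⊔ cj x A) ⁅V, A ⊔ cj x A⁆
      (pair_L_le_normalizer_W h hA hxK))).range =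
    (SpecialLinearGroup.toGL : SpecialLinearGroup (Fin 2) (ZMod p) →* GL (Fin 2) (ZMod p)).range := by
  have hB := hA.conj h (ffK_le H hxK)
  set L := A ⊔ cj x A with hL
  set W := ⁅V, L⁆ with hW
  have hWV : W ≤ V := pair_W_le h hA hxK
  have hcomm : ∀ a b : W, a * b = b * a := fun a b =>
    Subtype.ext (h.comm a (hWV a.2) b (hWV b.2))
  have hexp : ∀ a : W, a ^ p = 1 := fun a => Subtype.ext (h.hV.2 a (hWV a.2))
  obtain ⟨e⟩ := Cfsg.Agent.Lib.Helper89.exists_mulAut_equiv_GL hcomm hexp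
    (pair_card_W h hA hxK hxA)
  refine ⟨e, ?_⟩
  set ι := conjAutOn L W (pair_L_le_normalizer_W h hA hxK) with hι
  have hιinj : Function.Injective ι :=
    conjAutOn_injective L W _ (pair_faithful h hA hxK hxA)
  set f := e.toMonoidHom.comp ι with hf
  have hfinj : Function.Injective f := e.injective.comp hιinj
  have htop : A.subgroupOf L ⊔ (cj x A).subgroupOf L = ⊤ := by
    rw [← subgroupOf_sup le_sup_left le_sup_right, subgroupOf_self]
  have hrange : f.range = (A.subgroupOf L).map f ⊔ ((cj x A).subgroupOf L).map f := by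
    rw [← Subgroup.map_sup, htop, MonoidHom.range_eq_map]
  have hpA : IsPGroup p ↥((A.subgroupOf L).map f) :=
    (hA.isPGroup.comap_of_injective L.subtype L.subtype_injective).map f
  have hpB : IsPGroup p ↥(((cj x A).subgroupOf L).map f) :=
    (hB.isPGroup.comap_of_injective L.subtype L.subtype_injective).map f
  apply le_antisymm
  · rw [hrange]
    refine sup_le ?_ ?_
    · obtain ⟨R, hR⟩ := hpA.exists_le_sylow
      exact hR.trans (Cfsg.Agent.Lib.Helper89.sylow_GL2_le_range p R)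
    · obtain ⟨R, hR⟩ := hpB.exists_le_sylow
      exact hR.trans (Cfsg.Agent.Lib.Helper89.sylow_GL2_le_range p R)
  · have hne : ∀ X : Subgroup G, X ≤ L → X ≠ ⊥ → (X.subgroupOf L).map f ≠ ⊥ := by
      intro X hXL hX hbot
      rw [Subgroup.map_eq_bot_iff_of_injective _ hfinj, subgroupOf_eq_bot] at hbot
      exact hX (disjoint_self.mp (hbot.mono_right hXL))
    refine Cfsg.Agent.Lib.Helper89.toGL_range_le_of_two_pSubgroups p f.range
      ((A.subgroupOf L).map f) (((cj x A).subgroupOf L).map f)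
      (Subgroup.map_le_range _ _) (Subgroup.map_le_range _ _) hpA hpB
      (hne A le_sup_left hA.ne_bot) (hne _ le_sup_right hB.ne_bot) ?_
    intro heq
    have h1 := Subgroup.map_injective hfinj heq
    rw [subgroupOf_inj, inf_eq_left.mpr (le_sup_left : A ≤ L),
      inf_eq_left.mpr (le_sup_right : cj x A ≤ L)] at h1
    exact pair_ne hA hxK hxA h1.symm

include h hA hxK hxA in
/-- `⟨A, A^x⟩ ≅ SL₂(p)` -/
theorem pair_equiv : Nonempty (↥(A ⊔ cj x A) ≃* SpecialLinearGroup (Fin 2) (ZMod p)) := by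
  obtain ⟨e, he⟩ := pair_embed h hA hxK hxA
  set ι := conjAutOn (A ⊔ cj x A) ⁅V, A ⊔ cj x A⁆ (pair_L_le_normalizer_W h hA hxK) with hι
  have hιinj : Function.Injective ι :=
    conjAutOn_injective _ _ _ (pair_faithful h hA hxK hxA)
  have hfinj : Function.Injective (e.toMonoidHom.comp ι) := e.injective.comp hιinj
  have e1 : ↥(A ⊔ cj x A) ≃* (e.toMonoidHom.comp ι).range := MonoidHom.ofInjective hfinj
  have e2 : (e.toMonoidHom.comp ι).range ≃* (SpecialLinearGroup.toGL :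
      SpecialLinearGroup (Fin 2) (ZMod p) →* GL (Fin 2) (ZMod p)).range :=
    MulEquiv.subgroupCongr he
  have e3 : SpecialLinearGroup (Fin 2) (ZMod p) ≃* (SpecialLinearGroup.toGL :
      SpecialLinearGroup (Fin 2) (ZMod p) →* GL (Fin 2) (ZMod p)).range :=
    MonoidHom.ofInjective (SpecialLinearGroup.toGL_injective (n := Fin 2) (R := ZMod p))
  exact ⟨(e1.trans e2).trans e3.symm⟩

include h hA hxK hxA in
/-- every automorphism of `W` of order dividing `p` is induced by an element of `L` -/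
theorem pair_mem_range (β : MulAut ↥⁅V, A ⊔ cj x A⁆) (hβ : β ^ p = 1) :
    ∃ l : ↥(A ⊔ cj x A), ∀ w : ↥⁅V, A ⊔ cj x A⁆, ((β w : ↥⁅V, A ⊔ cj x A⁆) : G) =
      (l : G) * w * (l : G)⁻¹ := by
  obtain ⟨e, he⟩ := pair_embed h hA hxK hxA
  have hpz : IsPGroup p ↥(zpowers (e β)) := by
    have h1 : (e β) ^ p = 1 := by rw [← map_pow, hβ, map_one]
    intro g
    obtain ⟨k, hk⟩ := mem_zpowers_iff.mp g.2
    refine ⟨1, ?_⟩
    apply Subtype.ext
    rw [pow_one]
    show (g : GL (Fin 2) (ZMod p)) ^ p = 1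
    rw [← hk, ← zpow_natCast, ← _root_.zpow_mul, mul_comm, _root_.zpow_mul, zpow_natCast, h1, _root_.one_zpow]
  obtain ⟨R, hR⟩ := hpz.exists_le_sylow
  have hmem : e β ∈ (SpecialLinearGroup.toGL :
      SpecialLinearGroup (Fin 2) (ZMod p) →* GL (Fin 2) (ZMod p)).range :=
    Cfsg.Agent.Lib.Helper89.sylow_GL2_le_range p R (hR (mem_zpowers _))
  rw [← he] at hmem
  obtain ⟨l, hl⟩ := hmem
  refine ⟨l, fun w => ?_⟩
  have h2 : conjAutOn (A ⊔ cj x A) ⁅V, A ⊔ cj x A⁆ (pair_L_le_normalizer_W h hA hxK) l = β :=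
    e.injective hl
  rw [← h2]
  rfl

include h hA hxK hxA in
/-- `p ∈ {2, 3}` -/
theorem pair_prime : p = 2 ∨ p = 3 := by
  by_contra hcon
  push Not at hcon
  obtain ⟨t, u, hne, k, hk⟩ := exists_commutator_pElement p hcon.1 hcon.2
  obtain ⟨e'⟩ := pair_equiv h hA hxK hxA
  set lt := e'.symm t with hlt
  set lu := e'.symm u with hlu
  have hLK : A ⊔ cj x A ≤ A ⊔ ffK p H :=
    sup_le le_sup_left (cj_le_sup_K (hA.le.trans (ffK_normal H)) hxK)
  have hcK : ⁅(lt : G), (lu : G)⁆ ∈ ffK p H :=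
    commutatorElement_mem_of_mem_sup hA.comm (hA.le.trans (ffK_normal H)) (hLK lt.2) (hLK lu.2)
  have hce : e' ⁅lt, lu⁆ = ⁅t, u⁆ := by
    rw [map_commutatorElement, hlt, hlu, MulEquiv.apply_symm_apply, MulEquiv.apply_symm_apply]
  have hpow : (⁅lt, lu⁆ : ↥(A ⊔ cj x A)) ^ p ^ k = 1 := by
    apply e'.injective
    rw [map_pow, hce, hk, map_one]
  have hcoe : ((⁅lt, lu⁆ : ↥(A ⊔ cj x A)) : G) = ⁅(lt : G), (lu : G)⁆ := by
    simp [commutatorElement_def]
  have hpowG : (⁅(lt : G), (lu : G)⁆) ^ p ^ k = 1 := by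
    rw [← hcoe, ← Subgroup.coe_pow, hpow]; rfl
  have h1 : orderOf ⁅(lt : G), (lu : G)⁆ ∣ p ^ k := orderOf_dvd_of_pow_eq_one hpowG
  have h2 : orderOf ⁅(lt : G), (lu : G)⁆ ∣ Nat.card (ffK p H) := by
    have := orderOf_dvd_natCard (⟨_, hcK⟩ : ffK p H)
    rwa [Subgroup.orderOf_mk] at this
  have hcop : (Nat.card (ffK p H)).Coprime (p ^ k) :=
    (((Nat.Prime.coprime_iff_not_dvd hp.out).mpr (ffK_card H)).symm).pow_right k
  have h3 := Nat.eq_one_of_dvd_coprimes hcop h2 h1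
  rw [orderOf_eq_one_iff] at h3
  apply hne
  rw [← hce]
  have : (⁅lt, lu⁆ : ↥(A ⊔ cj x A)) = 1 := Subtype.ext (hcoe.trans h3)
  rw [this, map_one]

end PairMain

end Cfsg.Agent.Lib.Helper52
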