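import Mathlib
import Cfsg.Agent.Lib.Helper52.FFPair2

/-!
# All `O_{p'}(H)`-conjugates of a minimal offender `A` lie in `⟨A, A^x⟩`; `[O_{p'}(H), A] A ≅ SL₂(p)`
-/

set_option autoImplicit false

namespace Cfsg.Agent.Lib.Helper52

open Subgroup Matrix
open scoped commutatorElement
open Cfsg.Agent.Lib.Helper55 (cj mem_cj conj_mem_cj cj_one cj_mul cj_inv_cj cj_cj_inv cj_mono
  cj_eq_self_iff cj_inf cj_centralizer card_cj isPGroup_cj cj_eq_self_of_mem)

section Pair3

variable {G : Type*} [Group G] [Finite G] {p : ℕ} [hp : Fact p.Prime]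
variable {V H A : Subgroup G}
variable (h : FFHyp p V H) (hA : FFMin p V H A) {x : G} (hxK : x ∈ ffK p H)
  (hxA : x ∉ centralizer (A : Set G))

include hxA in
omit [Finite G] hp in
/-- symmetry: `x⁻¹` does not centralize `A^x` -/
theorem pair_symm_not_mem : x⁻¹ ∉ centralizer ((cj x A : Subgroup G) : Set G) := by
  intro hx
  apply hxA
  rw [← cj_centralizer, mem_cj] at hx
  have : x⁻¹ * x⁻¹ * x = x⁻¹ := by group
  rw [this] at hx
  have := inv_mem hx
  rwa [inv_inv] at this

include h hA hxK hxA in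
/-- **(P2)**: `[V, A]` is not centralized by `A^x`. -/
theorem pair_not_le_centralizer : ¬ ⁅V, A⁆ ≤ centralizer ((cj x A : Subgroup G) : Set G) := by
  intro hcon
  have hB := hA.conj h (ffK_le H hxK)
  have hW : ⁅V, A ⊔ cj x A⁆ ≤ centralizer ((cj x A : Subgroup G) : Set G) := by
    rw [pair_commutator h hA hxK]
    exact sup_le hcon (hB.quad h)
  have h1 : cj x A ≤ (A ⊔ cj x A) ⊓ centralizer ((⁅V, A ⊔ cj x A⁆ : Subgroup G) : Set G) :=
    le_inf le_sup_right (le_centralizer_iff.mp hW)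
  rw [pair_faithful h hA hxK hxA] at h1
  exact hB.ne_bot (le_bot_iff.mp h1)

include h hA hxK hxA in
/-- `C_W(A) = [V, A]` -/
theorem pair_W_inf_centralizer_A :
    ⁅V, A ⊔ cj x A⁆ ⊓ centralizer (A : Set G) = ⁅V, A⁆ := by
  set W := ⁅V, A ⊔ cj x A⁆ with hW
  have hAW : ⁅V, A⁆ ≤ W ⊓ centralizer (A : Set G) :=
    le_inf (commutator_mono le_rfl le_sup_left) (hA.quad h)
  symm
  apply Subgroup.eq_of_le_of_card_ge hAW
  rw [hA.card_commutator h]
  have hWp : IsPGroup p ↥W := h.isPGroup.to_le (pair_W_le h hA hxK)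
  have hlt : W ⊓ centralizer (A : Set G) < W := by
    refine lt_of_le_of_ne inf_le_left ?_
    intro heq
    have h1 : W ≤ centralizer (A : Set G) := heq ▸ inf_le_right
    have h2 : A ≤ (A ⊔ cj x A) ⊓ centralizer (W : Set G) :=
      le_inf le_sup_left (le_centralizer_iff.mp h1)
    rw [pair_faithful h hA hxK hxA] at h2
    exact hA.ne_bot (le_bot_iff.mp h2)
  have h3 := ff_card_mul_le_of_lt hWp hlt
  rw [pair_card_W h hA hxK hxA, sq] at h3
  exact Nat.le_of_mul_le_mul_left h3 hp.out.pos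

include h hA hxK hxA in
theorem pair_commutator_inf_eq_bot : ⁅V, A⁆ ⊓ ⁅V, cj x A⁆ = ⊥ := by
  by_contra hne
  have hB := hA.conj h (ffK_le H hxK)
  have h1 := eq_of_le_of_card_prime hp.out (hA.card_commutator h) inf_le_left hne
  have h2 : ⁅V, A⁆ ≤ ⁅V, cj x A⁆ := by
    calc ⁅V, A⁆ = ⁅V, A⁆ ⊓ ⁅V, cj x A⁆ := h1.symm
      _ ≤ _ := inf_le_right
  exact pair_not_le_centralizer h hA hxK hxA (h2.trans (hB.quad h))

omit [Finite G] hp in
theorem centralizer_sup_eq (X Y : Subgroup G) :
    centralizer ((X ⊔ Y : Subgroup G) : Set G) = centralizer (X : Set G) ⊓ centralizer (Y : Set G) := by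
  apply le_antisymm
  · exact le_inf (centralizer_le (by exact_mod_cast (le_sup_left : X ≤ X ⊔ Y)))
      (centralizer_le (by exact_mod_cast (le_sup_right : Y ≤ X ⊔ Y)))
  · intro g hg
    have h1 : X ≤ centralizer ({g} : Set G) := by
      intro y hy
      rw [mem_centralizer_iff]
      intro z hz
      rw [Set.mem_singleton_iff] at hz
      subst hz
      exact ((mem_centralizer_iff.mp hg.1) y hy).symm
    have h2 : Y ≤ centralizer ({g} : Set G) := by
      intro y hy
      rw [mem_centralizer_iff]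
      intro z hz
      rw [Set.mem_singleton_iff] at hz
      subst hz
      exact ((mem_centralizer_iff.mp hg.2) y hy).symm
    rw [mem_centralizer_iff]
    intro y hy
    exact ((mem_centralizer_iff.mp (sup_le h1 h2 hy)) g rfl).symm

include h hA hxK hxA in
/-- `C_W(L) = 1` -/
theorem pair_W_inf_centralizer :
    ⁅V, A ⊔ cj x A⁆ ⊓ centralizer ((A ⊔ cj x A : Subgroup G) : Set G) = ⊥ := by
  have hB := hA.conj h (ffK_le H hxK)
  have hxK' : x⁻¹ ∈ ffK p H := inv_mem hxK
  have hxB := pair_symm_not_mem (A := A) hxA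
  have e1 := pair_W_inf_centralizer_A h hA hxK hxA
  have e2 := pair_W_inf_centralizer_A h hB hxK' hxB
  rw [cj_inv_cj, sup_comm] at e2
  rw [centralizer_sup_eq, eq_bot_iff, ← pair_commutator_inf_eq_bot h hA hxK hxA, ← e1, ← e2]
  exact le_inf (inf_le_inf_left _ inf_le_left) (inf_le_inf_left _ inf_le_right)

include h hA hxK hxA in
/-- `|V : C_V(L)| = p ^ 2` -/
theorem pair_card_centralizer :
    Nat.card ↥(V ⊓ centralizer ((A ⊔ cj x A : Subgroup G) : Set G)) * p ^ 2 = Nat.card V := by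
  have hB := hA.conj h (ffK_le H hxK)
  have hxK' : x⁻¹ ∈ ffK p H := inv_mem hxK
  have hxB := pair_symm_not_mem (A := A) hxA
  set C₁ := V ⊓ centralizer (A : Set G) with hC₁
  set C₂ := V ⊓ centralizer ((cj x A : Subgroup G) : Set G) with hC₂
  have e : V ⊓ centralizer ((A ⊔ cj x A : Subgroup G) : Set G) = C₁ ⊓ C₂ := by
    rw [centralizer_sup_eq, hC₁, hC₂]
    apply le_antisymm
    · exact le_inf (inf_le_inf_left _ inf_le_left) (inf_le_inf_left _ inf_le_right)
    · exact le_inf (inf_le_left.trans inf_le_left)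
        (le_inf (inf_le_left.trans inf_le_right) (inf_le_right.trans inf_le_right))
  have hc1 : p * Nat.card C₁ = Nat.card V := hA.card_cent
  have hc2 : p * Nat.card C₂ = Nat.card V := hB.card_cent
  have hne : ¬ C₂ ≤ C₁ := by
    intro hle
    have h1 : ⁅V, cj x A⁆ ≤ centralizer (A : Set G) :=
      (le_inf (hB.commutator_le h) (hB.quad h)).trans (hle.trans inf_le_right)
    have := pair_not_le_centralizer h hB hxK' hxB
    rw [cj_inv_cj] at this
    exact this h1
  have hlt : C₁ < C₁ ⊔ C₂ := by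
    refine lt_of_le_of_ne le_sup_left ?_
    intro heq
    exact hne (heq ▸ le_sup_right)
  have hsupV : C₁ ⊔ C₂ ≤ V := sup_le inf_le_left inf_le_left
  have h3 := ff_card_mul_le_of_lt (h.isPGroup.to_le hsupV) hlt
  have hsup : Nat.card ↥(C₁ ⊔ C₂) = Nat.card V := by
    apply le_antisymm (Subgroup.card_le_of_le hsupV)
    rw [← hc1]; exact h3
  have hprod := Cfsg.Agent.Lib.Helper01.card_sup_mul_card_inf_of_le_normalizer C₂ C₁
    (le_normalizer_of_le_comm h.comm inf_le_left inf_le_left)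
  rw [hsup, inf_comm] at hprod
  rw [e]
  have hVpos : 0 < Nat.card V := Nat.card_pos
  have : Nat.card V * (Nat.card ↥(C₁ ⊓ C₂) * p ^ 2) = Nat.card V * Nat.card V := by
    calc Nat.card V * (Nat.card ↥(C₁ ⊓ C₂) * p ^ 2)
        = (Nat.card V * Nat.card ↥(C₁ ⊓ C₂)) * p ^ 2 := by ring
      _ = (Nat.card C₂ * Nat.card C₁) * p ^ 2 := by rw [hprod]
      _ = (p * Nat.card C₂) * (p * Nat.card C₁) := by ring
      _ = Nat.card V * Nat.card V := by rw [hc1, hc2]
  exact Nat.eq_of_mul_eq_mul_left hVpos this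

include h hA hxK hxA in
/-- `V = [V, L] C_V(L)` -/
theorem pair_sup_eq :
    ⁅V, A ⊔ cj x A⁆ ⊔ (V ⊓ centralizer ((A ⊔ cj x A : Subgroup G) : Set G)) = V := by
  set W := ⁅V, A ⊔ cj x A⁆ with hW
  set C := V ⊓ centralizer ((A ⊔ cj x A : Subgroup G) : Set G) with hC
  have hWV : W ≤ V := pair_W_le h hA hxK
  have hle : W ⊔ C ≤ V := sup_le hWV inf_le_left
  apply Subgroup.eq_of_le_of_card_ge hle
  have hprod := Cfsg.Agent.Lib.Helper01.card_sup_mul_card_inf_of_le_normalizer C W
    (le_normalizer_of_le_comm h.comm hWV inf_le_left)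
  have hinf : C ⊓ W = ⊥ := by
    rw [eq_bot_iff, ← pair_W_inf_centralizer h hA hxK hxA]
    exact le_inf inf_le_right (inf_le_left.trans inf_le_right)
  rw [hinf, Subgroup.card_bot, mul_one, pair_card_W h hA hxK hxA,
    pair_card_centralizer h hA hxK hxA] at hprod
  rw [hprod]


include h hA in
/-- consequence of (P2): a `K`-conjugate of `A` centralizing `[V, A]` is `A` itself -/
theorem eq_of_commutator_le_centralizer {y : G} (hyK : y ∈ ffK p H)
    (hc : ⁅V, A⁆ ≤ centralizer ((cj y A : Subgroup G) : Set G)) : cj y A = A := by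
  by_cases hy : y ∈ centralizer (A : Set G)
  · exact cj_eq_self_iff.mpr (centralizer_le_normalizer _ hy)
  · exact absurd hc (pair_not_le_centralizer h hA hyK hy)

include h hA hxK hxA in
/-- **Triple lemma**: every `K`-conjugate of `A` lies in `⟨A, A^x⟩`. -/
theorem triple {y : G} (hyK : y ∈ ffK p H) : cj y A ≤ A ⊔ cj x A := by
  have hB := hA.conj h (ffK_le H hxK)
  have hA₃ := hA.conj h (ffK_le H hyK)
  set K := ffK p H with hK
  set L := A ⊔ cj x A with hL
  set W := ⁅V, L⁆ with hW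
  set C₃ := V ⊓ centralizer ((cj y A : Subgroup G) : Set G) with hC₃
  have hWV : W ≤ V := pair_W_le h hA hxK
  -- Step 1: `C₃ ∩ W ≠ 1`
  have hne : C₃ ⊓ W ≠ ⊥ := by
    intro hbot
    have hprod := Cfsg.Agent.Lib.Helper01.card_sup_mul_card_inf_of_le_normalizer C₃ W
      (le_normalizer_of_le_comm h.comm hWV inf_le_left)
    rw [hbot, Subgroup.card_bot, mul_one, pair_card_W h hA hxK hxA] at hprod
    have hle : Nat.card ↥(W ⊔ C₃) ≤ Nat.card V :=
      Subgroup.card_le_of_le (sup_le hWV inf_le_left)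
    have hc3 : p * Nat.card C₃ = Nat.card V := hA₃.card_cent
    rw [hprod, ← hc3] at hle
    have hpos : 0 < Nat.card C₃ := Nat.card_pos
    have h2 : p ^ 2 ≤ p := by
      have : Nat.card C₃ * p ^ 2 ≤ Nat.card C₃ * p := by rw [mul_comm _ p]; exact hle
      exact Nat.le_of_mul_le_mul_left this hpos
    have : p < p ^ 2 := by
      have := hp.out.one_lt
      nlinarith
    omega
  obtain ⟨⟨w, hwm⟩, hw1⟩ := (Subgroup.ne_bot_iff_exists_ne_one).mp hne
  have hw1' : w ≠ 1 := fun hh => hw1 (Subtype.ext hh)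
  have hwC : w ∈ centralizer ((cj y A : Subgroup G) : Set G) := hwm.1.2
  have hwW : w ∈ ⁅V, A⁆ ⊔ ⁅V, cj x A⁆ := by
    rw [← pair_commutator h hA hxK]; exact hwm.2
  obtain ⟨u₁, hu₁, u₂, hu₂, hwu⟩ := Cfsg.Agent.Lib.Helper01.exists_mul_of_mem_sup
    (le_normalizer_of_le_comm h.comm (hA.commutator_le h) (hB.commutator_le h)) hwW
  -- Step 3: find `z ∈ K` with `A^z ≤ L` and `[V, A^z] ≤ C(A^y)`
  have key : ∃ z ∈ K, cj z A ≤ L ∧ ⁅V, cj z A⁆ ≤ centralizer ((cj y A : Subgroup G) : Set G) := by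
    by_cases hu₁1 : u₁ = 1
    · -- `w ∈ [V, A^x]`
      refine ⟨x, hxK, le_sup_right, ?_⟩
      have hw2 : w ∈ ⁅V, cj x A⁆ := by rw [hwu, hu₁1, one_mul]; exact hu₂
      rw [← zpowers_eq_of_card_prime hp.out (hB.card_commutator h) hw2 hw1']
      exact zpowers_le.mpr hwC
    · -- `u₁ ≠ 1`
      obtain ⟨b, hbB, hb1⟩ := exists_ne_one_of_card_prime hp.out hB.card
      have hBz := zpowers_eq_of_card_prime hp.out hB.card hbB hb1
      have hP₁z := zpowers_eq_of_card_prime hp.out (hA.card_commutator h) hu₁ hu₁1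
      have hbV : b ∈ normalizer (V : Set G) := h.hHV (hB.le hbB)
      have hu₁V : u₁ ∈ V := hA.commutator_le h hu₁
      set d := b * u₁ * b⁻¹ * u₁⁻¹ with hd
      have hdP : d ∈ ⁅V, cj x A⁆ := by
        have : d = (⁅u₁, b⁆)⁻¹ := by rw [hd, commutatorElement_def]; group
        rw [this]
        exact inv_mem (commutator_mem_commutator hu₁V hbB)
      have hd1 : d ≠ 1 := by
        intro hd1
        apply pair_not_le_centralizer h hA hxK hxA
        rw [← hP₁z, ← hBz, centralizer_zpowers_eq, zpowers_le, mem_centralizer_iff]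
        intro z hz
        rw [Set.mem_singleton_iff] at hz
        subst hz
        have : z * u₁ * z⁻¹ * u₁⁻¹ = 1 := hd1
        calc z * u₁ = (z * u₁ * z⁻¹ * u₁⁻¹) * u₁ * z := by group
          _ = u₁ * z := by rw [this, one_mul]
      have hP₂z := zpowers_eq_of_card_prime hp.out (hB.card_commutator h) hdP hd1
      have hdb : b * d * b⁻¹ = d := by
        have h1 : d ∈ centralizer ((cj x A : Subgroup G) : Set G) := hB.quad h hdP
        have := (mem_centralizer_iff.mp h1) b hbB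
        rw [this]; group
      have hdu : d * u₁ = u₁ * d := h.comm d (hB.commutator_le h hdP) u₁ hu₁V
      have hconj : ∀ k : ℕ, b ^ k * u₁ * (b ^ k)⁻¹ = u₁ * d ^ k := by
        intro k
        induction k with
        | zero => simp
        | succ k ih =>
          have hbd : ∀ k : ℕ, b * d ^ k * b⁻¹ = d ^ k := by
            intro k
            have h1 : (b * d * b⁻¹) ^ k = d ^ k := by rw [hdb]
            rw [← conj_pow, h1]
          calc b ^ (k + 1) * u₁ * (b ^ (k + 1))⁻¹
              = b * (b ^ k * u₁ * (b ^ k)⁻¹) * b⁻¹ := by rw [pow_succ']; group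
            _ = b * (u₁ * d ^ k) * b⁻¹ := by rw [ih]
            _ = (b * u₁ * b⁻¹) * (b * d ^ k * b⁻¹) := by group
            _ = (d * u₁) * d ^ k := by
                rw [hbd k]
                have : b * u₁ * b⁻¹ = d * u₁ := by rw [hd]; group
                rw [this]
            _ = u₁ * d ^ (k + 1) := by rw [hdu, pow_succ', mul_assoc]
      -- `u₂ = d ^ k`
      have hu₂z : u₂ ∈ zpowers d := hP₂z ▸ hu₂
      rw [← mem_powers_iff_mem_zpowers, Submonoid.mem_powers_iff] at hu₂z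
      obtain ⟨k, hk⟩ := hu₂z
      set g := b ^ k with hg
      have hgB : g ∈ cj x A := pow_mem hbB k
      have hgw : g * u₁ * g⁻¹ = w := by rw [hconj k, hk, hwu]
      -- `g = x a' x⁻¹`
      obtain ⟨a', ha', hga'⟩ := hgB
      have hga : g = x * a' * x⁻¹ := by rw [← hga']; simp [MulAut.conj_apply]
      refine ⟨g * a'⁻¹, ?_, ?_, ?_⟩
      · have h1 : a' * x⁻¹ * a'⁻¹ ∈ K :=
          (mem_normalizer_iff.mp (ffK_normal H (hA.le ha')) _).mp (inv_mem hxK)
        have : g * a'⁻¹ = x * (a' * x⁻¹ * a'⁻¹) := by rw [hga]; group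
        rw [this]
        exact mul_mem hxK h1
      · rw [cj_mul, cj_eq_self_of_mem (inv_mem ha')]
        rintro _ ⟨a, ha, rfl⟩
        have hgL : g ∈ L := le_sup_right (a := A) (hga' ▸ ⟨a', ha', rfl⟩ : g ∈ cj x A)
        have : (MulAut.conj g).toMonoidHom a = g * a * g⁻¹ := by simp [MulAut.conj_apply]
        rw [this]
        exact mul_mem (mul_mem hgL (le_sup_left (b := cj x A) ha)) (inv_mem hgL)
      · rw [cj_mul, cj_eq_self_of_mem (inv_mem ha')]
        have hgH : g ∈ H := hB.le (hga' ▸ ⟨a', ha', rfl⟩ : g ∈ cj x A)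
        have hVg : cj g V = V := cj_eq_self_iff.mpr (h.hHV hgH)
        have e1 : ⁅V, cj g A⁆ = cj g ⁅V, A⁆ := by rw [cj_commutator, hVg]
        have hAg := hA.conj h hgH
        have hwmem : w ∈ ⁅V, cj g A⁆ := by
          rw [e1, ← hgw]; exact conj_mem_cj hu₁
        rw [← zpowers_eq_of_card_prime hp.out (hAg.card_commutator h) hwmem hw1']
        exact zpowers_le.mpr hwC
  obtain ⟨z, hzK, hzL, hzc⟩ := key
  -- Step 4
  have hAz := hA.conj h (ffK_le H hzK)
  have e : cj y A = cj (y * z⁻¹) (cj z A) := by rw [← cj_mul, inv_mul_cancel_right]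
  have := eq_of_commutator_le_centralizer h hAz (y := y * z⁻¹) (mul_mem hyK (inv_mem hzK))
    (by rw [← e]; exact hzc)
  rw [e, this]
  exact hzL

include h hA hxK hxA in
/-- **`E_A = [K, A] A = ⟨A, A^x⟩`** -/
theorem ffE_eq : ⁅ffK p H, A⁆ ⊔ A = A ⊔ cj x A := by
  apply le_antisymm
  · refine sup_le ?_ le_sup_left
    rw [Subgroup.commutator_le]
    intro k hk a ha
    have h1 : k * a * k⁻¹ ∈ A ⊔ cj x A := triple h hA hxK hxA hk (conj_mem_cj ha)
    have : ⁅k, a⁆ = (k * a * k⁻¹) * a⁻¹ := by rw [commutatorElement_def]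
    rw [this]
    exact mul_mem h1 (le_sup_left (b := cj x A) (inv_mem ha))
  · refine sup_le le_sup_right ?_
    rintro _ ⟨a, ha, rfl⟩
    have : (MulAut.conj x).toMonoidHom a = ⁅x, a⁆ * a := by
      simp [MulAut.conj_apply, commutatorElement_def]
    rw [this]
    exact mul_mem (le_sup_left (b := A) (commutator_mem_commutator hxK ha))
      (le_sup_right (a := ⁅ffK p H, A⁆) ha)

end Pair3

end Cfsg.Agent.Lib.Helper52
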