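import Mathlib
import Cfsg.Agent.Lib.Helper52.FFPair3

/-!
# The subgroup `E_A = [O_{p'}(H), A] A ≅ SL₂(p)` attached to a minimal offender `A`
-/

set_option autoImplicit false

namespace Cfsg.Agent.Lib.Helper52

open Subgroup Matrix
open scoped commutatorElement
open Cfsg.Agent.Lib.Helper55 (cj mem_cj conj_mem_cj cj_one cj_mul cj_inv_cj cj_cj_inv cj_mono
  cj_eq_self_iff cj_inf cj_centralizer card_cj isPGroup_cj cj_eq_self_of_mem)

section SL23

theorem sl23_det_i : (!![0, -1; 1, 0] : Matrix (Fin 2) (Fin 2) (ZMod 3)).det = 1 := by decide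
theorem sl23_det_j : (!![1, 1; 1, -1] : Matrix (Fin 2) (Fin 2) (ZMod 3)).det = 1 := by decide
theorem sl23_pow_i : (!![0, -1; 1, 0] : Matrix (Fin 2) (Fin 2) (ZMod 3)) ^ 4 = 1 := by decide
theorem sl23_pow_j : (!![1, 1; 1, -1] : Matrix (Fin 2) (Fin 2) (ZMod 3)) ^ 4 = 1 := by decide
theorem sl23_ne : (!![0, -1; 1, 0] : Matrix (Fin 2) (Fin 2) (ZMod 3)) * !![1, 1; 1, -1] ≠
    !![1, 1; 1, -1] * !![0, -1; 1, 0] := by decide

/-- A normal subgroup of order `8` of `SL₂(3)` is not abelian. -/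
theorem exists_not_comm_of_normal_card_eight (N : Subgroup (SpecialLinearGroup (Fin 2) (ZMod 3)))
    [hN : N.Normal] (hcard : Nat.card N = 8) : ∃ x ∈ N, ∃ y ∈ N, x * y ≠ y * x := by
  have hNp : IsPGroup 2 N := IsPGroup.of_card (n := 3) (by rw [hcard]; norm_num)
  have hSL : Nat.card (SpecialLinearGroup (Fin 2) (ZMod 3)) = 24 := by
    rw [Cfsg.Agent.Lib.Helper07.card_SL_two', ZMod.card]
    norm_num
  have key : ∀ g : SpecialLinearGroup (Fin 2) (ZMod 3), g ^ 4 = 1 → g ∈ N := by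
    intro g hg
    have hz : IsPGroup 2 ↥(zpowers g) := by
      intro y
      refine ⟨2, ?_⟩
      obtain ⟨k, hk⟩ := mem_zpowers_iff.mp y.2
      apply Subtype.ext
      show (y : SpecialLinearGroup (Fin 2) (ZMod 3)) ^ 2 ^ 2 = 1
      rw [← hk]
      norm_num
      rw [← zpow_natCast, ← _root_.zpow_mul, mul_comm, _root_.zpow_mul, zpow_natCast, hg,
        _root_.one_zpow]
    have hD : IsPGroup 2 ↥(N ⊔ zpowers g) := IsPGroup.to_sup_of_normal_left hNp hz
    obtain ⟨m, hm⟩ := IsPGroup.iff_card.mp hD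
    have hdvd : Nat.card ↥(N ⊔ zpowers g) ∣ 24 := hSL ▸ Subgroup.card_subgroup_dvd_card _
    rw [hm] at hdvd
    have hm3 : m ≤ 3 := by
      by_contra hcon
      push Not at hcon
      have : 2 ^ 4 ∣ 24 := (pow_dvd_pow 2 hcon).trans hdvd
      norm_num at this
    have hle : Nat.card ↥(N ⊔ zpowers g) ≤ Nat.card N := by
      rw [hm, hcard]
      calc 2 ^ m ≤ 2 ^ 3 := Nat.pow_le_pow_right (by norm_num) hm3
        _ = 8 := by norm_num
    have : N = N ⊔ zpowers g := Subgroup.eq_of_le_of_card_ge le_sup_left hle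
    rw [this]
    exact mem_sup_right (mem_zpowers g)
  let i : SpecialLinearGroup (Fin 2) (ZMod 3) := ⟨!![0, -1; 1, 0], sl23_det_i⟩
  let j : SpecialLinearGroup (Fin 2) (ZMod 3) := ⟨!![1, 1; 1, -1], sl23_det_j⟩
  have hi : i ^ 4 = 1 := Subtype.ext sl23_pow_i
  have hj : j ^ 4 = 1 := Subtype.ext sl23_pow_j
  refine ⟨i, key i hi, j, key j hj, ?_⟩
  intro hij
  exact sl23_ne (congrArg Subtype.val hij)

end SL23

section EA

variable {G : Type*} [Group G] [Finite G] {p : ℕ} [hp : Fact p.Prime]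
variable {V H A : Subgroup G}
variable (h : FFHyp p V H) (hA : FFMin p V H A)

/-- `E_A = [O_{p'}(H), A] A` -/
noncomputable def ffE (p : ℕ) (H A : Subgroup G) : Subgroup G := ⁅ffK p H, A⁆ ⊔ A

include h hA in
/-- some element of `K` does not centralize `A` -/
theorem exists_not_centralizing : ∃ x ∈ ffK p H, x ∉ centralizer (A : Set G) := by
  by_contra hcon
  push Not at hcon
  have h1 : ffK p H ≤ centralizer (A : Set G) := hcon
  have h2 : A ≤ A ⊓ centralizer ((ffK p H : Subgroup G) : Set G) :=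
    le_inf le_rfl (le_centralizer_iff.mp h1)
  rw [(hA.acts h).hAf] at h2
  exact hA.ne_bot (le_bot_iff.mp h2)

include h hA in
theorem ffE_eq_pair {x : G} (hxK : x ∈ ffK p H) (hxA : x ∉ centralizer (A : Set G)) :
    ffE p H A = A ⊔ cj x A := ffE_eq h hA hxK hxA

omit [Finite G] hp in
theorem le_ffE : A ≤ ffE p H A := le_sup_right

include hA in
theorem ffE_le : ffE p H A ≤ H := by
  refine sup_le ?_ hA.le
  rw [Subgroup.commutator_le]
  intro k hk a ha
  rw [commutatorElement_def]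
  exact H.mul_mem (H.mul_mem (H.mul_mem (ffK_le H hk) (hA.le ha)) (H.inv_mem (ffK_le H hk)))
    (H.inv_mem (hA.le ha))

include h hA in
theorem ffE_prime : p = 2 ∨ p = 3 := by
  obtain ⟨x, hxK, hxA⟩ := exists_not_centralizing h hA
  exact pair_prime h hA hxK hxA

include h hA in
theorem ffE_equiv : Nonempty (↥(ffE p H A) ≃* SpecialLinearGroup (Fin 2) (ZMod p)) := by
  obtain ⟨x, hxK, hxA⟩ := exists_not_centralizing h hA
  rw [ffE_eq_pair h hA hxK hxA]
  exact pair_equiv h hA hxK hxA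

include h hA in
theorem ffE_card_W : Nat.card ↥⁅V, ffE p H A⁆ = p ^ 2 := by
  obtain ⟨x, hxK, hxA⟩ := exists_not_centralizing h hA
  rw [ffE_eq_pair h hA hxK hxA]
  exact pair_card_W h hA hxK hxA

include h hA in
theorem ffE_faithful : ffE p H A ⊓ centralizer ((⁅V, ffE p H A⁆ : Subgroup G) : Set G) = ⊥ := by
  obtain ⟨x, hxK, hxA⟩ := exists_not_centralizing h hA
  rw [ffE_eq_pair h hA hxK hxA]
  exact pair_faithful h hA hxK hxA

include h hA in
theorem ffE_W_inf : ⁅V, ffE p H A⁆ ⊓ (V ⊓ centralizer ((ffE p H A : Subgroup G) : Set G)) = ⊥ := by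
  obtain ⟨x, hxK, hxA⟩ := exists_not_centralizing h hA
  rw [ffE_eq_pair h hA hxK hxA, eq_bot_iff, ← pair_W_inf_centralizer h hA hxK hxA]
  exact inf_le_inf_left _ inf_le_right

include h hA in
theorem ffE_W_sup : ⁅V, ffE p H A⁆ ⊔ (V ⊓ centralizer ((ffE p H A : Subgroup G) : Set G)) = V := by
  obtain ⟨x, hxK, hxA⟩ := exists_not_centralizing h hA
  rw [ffE_eq_pair h hA hxK hxA]
  exact pair_sup_eq h hA hxK hxA

include h hA in
theorem ffE_card_centralizer :
    Nat.card ↥(V ⊓ centralizer ((ffE p H A : Subgroup G) : Set G)) * p ^ 2 = Nat.card V := by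
  obtain ⟨x, hxK, hxA⟩ := exists_not_centralizing h hA
  rw [ffE_eq_pair h hA hxK hxA]
  exact pair_card_centralizer h hA hxK hxA

include h hA in
theorem ffE_W_le : ⁅V, ffE p H A⁆ ≤ V := by
  obtain ⟨x, hxK, hxA⟩ := exists_not_centralizing h hA
  rw [ffE_eq_pair h hA hxK hxA]
  exact pair_W_le h hA hxK

include h hA in
/-- `K`-conjugates of `A` lie in `E_A` -/
theorem cj_le_ffE {y : G} (hyK : y ∈ ffK p H) : cj y A ≤ ffE p H A := by
  obtain ⟨x, hxK, hxA⟩ := exists_not_centralizing h hA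
  rw [ffE_eq_pair h hA hxK hxA]
  exact triple h hA hxK hxA hyK

include hA in
/-- `A` normalizes `[K, A]` -/
theorem le_normalizer_commutator_K :
    A ≤ normalizer ((⁅ffK p H, A⁆ : Subgroup G) : Set G) :=
  le_normalizer_commutator (hA.le.trans (ffK_normal H))

include hA in
theorem commutator_K_le : ⁅ffK p H, A⁆ ≤ ffK p H := by
  rw [Subgroup.commutator_le]
  intro k hk a ha
  have h1 : a * k⁻¹ * a⁻¹ ∈ ffK p H :=
    (mem_normalizer_iff.mp (ffK_normal H (hA.le ha)) _).mp (inv_mem hk)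
  have : ⁅k, a⁆ = k * (a * k⁻¹ * a⁻¹) := by rw [commutatorElement_def]; group
  rw [this]
  exact mul_mem hk h1

include hA in
/-- `E_A ∩ K = [K, A]` -/
theorem ffE_inf_K : ffE p H A ⊓ ffK p H = ⁅ffK p H, A⁆ := by
  apply le_antisymm
  · intro g hg
    have hg1 : g ∈ A ⊔ ⁅ffK p H, A⁆ := by
      have := hg.1
      rwa [ffE, sup_comm] at this
    obtain ⟨a, ha, q, hq, rfl⟩ :=
      Cfsg.Agent.Lib.Helper01.exists_mul_of_mem_sup (le_normalizer_commutator_K hA) hg1
    have haK : a ∈ ffK p H := by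
      have : a = (a * q) * q⁻¹ := by group
      rw [this]
      exact mul_mem hg.2 (inv_mem (commutator_K_le hA hq))
    have : a ∈ ffK p H ⊓ A := ⟨haK, ha⟩
    rw [hA.inf_K, mem_bot] at this
    rw [this, one_mul]
    exact hq
  · exact le_inf le_sup_left (commutator_K_le hA)

include h hA in
/-- `|[K, A]| * p = |SL₂(p)|` -/
theorem card_commutator_K : Nat.card ↥⁅ffK p H, A⁆ * p = (p ^ 2 - 1) * p := by
  obtain ⟨e⟩ := ffE_equiv h hA
  have h1 : Nat.card ↥(ffE p H A) = (p ^ 2 - 1) * p := by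
    rw [Nat.card_congr e.toEquiv, Cfsg.Agent.Lib.Helper07.card_SL_two', ZMod.card]
  have hcop : (Nat.card ↥⁅ffK p H, A⁆).Coprime (Nat.card A) := by
    rw [hA.card]
    have h2 : Nat.card ↥⁅ffK p H, A⁆ ∣ Nat.card (ffK p H) :=
      Subgroup.card_dvd_of_le (commutator_K_le hA)
    exact Nat.Coprime.coprime_dvd_left h2
      ((Nat.Prime.coprime_iff_not_dvd hp.out).mpr (ffK_card H)).symm
  have h3 := Cfsg.Agent.Lib.Helper01.card_sup_of_coprime_of_le_normalizer ⁅ffK p H, A⁆ A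
    (le_normalizer_commutator_K hA) hcop
  rw [sup_comm, hA.card] at h3
  rw [← h3]
  exact h1

include h hA in
theorem card_commutator_K' : Nat.card ↥⁅ffK p H, A⁆ = p ^ 2 - 1 :=
  Nat.eq_of_mul_eq_mul_right hp.out.pos (card_commutator_K h hA)

end EA

end Cfsg.Agent.Lib.Helper52
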