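import Mathlib
import Cfsg.Agent.Lib.Helper52.FFE

/-!
# Global structure in KS §9.3, part 1: the stability lemma and points of `W_A`
-/

set_option autoImplicit false

namespace Cfsg.Agent.Lib.Helper52

open Subgroup Matrix
open scoped commutatorElement
open Cfsg.Agent.Lib.Helper55 (cj mem_cj conj_mem_cj cj_one cj_mul cj_inv_cj cj_cj_inv cj_mono
  cj_eq_self_iff cj_inf cj_centralizer card_cj isPGroup_cj cj_eq_self_of_mem)

section Global1

variable {G : Type*} [Group G] [Finite G] {p : ℕ} [hp : Fact p.Prime]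
variable {V H : Subgroup G}

omit [Finite G] hp in
theorem mem_normalizer_commutator' {X Y : Subgroup G} {g : G} (hX : g ∈ normalizer (X : Set G))
    (hY : g ∈ normalizer (Y : Set G)) : g ∈ normalizer ((⁅X, Y⁆ : Subgroup G) : Set G) := by
  rw [← cj_eq_self_iff] at hX hY ⊢
  rw [cj_commutator, hX, hY]

omit [Finite G] hp in
theorem mem_normalizer_sup' {X Y : Subgroup G} {g : G} (hX : g ∈ normalizer (X : Set G))
    (hY : g ∈ normalizer (Y : Set G)) : g ∈ normalizer ((X ⊔ Y : Subgroup G) : Set G) := by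
  rw [← cj_eq_self_iff] at hX hY ⊢
  rw [cj_sup, hX, hY]

/-- `C_H(O_{p'}(H)) ≤ O_{p'}(H)` inside `G` -/
theorem ff_centralizer_K_le (h : FFHyp p V H) :
    H ⊓ centralizer ((ffK p H : Subgroup G) : Set G) ≤ ffK p H := by
  intro x hx
  have hxH : x ∈ H := hx.1
  have hxc : (⟨x, hxH⟩ : H) ∈ centralizer (Cfsg.pPrimeCore p ↥H : Set ↥H) := by
    rw [mem_centralizer_iff]
    intro y hy
    apply Subtype.ext
    exact (mem_centralizer_iff.mp hx.2) (y : G) ⟨y, hy, rfl⟩
  exact ⟨⟨x, hxH⟩, h.hS1 hxc, rfl⟩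

/-- elements of `K` of order dividing a power of `p` are trivial -/
theorem eq_one_of_mem_K_of_pow {x : G} (hxK : x ∈ ffK p H) {k : ℕ} (hx : x ^ p ^ k = 1) :
    x = 1 := by
  have h1 : orderOf x ∣ p ^ k := orderOf_dvd_of_pow_eq_one hx
  have h2 : orderOf x ∣ Nat.card (ffK p H) := by
    have := orderOf_dvd_natCard (⟨x, hxK⟩ : ffK p H)
    rwa [Subgroup.orderOf_mk] at this
  have hcop : (Nat.card (ffK p H)).Coprime (p ^ k) :=
    (((Nat.Prime.coprime_iff_not_dvd hp.out).mpr (ffK_card H)).symm).pow_right k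
  exact orderOf_eq_one_iff.mp (Nat.eq_one_of_dvd_coprimes hcop h2 h1)

/-- **Stability lemma**: if `X ≤ V` is `K`-invariant then no nontrivial element of `H`
centralizes both `X` and `V / X`. -/
theorem stab_trivial (h : FFHyp p V H) {X : Subgroup G} (hXV : X ≤ V)
    (hKX : ffK p H ≤ normalizer (X : Set G)) {g : G} (hgH : g ∈ H)
    (hgX : g ∈ centralizer (X : Set G)) (hgV : ∀ v ∈ V, ⁅v, g⁆ ∈ X) : g = 1 := by
  -- the subgroup `S`
  set S : Subgroup G := H ⊓ centralizer (X : Set G) ⊓ stabSub V X with hS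
  have hmemS : ∀ s : G, s ∈ H → s ∈ centralizer (X : Set G) → (∀ v ∈ V, ⁅v, s⁆ ∈ X) → s ∈ S := by
    intro s h1 h2 h3
    exact ⟨⟨h1, h2⟩, h.hHV h1, centralizer_le_normalizer _ h2, h3⟩
  -- elements of `S` have order dividing `p`
  have hexp : ∀ s ∈ S, s ^ p = 1 := by
    intro s hs
    have hsH : s ∈ H := hs.1.1
    have hsX : s ∈ centralizer (X : Set G) := hs.1.2
    have hsV := hs.2.2.2
    have hcV : s ^ p ∈ centralizer (V : Set G) := by
      rw [mem_centralizer_iff]
      intro v hv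
      obtain ⟨x, hx⟩ : ∃ x, x = s * v * s⁻¹ * v⁻¹ := ⟨_, rfl⟩
      have hxX : x ∈ X := by
        have : x = (⁅v, s⁆)⁻¹ := by rw [hx, commutatorElement_def]; group
        rw [this]; exact inv_mem (hsV v hv)
      have hsx : s * x * s⁻¹ = x := by
        have := (mem_centralizer_iff.mp hsX) x hxX
        rw [← this]; group
      have hxv : x * v = v * x := h.comm x (hXV hxX) v hv
      have hconj : ∀ n : ℕ, s ^ n * v * (s ^ n)⁻¹ = x ^ n * v := by
        intro n
        induction n with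
        | zero => simp
        | succ n ih =>
          have hsxn : s * x ^ n * s⁻¹ = x ^ n := by
            have h1 : (s * x * s⁻¹) ^ n = x ^ n := by rw [hsx]
            rw [← conj_pow, h1]
          calc s ^ (n + 1) * v * (s ^ (n + 1))⁻¹
              = s * (s ^ n * v * (s ^ n)⁻¹) * s⁻¹ := by rw [pow_succ']; group
            _ = s * (x ^ n * v) * s⁻¹ := by rw [ih]
            _ = (s * x ^ n * s⁻¹) * (s * v * s⁻¹) := by group
            _ = x ^ n * (x * v) := by
                rw [hsxn]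
                congr 1
                rw [hx]; group
            _ = x ^ (n + 1) * v := by rw [pow_succ, mul_assoc]
      have h1 := hconj p
      rw [h.hV.2 x (hXV hxX), one_mul] at h1
      calc v * s ^ p = (s ^ p * v * (s ^ p)⁻¹) * s ^ p := by rw [h1]
        _ = s ^ p * v := by group
    have : s ^ p ∈ H ⊓ centralizer (V : Set G) := ⟨pow_mem hsH p, hcV⟩
    rw [h.hf] at this
    exact this
  -- `S` is invariant under `K`
  have hinv : ∀ s ∈ S, ∀ k ∈ ffK p H, k * s * k⁻¹ ∈ S := by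
    intro s hs k hk
    have hkH : k ∈ H := ffK_le H hk
    have hsH : s ∈ H := hs.1.1
    have hsX : s ∈ centralizer (X : Set G) := hs.1.2
    have hsV := hs.2.2.2
    apply hmemS
    · exact H.mul_mem (H.mul_mem hkH hsH) (H.inv_mem hkH)
    · rw [mem_centralizer_iff]
      intro x hx
      have hx' : k⁻¹ * x * k⁻¹⁻¹ ∈ X := (mem_normalizer_iff.mp (inv_mem (hKX hk)) x).mp hx
      have := (mem_centralizer_iff.mp hsX) _ hx'
      calc x * (k * s * k⁻¹) = k * ((k⁻¹ * x * k⁻¹⁻¹) * s) * k⁻¹ := by group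
        _ = k * (s * (k⁻¹ * x * k⁻¹⁻¹)) * k⁻¹ := by rw [this]
        _ = k * s * k⁻¹ * x := by group
    · intro v hv
      have hv' : k⁻¹ * v * k⁻¹⁻¹ ∈ V :=
        (mem_normalizer_iff.mp (inv_mem (h.hHV hkH)) v).mp hv
      have h1 := hsV _ hv'
      have h2 : k * ⁅k⁻¹ * v * k⁻¹⁻¹, s⁆ * k⁻¹ ∈ X := (mem_normalizer_iff.mp (hKX hk) _).mp h1
      have : ⁅v, k * s * k⁻¹⁆ = k * ⁅k⁻¹ * v * k⁻¹⁻¹, s⁆ * k⁻¹ := by
        simp only [commutatorElement_def]; group
      rw [this]; exact h2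
  -- `S` centralizes `K`
  have hSK : S ≤ centralizer ((ffK p H : Subgroup G) : Set G) := by
    intro s hs
    rw [mem_centralizer_iff]
    intro k hk
    have h1 : ⁅s, k⁆ ∈ S := by
      have : ⁅s, k⁆ = s * (k * s⁻¹ * k⁻¹) := by rw [commutatorElement_def]; group
      rw [this]
      exact S.mul_mem hs (hinv _ (S.inv_mem hs) k hk)
    have h2 : ⁅s, k⁆ ∈ ffK p H := by
      have h3 : s * k * s⁻¹ ∈ ffK p H :=
        (mem_normalizer_iff.mp (ffK_normal H hs.1.1) k).mp hk
      rw [commutatorElement_def]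
      exact mul_mem h3 (inv_mem hk)
    have h3 : ⁅s, k⁆ = 1 := by
      apply eq_one_of_mem_K_of_pow h2 (k := 1)
      rw [pow_one]
      exact hexp _ h1
    rw [commutatorElement_eq_one_iff_mul_comm] at h3
    exact h3.symm
  have hgS : g ∈ S := hmemS g hgH hgX hgV
  have hgK : g ∈ ffK p H := ff_centralizer_K_le h ⟨hgH, hSK hgS⟩
  apply eq_one_of_mem_K_of_pow hgK (k := 1)
  rw [pow_one]
  exact hexp g hgS

end Global1

end Cfsg.Agent.Lib.Helper52
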