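import Mathlib
import Cfsg.Agent.Lib.Helper52.FFGlobal1

/-!
# Global structure in KS §9.3, part 2
-/

set_option autoImplicit false

namespace Cfsg.Agent.Lib.Helper52

open Subgroup Matrix
open scoped commutatorElement
open Cfsg.Agent.Lib.Helper55 (cj mem_cj conj_mem_cj cj_one cj_mul cj_inv_cj cj_cj_inv cj_mono
  cj_eq_self_iff cj_inf cj_centralizer card_cj isPGroup_cj cj_eq_self_of_mem)

section Global2

variable {G : Type*} [Group G] [Finite G] {p : ℕ} [hp : Fact p.Prime]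
variable {V H A : Subgroup G}
variable (h : FFHyp p V H) (hA : FFMin p V H A)

/-- conjugation of `E_A` by elements of `H` -/
theorem cj_ffE {g : G} (hg : g ∈ H) : cj g (ffE p H A) = ffE p H (cj g A) := by
  have hK : cj g (ffK p H) = ffK p H := cj_eq_self_iff.mpr (ffK_normal H hg)
  rw [ffE, ffE, cj_sup, cj_commutator, hK]

include h hA in
theorem card_ffE : Nat.card ↥(ffE p H A) = (p ^ 2 - 1) * p := by
  obtain ⟨e⟩ := ffE_equiv h hA
  rw [Nat.card_congr e.toEquiv, Cfsg.Agent.Lib.Helper07.card_SL_two', ZMod.card]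

include h hA in
/-- `E_{A^k} = E_A` for `k ∈ K` -/
theorem ffE_cj_K {k : G} (hk : k ∈ ffK p H) : ffE p H (cj k A) = ffE p H A := by
  have hA' := hA.conj h (ffK_le H hk)
  obtain ⟨x', hx'K, hx'A⟩ := exists_not_centralizing h hA'
  have hle : ffE p H (cj k A) ≤ ffE p H A := by
    rw [ffE_eq_pair h hA' hx'K hx'A]
    refine sup_le (cj_le_ffE h hA hk) ?_
    rw [← cj_mul]
    exact cj_le_ffE h hA (mul_mem hx'K hk)
  exact Subgroup.eq_of_le_of_card_ge hle (by rw [card_ffE h hA, card_ffE h hA'])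

include h hA in
theorem K_le_normalizer_ffE : ffK p H ≤ normalizer ((ffE p H A : Subgroup G) : Set G) := by
  intro k hk
  rw [← cj_eq_self_iff, cj_ffE (ffK_le H hk), ffE_cj_K h hA hk]

include h hA in
theorem K_le_normalizer_W : ffK p H ≤ normalizer ((⁅V, ffE p H A⁆ : Subgroup G) : Set G) := by
  intro k hk
  exact mem_normalizer_commutator' (h.hHV (ffK_le H hk)) (K_le_normalizer_ffE h hA hk)

include h hA in
/-- **every point of `W_A` is the centre of a `K`-conjugate of `A`** -/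
theorem exists_cj_center {w : G} (hw : w ∈ ⁅V, ffE p H A⁆) (hw1 : w ≠ 1) :
    ∃ z ∈ ffK p H, ⁅V, cj z A⁆ = zpowers w := by
  obtain ⟨x, hxK, hxA⟩ := exists_not_centralizing h hA
  rw [ffE_eq_pair h hA hxK hxA] at hw
  have hB := hA.conj h (ffK_le H hxK)
  have hwW : w ∈ ⁅V, A⁆ ⊔ ⁅V, cj x A⁆ := by
    rw [← pair_commutator h hA hxK]; exact hw
  obtain ⟨u₁, hu₁, u₂, hu₂, hwu⟩ := Cfsg.Agent.Lib.Helper01.exists_mul_of_mem_sup
    (le_normalizer_of_le_comm h.comm (hA.commutator_le h) (hB.commutator_le h)) hwW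
  by_cases hu₁1 : u₁ = 1
  · refine ⟨x, hxK, ?_⟩
    have hw2 : w ∈ ⁅V, cj x A⁆ := by rw [hwu, hu₁1, one_mul]; exact hu₂
    exact (zpowers_eq_of_card_prime hp.out (hB.card_commutator h) hw2 hw1).symm
  · obtain ⟨b, hbB, hb1⟩ := exists_ne_one_of_card_prime hp.out hB.card
    have hBz := zpowers_eq_of_card_prime hp.out hB.card hbB hb1
    have hP₁z := zpowers_eq_of_card_prime hp.out (hA.card_commutator h) hu₁ hu₁1
    have hu₁V : u₁ ∈ V := hA.commutator_le h hu₁
    obtain ⟨d, hd⟩ : ∃ d, d = b * u₁ * b⁻¹ * u₁⁻¹ := ⟨_, rfl⟩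
    have hdP : d ∈ ⁅V, cj x A⁆ := by
      have : d = (⁅u₁, b⁆)⁻¹ := by rw [hd, commutatorElement_def]; group
      rw [this]
      exact inv_mem (commutator_mem_commutator hu₁V hbB)
    have hd1 : d ≠ 1 := by
      intro hd1
      apply pair_not_le_centralizer h hA hxK hxA
      rw [← hP₁z, ← hBz, centralizer_zpowers_eq, zpowers_le, mem_centralizer_iff]
      intro z hz
      rw [Set.mem_singleton_iff] at hz
      subst hz
      have : z * u₁ * z⁻¹ * u₁⁻¹ = 1 := by rw [← hd, hd1]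
      calc z * u₁ = (z * u₁ * z⁻¹ * u₁⁻¹) * u₁ * z := by group
        _ = u₁ * z := by rw [this, one_mul]
    have hP₂z := zpowers_eq_of_card_prime hp.out (hB.card_commutator h) hdP hd1
    have hdb : b * d * b⁻¹ = d := by
      have h1 : d ∈ centralizer ((cj x A : Subgroup G) : Set G) := hB.quad h hdP
      have := (mem_centralizer_iff.mp h1) b hbB
      rw [this]; group
    have hdu : d * u₁ = u₁ * d := h.comm d (hB.commutator_le h hdP) u₁ hu₁V
    have hconj : ∀ k : ℕ, b ^ k * u₁ * (b ^ k)⁻¹ = u₁ * d ^ k := by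
      intro k
      induction k with
      | zero => simp
      | succ k ih =>
        have hbd : b * d ^ k * b⁻¹ = d ^ k := by
          have h1 : (b * d * b⁻¹) ^ k = d ^ k := by rw [hdb]
          rw [← conj_pow, h1]
        calc b ^ (k + 1) * u₁ * (b ^ (k + 1))⁻¹
            = b * (b ^ k * u₁ * (b ^ k)⁻¹) * b⁻¹ := by rw [pow_succ']; group
          _ = b * (u₁ * d ^ k) * b⁻¹ := by rw [ih]
          _ = (b * u₁ * b⁻¹) * (b * d ^ k * b⁻¹) := by group
          _ = (d * u₁) * d ^ k := by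
              rw [hbd]
              congr 1
              rw [hd]; group
          _ = u₁ * d ^ (k + 1) := by rw [hdu, pow_succ', mul_assoc]
    have hu₂z : u₂ ∈ zpowers d := hP₂z ▸ hu₂
    rw [← mem_powers_iff_mem_zpowers, Submonoid.mem_powers_iff] at hu₂z
    obtain ⟨k, hk⟩ := hu₂z
    obtain ⟨g, hg⟩ : ∃ g, g = b ^ k := ⟨_, rfl⟩
    have hgB : g ∈ cj x A := hg ▸ pow_mem hbB k
    have hgw : g * u₁ * g⁻¹ = w := by rw [hg, hconj k, hk, hwu]
    obtain ⟨a', ha', hga'⟩ := hgB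
    have hga : g = x * a' * x⁻¹ := by rw [← hga']; simp [MulAut.conj_apply]
    have hgH : g ∈ H := hB.le (hga' ▸ ⟨a', ha', rfl⟩ : g ∈ cj x A)
    refine ⟨g * a'⁻¹, ?_, ?_⟩
    · have h1 : a' * x⁻¹ * a'⁻¹ ∈ ffK p H :=
        (mem_normalizer_iff.mp (ffK_normal H (hA.le ha')) _).mp (inv_mem hxK)
      have : g * a'⁻¹ = x * (a' * x⁻¹ * a'⁻¹) := by rw [hga]; group
      rw [this]
      exact mul_mem hxK h1
    · rw [cj_mul, cj_eq_self_of_mem (inv_mem ha')]
      have hVg : cj g V = V := cj_eq_self_iff.mpr (h.hHV hgH)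
      have e1 : ⁅V, cj g A⁆ = cj g ⁅V, A⁆ := by rw [cj_commutator, hVg]
      have hAg := hA.conj h hgH
      have hwmem : w ∈ ⁅V, cj g A⁆ := by
        rw [e1, ← hgw]; exact conj_mem_cj hu₁
      exact (zpowers_eq_of_card_prime hp.out (hAg.card_commutator h) hwmem hw1).symm

include h hA in
/-- `Q_A = [K, A]` does not normalize the centre `[V, A]` of `A` -/
theorem not_normalizes_center :
    ¬ ⁅ffK p H, A⁆ ≤ normalizer ((⁅V, A⁆ : Subgroup G) : Set G) := by
  intro hcon
  -- every `q ∈ Q_A` normalizes `A`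
  have hQK := commutator_K_le (p := p) hA
  have h1 : ∀ q ∈ ⁅ffK p H, A⁆, cj q A = A := by
    intro q hq
    have hqK : q ∈ ffK p H := hQK hq
    have hqH : q ∈ H := ffK_le H hqK
    have hAq := hA.conj h hqH
    apply eq_of_commutator_le_centralizer h hA hqK
    have hVq : cj q V = V := cj_eq_self_iff.mpr (h.hHV hqH)
    have e : ⁅V, cj q A⁆ = ⁅V, A⁆ := by
      have : ⁅V, cj q A⁆ = cj q ⁅V, A⁆ := by rw [cj_commutator, hVq]
      rw [this]
      exact cj_eq_self_iff.mpr (hcon hq)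
    rw [← e]
    exact hAq.quad h
  have h2 : ⁅ffK p H, A⁆ ≤ centralizer (A : Set G) := by
    intro q hq
    exact Cfsg.Agent.Lib.Helper01.mem_centralizer_of_conj_smul_eq (hA.le.trans (ffK_normal H))
      hA.inf_K (hQK hq) (h1 q hq)
  obtain ⟨x, hxK, hxA⟩ := exists_not_centralizing h hA
  have hB := hA.conj h (ffK_le H hxK)
  have hBle : cj x A ≤ A ⊔ ⁅ffK p H, A⁆ := by
    have := cj_le_ffE h hA hxK
    rwa [ffE, sup_comm] at this
  have hcop : (Nat.card ↥⁅ffK p H, A⁆).Coprime (Nat.card A) := by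
    rw [hA.card]
    exact Nat.Coprime.coprime_dvd_left (Subgroup.card_dvd_of_le hQK)
      ((Nat.Prime.coprime_iff_not_dvd hp.out).mpr (ffK_card H)).symm
  have hsolv : Group.IsSolvable A := by
    haveI : IsMulCommutative A := ⟨⟨fun a b => Subtype.ext (hA.comm a a.2 b b.2)⟩⟩
    exact isSolvable_of_comm (fun a b => Subtype.ext (hA.comm a a.2 b b.2))
  obtain ⟨n, hn, hnB⟩ := Cfsg.Agent.Lib.Helper01.conj_by_normal_of_card_eq
    (le_normalizer_commutator_K hA) hcop (Or.inr hsolv) hBle (by rw [card_cj])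
  -- `n` centralizes `A`, so `A^x = A`
  have hnA : cj n⁻¹ A = A :=
    cj_eq_self_iff.mpr (centralizer_le_normalizer _ (inv_mem (h2 hn)))
  have : cj x A = A := by
    have e : cj n (cj x A) = A := hnB
    calc cj x A = cj n⁻¹ (cj n (cj x A)) := (cj_inv_cj n _).symm
      _ = cj n⁻¹ A := by rw [e]
      _ = A := hnA
  exact pair_ne hA hxK hxA this

end Global2

end Cfsg.Agent.Lib.Helper52
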