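import Mathlib
import Cfsg.Agent.Lib.Helper52.FFGlobal2

/-!
# Global structure in KS §9.3, part 3: the dichotomy `B ≤ E_A` or `[W_A, B] = 1`
-/

set_option autoImplicit false

namespace Cfsg.Agent.Lib.Helper52

open Subgroup Matrix
open scoped commutatorElement
open Cfsg.Agent.Lib.Helper55 (cj mem_cj conj_mem_cj cj_one cj_mul cj_inv_cj cj_cj_inv cj_mono
  cj_eq_self_iff cj_inf cj_centralizer card_cj isPGroup_cj cj_eq_self_of_mem)

section Global3

variable {G : Type*} [Group G] [Finite G] {p : ℕ} [hp : Fact p.Prime]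
variable {V H A B : Subgroup G}
variable (h : FFHyp p V H) (hA : FFMin p V H A) (hB : FFMin p V H B)

include h hA hB in
theorem W_le_of_inf_ne_bot (hne : ⁅V, ffE p H A⁆ ⊓ ⁅V, ffE p H B⁆ ≠ ⊥) :
    ⁅V, ffE p H A⁆ ≤ ⁅V, ffE p H B⁆ := by
  by_contra hnle
  set X := ⁅V, ffE p H A⁆ ⊓ ⁅V, ffE p H B⁆ with hX
  have hlt : X < ⁅V, ffE p H A⁆ := by
    refine lt_of_le_of_ne inf_le_left ?_
    intro heq
    exact hnle (heq ▸ inf_le_right)
  have hWp : IsPGroup p ↥⁅V, ffE p H A⁆ := h.isPGroup.to_le (ffE_W_le h hA)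
  have h1 := ff_card_mul_le_of_lt hWp hlt
  rw [ffE_card_W h hA, sq] at h1
  have hXle : Nat.card X ≤ p := Nat.le_of_mul_le_mul_left h1 hp.out.pos
  obtain ⟨⟨w, hw⟩, hw1⟩ := (Subgroup.ne_bot_iff_exists_ne_one).mp hne
  have hw1' : w ≠ 1 := fun hh => hw1 (Subtype.ext hh)
  -- `X = ⟨w⟩`
  have hXw : zpowers w = X := by
    apply Subgroup.eq_of_le_of_card_ge (zpowers_le.mpr hw)
    refine hXle.trans ?_
    have hzp : IsPGroup p ↥(zpowers w) := (hWp.to_le inf_le_left).to_le (zpowers_le.mpr hw)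
    have hlt2 : (⊥ : Subgroup G) < zpowers w := by
      rw [bot_lt_iff_ne_bot]
      intro hb
      have : w ∈ zpowers w := mem_zpowers w
      rw [hb, mem_bot] at this
      exact hw1' this
    have := ff_card_mul_le_of_lt hzp hlt2
    rwa [Subgroup.card_bot, mul_one] at this
  obtain ⟨z, hzK, hz⟩ := exists_cj_center h hA hw.1 hw1'
  have hA' := hA.conj h (ffK_le H hzK)
  apply not_normalizes_center h hA'
  rw [hz, hXw]
  intro q hq
  have hqK : q ∈ ffK p H := commutator_K_le hA' hq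
  exact mem_normalizer_inf (K_le_normalizer_W h hA hqK) (K_le_normalizer_W h hB hqK)

include h hA hB in
/-- **Claim 1'**: `W_A ∩ W_B = 1` or `W_A = W_B`. -/
theorem W_inf_or_eq :
    ⁅V, ffE p H A⁆ ⊓ ⁅V, ffE p H B⁆ = ⊥ ∨ ⁅V, ffE p H A⁆ = ⁅V, ffE p H B⁆ := by
  by_cases hne : ⁅V, ffE p H A⁆ ⊓ ⁅V, ffE p H B⁆ = ⊥
  · exact Or.inl hne
  · right
    apply le_antisymm (W_le_of_inf_ne_bot h hA hB hne)
    apply W_le_of_inf_ne_bot h hB hA
    rwa [inf_comm]

include h hA hB in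
/-- the hyperplane `C_V(B)` meets `W_A` nontrivially -/
theorem W_inf_centralizer_ne_bot :
    (V ⊓ centralizer (B : Set G)) ⊓ ⁅V, ffE p H A⁆ ≠ ⊥ := by
  set W := ⁅V, ffE p H A⁆ with hW
  set C₃ := V ⊓ centralizer (B : Set G) with hC₃
  have hWV : W ≤ V := ffE_W_le h hA
  intro hbot
  have hprod := Cfsg.Agent.Lib.Helper01.card_sup_mul_card_inf_of_le_normalizer C₃ W
    (le_normalizer_of_le_comm h.comm hWV inf_le_left)
  rw [hbot, Subgroup.card_bot, mul_one, ffE_card_W h hA] at hprod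
  have hle : Nat.card ↥(W ⊔ C₃) ≤ Nat.card V :=
    Subgroup.card_le_of_le (sup_le hWV inf_le_left)
  have hc3 : p * Nat.card C₃ = Nat.card V := hB.card_cent
  rw [hprod, ← hc3] at hle
  have hpos : 0 < Nat.card C₃ := Nat.card_pos
  have h2 : p ^ 2 ≤ p := by
    have : Nat.card C₃ * p ^ 2 ≤ Nat.card C₃ * p := by rw [mul_comm _ p]; exact hle
    exact Nat.le_of_mul_le_mul_left this hpos
  have : p < p ^ 2 := by
    have := hp.out.one_lt
    nlinarith
  omega

include h hA hB in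
/-- **Claim 3'**: every minimal offender normalizes every `W_A`. -/
theorem ffmin_le_normalizer_W : B ≤ normalizer ((⁅V, ffE p H A⁆ : Subgroup G) : Set G) := by
  intro b hb
  have hbH : b ∈ H := hB.le hb
  have hA' := hA.conj h hbH
  have hVb : cj b V = V := cj_eq_self_iff.mpr (h.hHV hbH)
  have e : ⁅V, ffE p H (cj b A)⁆ = cj b ⁅V, ffE p H A⁆ := by
    rw [cj_commutator, hVb, cj_ffE hbH]
  rw [← cj_eq_self_iff]
  rcases W_inf_or_eq h hA hA' with h0 | h1
  · exfalso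
    apply W_inf_centralizer_ne_bot h hA hB
    rw [eq_bot_iff, ← h0, e]
    intro w hw
    refine ⟨hw.2, ?_⟩
    have hwb : b * w * b⁻¹ = w := by
      have := (mem_centralizer_iff.mp hw.1.2) b hb
      rw [this]; group
    rw [← hwb]
    exact conj_mem_cj hw.2
  · rw [← e, ← h1]

include h hA in
/-- the analogue of `pair_mem_range` for an arbitrary name of `⟨A, A^x⟩` -/
theorem mem_range_of_eq {x : G} (hxK : x ∈ ffK p H) (hxA : x ∉ centralizer (A : Set G))
    (E : Subgroup G) (hE : E = A ⊔ cj x A) (β : MulAut ↥⁅V, E⁆) (hβ : β ^ p = 1) :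
    ∃ l ∈ E, ∀ w : ↥⁅V, E⁆, ((β w : ↥⁅V, E⁆) : G) = l * w * l⁻¹ := by
  subst hE
  obtain ⟨l, hl⟩ := pair_mem_range h hA hxK hxA β hβ
  exact ⟨l, l.2, hl⟩

include h hA in
theorem ffE_mem_range (β : MulAut ↥⁅V, ffE p H A⁆) (hβ : β ^ p = 1) :
    ∃ l ∈ ffE p H A, ∀ w : ↥⁅V, ffE p H A⁆, ((β w : ↥⁅V, ffE p H A⁆) : G) = l * w * l⁻¹ := by
  obtain ⟨x, hxK, hxA⟩ := exists_not_centralizing h hA
  exact mem_range_of_eq h hA hxK hxA _ (ffE_eq_pair h hA hxK hxA) β hβ

include h hA in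
theorem ffE_le_stabSub : ffE p H A ≤ stabSub V ⁅V, ffE p H A⁆ :=
  le_stabSub_of_commutator_le (ffE_W_le h hA) ((ffE_le hA).trans h.hHV) le_rfl

include h hA hB in
/-- **Lemma (in)**: a minimal offender with centre in `W_A` lies in `E_A`. -/
theorem ffmin_le_ffE_of_commutator_le (hP : ⁅V, B⁆ ≤ ⁅V, ffE p H A⁆) : B ≤ ffE p H A := by
  intro b hb
  set W := ⁅V, ffE p H A⁆ with hW
  have hbH : b ∈ H := hB.le hb
  have hzW : zpowers b ≤ normalizer (W : Set G) :=
    zpowers_le.mpr (ffmin_le_normalizer_W h hA hB hb)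
  set β := conjAutOn (zpowers b) W hzW ⟨b, mem_zpowers b⟩ with hβ
  have hβp : β ^ p = 1 := by
    rw [hβ, ← map_pow]
    have : (⟨b, mem_zpowers b⟩ : zpowers b) ^ p = 1 := Subtype.ext (hB.pow b hb)
    rw [this, map_one]
  obtain ⟨l, hlE, hl⟩ := ffE_mem_range h hA β hβp
  have hlH : l ∈ H := ffE_le hA hlE
  have hg : l⁻¹ * b = 1 := by
    apply stab_trivial h (ffE_W_le h hA) (K_le_normalizer_W h hA) (H.mul_mem (H.inv_mem hlH) hbH)
    · rw [mem_centralizer_iff]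
      intro w hw
      have h1 : b * w * b⁻¹ = l * w * l⁻¹ := hl ⟨w, hw⟩
      calc w * (l⁻¹ * b) = l⁻¹ * (l * w * l⁻¹) * b := by group
        _ = l⁻¹ * (b * w * b⁻¹) * b := by rw [h1]
        _ = l⁻¹ * b * w := by group
    · have h1 : l⁻¹ ∈ stabSub V W := inv_mem (ffE_le_stabSub h hA hlE)
      have h2 : b ∈ stabSub V W :=
        le_stabSub_of_commutator_le (ffE_W_le h hA) (hB.le.trans h.hHV) hP hb
      exact (mul_mem h1 h2).2.2
  have : b = l := by
    calc b = l * (l⁻¹ * b) := by group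
      _ = l := by rw [hg, mul_one]
  rw [this]; exact hlE

include h hA hB in
/-- **Lemma (conj)**: a minimal offender inside `E_A` has the same `E`. -/
theorem ffE_eq_of_le (hBE : B ≤ ffE p H A) : ffE p H B = ffE p H A := by
  have hle : B ≤ A ⊔ ffK p H := by
    refine hBE.trans ?_
    rw [ffE, sup_comm]
    exact sup_le_sup_left (commutator_K_le hA) A
  have hcop : (Nat.card (ffK p H)).Coprime (Nat.card A) := by
    rw [hA.card]
    exact ((Nat.Prime.coprime_iff_not_dvd hp.out).mpr (ffK_card H)).symm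
  have hsolv : Group.IsSolvable A :=
    isSolvable_of_comm (fun a b => Subtype.ext (hA.comm a a.2 b b.2))
  obtain ⟨n, hn, hnB⟩ := Cfsg.Agent.Lib.Helper01.conj_by_normal_of_card_eq
    (hA.le.trans (ffK_normal H)) hcop (Or.inr hsolv) hle (by rw [hB.card, hA.card])
  have e : cj n B = A := hnB
  rw [← e, ffE_cj_K h hB hn]

include h hA hB in
/-- **Claim 4'**: `B ≤ E_A` or `B` centralizes `W_A`. -/
theorem ffmin_dichotomy :
    B ≤ ffE p H A ∨ B ≤ centralizer ((⁅V, ffE p H A⁆ : Subgroup G) : Set G) := by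
  by_cases hP : ⁅V, B⁆ ⊓ ⁅V, ffE p H A⁆ = ⊥
  · right
    have h1 : ⁅⁅V, ffE p H A⁆, B⁆ ≤ ⁅V, B⁆ ⊓ ⁅V, ffE p H A⁆ := by
      refine le_inf (commutator_mono (ffE_W_le h hA) le_rfl) ?_
      rw [Subgroup.commutator_le]
      intro w hw b hb
      exact commutatorElement_mem_of_mem_normalizer (ffmin_le_normalizer_W h hA hB hb) hw
    rw [hP, le_bot_iff, commutator_eq_bot_iff_le_centralizer] at h1
    exact le_centralizer_iff.mp h1
  · left
    apply ffmin_le_ffE_of_commutator_le h hA hB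
    have := eq_of_le_of_card_prime hp.out (hB.card_commutator h) inf_le_left hP
    calc ⁅V, B⁆ = ⁅V, B⁆ ⊓ ⁅V, ffE p H A⁆ := this.symm
      _ ≤ _ := inf_le_right

include h hA hB in
/-- **Claim 2'** -/
theorem ffE_eq_of_W_eq (hW : ⁅V, ffE p H B⁆ = ⁅V, ffE p H A⁆) : ffE p H B = ffE p H A := by
  apply ffE_eq_of_le h hA hB
  apply ffmin_le_ffE_of_commutator_le h hA hB
  rw [← hW]
  exact commutator_mono le_rfl le_ffE

end Global3

end Cfsg.Agent.Lib.Helper52
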