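import Mathlib
import Cfsg.Agent.Lib.Helper52.FFMin

/-!
# Minimal best offenders are tight of order `p`
-/

set_option autoImplicit false

namespace Cfsg.Agent.Lib.Helper52

open Subgroup
open scoped commutatorElement

variable {G : Type*} [Group G] [Finite G] {p : ℕ} [hp : Fact p.Prime]

omit [Finite G] hp in
theorem commutator_bot_right' (V : Subgroup G) : ⁅V, (⊥ : Subgroup G)⁆ = ⊥ := by
  rw [eq_bot_iff, Subgroup.commutator_le]
  intro v _ c hc
  rw [Subgroup.mem_bot] at hc
  subst hc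
  simp

/-- a tight subgroup of order `p` in `H` acts nontrivially -/
theorem FFMin.commutator_ne_bot {V H A : Subgroup G} (h : FFHyp p V H) (hA : FFMin p V H A) :
    ⁅V, A⁆ ≠ ⊥ := by
  intro hb
  have := hA.card_commutator h
  rw [hb, Subgroup.card_bot] at this
  exact hp.out.one_lt.ne this

/-- a tight subgroup of order `p` in `H` is a best offender -/
theorem FFMin.best {V H A : Subgroup G} (h : FFHyp p V H) (hA : FFMin p V H A) :
    Cfsg.IsBestOffenderOn p V A :=
  ff_best_of_tight h.hV h.hHV h.hf (hA.acts h) hA.tight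

/-- A minimal best offender (w.r.t. nontrivial action) is tight of order `p`. -/
theorem ffmin_of_minimal {V H A : Subgroup G} (h : FFHyp p V H) (hAH : A ≤ H)
    (hA : Cfsg.IsBestOffenderOn p V A) (hAV : ⁅V, A⁆ ≠ ⊥)
    (hmin : ∀ B : Subgroup G, B ≤ A → Cfsg.IsBestOffenderOn p V B → ⁅V, B⁆ ≠ ⊥ → B = A) :
    FFMin p V H A := by
  have hS := h.setup
  have hAct := ff_acts_of_best h.hHV h.hf h.hS1 hAH hA
  have htight := ff_best_tight h.hV h.hHV h.hf h.hS1 hAH hA
  obtain ⟨k, B, hcard, hB, -, hsup⟩ := ff_decomp hS hAct htight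
  have hA1 : A ≠ ⊥ := by
    rintro rfl
    exact hAV (commutator_bot_right' V)
  have hk : 0 < k := by
    rcases Nat.eq_zero_or_pos k with h0 | h0
    · exfalso
      subst h0
      rw [pow_zero] at hcard
      exact hA1 ((Subgroup.card_eq_one).mp hcard)
    · exact h0
  obtain ⟨hBA, hBp, hBt⟩ := hB ⟨0, hk⟩
  have hB0 : FFMin p V H (B ⟨0, hk⟩) := ⟨hBA.trans hAH, hBp, hBt⟩
  have hBA' : B ⟨0, hk⟩ = A := hmin _ hBA (hB0.best h) (hB0.commutator_ne_bot h)
  rw [hBA'] at hB0
  exact hB0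

/-- every best offender `A ≤ H` is generated by tight subgroups of order `p` -/
theorem best_le_iSup_ffmin {V H A : Subgroup G} (h : FFHyp p V H) (hAH : A ≤ H)
    (hA : Cfsg.IsBestOffenderOn p V A) :
    A ≤ ⨆ B : {B : Subgroup G // FFMin p V H B}, (B : Subgroup G) := by
  have hS := h.setup
  have hAct := ff_acts_of_best h.hHV h.hf h.hS1 hAH hA
  have htight := ff_best_tight h.hV h.hHV h.hf h.hS1 hAH hA
  obtain ⟨k, B, -, hB, -, hsup⟩ := ff_decomp hS hAct htight
  rw [← hsup]
  refine iSup_le fun i => ?_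
  obtain ⟨hBA, hBp, hBt⟩ := hB i
  exact le_iSup (fun B : {B : Subgroup G // FFMin p V H B} => (B : Subgroup G))
    ⟨B i, ⟨hBA.trans hAH, hBp, hBt⟩⟩

end Cfsg.Agent.Lib.Helper52
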