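import Mathlib
import Cfsg.Agent.Lib.Helper52.FFGlobal3
import Cfsg.Agent.Lib.Helper52.FFMinimal

/-!
# Global structure in KS §9.3, part 4: `H = E_A × C_H(W_A)`
-/

set_option autoImplicit false

namespace Cfsg.Agent.Lib.Helper52

open Subgroup Matrix
open scoped commutatorElement
open Cfsg.Agent.Lib.Helper55 (cj mem_cj conj_mem_cj cj_one cj_mul cj_inv_cj cj_cj_inv cj_mono
  cj_eq_self_iff cj_inf cj_centralizer card_cj isPGroup_cj cj_eq_self_of_mem)

section Global4

variable {G : Type*} [Group G] [Finite G] {p : ℕ} [hp : Fact p.Prime]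
variable {V H A B : Subgroup G}

/-- `H` is generated by its minimal offenders -/
def FFGen (p : ℕ) (V H : Subgroup G) : Prop :=
  H ≤ ⨆ B : {B : Subgroup G // FFMin p V H B}, (B : Subgroup G)

/-- the generation hypothesis (S3) gives `FFGen` -/
theorem ffgen_of_best (h : FFHyp p V H)
    (hS3 : H = ⨆ A : {A : Subgroup G // A ≤ H ∧ Cfsg.IsBestOffenderOn p V A}, (A : Subgroup G)) :
    FFGen p V H := by
  unfold FFGen
  conv_lhs => rw [hS3]
  refine iSup_le fun A => ?_
  exact best_le_iSup_ffmin h A.2.1 A.2.2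

variable (h : FFHyp p V H) (hgen : FFGen p V H) (hA : FFMin p V H A)

include h hgen hA in
theorem H_le_normalizer_W : H ≤ normalizer ((⁅V, ffE p H A⁆ : Subgroup G) : Set G) := by
  refine hgen.trans (iSup_le fun B => ?_)
  exact ffmin_le_normalizer_W h hA B.2

include h hgen hA in
/-- **Claim 5'**: `E_A ⊴ H` -/
theorem H_le_normalizer_ffE : H ≤ normalizer ((ffE p H A : Subgroup G) : Set G) := by
  intro g hg
  have hA' := hA.conj h hg
  have hVg : cj g V = V := cj_eq_self_iff.mpr (h.hHV hg)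
  have hW : ⁅V, ffE p H (cj g A)⁆ = ⁅V, ffE p H A⁆ := by
    rw [← cj_ffE hg]
    have : ⁅V, cj g (ffE p H A)⁆ = cj g ⁅V, ffE p H A⁆ := by rw [cj_commutator, hVg]
    rw [this]
    exact cj_eq_self_iff.mpr (H_le_normalizer_W h hgen hA hg)
  rw [← cj_eq_self_iff, cj_ffE hg]
  exact ffE_eq_of_W_eq h hA hA' hW

include h hgen hA in
/-- **Claim 6'**: `[E_A, C_H(W_A)] = 1` -/
theorem commutator_ffE_centralizer :
    ⁅ffE p H A, H ⊓ centralizer ((⁅V, ffE p H A⁆ : Subgroup G) : Set G)⁆ = ⊥ := by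
  rw [eq_bot_iff, ← ffE_faithful h hA, Subgroup.commutator_le]
  intro e he c hc
  have heH : e ∈ H := ffE_le hA he
  refine Subgroup.mem_inf.mpr ⟨?_, ?_⟩
  · have h1 : c * e⁻¹ * c⁻¹ ∈ ffE p H A :=
      (mem_normalizer_iff.mp (H_le_normalizer_ffE h hgen hA hc.1) _).mp (inv_mem he)
    have : ⁅e, c⁆ = e * (c * e⁻¹ * c⁻¹) := by rw [commutatorElement_def]; group
    rw [this]
    exact mul_mem he h1
  · have h1 : e ∈ normalizer ((centralizer ((⁅V, ffE p H A⁆ : Subgroup G) : Set G) :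
        Subgroup G) : Set G) :=
      Cfsg.Agent.Lib.Helper55.normalizer_le_normalizer_centralizer _
        (H_le_normalizer_W h hgen hA heH)
    have h2 : e * c * e⁻¹ ∈ centralizer ((⁅V, ffE p H A⁆ : Subgroup G) : Set G) :=
      (mem_normalizer_iff.mp h1 c).mp hc.2
    rw [commutatorElement_def]
    exact mul_mem h2 (inv_mem hc.2)

include h hgen hA in
/-- **Claim 7'**: `H = E_A C_H(W_A)` -/
theorem ffE_sup_centralizer :
    ffE p H A ⊔ (H ⊓ centralizer ((⁅V, ffE p H A⁆ : Subgroup G) : Set G)) = H := by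
  apply le_antisymm (sup_le (ffE_le hA) inf_le_left)
  refine hgen.trans (iSup_le fun B => ?_)
  rcases ffmin_dichotomy h hA B.2 with h1 | h1
  · exact h1.trans le_sup_left
  · exact (le_inf B.2.le h1).trans le_sup_right

include h hgen hA in
/-- **Claim 8'**: `[V, C_H(W_A)] ≤ C_V(E_A)` -/
theorem commutator_V_centralizer_le :
    ⁅V, H ⊓ centralizer ((⁅V, ffE p H A⁆ : Subgroup G) : Set G)⁆ ≤
      V ⊓ centralizer ((ffE p H A : Subgroup G) : Set G) := by
  have hCE : H ⊓ centralizer ((⁅V, ffE p H A⁆ : Subgroup G) : Set G) ≤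
      centralizer ((ffE p H A : Subgroup G) : Set G) := by
    have := commutator_ffE_centralizer h hgen hA
    rw [commutator_eq_bot_iff_le_centralizer] at this
    exact le_centralizer_iff.mp this
  rw [Subgroup.commutator_le]
  intro v hv c hc
  refine Subgroup.mem_inf.mpr ⟨commutatorElement_mem_of_mem_normalizer (h.hHV hc.1) hv, ?_⟩
  have hv' : v ∈ ⁅V, ffE p H A⁆ ⊔ (V ⊓ centralizer ((ffE p H A : Subgroup G) : Set G)) := by
    rw [ffE_W_sup h hA]; exact hv
  obtain ⟨w, hw, u, hu, rfl⟩ := Cfsg.Agent.Lib.Helper01.exists_mul_of_mem_sup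
    (le_normalizer_of_le_comm h.comm (ffE_W_le h hA) inf_le_left) hv'
  have hwc : ⁅w, c⁆ = 1 := by
    rw [commutatorElement_eq_one_iff_mul_comm]
    exact ((mem_centralizer_iff.mp hc.2) w hw)
  have hucV : ⁅u, c⁆ ∈ V := commutatorElement_mem_of_mem_normalizer (h.hHV hc.1) hu.1
  have e : ⁅w * u, c⁆ = w * ⁅u, c⁆ * w⁻¹ * ⁅w, c⁆ := by
    simp only [commutatorElement_def]; group
  have hcomm : w * ⁅u, c⁆ = ⁅u, c⁆ * w := h.comm w (ffE_W_le h hA hw) _ hucV
  rw [e, hwc, mul_one, hcomm, mul_inv_cancel_right, commutatorElement_def]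
  exact mul_mem (mul_mem (mul_mem hu.2 (hCE hc)) (inv_mem hu.2)) (inv_mem (hCE hc))

end Global4

end Cfsg.Agent.Lib.Helper52
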