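import Mathlib
import Cfsg.Agent.Lib.Helper52.FFGlobal4
import Cfsg.Agent.Lib.Helper03.CoprimeAbelian

/-!
# Global structure in KS §9.3, part 5: the direct decompositions of `H` and `V`
-/

set_option autoImplicit false

namespace Cfsg.Agent.Lib.Helper52

open Subgroup Matrix
open scoped commutatorElement
open Cfsg.Agent.Lib.Helper55 (cj mem_cj conj_mem_cj cj_one cj_mul cj_inv_cj cj_cj_inv cj_mono
  cj_eq_self_iff cj_inf cj_centralizer card_cj isPGroup_cj cj_eq_self_of_mem)

section Global5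

variable {G : Type*} [Group G] [Finite G] {p : ℕ} [hp : Fact p.Prime]
variable {V H A B : Subgroup G}

/-- `V` is a Hall subgroup of `V X` for `X ≤ K` -/
theorem coprime_relIndex_sup (h : FFHyp p V H) {X : Subgroup G} (hXK : X ≤ ffK p H) :
    (Nat.card V).Coprime (V.relIndex (V ⊔ X)) := by
  have hXV : X ≤ normalizer (V : Set G) := hXK.trans ((ffK_le H).trans h.hHV)
  obtain ⟨n, hn⟩ := IsPGroup.iff_card.mp h.isPGroup
  have hcopX : (Nat.card X).Coprime p := by
    have h2 : Nat.card X ∣ Nat.card (ffK p H) := Subgroup.card_dvd_of_le hXK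
    exact Nat.Coprime.coprime_dvd_left h2
      ((Nat.Prime.coprime_iff_not_dvd hp.out).mpr (ffK_card H)).symm
  have hcop : (Nat.card V).Coprime (Nat.card X) := by
    rw [hn]; exact (hcopX.symm.pow_left n)
  have h1 := Cfsg.Agent.Lib.Helper01.card_sup_of_coprime_of_le_normalizer V X hXV hcop
  have h2 : Nat.card V * V.relIndex (V ⊔ X) = Nat.card ↥(V ⊔ X) := by
    rw [← Subgroup.relIndex_bot_left, ← Subgroup.relIndex_bot_left]
    exact Subgroup.relIndex_mul_relIndex _ _ _ bot_le le_sup_left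
  rw [sup_comm, h1] at h2
  have h3 : V.relIndex (X ⊔ V) = Nat.card X := Nat.eq_of_mul_eq_mul_left Nat.card_pos h2
  rw [sup_comm, h3]
  exact hcop

omit [Finite G] hp in
theorem le_centralizer_sup_of {X Y Z : Subgroup G} (hX : Z ≤ centralizer (X : Set G))
    (hY : Z ≤ centralizer (Y : Set G)) : Z ≤ centralizer ((X ⊔ Y : Subgroup G) : Set G) := by
  rw [centralizer_sup_eq]
  exact le_inf hX hY

/-- coprime action: `[V, X] ∩ C_V(X) = 1` for `X ≤ K` -/
theorem commutator_inf_centralizer_eq_bot (h : FFHyp p V H) {X : Subgroup G}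
    (hXK : X ≤ ffK p H) : ⁅V, X⁆ ⊓ (V ⊓ centralizer (X : Set G)) = ⊥ := by
  have hVM : V ≤ V ⊔ X := le_sup_left
  have key := Cfsg.Agent.Lib.Helper03.commutator_inf_centralizer_inf_eq_bot_of_abelian_hall
    V (V ⊔ X) hVM h.hV.1 (coprime_relIndex_sup h hXK)
  rw [eq_bot_iff, ← key]
  refine le_inf (le_inf ?_ ?_) (inf_le_right.trans inf_le_left)
  · exact inf_le_left.trans (commutator_mono le_sup_left le_sup_right)
  · refine inf_le_right.trans ?_
    apply le_centralizer_sup_of
    · intro v hv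
      rw [mem_centralizer_iff]
      intro w hw
      exact h.comm w hw v hv.1
    · exact inf_le_right

/-- coprime action: `V = [V, X] C_V(X)` for `X ≤ K` -/
theorem le_commutator_sup_centralizer (h : FFHyp p V H) {X : Subgroup G}
    (hXK : X ≤ ffK p H) : V ≤ ⁅V, X⁆ ⊔ (V ⊓ centralizer (X : Set G)) := by
  have hXV : X ≤ normalizer (V : Set G) := hXK.trans ((ffK_le H).trans h.hHV)
  have hVM : V ≤ V ⊔ X := le_sup_left
  have hMN : V ⊔ X ≤ normalizer (V : Set G) := sup_le le_normalizer hXV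
  have key := Cfsg.Agent.Lib.Helper03.le_commutator_sup_centralizer_of_abelian_hall
    V (V ⊔ X) hVM hMN h.hV.1 (coprime_relIndex_sup h hXK)
  refine key.trans (sup_le ?_ ?_)
  · refine le_trans ?_ le_sup_left
    apply commutator_le_of_le_stabSub
    have hWV : ⁅V, X⁆ ≤ V := by
      rw [Subgroup.commutator_le]
      intro v hv x hx
      exact commutatorElement_mem_of_mem_normalizer (hXV hx) hv
    refine sup_le ?_ (le_stabSub_of_commutator_le hWV hXV le_rfl)
    apply le_stabSub_of_commutator_le hWV le_normalizer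
    rw [Subgroup.commutator_le]
    intro v hv w hw
    have : ⁅v, w⁆ = 1 := by
      rw [commutatorElement_eq_one_iff_mul_comm]; exact h.comm v hv w hw
    rw [this]; exact one_mem _
  · refine le_trans ?_ le_sup_right
    exact le_inf inf_le_right (inf_le_left.trans (centralizer_le
      (by exact_mod_cast (le_sup_right : X ≤ V ⊔ X))))

variable (h : FFHyp p V H) (hA : FFMin p V H A) (hB : FFMin p V H B)

include h hA in
/-- **(F2)**: `W_A = [V, Q_A]` -/
theorem W_eq_commutator_Q : ⁅V, ffE p H A⁆ = ⁅V, ⁅ffK p H, A⁆⁆ := by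
  symm
  set X := ⁅V, ⁅ffK p H, A⁆⁆ with hX
  have hle : X ≤ ⁅V, ffE p H A⁆ := commutator_mono le_rfl le_sup_left
  by_contra hne
  have hlt : X < ⁅V, ffE p H A⁆ := lt_of_le_of_ne hle hne
  have hWp : IsPGroup p ↥⁅V, ffE p H A⁆ := h.isPGroup.to_le (ffE_W_le h hA)
  have h1 := ff_card_mul_le_of_lt hWp hlt
  rw [ffE_card_W h hA, sq] at h1
  have hXle : Nat.card X ≤ p := Nat.le_of_mul_le_mul_left h1 hp.out.pos
  -- `X ≠ ⊥`
  have hQne : ⁅ffK p H, A⁆ ≠ ⊥ := by
    intro hb
    have := card_commutator_K' h hA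
    rw [hb, Subgroup.card_bot] at this
    have hp2 := hp.out.two_le
    have : p ^ 2 ≥ 4 := by nlinarith
    omega
  have hXne : X ≠ ⊥ := by
    intro hb
    rw [hX, commutator_eq_bot_iff_le_centralizer] at hb
    have h2 : ⁅ffK p H, A⁆ ≤ H ⊓ centralizer (V : Set G) :=
      le_inf ((commutator_K_le hA).trans (ffK_le H)) (le_centralizer_iff.mp hb)
    rw [h.hf] at h2
    exact hQne (le_bot_iff.mp h2)
  have hXp : IsPGroup p ↥X := hWp.to_le hle
  have hXcard : Nat.card X = p := by
    apply le_antisymm hXle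
    have := ff_card_mul_le_of_lt hXp (bot_lt_iff_ne_bot.mpr hXne)
    rwa [Subgroup.card_bot, mul_one] at this
  -- `E_A` normalizes `X`, so `A` and `A^x` centralize it
  have hEX : ffE p H A ≤ normalizer (X : Set G) := by
    intro e he
    apply mem_normalizer_commutator' (h.hHV (ffE_le hA he))
    rw [← ffE_inf_K hA]
    exact mem_normalizer_inf (le_normalizer he) (ffK_normal H (ffE_le hA he))
  have key : ∀ A' : Subgroup G, FFMin p V H A' → A' ≤ ffE p H A → X ≤ centralizer (A' : Set G) := by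
    intro A' hA' hA'E
    have hne2 := Cfsg.Agent.Lib.Helper55.inf_centralizer_ne_bot_of_le_normalizer hA'.isPGroup
      hXp hXne (hA'E.trans hEX)
    have := eq_of_le_of_card_prime hp.out hXcard inf_le_left hne2
    exact this ▸ inf_le_right
  obtain ⟨x, hxK, hxA⟩ := exists_not_centralizing h hA
  have hB' := hA.conj h (ffK_le H hxK)
  have h3 : X ≤ centralizer ((ffE p H A : Subgroup G) : Set G) := by
    rw [ffE_eq_pair h hA hxK hxA]
    apply le_centralizer_sup_of
    · exact key A hA le_ffE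
    · exact key _ hB' (cj_le_ffE h hA hxK)
  have h4 : X ≤ ⁅V, ffE p H A⁆ ⊓ (V ⊓ centralizer ((ffE p H A : Subgroup G) : Set G)) :=
    le_inf hle (le_inf (hle.trans (ffE_W_le h hA)) h3)
  rw [ffE_W_inf h hA] at h4
  exact hXne (le_bot_iff.mp h4)

include h hA in
/-- **(F3)**: `C_V(Q_A) = C_V(E_A)` -/
theorem centralizer_Q_le :
    V ⊓ centralizer ((⁅ffK p H, A⁆ : Subgroup G) : Set G) ≤
      centralizer ((ffE p H A : Subgroup G) : Set G) := by
  intro v hv
  have hv' : v ∈ ⁅V, ffE p H A⁆ ⊔ (V ⊓ centralizer ((ffE p H A : Subgroup G) : Set G)) := by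
    rw [ffE_W_sup h hA]; exact hv.1
  obtain ⟨w, hw, u, hu, rfl⟩ := Cfsg.Agent.Lib.Helper01.exists_mul_of_mem_sup
    (le_normalizer_of_le_comm h.comm (ffE_W_le h hA) inf_le_left) hv'
  have huQ : u ∈ centralizer ((⁅ffK p H, A⁆ : Subgroup G) : Set G) :=
    centralizer_le (by exact_mod_cast (le_sup_left : ⁅ffK p H, A⁆ ≤ ffE p H A)) hu.2
  have hwQ : w ∈ centralizer ((⁅ffK p H, A⁆ : Subgroup G) : Set G) := by
    have : w = (w * u) * u⁻¹ := by group
    rw [this]
    exact mul_mem hv.2 (inv_mem huQ)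
  have hw1 : w ∈ ⁅V, ⁅ffK p H, A⁆⁆ ⊓ (V ⊓ centralizer ((⁅ffK p H, A⁆ : Subgroup G) : Set G)) := by
    refine ⟨?_, ffE_W_le h hA hw, hwQ⟩
    rw [← W_eq_commutator_Q h hA]; exact hw
  rw [commutator_inf_centralizer_eq_bot h (commutator_K_le hA), mem_bot] at hw1
  rw [hw1, one_mul]
  exact hu.2

include h hA hB in
/-- distinct `E`'s: `E_B ≤ C_H(W_A)` -/
theorem ffE_le_centralizer_W_of_ne (hne : ffE p H B ≠ ffE p H A) :
    ffE p H B ≤ H ⊓ centralizer ((⁅V, ffE p H A⁆ : Subgroup G) : Set G) := by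
  refine le_inf (ffE_le hB) ?_
  have key : ∀ B' : Subgroup G, FFMin p V H B' → ffE p H B' = ffE p H B →
      B' ≤ centralizer ((⁅V, ffE p H A⁆ : Subgroup G) : Set G) := by
    intro B' hB' hE
    rcases ffmin_dichotomy h hA hB' with h1 | h1
    · exact absurd (hE ▸ ffE_eq_of_le h hA hB' h1) hne
    · exact h1
  obtain ⟨y, hyK, hyB⟩ := exists_not_centralizing h hB
  rw [ffE_eq_pair h hB hyK hyB]
  exact sup_le (key B hB rfl) (key _ (hB.conj h (ffK_le H hyK)) (ffE_cj_K h hB hyK))

include h in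
/-- there is a minimal offender when `H ≠ 1` -/
theorem exists_ffmin (hgen : FFGen p V H) (hH1 : H ≠ ⊥) : ∃ A, FFMin p V H A := by
  by_contra hcon
  push Not at hcon
  apply hH1
  rw [eq_bot_iff]
  refine hgen.trans (iSup_le fun B => ?_)
  exact absurd B.2 (hcon B.1)

end Global5

end Cfsg.Agent.Lib.Helper52
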