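import Mathlib
import Cfsg.Agent.Lib.Helper55.Basic

/-!
# The orbit norm: a diagonal homomorphism `U → ∏_{g ∈ X / Y} U^g`
-/

set_option autoImplicit false

namespace Cfsg.Agent.Lib.Helper52

open Subgroup
open Cfsg.Agent.Lib.Helper55 (cj mem_cj conj_mem_cj)

section OrbitNorm

variable {M : Type*} [Group M]

/-- reindexing a noncommutative product over `univ` along a bijection -/
theorem noncommProd_univ_equiv {ι : Type*} [Fintype ι] (σ : ι ≃ ι) (f : ι → M)
    (comm : (↑(Finset.univ : Finset ι) : Set ι).Pairwise (Function.onFun Commute f))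
    (comm' : (↑(Finset.univ : Finset ι) : Set ι).Pairwise
      (Function.onFun Commute (fun i => f (σ i)))) :
    Finset.univ.noncommProd (fun i => f (σ i)) comm' = Finset.univ.noncommProd f comm := by
  unfold Finset.noncommProd
  have h : Multiset.map (fun i => f (σ i)) (Finset.univ : Finset ι).val =
      Multiset.map f (Finset.univ : Finset ι).val := by
    have h1 : Multiset.map σ (Finset.univ : Finset ι).val = (Finset.univ : Finset ι).val :=
      Multiset.map_univ_val_equiv σ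
    calc Multiset.map (fun i => f (σ i)) (Finset.univ : Finset ι).val
        = Multiset.map f (Multiset.map σ (Finset.univ : Finset ι).val) := by
          rw [Multiset.map_map]; rfl
      _ = Multiset.map f (Finset.univ : Finset ι).val := by rw [h1]
  congr 1

theorem conj_noncommProd {ι : Type*} (s : Finset ι) (f : ι → M)
    (comm : (↑s : Set ι).Pairwise (Function.onFun Commute f)) (h : M)
    (comm' : (↑s : Set ι).Pairwise (Function.onFun Commute (fun i => h * f i * h⁻¹))) :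
    h * s.noncommProd f comm * h⁻¹ = s.noncommProd (fun i => h * f i * h⁻¹) comm' := by
  have := Finset.map_noncommProd s f comm (MulAut.conj h).toMonoidHom
  exact this

open Classical in
/-- **The orbit norm.** If `Y' ≤ X'` centralizes `U` and the conjugates of `U` under
`X' \ Y'` commute with `U`, there is a homomorphism `μ : U → M`, `μ u = ∏_{g ∈ X'/Y'} u^g`,
with `X'`-invariant values. -/
theorem exists_orbit_norm [Finite M] (X' Y' U : Subgroup M)
    (hcent : ∀ y ∈ Y', ∀ u ∈ U, y * u * y⁻¹ = u)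
    (hcomm : ∀ g ∈ X', g ∉ Y' → ∀ u ∈ U, ∀ u' ∈ U, Commute (g * u * g⁻¹) u') :
    ∃ μ : U →* M,
      (∀ u : U, ∀ h ∈ X', h * μ u * h⁻¹ = μ u) ∧
      (∀ u : U, ∀ c : M, (∀ g ∈ X', g ∉ Y' → ∀ u' ∈ U, Commute c (g * u' * g⁻¹)) →
        Commute c ((u : M)⁻¹ * μ u)) ∧
      (∀ u : U, ∀ T : Subgroup M, (∀ g ∈ X', ∀ t ∈ T, g * t * g⁻¹ ∈ T) → (u : M) ∈ T →
        μ u ∈ T) := by
  have : Fintype (↥X' ⧸ Y'.subgroupOf X') := Fintype.ofFinite _
  -- representatives
  obtain ⟨rep', hrep'⟩ : ∃ rep' : (↥X' ⧸ Y'.subgroupOf X') → ↥X',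
      ∀ i, (QuotientGroup.mk (rep' i) : ↥X' ⧸ Y'.subgroupOf X') = i :=
    ⟨fun i => Quotient.out i, fun i => QuotientGroup.out_eq' i⟩
  obtain ⟨rep, hrep⟩ : ∃ rep : (↥X' ⧸ Y'.subgroupOf X') → M, ∀ i, rep i = (rep' i : M) :=
    ⟨fun i => (rep' i : M), fun _ => rfl⟩
  have hrepX : ∀ i, rep i ∈ X' := fun i => by rw [hrep]; exact (rep' i).2
  have hmk : ∀ i, (QuotientGroup.mk (⟨rep i, hrepX i⟩ : X') : ↥X' ⧸ Y'.subgroupOf X') = i := by
    intro i
    have : (⟨rep i, hrepX i⟩ : X') = rep' i := Subtype.ext (hrep i)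
    rw [this]
    exact hrep' i
  -- when two elements of `X'` define the same coset
  have hcoset : ∀ a b : M, ∀ (ha : a ∈ X') (hb : b ∈ X'),
      (QuotientGroup.mk (⟨a, ha⟩ : X') : ↥X' ⧸ Y'.subgroupOf X') = QuotientGroup.mk ⟨b, hb⟩ ↔
        a⁻¹ * b ∈ Y' := by
    intro a b ha hb
    rw [QuotientGroup.eq, mem_subgroupOf]
    rfl
  -- commuting of distinct conjugates
  have K1 : ∀ a ∈ X', ∀ b ∈ X', a⁻¹ * b ∉ Y' → ∀ u ∈ U, ∀ u' ∈ U,
      Commute (a * u * a⁻¹) (b * u' * b⁻¹) := by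
    intro a ha b hb hab u hu u' hu'
    have h1 := hcomm (a⁻¹ * b) (X'.mul_mem (X'.inv_mem ha) hb) hab u' hu' u hu
    have h2 : Commute (a * ((a⁻¹ * b) * u' * (a⁻¹ * b)⁻¹) * a⁻¹) (a * u * a⁻¹) := by
      have := h1.eq
      show a * ((a⁻¹ * b) * u' * (a⁻¹ * b)⁻¹) * a⁻¹ * (a * u * a⁻¹) =
        (a * u * a⁻¹) * (a * ((a⁻¹ * b) * u' * (a⁻¹ * b)⁻¹) * a⁻¹)
      calc a * ((a⁻¹ * b) * u' * (a⁻¹ * b)⁻¹) * a⁻¹ * (a * u * a⁻¹)
          = a * (((a⁻¹ * b) * u' * (a⁻¹ * b)⁻¹) * u) * a⁻¹ := by group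
        _ = a * (u * ((a⁻¹ * b) * u' * (a⁻¹ * b)⁻¹)) * a⁻¹ := by rw [this]
        _ = (a * u * a⁻¹) * (a * ((a⁻¹ * b) * u' * (a⁻¹ * b)⁻¹) * a⁻¹) := by group
    have e : a * ((a⁻¹ * b) * u' * (a⁻¹ * b)⁻¹) * a⁻¹ = b * u' * b⁻¹ := by group
    rw [e] at h2
    exact h2.symm
  -- same coset ⇒ same conjugation on `U`
  have K2 : ∀ a ∈ X', ∀ b ∈ X', a⁻¹ * b ∈ Y' → ∀ u ∈ U, b * u * b⁻¹ = a * u * a⁻¹ := by
    intro a ha b hb hab u hu
    have := hcent _ hab u hu
    calc b * u * b⁻¹ = a * ((a⁻¹ * b) * u * (a⁻¹ * b)⁻¹) * a⁻¹ := by group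
      _ = a * u * a⁻¹ := by rw [this]
  -- the homomorphisms
  obtain ⟨θ, hθ⟩ : ∃ θ : (↥X' ⧸ Y'.subgroupOf X') → (U →* M),
      θ = fun i => ((MulAut.conj (rep i)).toMonoidHom).comp U.subtype := ⟨_, rfl⟩
  have hθa : ∀ i (u : U), θ i u = rep i * u * (rep i)⁻¹ := by
    intro i u; rw [hθ]; rfl
  have hne : ∀ i j, i ≠ j → (rep i)⁻¹ * rep j ∉ Y' := by
    intro i j hij hmem
    apply hij
    rw [← hmk i, ← hmk j]
    exact (hcoset _ _ (hrepX i) (hrepX j)).mpr hmem
  have hpair : Pairwise fun i j => ∀ x y, Commute (θ i x) (θ j y) := by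
    intro i j hij x y
    rw [hθa, hθa]
    exact K1 _ (hrepX i) _ (hrepX j) (hne i j hij) x x.2 y y.2
  have hcu : ∀ u : U, (↑(Finset.univ : Finset (↥X' ⧸ Y'.subgroupOf X')) :
      Set (↥X' ⧸ Y'.subgroupOf X')).Pairwise (Function.onFun Commute (fun i => θ i u)) := by
    intro u i _ j _ hij
    exact hpair hij u u
  obtain ⟨μ, hμ⟩ : ∃ μ : U →* M, ∀ u : U,
      μ u = Finset.univ.noncommProd (fun i => θ i u) (hcu u) := by
    refine ⟨(MonoidHom.noncommPiCoprod θ hpair).comp (MonoidHom.pi fun _ => MonoidHom.id U), ?_⟩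
    intro u
    rw [MonoidHom.comp_apply, MonoidHom.noncommPiCoprod_apply]
    rfl
  refine ⟨μ, ?_, ?_, ?_⟩
  · -- invariance
    intro u h hh
    rw [hμ]
    have hcu' : (↑(Finset.univ : Finset (↥X' ⧸ Y'.subgroupOf X')) :
        Set (↥X' ⧸ Y'.subgroupOf X')).Pairwise
          (Function.onFun Commute (fun i => h * θ i u * h⁻¹)) := by
      intro i _ j _ hij
      have := hpair hij u u
      show h * θ i u * h⁻¹ * (h * θ j u * h⁻¹) = h * θ j u * h⁻¹ * (h * θ i u * h⁻¹)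
      calc h * θ i u * h⁻¹ * (h * θ j u * h⁻¹) = h * (θ i u * θ j u) * h⁻¹ := by group
        _ = h * (θ j u * θ i u) * h⁻¹ := by rw [this.eq]
        _ = h * θ j u * h⁻¹ * (h * θ i u * h⁻¹) := by group
    rw [conj_noncommProd _ _ (hcu u) h hcu']
    -- the permutation
    obtain ⟨σ, hσ⟩ : ∃ σ : (↥X' ⧸ Y'.subgroupOf X') ≃ (↥X' ⧸ Y'.subgroupOf X'),
        σ = MulAction.toPerm (⟨h, hh⟩ : X') := ⟨_, rfl⟩
    have hstep : ∀ i, h * θ i u * h⁻¹ = θ (σ i) u := by
      intro i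
      rw [hθa, hθa]
      have hX1 : h * rep i ∈ X' := X'.mul_mem hh (hrepX i)
      have hsame : (QuotientGroup.mk (⟨rep (σ i), hrepX _⟩ : X') : ↥X' ⧸ Y'.subgroupOf X') =
          QuotientGroup.mk ⟨h * rep i, hX1⟩ := by
        rw [hmk, hσ]
        show (⟨h, hh⟩ : X') • i = _
        conv_lhs => rw [← hmk i]
        rfl
      have hY := (hcoset _ _ (hrepX _) hX1).mp hsame
      have := K2 _ (hrepX _) _ hX1 hY u u.2
      rw [← this]; group
    have hcu'' : (↑(Finset.univ : Finset (↥X' ⧸ Y'.subgroupOf X')) :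
        Set (↥X' ⧸ Y'.subgroupOf X')).Pairwise
          (Function.onFun Commute (fun i => θ (σ i) u)) := by
      intro i _ j _ hij
      exact hpair (fun h0 => hij (σ.injective h0)) u u
    have hcongr := Finset.noncommProd_congr (s₁ := Finset.univ) (s₂ := Finset.univ)
      (f := fun i => h * θ i u * h⁻¹) (g := fun i => θ (σ i) u) rfl
      (fun i _ => hstep i) hcu'
    rw [hcongr]
    exact noncommProd_univ_equiv σ (fun i => θ i u) (hcu u) hcu''
  · -- the complement part commutes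
    intro u c hc
    rw [hμ]
    obtain ⟨i₀, hi₀⟩ : ∃ i₀ : ↥X' ⧸ Y'.subgroupOf X', i₀ = QuotientGroup.mk 1 := ⟨_, rfl⟩
    have hrep0 : ∀ i, rep i ∈ Y' → i = i₀ := by
      intro i hi
      rw [hi₀, ← hmk i]
      have h1 : (1 : X') = ⟨1, X'.one_mem⟩ := rfl
      rw [h1]
      refine (hcoset _ _ (hrepX i) X'.one_mem).mpr ?_
      rw [mul_one]
      exact Y'.inv_mem hi
    have hrep0' : rep i₀ ∈ Y' := by
      have h1 : (QuotientGroup.mk (⟨rep i₀, hrepX _⟩ : X') : ↥X' ⧸ Y'.subgroupOf X') =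
          QuotientGroup.mk ⟨1, X'.one_mem⟩ := by
        rw [hmk, hi₀]; rfl
      have := (hcoset _ _ (hrepX _) X'.one_mem).mp h1
      rw [mul_one] at this
      simpa using Y'.inv_mem this
    have hθ0 : θ i₀ u = u := by
      rw [hθa]; exact hcent _ hrep0' u u.2
    have herase := Finset.mul_noncommProd_erase Finset.univ (Finset.mem_univ i₀)
      (fun i => θ i u) (hcu u)
    rw [← herase]
    simp only [hθ0]
    rw [inv_mul_cancel_left]
    apply Finset.noncommProd_commute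
    intro i hi
    rw [hθa]
    have hi' : i ≠ i₀ := (Finset.mem_erase.mp hi).1
    exact hc _ (hrepX i) (fun hm => hi' (hrep0 i hm)) u u.2
  · intro u T hT huT
    rw [hμ]
    apply Subgroup.noncommProd_mem
    intro i _
    rw [hθa]
    exact hT _ (hrepX i) _ huT

end OrbitNorm

end Cfsg.Agent.Lib.Helper52
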