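import Mathlib
import Cfsg.Agent.Lib.Helper52.FFGlobal1
import Cfsg.Agent.Lib.Helper02.RelSubnormal
import Cfsg.Agent.Lib.Helper53.Subnormal

/-!
# KS 9.3.1: two subnormal subgroups acting irreducibly on their commutator modules, part 1

Tools: the stability lemma for groups whose subnormal `p`-subgroups are trivial, and the
elementary "moving" argument.
-/

set_option autoImplicit false

namespace Cfsg.Agent.Lib.Helper52

open Subgroup
open scoped commutatorElement
open Cfsg.Agent.Lib.Helper55 (cj mem_cj conj_mem_cj cj_one cj_mul cj_inv_cj cj_cj_inv cj_mono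
  cj_eq_self_iff cj_inf cj_centralizer card_cj isPGroup_cj cj_eq_self_of_mem cj_bot cj_le_iff
  le_cj_iff cj_normalizer)
open Cfsg.Agent.Lib.Helper02 (RSn)

section SubnPair1

variable {G : Type*} [Group G]

/-- `E ≤ N(T)` from closure of `T` under conjugation by `E`. -/
theorem le_normalizer_of_conj_mem {E T : Subgroup G}
    (h : ∀ x ∈ E, ∀ t ∈ T, x * t * x⁻¹ ∈ T) : E ≤ normalizer (T : Set G) := by
  intro x hx
  rw [mem_normalizer_iff]
  intro t
  constructor
  · exact h x hx t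
  · intro ht
    have := h x⁻¹ (E.inv_mem hx) _ ht
    simpa [mul_assoc] using this

/-- conjugation invariance of `stabSub V W` under `N(V) ∩ N(W)` -/
theorem conj_mem_stabSub {V W : Subgroup G} {x g : G} (hxV : x ∈ normalizer (V : Set G))
    (hxW : x ∈ normalizer (W : Set G)) (hg : g ∈ stabSub V W) : x * g * x⁻¹ ∈ stabSub V W := by
  obtain ⟨hg1, hg2, hg3⟩ := hg
  refine ⟨?_, ?_, ?_⟩
  · exact mul_mem (mul_mem hxV hg1) (inv_mem hxV)
  · exact mul_mem (mul_mem hxW hg2) (inv_mem hxW)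
  · intro v hv
    have hv' : x⁻¹ * v * x⁻¹⁻¹ ∈ V := (mem_normalizer_iff.mp (inv_mem hxV) v).mp hv
    have h1 := hg3 _ hv'
    have h2 : x * ⁅x⁻¹ * v * x⁻¹⁻¹, g⁆ * x⁻¹ ∈ W := (mem_normalizer_iff.mp hxW _).mp h1
    have : ⁅v, x * g * x⁻¹⁆ = x * ⁅x⁻¹ * v * x⁻¹⁻¹, g⁆ * x⁻¹ := by
      simp only [commutatorElement_def]; group
    rw [this]; exact h2

/-- An element centralizing `X ≤ V` and `V / X`, with `V` abelian of exponent `p`, has its
`p`-th power centralizing `V`. -/
theorem pow_mem_centralizer_of_stab {p : ℕ} {V X : Subgroup G}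
    (hcomm : ∀ a ∈ V, ∀ b ∈ V, a * b = b * a) (hexp : ∀ a ∈ V, a ^ p = 1) (hXV : X ≤ V) {s : G}
    (hsX : s ∈ centralizer (X : Set G)) (hsV : ∀ v ∈ V, ⁅v, s⁆ ∈ X) :
    s ^ p ∈ centralizer (V : Set G) := by
  rw [mem_centralizer_iff]
  intro v hv
  obtain ⟨x, hx⟩ : ∃ x, x = s * v * s⁻¹ * v⁻¹ := ⟨_, rfl⟩
  have hxX : x ∈ X := by
    have : x = (⁅v, s⁆)⁻¹ := by rw [hx, commutatorElement_def]; group
    rw [this]; exact inv_mem (hsV v hv)
  have hsx : s * x * s⁻¹ = x := by
    have := (mem_centralizer_iff.mp hsX) x hxX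
    rw [← this]; group
  have hxv : x * v = v * x := hcomm x (hXV hxX) v hv
  have hconj : ∀ n : ℕ, s ^ n * v * (s ^ n)⁻¹ = x ^ n * v := by
    intro n
    induction n with
    | zero => simp
    | succ n ih =>
      have hsxn : s * x ^ n * s⁻¹ = x ^ n := by
        have h1 : (s * x * s⁻¹) ^ n = x ^ n := by rw [hsx]
        rw [← conj_pow, h1]
      calc s ^ (n + 1) * v * (s ^ (n + 1))⁻¹
          = s * (s ^ n * v * (s ^ n)⁻¹) * s⁻¹ := by rw [pow_succ']; group
        _ = s * (x ^ n * v) * s⁻¹ := by rw [ih]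
        _ = (s * x ^ n * s⁻¹) * (s * v * s⁻¹) := by group
        _ = x ^ n * (x * v) := by
            rw [hsxn]
            congr 1
            rw [hx]; group
        _ = x ^ (n + 1) * v := by rw [pow_succ, mul_assoc]
  have h1 := hconj p
  rw [hexp x (hXV hxX), one_mul] at h1
  calc v * s ^ p = (s ^ p * v * (s ^ p)⁻¹) * s ^ p := by rw [h1]
    _ = s ^ p * v := by group

/-- The standing hypothesis: `V` abelian of exponent `p`, `E` acts faithfully on `V`, and the
subnormal subgroups of `E` of exponent `p` are trivial. -/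
structure SPHyp (p : ℕ) (V E : Subgroup G) : Prop where
  comm : ∀ a ∈ V, ∀ b ∈ V, a * b = b * a
  exp : ∀ a ∈ V, a ^ p = 1
  hEV : E ≤ normalizer (V : Set G)
  hf : E ⊓ centralizer (V : Set G) = ⊥
  hOp : ∀ S : Subgroup G, RSn S E → (∀ s ∈ S, s ^ p = 1) → S = ⊥

variable {p : ℕ} {V E : Subgroup G}

theorem SPHyp.of_rsn (h : SPHyp p V E) {D : Subgroup G} (hD : RSn D E) : SPHyp p V D where
  comm := h.comm
  exp := h.exp
  hEV := hD.le.trans h.hEV
  hf := by
    rw [eq_bot_iff, ← h.hf]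
    exact inf_le_inf_right _ hD.le
  hOp := fun S hS hexp => h.hOp S (hS.trans hD) hexp

/-- **Stability lemma**: if `X ≤ V` is `E`-invariant, no nontrivial element of `E` centralizes
both `X` and `V / X`. -/
theorem SPHyp.stab_eq_one (h : SPHyp p V E) {X : Subgroup G} (hXV : X ≤ V)
    (hEX : E ≤ normalizer (X : Set G)) {g : G} (hgE : g ∈ E)
    (hgX : g ∈ centralizer (X : Set G)) (hgV : ∀ v ∈ V, ⁅v, g⁆ ∈ X) : g = 1 := by
  obtain ⟨T, hT⟩ : ∃ T : Subgroup G, T = E ⊓ centralizer (X : Set G) ⊓ stabSub V X := ⟨_, rfl⟩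
  have hgT : g ∈ T := by
    rw [hT]
    exact Subgroup.mem_inf.mpr ⟨Subgroup.mem_inf.mpr ⟨hgE, hgX⟩, h.hEV hgE, hEX hgE, hgV⟩
  have hTE : T ≤ E := by rw [hT]; exact inf_le_left.trans inf_le_left
  have hnorm : E ≤ normalizer (T : Set G) := by
    apply le_normalizer_of_conj_mem
    intro x hx t ht
    rw [hT] at ht ⊢
    obtain ⟨ht12, ht3⟩ := Subgroup.mem_inf.mp ht
    obtain ⟨ht1, ht2⟩ := Subgroup.mem_inf.mp ht12
    have hx' : x ∈ normalizer ((centralizer (X : Set G) : Subgroup G) : Set G) := by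
      rw [← cj_eq_self_iff, cj_centralizer, cj_eq_self_iff.mpr (hEX hx)]
    exact Subgroup.mem_inf.mpr ⟨Subgroup.mem_inf.mpr ⟨E.mul_mem (E.mul_mem hx ht1) (E.inv_mem hx),
      (mem_normalizer_iff.mp hx' t).mp ht2⟩, conj_mem_stabSub (h.hEV hx) (hEX hx) ht3⟩
  have hexp : ∀ s ∈ T, s ^ p = 1 := by
    intro s hs
    rw [hT] at hs
    obtain ⟨hs12, hs3⟩ := Subgroup.mem_inf.mp hs
    obtain ⟨hs1, hs2⟩ := Subgroup.mem_inf.mp hs12
    have h1 : s ^ p ∈ E ⊓ centralizer (V : Set G) :=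
      ⟨pow_mem hs1 p, pow_mem_centralizer_of_stab h.comm h.exp hXV hs2 hs3.2.2⟩
    rw [h.hf] at h1
    exact h1
  have hbot := h.hOp T (RSn.single hTE hnorm) hexp
  rw [hbot] at hgT
  exact hgT

theorem SPHyp.commutator_le (h : SPHyp p V E) {A : Subgroup G} (hA : A ≤ E) : ⁅V, A⁆ ≤ V := by
  rw [Subgroup.commutator_le]
  intro v hv a ha
  exact commutatorElement_mem_of_mem_normalizer (h.hEV (hA ha)) hv

/-- A subnormal subgroup `A` of `E` acts faithfully on `[V, A]`. -/
theorem SPHyp.faithful (h : SPHyp p V E) {A : Subgroup G} (hA : RSn A E) {e : G} (he : e ∈ A)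
    (hc : ∀ w ∈ ⁅V, A⁆, e * w * e⁻¹ = w) : e = 1 := by
  have hA' := h.of_rsn hA
  refine hA'.stab_eq_one (hA'.commutator_le le_rfl) (le_normalizer_commutator hA'.hEV) he ?_ ?_
  · rw [mem_centralizer_iff]
    intro w hw
    have := hc w hw
    calc w * e = (e * w * e⁻¹) * e := by rw [this]
      _ = e * w := by group
  · intro v hv
    exact commutator_mem_commutator hv he

/-- A nontrivial subnormal subgroup `A` of `E` with `[V, A]` irreducible has no fixed points on
`[V, A]`. -/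
theorem SPHyp.fixed_eq_one (h : SPHyp p V E) {A : Subgroup G} (hA : RSn A E) (hne : A ≠ ⊥)
    (hirr : ∀ U : Subgroup G, U ≤ ⁅V, A⁆ → A ≤ normalizer (U : Set G) → U = ⊥ ∨ U = ⁅V, A⁆)
    {w : G} (hw : w ∈ ⁅V, A⁆) (hc : ∀ e ∈ A, e * w * e⁻¹ = w) : w = 1 := by
  have hA' := h.of_rsn hA
  have hWn : A ≤ normalizer ((⁅V, A⁆ : Subgroup G) : Set G) := le_normalizer_commutator hA'.hEV
  have hU : A ≤ normalizer ((⁅V, A⁆ ⊓ centralizer (A : Set G) : Subgroup G) : Set G) := by
    intro a ha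
    rw [← cj_eq_self_iff, cj_inf, cj_centralizer, cj_eq_self_iff.mpr (hWn ha),
      cj_eq_self_of_mem ha]
  rcases hirr _ inf_le_left hU with h0 | h0
  · have : w ∈ ⁅V, A⁆ ⊓ centralizer (A : Set G) := by
      refine Subgroup.mem_inf.mpr ⟨hw, ?_⟩
      rw [mem_centralizer_iff]
      intro e he
      have := hc e he
      calc e * w = (e * w * e⁻¹) * e := by group
        _ = w * e := by rw [this]
    rw [h0] at this
    exact this
  · exfalso
    apply hne
    rw [eq_bot_iff]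
    intro e he
    rw [mem_bot]
    apply h.faithful hA he
    intro u hu
    have hu' : u ∈ ⁅V, A⁆ ⊓ centralizer (A : Set G) := by rw [h0]; exact hu
    have := (mem_centralizer_iff.mp (Subgroup.mem_inf.mp hu').2) e he
    calc e * u * e⁻¹ = (e * u) * e⁻¹ := rfl
      _ = (u * e) * e⁻¹ := by rw [this]
      _ = u := by group

end SubnPair1

end Cfsg.Agent.Lib.Helper52
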