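import Mathlib
import Cfsg.Agent.Lib.Helper52.FFGlobal5
import Cfsg.Agent.Lib.Helper52.OrbitNorm
import Cfsg.Agent.Lib.Helper42.PComponents
import Cfsg.Agent.Lib.Helper55.Coprime
import Cfsg.Agent.Lib.Helper52.SubnPair1

/-!
# Coprime operators on the `SL₂(p)`-components of KS §9.3: the model theorem
-/

set_option autoImplicit false

namespace Cfsg.Agent.Lib.Helper52

open Subgroup Matrix
open scoped commutatorElement
open Cfsg.Agent.Lib.Helper55 (cj mem_cj conj_mem_cj cj_one cj_mul cj_inv_cj cj_cj_inv cj_mono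
  cj_eq_self_iff cj_inf cj_centralizer card_cj isPGroup_cj cj_eq_self_of_mem)

section CopModel

variable {G : Type*} [Group G] [Finite G] {p : ℕ} [hp : Fact p.Prime]
variable {V H A : Subgroup G}

omit hp in
/-- `O_{p'}(H)` is invariant under `N_G(H)` -/
theorem ffK_cj_of_mem_normalizer {g : G} (hg : g ∈ normalizer (H : Set G)) :
    cj g (ffK p H) = ffK p H := by
  have key : ∀ x : G, x ∈ normalizer (H : Set G) → cj x (ffK p H) ≤ ffK p H := by
    intro x hx
    rintro _ ⟨m, hm, rfl⟩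
    exact Cfsg.Agent.Lib.Helper42.pPrimeCoreOf_conj_mem p H x hx m hm
  apply le_antisymm (key g hg)
  have h1 := cj_mono (g := g) (key g⁻¹ (inv_mem hg))
  rwa [cj_cj_inv] at h1

omit [Finite G] hp in
/-- conjugates of minimal offenders under `N(V) ∩ N(H)` are minimal offenders -/
theorem FFMin.conj' (hA : FFMin p V H A) {g : G} (hgV : g ∈ normalizer (V : Set G))
    (hgH : g ∈ normalizer (H : Set G)) : FFMin p V H (cj g A) := by
  refine ⟨?_, ?_, ?_⟩
  · have h1 : cj g A ≤ cj g H := cj_mono hA.le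
    rwa [cj_eq_self_iff.mpr hgH] at h1
  · rw [card_cj, hA.card]
  · have hV : cj g V = V := cj_eq_self_iff.mpr hgV
    have e : V ⊓ centralizer ((cj g A : Subgroup G) : Set G) =
        cj g (V ⊓ centralizer (A : Set G)) := by
      rw [cj_inf, cj_centralizer, hV]
    rw [e, card_cj, card_cj]
    exact hA.tight

omit hp in
/-- conjugation of `E_A` by elements of `N(H)` -/
theorem cj_ffE' {g : G} (hg : g ∈ normalizer (H : Set G)) :
    cj g (ffE p H A) = ffE p H (cj g A) := by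
  rw [ffE, ffE, cj_sup, cj_commutator, ffK_cj_of_mem_normalizer hg]

omit hp in
/-- fixed point congruence for a `q`-group normalizing a subgroup -/
theorem card_inf_centralizer_modEq {q : ℕ} [Fact q.Prime] {Q R : Subgroup G} (hQ : IsPGroup q Q)
    (h : Q ≤ normalizer (R : Set G)) :
    Nat.card R ≡ Nat.card ↥(R ⊓ centralizer (Q : Set G)) [MOD q] := by
  let _ := Cfsg.Agent.Lib.Helper55.conjActOn Q R h
  have h1 := hQ.card_modEq_card_fixedPoints R
  have e : ↥(MulAction.fixedPoints Q R) ≃ ↥(R ⊓ centralizer (Q : Set G)) :=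
    { toFun := fun r => ⟨(r.1 : G), by
        refine Subgroup.mem_inf.mpr ⟨r.1.2, ?_⟩
        rw [mem_centralizer_iff]
        intro x hx
        have h2 := r.2 ⟨x, hx⟩
        have e : x * (r.1 : G) * x⁻¹ = (r.1 : G) := congrArg Subtype.val h2
        calc x * (r.1 : G) = (x * (r.1 : G) * x⁻¹) * x := by group
          _ = (r.1 : G) * x := by rw [e]⟩
      invFun := fun r => ⟨⟨r.1, (Subgroup.mem_inf.mp r.2).1⟩, by
        intro x
        apply Subtype.ext
        show (x : G) * r.1 * (x : G)⁻¹ = r.1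
        have h2 := (mem_centralizer_iff.mp (Subgroup.mem_inf.mp r.2).2) x x.2
        rw [h2]; group⟩
      left_inv := fun r => rfl
      right_inv := fun r => rfl }
  rw [Nat.card_congr e] at h1
  exact h1

omit [Finite G] hp in
theorem le_centralizer_sup_of' {X Y Z : Subgroup G} (hX : Z ≤ centralizer (X : Set G))
    (hY : Z ≤ centralizer (Y : Set G)) : Z ≤ centralizer ((X ⊔ Y : Subgroup G) : Set G) := by
  rw [centralizer_sup_eq]
  exact le_inf hX hY

/-- a `q`-group `Y` normalizing `V` and `E_A` centralizes `W_A` and `E_A`, if `q ∤ |H|` -/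
theorem cop_centralizes {q : ℕ} [hq : Fact q.Prime] (h : FFHyp p V H)
    (hA : FFMin p V H A) (Y : Subgroup G) (hYq : IsPGroup q Y)
    (hYV : Y ≤ normalizer (V : Set G)) (hYE : Y ≤ normalizer ((ffE p H A : Subgroup G) : Set G))
    (hqH : ¬ q ∣ Nat.card H) :
    Y ≤ centralizer ((⁅V, ffE p H A⁆ ⊔ ffE p H A : Subgroup G) : Set G) := by
  obtain ⟨E, hE⟩ : ∃ E, E = ffE p H A := ⟨_, rfl⟩
  obtain ⟨W, hW⟩ : ∃ W, W = ⁅V, ffE p H A⁆ := ⟨_, rfl⟩
  rw [← hW, ← hE]
  rw [← hE] at hYE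
  have hEH : E ≤ H := by rw [hE]; exact ffE_le hA
  have hEcard : Nat.card E = (p ^ 2 - 1) * p := by rw [hE]; exact card_ffE h hA
  have hWcard : Nat.card W = p ^ 2 := by rw [hW]; exact ffE_card_W h hA
  have hqE : ¬ q ∣ (p ^ 2 - 1) * p := by
    intro hd
    apply hqH
    rw [← hEcard] at hd
    exact hd.trans (Subgroup.card_dvd_of_le hEH)
  have hYW : Y ≤ normalizer (W : Set G) := by
    intro y hy
    rw [hW, ← hE]
    exact mem_normalizer_commutator' (hYV hy) (hYE hy)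
  -- `Y` centralizes `W`
  have hmod := card_inf_centralizer_modEq hYq hYW
  have hdvd : Nat.card ↥(W ⊓ centralizer (Y : Set G)) ∣ p ^ 2 := by
    rw [← hWcard]; exact Subgroup.card_dvd_of_le inf_le_left
  have hcardC : Nat.card ↥(W ⊓ centralizer (Y : Set G)) = p ^ 2 := by
    obtain ⟨k, hk, hk'⟩ := (Nat.dvd_prime_pow hp.out).mp hdvd
    rw [hWcard, hk'] at hmod
    rw [hk']
    have hp1 : 1 < p := hp.out.one_lt
    have hkle : p ^ k ≤ p ^ 2 := Nat.pow_le_pow_right hp.out.pos hk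
    have hd : q ∣ p ^ 2 - p ^ k := (Nat.modEq_iff_dvd' hkle).mp hmod.symm
    interval_cases k
    · exfalso
      apply hqE
      rw [pow_zero] at hd
      exact Dvd.dvd.mul_right hd p
    · exfalso
      apply hqE
      rw [pow_one] at hd
      have e : (p ^ 2 - 1) * p = (p ^ 2 - p) * (p + 1) := by
        obtain ⟨m, rfl⟩ : ∃ m, p = m + 1 := ⟨p - 1, by omega⟩
        have e1 : (m + 1) ^ 2 - 1 = m * (m + 2) := by
          have : (m + 1) ^ 2 = m * (m + 2) + 1 := by ring
          omega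
        have e2 : (m + 1) ^ 2 - (m + 1) = m * (m + 1) := by
          have : (m + 1) ^ 2 = m * (m + 1) + (m + 1) := by ring
          omega
        rw [e1, e2]; ring
      rw [e]
      exact Dvd.dvd.mul_right hd _
    · rfl
  have hWY : W ≤ centralizer (Y : Set G) := by
    have : W ⊓ centralizer (Y : Set G) = W :=
      Subgroup.eq_of_le_of_card_ge inf_le_left (by rw [hcardC, hWcard])
    rw [← this]; exact inf_le_right
  have hYCW : Y ≤ centralizer (W : Set G) := le_centralizer_iff.mp hWY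
  -- `Y` centralizes `E`
  have hEV : E ≤ normalizer (V : Set G) := hEH.trans h.hHV
  have hEW : E ≤ normalizer (W : Set G) := by
    intro e he
    rw [hW, ← hE]
    exact mem_normalizer_commutator' (hEV he) (le_normalizer he)
  have hfaith : E ⊓ centralizer (W : Set G) = ⊥ := by
    rw [hE, hW]; exact ffE_faithful h hA
  have hYCE : Y ≤ centralizer (E : Set G) := by
    intro y hy
    rw [mem_centralizer_iff]
    intro e he
    have h1 : y * e * y⁻¹ ∈ E := (mem_normalizer_iff.mp (hYE hy) e).mp he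
    have h2 : e ∈ normalizer ((centralizer (W : Set G) : Subgroup G) : Set G) :=
      Cfsg.Agent.Lib.Helper55.normalizer_le_normalizer_centralizer W (hEW he)
    have h3 : e * y⁻¹ * e⁻¹ ∈ centralizer (W : Set G) :=
      (mem_normalizer_iff.mp h2 _).mp (inv_mem (hYCW hy))
    have h4 : y * e * y⁻¹ * e⁻¹ ∈ E ⊓ centralizer (W : Set G) := by
      refine Subgroup.mem_inf.mpr ⟨mul_mem h1 (inv_mem he), ?_⟩
      have : y * e * y⁻¹ * e⁻¹ = y * (e * y⁻¹ * e⁻¹) := by group
      rw [this]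
      exact mul_mem (hYCW hy) h3
    rw [hfaith, mem_bot] at h4
    calc e * y = (y * e * y⁻¹ * e⁻¹)⁻¹ * (y * e) := by group
      _ = y * e := by rw [h4]; group
  exact le_centralizer_sup_of' hYCW hYCE

/-- **The orbit norm on a component.** -/
theorem cop_model_mu {q : ℕ} [hq : Fact q.Prime] (h : FFHyp p V H) (hgen : FFGen p V H)
    (hA : FFMin p V H A) (X : Subgroup G) (hXq : IsPGroup q X)
    (hXV : X ≤ normalizer (V : Set G)) (hXH : X ≤ normalizer (H : Set G))
    (hqH : ¬ q ∣ Nat.card H) :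
    ∃ μ : ↥(⁅V, ffE p H A⁆ ⊔ ffE p H A) →* G,
      (∀ u : ↥(⁅V, ffE p H A⁆ ⊔ ffE p H A), ∀ x ∈ X, x * μ u * x⁻¹ = μ u) ∧
      (∀ u : ↥(⁅V, ffE p H A⁆ ⊔ ffE p H A), ∀ c ∈ ⁅V, ffE p H A⁆ ⊔ ffE p H A,
        Commute c ((u : G)⁻¹ * μ u)) ∧
      (∀ u : ↥(⁅V, ffE p H A⁆ ⊔ ffE p H A), ∀ T : Subgroup G,
        (∀ g ∈ X, ∀ t ∈ T, g * t * g⁻¹ ∈ T) → (u : G) ∈ T → μ u ∈ T) := by
  obtain ⟨Y, hY⟩ : ∃ Y : Subgroup G, Y = X ⊓ normalizer ((ffE p H A : Subgroup G) : Set G) :=
    ⟨_, rfl⟩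
  obtain ⟨U, hU⟩ : ∃ U : Subgroup G, U = ⁅V, ffE p H A⁆ ⊔ ffE p H A := ⟨_, rfl⟩
  have hYX : Y ≤ X := by rw [hY]; exact inf_le_left
  have hYU : Y ≤ centralizer (U : Set G) := by
    rw [hU]
    exact cop_centralizes h hA Y (hXq.to_le hYX) (hYX.trans hXV) (by rw [hY]; exact inf_le_right)
      hqH
  have hcent : ∀ y ∈ Y, ∀ u ∈ U, y * u * y⁻¹ = u := by
    intro y hy u hu
    have := (mem_centralizer_iff.mp (hYU hy)) u hu
    rw [← this]; group
  have hcjU : ∀ g ∈ X, g ∉ Y → cj g U ≤ centralizer (U : Set G) := by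
    intro g hg hgY
    have hgE : cj g (ffE p H A) ≠ ffE p H A := by
      intro he
      apply hgY
      rw [hY]
      exact Subgroup.mem_inf.mpr ⟨hg, cj_eq_self_iff.mp he⟩
    have hB : FFMin p V H (cj g A) := hA.conj' (hXV hg) (hXH hg)
    have hEB : cj g (ffE p H A) = ffE p H (cj g A) := cj_ffE' (hXH hg)
    rw [hEB] at hgE
    have hWB : cj g ⁅V, ffE p H A⁆ = ⁅V, ffE p H (cj g A)⁆ := by
      rw [cj_commutator, cj_eq_self_iff.mpr (hXV hg), hEB]
    have F1 := ffE_le_centralizer_W_of_ne h hA hB hgE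
    have F2 := ffE_le_centralizer_W_of_ne h hB hA hgE.symm
    have F3 : H ⊓ centralizer ((⁅V, ffE p H A⁆ : Subgroup G) : Set G) ≤
        centralizer ((ffE p H A : Subgroup G) : Set G) := by
      have := commutator_ffE_centralizer h hgen hA
      rw [commutator_eq_bot_iff_le_centralizer] at this
      exact le_centralizer_iff.mp this
    rw [hU, cj_sup, hWB, hEB]
    refine sup_le ?_ ?_
    · apply le_centralizer_sup_of'
      · -- `W_B ≤ C(W)`: both in the abelian `V`
        intro x hx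
        rw [mem_centralizer_iff]
        intro w hw
        exact h.comm w (ffE_W_le h hA hw) x (ffE_W_le h hB hx)
      · exact le_centralizer_iff.mp (F2.trans inf_le_right)
    · apply le_centralizer_sup_of'
      · exact F1.trans inf_le_right
      · exact F1.trans F3
  have hcomm : ∀ g ∈ X, g ∉ Y → ∀ u ∈ U, ∀ u' ∈ U, Commute (g * u * g⁻¹) u' := by
    intro g hg hgY u hu u' hu'
    have h1 : g * u * g⁻¹ ∈ centralizer (U : Set G) := hcjU g hg hgY (conj_mem_cj hu)
    exact ((mem_centralizer_iff.mp h1) u' hu').symm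
  obtain ⟨μ, hμ1, hμ2, hμ3⟩ := exists_orbit_norm X Y U hcent hcomm
  subst hU
  refine ⟨μ, hμ1, ?_, hμ3⟩
  intro u c hc
  apply hμ2
  intro g hg hgY u' hu'
  exact (hcomm g hg hgY u' hu' c hc).symm

/-- **The model theorem**: fixed points of `X` contain a plane `W` and a copy `D` of `SL₂(p)`
acting faithfully on it. -/
theorem cop_model_sl2 {q : ℕ} [hq : Fact q.Prime] (h : FFHyp p V H) (hgen : FFGen p V H)
    (hA : FFMin p V H A) (X : Subgroup G) (hXq : IsPGroup q X)
    (hXV : X ≤ normalizer (V : Set G)) (hXH : X ≤ normalizer (H : Set G))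
    (hqH : ¬ q ∣ Nat.card H) :
    ∃ W D : Subgroup G, W ≤ V ⊓ centralizer (X : Set G) ∧ D ≤ H ⊓ centralizer (X : Set G) ∧
      Nat.card W = p ^ 2 ∧ D ≤ normalizer (W : Set G) ∧ D ⊓ centralizer (W : Set G) = ⊥ ∧
      Nonempty (↥D ≃* SpecialLinearGroup (Fin 2) (ZMod p)) := by
  have hEH : ffE p H A ≤ H := ffE_le hA
  have hW₀V : ⁅V, ffE p H A⁆ ≤ V := ffE_W_le h hA
  have hfaith : ffE p H A ⊓ centralizer ((⁅V, ffE p H A⁆ : Subgroup G) : Set G) = ⊥ :=
    ffE_faithful h hA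
  have hWinf : ⁅V, ffE p H A⁆ ⊓ (V ⊓ centralizer ((ffE p H A : Subgroup G) : Set G)) = ⊥ :=
    ffE_W_inf h hA
  have hEW : ffE p H A ≤ normalizer ((⁅V, ffE p H A⁆ : Subgroup G) : Set G) := by
    intro e he
    exact mem_normalizer_commutator' (h.hHV (hEH he)) (le_normalizer he)
  have hcardW := ffE_card_W h hA
  have hequiv := ffE_equiv h hA
  obtain ⟨μ, hμ1, hμ2, hμ3⟩ := cop_model_mu h hgen hA X hXq hXV hXH hqH
  generalize ffE p H A = E at *
  generalize ⁅V, E⁆ = W₀ at *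
  -- the kernel of `μ` centralizes `U`
  have hker : ∀ u : ↥(W₀ ⊔ E), μ u = 1 → (u : G) ∈ centralizer ((W₀ ⊔ E : Subgroup G) : Set G) := by
    intro u hu
    rw [mem_centralizer_iff]
    intro c hc
    have := hμ2 u c hc
    rw [hu, mul_one] at this
    have h2 : Commute c (u : G) := by
      have := this.inv_right
      rwa [inv_inv] at this
    exact h2.eq
  have hcentX : ∀ u : ↥(W₀ ⊔ E), μ u ∈ centralizer (X : Set G) := by
    intro u
    rw [mem_centralizer_iff]
    intro x hx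
    have := hμ1 u x hx
    calc x * μ u = (x * μ u * x⁻¹) * x := by group
      _ = μ u * x := by rw [this]
  obtain ⟨μW, hμW⟩ : ∃ μW : ↥W₀ →* G, μW = μ.comp (Subgroup.inclusion le_sup_left) := ⟨_, rfl⟩
  obtain ⟨μE, hμE⟩ : ∃ μE : ↥E →* G, μE = μ.comp (Subgroup.inclusion le_sup_right) := ⟨_, rfl⟩
  have hμWa : ∀ w : ↥W₀, μW w = μ ⟨w, le_sup_left (b := E) w.2⟩ := by
    intro w; rw [hμW]; rfl
  have hμEa : ∀ e : ↥E, μE e = μ ⟨e, le_sup_right (a := W₀) e.2⟩ := by
    intro e; rw [hμE]; rfl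
  have hWinj : Function.Injective μW := by
    rw [injective_iff_map_eq_one]
    intro w hw
    rw [hμWa] at hw
    have h1 := hker _ hw
    have h2 : (w : G) ∈ W₀ ⊓ (V ⊓ centralizer (E : Set G)) := by
      refine Subgroup.mem_inf.mpr ⟨w.2, Subgroup.mem_inf.mpr ⟨hW₀V w.2, ?_⟩⟩
      exact centralizer_le (by exact_mod_cast (le_sup_right : E ≤ W₀ ⊔ E)) h1
    rw [hWinf, mem_bot] at h2
    exact Subtype.ext h2
  have hEinj : Function.Injective μE := by
    rw [injective_iff_map_eq_one]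
    intro e he
    rw [hμEa] at he
    have h1 := hker _ he
    have h2 : (e : G) ∈ E ⊓ centralizer (W₀ : Set G) := by
      refine Subgroup.mem_inf.mpr ⟨e.2, ?_⟩
      exact centralizer_le (by exact_mod_cast (le_sup_left : W₀ ≤ W₀ ⊔ E)) h1
    rw [hfaith, mem_bot] at h2
    exact Subtype.ext h2
  -- conjugation formula
  have hconj : ∀ (e : ↥E) (w : ↥W₀), μE e * μW w * (μE e)⁻¹ =
      μW ⟨(e : G) * w * (e : G)⁻¹, (mem_normalizer_iff.mp (hEW e.2) _).mp w.2⟩ := by
    intro e w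
    rw [hμWa, hμWa, hμEa, ← map_inv, ← map_mul, ← map_mul]
    rfl
  refine ⟨μW.range, μE.range, ?_, ?_, ?_, ?_, ?_, ?_⟩
  · rintro _ ⟨w, rfl⟩
    refine Subgroup.mem_inf.mpr ⟨?_, ?_⟩
    · rw [hμWa]
      apply hμ3 _ V
      · intro g hg t ht
        exact (mem_normalizer_iff.mp (hXV hg) t).mp ht
      · exact hW₀V w.2
    · rw [hμWa]; exact hcentX _
  · rintro _ ⟨e, rfl⟩
    refine Subgroup.mem_inf.mpr ⟨?_, ?_⟩
    · rw [hμEa]
      apply hμ3 _ H
      · intro g hg t ht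
        exact (mem_normalizer_iff.mp (hXH hg) t).mp ht
      · exact hEH e.2
    · rw [hμEa]; exact hcentX _
  · rw [← Nat.card_congr (MonoidHom.ofInjective hWinj).toEquiv]
    exact hcardW
  · apply le_normalizer_of_conj_mem
    rintro _ ⟨e, rfl⟩ _ ⟨w, rfl⟩
    rw [hconj]
    exact ⟨_, rfl⟩
  · rw [eq_bot_iff]
    rintro _ ⟨⟨e, rfl⟩, hc⟩
    rw [mem_bot]
    have h1 : (e : G) ∈ E ⊓ centralizer (W₀ : Set G) := by
      refine Subgroup.mem_inf.mpr ⟨e.2, ?_⟩
      rw [mem_centralizer_iff]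
      intro w hw
      have h2 := (mem_centralizer_iff.mp hc) (μW ⟨w, hw⟩) ⟨_, rfl⟩
      have h3 : μE e * μW ⟨w, hw⟩ * (μE e)⁻¹ = μW ⟨w, hw⟩ := by
        rw [← h2]; group
      rw [hconj] at h3
      have h4 := congrArg Subtype.val (hWinj h3)
      have h5 : (e : G) * w * (e : G)⁻¹ = w := h4
      calc w * (e : G) = ((e : G) * w * (e : G)⁻¹) * (e : G) := by rw [h5]
        _ = (e : G) * w := by group
    rw [hfaith, mem_bot] at h1
    have : e = 1 := Subtype.ext h1
    rw [this, map_one]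
  · obtain ⟨f⟩ := hequiv
    exact ⟨(MonoidHom.ofInjective hEinj).symm.trans f⟩

end CopModel

end Cfsg.Agent.Lib.Helper52
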