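import Mathlib
import Cfsg.Agent.Lib.Helper52.FFGlobal5

/-!
# Global structure in KS §9.3, part 6: the structure theorem
-/

set_option autoImplicit false

namespace Cfsg.Agent.Lib.Helper52

open Subgroup Matrix
open scoped commutatorElement

section Global6

variable {G : Type*} [Group G] [Finite G] {p : ℕ} [hp : Fact p.Prime]
variable {V H : Subgroup G}
variable (h : FFHyp p V H) (hgen : FFGen p V H)
variable {ι : Type*} (f : ι → Subgroup G) (hinj : Function.Injective f)
  (hf1 : ∀ i, ∃ A, FFMin p V H A ∧ f i = ffE p H A)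
  (hf2 : ∀ A, FFMin p V H A → ∃ i, f i = ffE p H A)

include h hgen hf1 in
theorem ff_structure_each (i : ι) :
    H ≤ normalizer ((f i : Subgroup G) : Set G) ∧
      Nonempty (↥(f i) ≃* SpecialLinearGroup (Fin 2) (ZMod p)) ∧ Nat.card ↥⁅V, f i⁆ = p ^ 2 := by
  obtain ⟨A, hA, hi⟩ := hf1 i
  rw [hi]
  exact ⟨H_le_normalizer_ffE h hgen hA, ffE_equiv h hA, ffE_card_W h hA⟩

include h hinj hf1 in
theorem ff_structure_indep : iSupIndep f := by
  intro i
  obtain ⟨A, hA, hi⟩ := hf1 i
  rw [disjoint_iff, eq_bot_iff, ← ffE_faithful h hA, hi]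
  refine le_inf inf_le_left (inf_le_right.trans ?_)
  refine iSup₂_le fun j hj => ?_
  obtain ⟨B, hB, hjB⟩ := hf1 j
  rw [hjB]
  refine (ffE_le_centralizer_W_of_ne h hA hB ?_).trans inf_le_right
  intro heq
  apply hj
  apply hinj
  rw [hjB, hi, heq]

include hgen hf1 hf2 in
theorem ff_structure_sup : ⨆ i, f i = H := by
  apply le_antisymm
  · refine iSup_le fun i => ?_
    obtain ⟨A, hA, hi⟩ := hf1 i
    rw [hi]; exact ffE_le hA
  · refine hgen.trans (iSup_le fun B => ?_)
    obtain ⟨i, hi⟩ := hf2 B.1 B.2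
    exact (le_ffE.trans hi.ge).trans (le_iSup f i)

include h hinj hf1 in
theorem ff_structure_indep_V :
    iSupIndep (fun o : Option ι => o.elim (V ⊓ centralizer (H : Set G)) (fun i => ⁅V, f i⁆)) := by
  intro o
  cases o with
  | none =>
    -- `C_V(H) ∩ ⨆ W_E = 1`
    rw [disjoint_iff, eq_bot_iff]
    have key := commutator_inf_centralizer_eq_bot h (X := ffK p H) le_rfl
    rw [← key]
    refine le_inf (inf_le_right.trans ?_) (inf_le_left.trans ?_)
    · refine iSup₂_le fun o' ho' => ?_
      cases o' with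
      | none => exact absurd rfl ho'
      | some j =>
        obtain ⟨B, hB, hjB⟩ := hf1 j
        show ⁅V, f j⁆ ≤ _
        rw [hjB, W_eq_commutator_Q h hB]
        exact commutator_mono le_rfl (commutator_K_le hB)
    · exact le_inf inf_le_left (inf_le_right.trans (centralizer_le
        (by exact_mod_cast (ffK_le H : ffK p H ≤ H))))
  | some i =>
    obtain ⟨A, hA, hi⟩ := hf1 i
    rw [disjoint_iff, eq_bot_iff, ← ffE_W_inf h hA]
    show ⁅V, f i⁆ ⊓ _ ≤ _
    rw [hi]
    refine le_inf inf_le_left (inf_le_right.trans ?_)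
    refine iSup₂_le fun o' ho' => ?_
    cases o' with
    | none =>
      exact le_inf inf_le_left (inf_le_right.trans (centralizer_le
        (by exact_mod_cast (ffE_le hA : ffE p H A ≤ H))))
    | some j =>
      obtain ⟨B, hB, hjB⟩ := hf1 j
      show ⁅V, f j⁆ ≤ _
      rw [hjB]
      refine le_inf (ffE_W_le h hB) ?_
      have hne : ffE p H A ≠ ffE p H B := by
        intro heq
        apply ho'
        congr 1
        apply hinj
        rw [hjB, hi, heq]
      have := (ffE_le_centralizer_W_of_ne h hB hA hne).trans inf_le_right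
      exact le_centralizer_iff.mp this

include h hgen hf1 hf2 in
theorem ff_structure_sup_V :
    (V ⊓ centralizer (H : Set G)) ⊔ (⨆ i, ⁅V, f i⁆) = V := by
  apply le_antisymm
  · refine sup_le inf_le_left (iSup_le fun i => ?_)
    obtain ⟨A, hA, hi⟩ := hf1 i
    rw [hi]; exact ffE_W_le h hA
  · -- `K₀ := ⨆ Q_A`
    set K₀ : Subgroup G := ⨆ i, f i ⊓ ffK p H with hK₀
    have hK₀K : K₀ ≤ ffK p H := iSup_le fun i => inf_le_right
    refine (le_commutator_sup_centralizer h hK₀K).trans ?_
    rw [sup_comm]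
    refine sup_le_sup ?_ ?_
    · -- `C_V(K₀) ≤ C_V(H)`
      intro v hv
      refine Subgroup.mem_inf.mpr ⟨hv.1, ?_⟩
      have hH : H ≤ centralizer ({v} : Set G) := by
        rw [← ff_structure_sup hgen f hf1 hf2]
        refine iSup_le fun i => ?_
        obtain ⟨A, hA, hi⟩ := hf1 i
        have hQ : ⁅ffK p H, A⁆ ≤ K₀ := by
          rw [← ffE_inf_K hA, ← hi]
          exact le_iSup (fun i => f i ⊓ ffK p H) i
        have hvQ : v ∈ V ⊓ centralizer ((⁅ffK p H, A⁆ : Subgroup G) : Set G) :=
          ⟨hv.1, centralizer_le (by exact_mod_cast hQ) hv.2⟩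
        have hvE := centralizer_Q_le h hA hvQ
        rw [hi]
        intro e he
        rw [mem_centralizer_iff]
        intro z hz
        rw [Set.mem_singleton_iff] at hz
        subst hz
        exact ((mem_centralizer_iff.mp hvE) e he).symm
      rw [mem_centralizer_iff]
      intro g hg
      exact ((mem_centralizer_iff.mp (hH hg)) v rfl).symm
    · -- `[V, K₀] ≤ ⨆ W_E`
      apply commutator_le_of_le_stabSub
      have hUV : (⨆ i, ⁅V, f i⁆) ≤ V := by
        refine iSup_le fun i => ?_
        obtain ⟨A, hA, hi⟩ := hf1 i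
        rw [hi]; exact ffE_W_le h hA
      refine iSup_le fun i => ?_
      obtain ⟨A, hA, hi⟩ := hf1 i
      apply le_stabSub_of_commutator_le hUV
        ((inf_le_right.trans (ffK_le H)).trans h.hHV)
      exact (commutator_mono le_rfl inf_le_left).trans (le_iSup (fun i => ⁅V, f i⁆) i)

end Global6

end Cfsg.Agent.Lib.Helper52
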