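import Mathlib
import Cfsg.Prelude.Def_PLocal

/-!
# The faithful model `V ⋊ G / C_G(V)` of the action of `G` on a normal subgroup `V`
-/

set_option autoImplicit false

namespace Cfsg.Agent.Lib.Helper52

open Subgroup
open scoped commutatorElement

section FModel

variable {G : Type*} [Group G] (V : Subgroup G) [V.Normal]

theorem conjNormal_ker_eq :
    (MulAut.conjNormal : G →* MulAut V).ker = centralizer (V : Set G) := by
  ext g
  rw [MonoidHom.mem_ker, mem_centralizer_iff]
  constructor
  · intro h v hv
    have := congrArg (fun f : MulAut V => ((f ⟨v, hv⟩ : V) : G)) h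
    simp only [MulAut.conjNormal_apply, MulAut.one_apply] at this
    calc v * g = (g * v * g⁻¹) * g := by rw [this]
      _ = g * v := by group
  · intro h
    ext v
    rw [MulAut.conjNormal_apply, MulAut.one_apply]
    have := h v v.2
    calc g * (v : G) * g⁻¹ = ((v : G) * g) * g⁻¹ := by rw [this]
      _ = v := by group

/-- the action of `G / C_G(V)` on `V` -/
def fmAct : G ⧸ centralizer (V : Set G) →* MulAut V :=
  QuotientGroup.lift _ MulAut.conjNormal (by
    intro g hg
    rw [← conjNormal_ker_eq V] at hg
    exact hg)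

theorem fmAct_mk (g : G) : fmAct V (QuotientGroup.mk g) = MulAut.conjNormal g := rfl

theorem fmAct_injective : Function.Injective (fmAct V) := by
  rw [injective_iff_map_eq_one]
  intro q
  induction q using QuotientGroup.induction_on with
  | H g =>
    intro h
    rw [fmAct_mk] at h
    have : g ∈ (MulAut.conjNormal : G →* MulAut V).ker := h
    rw [conjNormal_ker_eq] at this
    exact (QuotientGroup.eq_one_iff g).mpr this

/-- the faithful model -/
abbrev FM := SemidirectProduct ↥V (G ⧸ centralizer (V : Set G)) (fmAct V)

instance [Finite G] : Finite (FM V) := Finite.of_equiv _ SemidirectProduct.equivProd.symm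

/-- the embedding of `V` -/
def fmι : V →* FM V := SemidirectProduct.inl

/-- the map of `G` -/
def fmπ : G →* FM V := SemidirectProduct.inr.comp (QuotientGroup.mk' _)

theorem fmι_injective : Function.Injective (fmι V) := SemidirectProduct.inl_injective

theorem fmπ_ker : (fmπ V).ker = centralizer (V : Set G) := by
  ext g
  rw [MonoidHom.mem_ker]
  show SemidirectProduct.inr (QuotientGroup.mk' _ g) = 1 ↔ _
  rw [← map_one (SemidirectProduct.inr : _ →* FM V), SemidirectProduct.inr_inj]
  exact QuotientGroup.eq_one_iff g

theorem fmπ_eq_one_iff {g : G} : fmπ V g = 1 ↔ g ∈ centralizer (V : Set G) := by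
  have := fmπ_ker V
  constructor
  · intro h
    rw [← this]; exact h
  · intro h
    rw [← this] at h; exact h

theorem fm_conj (g : G) (v : V) :
    fmπ V g * fmι V v * (fmπ V g)⁻¹ = fmι V ⟨g * v * g⁻¹, ‹V.Normal›.conj_mem _ v.2 g⟩ := by
  have := SemidirectProduct.inl_aut (φ := fmAct V) (QuotientGroup.mk g) v
  rw [fmAct_mk] at this
  have e : (MulAut.conjNormal g) v = ⟨g * v * g⁻¹, ‹V.Normal›.conj_mem _ v.2 g⟩ := by
    apply Subtype.ext
    rw [MulAut.conjNormal_apply]
  rw [e] at this
  show fmπ V g * fmι V v * (fmπ V g)⁻¹ = SemidirectProduct.inl _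
  rw [this, ← map_inv]
  rfl

theorem fm_range_disjoint : (fmπ V).range ⊓ (fmι V).range = ⊥ := by
  rw [eq_bot_iff]
  rintro x ⟨⟨g, rfl⟩, ⟨v, hv⟩⟩
  rw [mem_bot]
  have h1 := congrArg SemidirectProduct.right hv
  simp only [fmι, fmπ, SemidirectProduct.right_inl, MonoidHom.coe_comp, Function.comp_apply,
    SemidirectProduct.right_inr] at h1
  show SemidirectProduct.inr (QuotientGroup.mk' _ g) = 1
  rw [← h1, map_one]

instance fmι_range_normal : (fmι V).range.Normal := by
  have : (fmι V).range = (SemidirectProduct.rightHom : FM V →* _).ker :=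
    SemidirectProduct.range_inl_eq_ker_rightHom
  rw [this]
  infer_instance

end FModel

end Cfsg.Agent.Lib.Helper52
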