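import Mathlib
import Cfsg.Agent.Lib.Helper52.FModel
import Cfsg.Agent.Lib.Helper52.FFGlobal6
import Cfsg.Agent.Lib.Helper55.Large
import Cfsg.Agent.Lib.Helper02.HHDual
import Cfsg.Agent.Lib.Helper40.PSolv
import Cfsg.Agent.Lib.Helper15.PSolv

/-!
# The faithful model, part 2: transport of best offenders and the hypotheses of KS §9.3
-/

set_option autoImplicit false

namespace Cfsg.Agent.Lib.Helper52

open Subgroup
open scoped commutatorElement

section FModel2

variable {G : Type*} [Group G] (V : Subgroup G) [V.Normal]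

theorem fm_isEA {p : ℕ} (hV : Cfsg.IsElementaryAbelian p V) :
    Cfsg.IsElementaryAbelian p (fmι V).range := by
  refine ⟨⟨⟨?_⟩⟩, ?_⟩
  · rintro ⟨_, ⟨v, rfl⟩⟩ ⟨_, ⟨w, rfl⟩⟩
    apply Subtype.ext
    show fmι V v * fmι V w = fmι V w * fmι V v
    rw [← map_mul, ← map_mul]
    congr 1
    exact hV.1.is_comm.comm v w
  · rintro _ ⟨v, rfl⟩
    rw [← map_pow]
    have : v ^ p = 1 := Subtype.ext (by simpa using hV.2 v v.2)
    rw [this, map_one]

theorem fm_range_le_normalizer : (fmπ V).range ≤ normalizer ((fmι V).range : Set (FM V)) := by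
  intro x _
  exact (normalizer_eq_top_iff.mpr (fmι_range_normal V)) ▸ mem_top x

theorem fm_faithful : (fmπ V).range ⊓ centralizer ((fmι V).range : Set (FM V)) = ⊥ := by
  rw [eq_bot_iff]
  rintro x ⟨⟨g, rfl⟩, hc⟩
  rw [mem_bot, fmπ_eq_one_iff, mem_centralizer_iff]
  intro v hv
  have h1 := (mem_centralizer_iff.mp hc) (fmι V ⟨v, hv⟩) ⟨_, rfl⟩
  have h2 := fm_conj V g ⟨v, hv⟩
  have h3 : fmπ V g * fmι V ⟨v, hv⟩ * (fmπ V g)⁻¹ = fmι V ⟨v, hv⟩ := by
    rw [← h1]; group
  rw [h3] at h2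
  have h4 := congrArg Subtype.val (fmι_injective V h2)
  simp only at h4
  calc v * g = (g * v * g⁻¹) * g := by rw [← h4]
    _ = g * v := by group

/-- the fixed points of `π B` on `ι V` -/
theorem fm_fix (B : Subgroup G) :
    (fmι V).range ⊓ centralizer ((B.map (fmπ V) : Subgroup (FM V)) : Set (FM V)) =
      ((V ⊓ centralizer (B : Set G)).subgroupOf V).map (fmι V) := by
  ext x
  constructor
  · rintro ⟨⟨v, rfl⟩, hc⟩
    refine ⟨v, ?_, rfl⟩
    show (v : G) ∈ V ⊓ centralizer (B : Set G)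
    refine Subgroup.mem_inf.mpr ⟨v.2, ?_⟩
    rw [mem_centralizer_iff]
    intro b hb
    have h1 := (mem_centralizer_iff.mp hc) (fmπ V b) ⟨b, hb, rfl⟩
    have h2 := fm_conj V b v
    have h3 : fmπ V b * fmι V v * (fmπ V b)⁻¹ = fmι V v := by
      rw [h1]; group
    rw [h3] at h2
    have h4 := congrArg Subtype.val (fmι_injective V h2)
    simp only at h4
    calc b * (v : G) = (b * v * b⁻¹) * b := by group
      _ = v * b := by rw [← h4]
  · rintro ⟨v, hv, rfl⟩
    have hv : (v : G) ∈ V ⊓ centralizer (B : Set G) := hv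
    refine Subgroup.mem_inf.mpr ⟨⟨v, rfl⟩, ?_⟩
    rw [mem_centralizer_iff]
    rintro _ ⟨b, hb, rfl⟩
    have h1 := (mem_centralizer_iff.mp (Subgroup.mem_inf.mp hv).2) b hb
    have h2 := fm_conj V b v
    have e : (⟨b * v * b⁻¹, ‹V.Normal›.conj_mem _ v.2 b⟩ : V) = v := by
      apply Subtype.ext
      show b * (v : G) * b⁻¹ = v
      rw [h1]; group
    rw [e] at h2
    calc fmπ V b * fmι V v = (fmπ V b * fmι V v * (fmπ V b)⁻¹) * fmπ V b := by group
      _ = fmι V v * fmπ V b := by rw [h2]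

theorem fm_card_fix [Finite G] (B : Subgroup G) :
    Nat.card ↥((fmι V).range ⊓ centralizer ((B.map (fmπ V) : Subgroup (FM V)) : Set (FM V))) =
      Nat.card ↥(V ⊓ centralizer (B : Set G)) := by
  rw [fm_fix, Subgroup.card_map_of_injective (fmι_injective V)]
  exact Nat.card_congr (Subgroup.subgroupOfEquivOfLe inf_le_left).toEquiv

theorem fm_card_V [Finite G] : Nat.card (fmι V).range = Nat.card V := by
  rw [MonoidHom.range_eq_map, Subgroup.card_map_of_injective (fmι_injective V), Subgroup.card_top]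

theorem fm_card_map [Finite G] (B : Subgroup G) :
    Nat.card (B.map (fmπ V)) * Nat.card ↥(B ⊓ centralizer (V : Set G)) = Nat.card B := by
  have h1 := Subgroup.relIndex_ker (K := B) (fmπ V)
  rw [fmπ_ker] at h1
  have h2 : (B ⊓ centralizer (V : Set G)).relIndex B = (centralizer (V : Set G)).relIndex B :=
    Subgroup.inf_relIndex_left _ _
  have h3 := Subgroup.relIndex_mul_relIndex ⊥ (B ⊓ centralizer (V : Set G)) B bot_le inf_le_left
  rw [Subgroup.relIndex_bot_left, Subgroup.relIndex_bot_left, h2, h1] at h3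
  rw [mul_comm]; exact h3

theorem fm_map_centralizer : (centralizer (V : Set G)).map (fmπ V) = ⊥ := by
  rw [Subgroup.map_eq_bot_iff, fmπ_ker]

/-- best offenders on `V` map to best offenders on `ι V` -/
theorem fm_best [Finite G] {p : ℕ} {A : Subgroup G} (hA : Cfsg.IsBestOffenderOn p V A) :
    Cfsg.IsBestOffenderOn p (fmι V).range (A.map (fmπ V)) := by
  refine ⟨?_, ?_, ?_⟩
  · intro B' hB'
    obtain ⟨B, hB⟩ : ∃ B : Subgroup G, B = A ⊓ B'.comap (fmπ V) := ⟨_, rfl⟩
    have hBA : B ≤ A := by rw [hB]; exact inf_le_left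
    have hmap : B.map (fmπ V) = B' := by
      apply le_antisymm
      · rintro _ ⟨b, hb, rfl⟩
        rw [hB] at hb
        exact (Subgroup.mem_inf.mp hb).2
      · intro x hx
        obtain ⟨a, ha, rfl⟩ := hB' hx
        refine ⟨a, ?_, rfl⟩
        rw [hB]
        exact Subgroup.mem_inf.mpr ⟨ha, hx⟩
    have hker : B ⊓ centralizer (V : Set G) = A ⊓ centralizer (V : Set G) := by
      apply le_antisymm (inf_le_inf_right _ hBA)
      intro x hx
      obtain ⟨hx1, hx2⟩ := Subgroup.mem_inf.mp hx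
      refine Subgroup.mem_inf.mpr ⟨?_, hx2⟩
      rw [hB]
      refine Subgroup.mem_inf.mpr ⟨hx1, ?_⟩
      rw [mem_comap, (fmπ_eq_one_iff V).mpr hx2]
      exact one_mem _
    have h1 := hA.1 B hBA
    have h2 := fm_card_map V B
    have h3 := fm_card_map V A
    have h4 := fm_card_fix V B
    have h5 := fm_card_fix V A
    rw [hker] at h2
    rw [hmap] at h2 h4
    rw [h4, h5]
    have hpos : 0 < Nat.card ↥(A ⊓ centralizer (V : Set G)) := Nat.card_pos
    rw [← h2, ← h3] at h1
    nlinarith [h1, hpos]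
  · rw [← Subgroup.map_commutator]
    refine le_trans (Subgroup.map_mono hA.2.1) ?_
    rw [fm_map_centralizer]
    exact bot_le
  · rintro _ ⟨a, ha, rfl⟩
    rw [← map_pow, (fmπ_eq_one_iff V).mpr (hA.2.2 a ha)]
    exact one_mem _

end FModel2

end Cfsg.Agent.Lib.Helper52
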