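import Mathlib
import Cfsg.Agent.Lib.Helper52.FModel2
import Cfsg.Agent.Lib.Helper52.SubnPair1

/-!
# The faithful model, part 3: the hypotheses of KS §9.3 in the model, and pulling back `SL₂(p)`
-/

set_option autoImplicit false

namespace Cfsg.Agent.Lib.Helper52

open Subgroup Matrix
open scoped commutatorElement

section FModel3

variable {G : Type*} [Group G] [Finite G] {p : ℕ} [hp : Fact p.Prime] (V : Subgroup G) [V.Normal]

/-- `O_p(G / C_G(V)) = 1`, in subgroup form -/
def FMOp (p : ℕ) (V : Subgroup G) : Prop :=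
  ∀ D : Subgroup G, D.Normal → centralizer (V : Set G) ≤ D →
    (∃ k : ℕ, (centralizer (V : Set G)).relIndex D = p ^ k) → D = centralizer (V : Set G)

omit [Finite G] hp in
theorem fm_range_le_normalizer_map (N : Subgroup G) [hN : N.Normal] :
    (fmπ V).range ≤ normalizer ((N.map (fmπ V) : Subgroup (FM V)) : Set (FM V)) := by
  apply le_normalizer_of_conj_mem
  rintro _ ⟨g, rfl⟩ _ ⟨n, hn, rfl⟩
  refine ⟨g * n * g⁻¹, hN.conj_mem n hn g, ?_⟩
  rw [map_mul, map_mul, map_inv]

theorem fm_pCore_eq_bot (hOp : FMOp p V) (N : Subgroup G) [N.Normal] :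
    Cfsg.pCore p ↥(N.map (fmπ V)) = ⊥ := by
  obtain ⟨P, hP⟩ : ∃ P : Subgroup (FM V), P = Cfsg.pCoreOf p (N.map (fmπ V)) := ⟨_, rfl⟩
  have hPp : IsPGroup p P := by
    rw [hP]; exact Cfsg.Agent.Lib.Helper55.isPGroup_pCoreOf _
  have hPH : P ≤ N.map (fmπ V) := by
    rw [hP]; exact Cfsg.Agent.Lib.Helper55.pCoreOf_le _
  have hPr : P ≤ (fmπ V).range := hPH.trans (Subgroup.map_le_range _ _)
  have hnorm : (fmπ V).range ≤ normalizer (P : Set (FM V)) := by
    rw [hP]
    exact (fm_range_le_normalizer_map V N).trans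
      (Cfsg.Agent.Lib.Helper55.normalizer_le_normalizer_pCoreOf _)
  have hDn : (P.comap (fmπ V)).Normal := by
    refine ⟨fun d hd g => ?_⟩
    rw [mem_comap, map_mul, map_mul, map_inv]
    exact (mem_normalizer_iff.mp (hnorm ⟨g, rfl⟩) _).mp hd
  have hCD : centralizer (V : Set G) ≤ P.comap (fmπ V) := by
    intro c hc
    rw [mem_comap, (fmπ_eq_one_iff V).mpr hc]
    exact one_mem _
  have hmap : (P.comap (fmπ V)).map (fmπ V) = P := by
    rw [Subgroup.map_comap_eq, inf_eq_right.mpr hPr]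
  have hidx : ∃ k : ℕ, (centralizer (V : Set G)).relIndex (P.comap (fmπ V)) = p ^ k := by
    have h1 := Subgroup.relIndex_ker (K := P.comap (fmπ V)) (fmπ V)
    rw [fmπ_ker, hmap] at h1
    obtain ⟨k, hk⟩ := hPp.exists_card_eq
    exact ⟨k, by rw [h1, hk]⟩
  have hD := hOp _ hDn hCD hidx
  have hPbot : P = ⊥ := by
    rw [← hmap, hD, fm_map_centralizer]
  rw [hP] at hPbot
  unfold Cfsg.pCoreOf at hPbot
  exact (Subgroup.map_eq_bot_iff_of_injective _ (Subgroup.subtype_injective _)).mp hPbot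

theorem fm_hyp (hV : Cfsg.IsElementaryAbelian p V) (hsep : Cfsg.IsPSolvable p G)
    (hOp : FMOp p V) (N : Subgroup G) [N.Normal] :
    FFHyp p (fmι V).range (N.map (fmπ V)) where
  hV := fm_isEA V hV
  hHV := (Subgroup.map_le_range _ _).trans (fm_range_le_normalizer V)
  hf := le_bot_iff.mp ((inf_le_inf_right _ (Subgroup.map_le_range _ _)).trans (fm_faithful V).le)
  hS1 := by
    have h1 : Cfsg.IsPSolvable p ↥N := Cfsg.Agent.Lib.Helper40.isPSolvable_subgroup hp.out hsep N
    have h2 : Cfsg.IsPSolvable p ↥(N.map (fmπ V)) :=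
      Cfsg.Agent.Lib.Helper15.IsPSolvable.of_surjective hp.out h1 ((fmπ V).subgroupMap N)
        ((fmπ V).subgroupMap_surjective N)
    exact Cfsg.Agent.Lib.Helper02.HHDual.centralizer_pPrimeCore_le h2 (fm_pCore_eq_bot V hOp N)

theorem fm_gen {N : Subgroup G} (h : FFHyp p (fmι V).range (N.map (fmπ V)))
    (𝒜 : Set (Subgroup G)) (h𝒜 : ∀ A ∈ 𝒜, Cfsg.IsBestOffenderOn p V A) (hN : N = sSup 𝒜) :
    FFGen p (fmι V).range (N.map (fmπ V)) := by
  subst hN
  unfold FFGen
  rw [Subgroup.map_le_iff_le_comap]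
  refine sSup_le fun A hA => ?_
  rw [← Subgroup.map_le_iff_le_comap]
  refine best_le_iSup_ffmin h ?_ (fm_best V (h𝒜 A hA))
  apply Subgroup.map_mono
  exact le_sSup hA

omit [Finite G] in
/-- pulling back a subgroup `E'` of `π N` normalized by `π N`, with a given isomorphism type -/
theorem fm_pullback {N : Subgroup G} {E' : Subgroup (FM V)} (hE'N : E' ≤ N.map (fmπ V))
    (hNE' : N.map (fmπ V) ≤ normalizer (E' : Set (FM V))) {T : Type*} [Group T]
    (e : Nonempty (↥E' ≃* T)) :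
    ∃ E : Subgroup G, centralizer (V : Set G) ≤ E ∧ E ≤ N ⊔ centralizer (V : Set G) ∧
      N ⊔ centralizer (V : Set G) ≤ normalizer (E : Set G) ∧
      ∃ hn : ((centralizer (V : Set G)).subgroupOf E).Normal,
        Nonempty ((↥E ⧸ (centralizer (V : Set G)).subgroupOf E) ≃* T) := by
  refine ⟨E'.comap (fmπ V), ?_, ?_, ?_, ?_⟩
  · intro c hc
    rw [mem_comap, (fmπ_eq_one_iff V).mpr hc]
    exact one_mem _
  · refine (Subgroup.comap_mono hE'N).trans ?_
    rw [Subgroup.comap_map_eq, fmπ_ker]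
  · have h1 : N ⊔ centralizer (V : Set G) ≤ (normalizer (E' : Set (FM V))).comap (fmπ V) := by
      rw [← Subgroup.map_le_iff_le_comap, Subgroup.map_sup, fm_map_centralizer, sup_bot_eq]
      exact hNE'
    exact h1.trans (Subgroup.le_normalizer_comap _)
  · have hn : ((centralizer (V : Set G)).subgroupOf (E'.comap (fmπ V))).Normal := inferInstance
    refine ⟨hn, ?_⟩
    obtain ⟨e⟩ := e
    -- the restriction of `π`
    have hsurj : Function.Surjective ((fmπ V).subgroupComap E') := by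
      rintro ⟨y, hy⟩
      obtain ⟨g, -, hg⟩ := hE'N hy
      refine ⟨⟨g, ?_⟩, ?_⟩
      · rw [mem_comap, hg]; exact hy
      · apply Subtype.ext
        exact hg
    have hker : ((fmπ V).subgroupComap E').ker =
        (centralizer (V : Set G)).subgroupOf (E'.comap (fmπ V)) := by
      ext x
      rw [MonoidHom.mem_ker, mem_subgroupOf, ← fmπ_eq_one_iff V]
      constructor
      · intro h
        exact congrArg Subtype.val h
      · intro h
        apply Subtype.ext
        exact h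
    exact ⟨((QuotientGroup.quotientMulEquivOfEq hker).symm.trans
      (QuotientGroup.quotientKerEquivOfSurjective _ hsurj)).trans e⟩

/-- **KS 9.3.8, first part**: if the normal subgroup `N`, generated by best offenders on `V`, does
not centralize `V`, then `p ∈ {2, 3}` and some `E` with `C_G(V) ≤ E ≤ N C_G(V)`, normal in
`N C_G(V)`, has `E / C_G(V) ≅ SL₂(p)`. -/
theorem fm_sl2 (hV : Cfsg.IsElementaryAbelian p V) (hsep : Cfsg.IsPSolvable p G)
    (hOp : FMOp p V) (N : Subgroup G) [N.Normal] (𝒜 : Set (Subgroup G))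
    (h𝒜 : ∀ A ∈ 𝒜, Cfsg.IsBestOffenderOn p V A) (hN : N = sSup 𝒜)
    (hNC : ¬ N ≤ centralizer (V : Set G)) :
    (p = 2 ∨ p = 3) ∧ ∃ E : Subgroup G, centralizer (V : Set G) ≤ E ∧
      E ≤ N ⊔ centralizer (V : Set G) ∧
      N ⊔ centralizer (V : Set G) ≤ normalizer (E : Set G) ∧
      ∃ hn : ((centralizer (V : Set G)).subgroupOf E).Normal,
        Nonempty ((↥E ⧸ (centralizer (V : Set G)).subgroupOf E) ≃*
          SpecialLinearGroup (Fin 2) (ZMod p)) := by
  have h := fm_hyp V hV hsep hOp N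
  have hgen := fm_gen V h 𝒜 h𝒜 hN
  have hne : N.map (fmπ V) ≠ ⊥ := by
    intro h0
    apply hNC
    rw [Subgroup.map_eq_bot_iff, fmπ_ker] at h0
    exact h0
  obtain ⟨A, hA⟩ := exists_ffmin h hgen hne
  refine ⟨ffE_prime h hA, ?_⟩
  exact fm_pullback V (ffE_le hA) (H_le_normalizer_ffE h hgen hA) (ffE_equiv h hA)

end FModel3

end Cfsg.Agent.Lib.Helper52
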