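import Mathlib
import Cfsg.Agent.Lib.Helper52.FModel3
import Cfsg.Agent.Lib.Helper01.PCore
import Cfsg.Agent.Lib.Helper99.Thompson
import Cfsg.Agent.Lib.Helper15.Thompson
import Cfsg.Agent.Lib.Helper54.PReduced

/-!
# KS 9.3.9: `[Ω₁(Z(J(C_G(V)))), J(G)] ≤ V`
-/

set_option autoImplicit false

namespace Cfsg.Agent.Lib.Helper52

open Subgroup Matrix
open scoped commutatorElement

section FModel4

variable {G : Type*} [Group G] [Finite G] {p : ℕ} [hp : Fact p.Prime] (V : Subgroup G) [V.Normal]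

omit [Finite G] hp in
/-- the quotient form of `O_p(G / C_G(V)) = 1` gives the subgroup form -/
theorem fmOp_of_pCore (hO : Cfsg.pCore p (G ⧸ centralizer (V : Set G)) = ⊥) : FMOp p V := by
  intro D hDn hCD hidx
  apply le_antisymm _ hCD
  obtain ⟨k, hk⟩ := hidx
  have h1 := Subgroup.relIndex_ker (K := D) (QuotientGroup.mk' (centralizer (V : Set G)))
  rw [QuotientGroup.ker_mk', hk] at h1
  have hp' : IsPGroup p (D.map (QuotientGroup.mk' (centralizer (V : Set G)))) :=
    IsPGroup.of_card h1.symm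
  have hn : (D.map (QuotientGroup.mk' (centralizer (V : Set G)))).Normal :=
    hDn.map _ (QuotientGroup.mk'_surjective _)
  have h2 := Cfsg.Agent.Lib.Helper01.le_pCore hn hp'
  rw [hO, le_bot_iff, Subgroup.map_eq_bot_iff, QuotientGroup.ker_mk'] at h2
  exact h2

/-- **tightness** of best offenders of `G` on `V`: `|A| |C_V(A)| = |V| |C_A(V)|` -/
theorem fm_tight (hV : Cfsg.IsElementaryAbelian p V) (hsep : Cfsg.IsPSolvable p G)
    (hOp : FMOp p V) {A : Subgroup G} (hA : Cfsg.IsBestOffenderOn p V A) :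
    Nat.card A * Nat.card ↥(V ⊓ centralizer (A : Set G)) =
      Nat.card V * Nat.card ↥(A ⊓ centralizer (V : Set G)) := by
  have h := fm_hyp V hV hsep hOp ⊤
  have hle : A.map (fmπ V) ≤ (⊤ : Subgroup G).map (fmπ V) := Subgroup.map_mono le_top
  have h1 := ff_best_tight h.hV h.hHV h.hf h.hS1 hle (fm_best V hA)
  rw [fm_card_fix, fm_card_V] at h1
  rw [← h1, ← fm_card_map V A]
  ring

omit [Finite G] hp in
/-- `[H, K] ≤ N` for `N` normal, in terms of the quotient -/
theorem commutator_le_normal_iff {N : Subgroup G} [N.Normal] {H K : Subgroup G} :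
    ⁅H, K⁆ ≤ N ↔
      K ≤ (centralizer ((H.map (QuotientGroup.mk' N) : Subgroup (G ⧸ N)) : Set (G ⧸ N))).comap
        (QuotientGroup.mk' N) := by
  rw [← Subgroup.map_le_iff_le_comap, ← Subgroup.le_centralizer_iff,
    ← Subgroup.commutator_eq_bot_iff_le_centralizer, ← Subgroup.map_commutator,
    Subgroup.map_eq_bot_iff, QuotientGroup.ker_mk']

omit [Finite G] hp in
theorem commutator_sSup_le {N : Subgroup G} [N.Normal] {H : Subgroup G} {𝒮 : Set (Subgroup G)}
    (h : ∀ K ∈ 𝒮, ⁅H, K⁆ ≤ N) : ⁅H, sSup 𝒮⁆ ≤ N := by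
  rw [commutator_le_normal_iff]
  refine sSup_le fun K hK => ?_
  rw [← commutator_le_normal_iff]
  exact h K hK

omit [Finite G] hp in
/-- `[A V, A] ≤ V` for abelian `A` -/
theorem commutator_sup_normal_le {N A : Subgroup G} [N.Normal]
    (hA : ∀ a ∈ A, ∀ b ∈ A, a * b = b * a) : ⁅A ⊔ N, A⁆ ≤ N := by
  rw [commutator_le_normal_iff, Subgroup.map_sup]
  have : N.map (QuotientGroup.mk' N) = ⊥ := by
    rw [Subgroup.map_eq_bot_iff, QuotientGroup.ker_mk']
  rw [this, sup_bot_eq, ← Subgroup.map_le_iff_le_comap]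
  rintro _ ⟨a, ha, rfl⟩
  rw [mem_centralizer_iff]
  rintro _ ⟨b, hb, rfl⟩
  rw [← map_mul, ← map_mul, hA b hb a ha]

variable {V}

omit [Finite G] hp [V.Normal] in
/-- `V ≤ C_G(V)` -/
theorem le_centralizer_of_isEA (hV : Cfsg.IsElementaryAbelian p V) :
    V ≤ centralizer (V : Set G) := by
  intro v hv
  rw [mem_centralizer_iff]
  intro w hw
  exact ((Cfsg.Agent.Lib.Helper99.isEA_iff V).mp hV).1 w hw v hv

omit [Finite G] hp in
/-- a maximal elementary abelian subgroup inside `C` lies in `J(C)` and is centralized by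
`Ω₁(Z(J(C)))` -/
theorem maxEA_le_thompsonOf {C A : Subgroup G}
    (hA : A ∈ Cfsg.maxElementaryAbelianSubgroups p G) (hAC : A ≤ C) :
    A ≤ Cfsg.thompsonSubgroupOf p C := by
  rw [Cfsg.Agent.Lib.Helper99.thompsonSubgroupOf_eq C ⟨A, hA, hAC⟩]
  exact le_sSup ⟨hA, hAC⟩

omit [Finite G] hp in
theorem omegaOne_le_self (p : ℕ) (H : Subgroup G) : Cfsg.omegaOne p H ≤ H := by
  unfold Cfsg.omegaOne
  rw [Subgroup.closure_le]
  exact fun x hx => hx.1

omit [Finite G] hp in
theorem omega_center_thompson_comm {C A : Subgroup G}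
    (hA : A ∈ Cfsg.maxElementaryAbelianSubgroups p G) (hAC : A ≤ C) :
    ∀ z ∈ Cfsg.omegaOne p (Cfsg.centerThompsonOf p C), ∀ a ∈ A, z * a = a * z := by
  intro z hz a ha
  have h1 : z ∈ Cfsg.centerThompsonOf p C := omegaOne_le_self p _ hz
  unfold Cfsg.centerThompsonOf at h1
  have h2 := (Subgroup.mem_inf.mp h1).2
  exact ((mem_centralizer_iff.mp h2) a (maxEA_le_thompsonOf hA hAC ha)).symm

variable (V)

include hp in
/-- **KS 9.3.9** -/
theorem omega_center_thompson_commutator_le (hV : Cfsg.IsElementaryAbelian p V)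
    (hsep : Cfsg.IsPSolvable p G) (hOp : FMOp p V)
    (hbest : ∀ A ∈ Cfsg.maxElementaryAbelianSubgroups p G, Cfsg.IsBestOffenderOn p V A) :
    ⁅Cfsg.omegaOne p (Cfsg.centerThompsonOf p (centralizer (V : Set G))),
      Cfsg.thompsonSubgroup p G⁆ ≤ V := by
  unfold Cfsg.thompsonSubgroup
  apply commutator_sSup_le
  intro A hA
  obtain ⟨Z₀, hZ₀⟩ : ∃ Z₀ : Subgroup G,
      Z₀ = Cfsg.omegaOne p (Cfsg.centerThompsonOf p (centralizer (V : Set G))) := ⟨_, rfl⟩
  rw [← hZ₀]
  have hAea := (Cfsg.Agent.Lib.Helper99.isEA_iff A).mp hA.1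
  have hVea := (Cfsg.Agent.Lib.Helper99.isEA_iff V).mp hV
  have hVC : V ≤ centralizer (V : Set G) := le_centralizer_of_isEA hV
  -- the replacement `A₁ = C_A(V) V`
  obtain ⟨A₁, hA₁⟩ : ∃ A₁ : Subgroup G, A₁ = (A ⊓ centralizer (V : Set G)) ⊔ V := ⟨_, rfl⟩
  have hA₁C : A₁ ≤ centralizer (V : Set G) := by
    rw [hA₁]; exact sup_le inf_le_right hVC
  have hA₁ea : Cfsg.IsElementaryAbelian p A₁ := by
    rw [hA₁]
    refine Cfsg.Agent.Lib.Helper99.isEA_sup
      (Cfsg.Agent.Lib.Helper99.isEA_mono inf_le_left hA.1) hV ?_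
    intro a ha v hv
    exact ((mem_centralizer_iff.mp (Subgroup.mem_inf.mp ha).2) v hv).symm
  have hinf : (A ⊓ centralizer (V : Set G)) ⊓ V = V ⊓ centralizer (A : Set G) := by
    apply le_antisymm
    · intro x hx
      obtain ⟨hx1, hx2⟩ := Subgroup.mem_inf.mp hx
      refine Subgroup.mem_inf.mpr ⟨hx2, ?_⟩
      rw [mem_centralizer_iff]
      intro a ha
      exact hAea.1 a ha x (Subgroup.mem_inf.mp hx1).1
    · intro x hx
      obtain ⟨hx1, hx2⟩ := Subgroup.mem_inf.mp hx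
      have hxA : x ∈ A := Cfsg.Agent.Lib.Helper15.mem_of_maxElem_of_centralizes hA x
        (hVea.2 x hx1) (fun a ha => ((mem_centralizer_iff.mp hx2) a ha).symm)
      exact Subgroup.mem_inf.mpr ⟨Subgroup.mem_inf.mpr ⟨hxA, hVC hx1⟩, hx1⟩
  have hcardA₁ : Nat.card A₁ = Nat.card A := by
    have h1 : Nat.card ↥((A ⊓ centralizer (V : Set G)) ⊔ V) *
        Nat.card ↥((A ⊓ centralizer (V : Set G)) ⊓ V) =
        Nat.card ↥(A ⊓ centralizer (V : Set G)) * Nat.card V := by
      have e1 := Subgroup.relIndex_sup_right (A ⊓ centralizer (V : Set G)) V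
      have e2 := Subgroup.inf_relIndex_left (A ⊓ centralizer (V : Set G)) V
      have e3 := Subgroup.relIndex_mul_relIndex ⊥ V ((A ⊓ centralizer (V : Set G)) ⊔ V) bot_le
        le_sup_right
      have e4 := Subgroup.relIndex_mul_relIndex ⊥ ((A ⊓ centralizer (V : Set G)) ⊓ V)
        (A ⊓ centralizer (V : Set G)) bot_le inf_le_left
      rw [Subgroup.relIndex_bot_left, Subgroup.relIndex_bot_left] at e3 e4
      rw [e1] at e3
      rw [e2] at e4
      rw [← e3, ← e4]
      ring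
    have h2 := fm_tight V hV hsep hOp (hbest A hA)
    rw [hinf, ← hA₁] at h1
    have hpos : 0 < Nat.card ↥(V ⊓ centralizer (A : Set G)) := Nat.card_pos
    have : Nat.card A₁ * Nat.card ↥(V ⊓ centralizer (A : Set G)) =
        Nat.card A * Nat.card ↥(V ⊓ centralizer (A : Set G)) := by
      rw [h1, h2]; ring
    exact Nat.eq_of_mul_eq_mul_right hpos this
  have hA₁max : A₁ ∈ Cfsg.maxElementaryAbelianSubgroups p G := by
    refine ⟨hA₁ea, fun B hB => ?_⟩
    rw [hcardA₁]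
    exact hA.2 B hB
  -- `Z₀ ≤ A₁`
  have hZ₀ea : Cfsg.IsElementaryAbelian p Z₀ := by
    rw [hZ₀]
    unfold Cfsg.centerThompsonOf
    exact Cfsg.Agent.Lib.Helper54.isElementaryAbelian_omegaOne_center p _
  have hZ₀A₁ : Z₀ ≤ A₁ := by
    intro z hz
    refine Cfsg.Agent.Lib.Helper15.mem_of_maxElem_of_centralizes hA₁max z
      (((Cfsg.Agent.Lib.Helper99.isEA_iff Z₀).mp hZ₀ea).2 z hz) ?_
    intro a ha
    rw [hZ₀] at hz
    exact omega_center_thompson_comm hA₁max hA₁C z hz a ha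
  have hZ₀AV : Z₀ ≤ A ⊔ V := by
    refine hZ₀A₁.trans ?_
    rw [hA₁]
    exact sup_le_sup_right inf_le_left V
  exact (Subgroup.commutator_mono hZ₀AV le_rfl).trans (commutator_sup_normal_le hAea.1)

end FModel4

end Cfsg.Agent.Lib.Helper52
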