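import Mathlib
import Cfsg.Agent.Lib.Helper52.FModel4
import Cfsg.Agent.Lib.Helper15.Transport
import Cfsg.Agent.Lib.Helper54.FStarAct

/-!
# Coprime operators: transport along an embedding with normal range
-/

set_option autoImplicit false

namespace Cfsg.Agent.Lib.Helper52

open Subgroup Matrix
open scoped commutatorElement

section Transport

variable {K₀ L : Type*} [Group K₀] [Group L]

/-- the automorphism of `K₀` induced by conjugation with `l : L`, along an embedding with
normal range -/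
noncomputable def conjAut (j : K₀ →* L) (hj : Function.Injective j) [hn : j.range.Normal]
    (l : L) : K₀ ≃* K₀ :=
  ((MonoidHom.ofInjective hj).trans (MulAut.conjNormal l : MulAut j.range)).trans
    (MonoidHom.ofInjective hj).symm

theorem j_conjAut (j : K₀ →* L) (hj : Function.Injective j) [hn : j.range.Normal] (l : L)
    (k : K₀) : j (conjAut j hj l k) = l * j k * l⁻¹ := by
  unfold conjAut
  simp only [MulEquiv.trans_apply]
  rw [MonoidHom.apply_ofInjective_symm, MulAut.conjNormal_apply, MonoidHom.ofInjective_apply]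

theorem map_normal_of_characteristic (j : K₀ →* L) (hj : Function.Injective j)
    [hn : j.range.Normal] (C : Subgroup K₀) [hC : C.Characteristic] : (C.map j).Normal := by
  refine ⟨?_⟩
  rintro _ ⟨c, hc, rfl⟩ l
  refine ⟨conjAut j hj l c, ?_, j_conjAut j hj l c⟩
  have h0 := hC.fixed (conjAut j hj l)
  have h1 : c ∈ C.comap (conjAut j hj l).toMonoidHom := by
    rw [h0]; exact hc
  exact h1

theorem omegaZ_characteristic [Finite K₀] (p : ℕ) [Fact p.Prime] :
    (⨆ S : Sylow p K₀, Cfsg.omegaOne p ((S : Subgroup K₀) ⊓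
      centralizer ((S : Subgroup K₀) : Set K₀))).Characteristic := by
  rw [Subgroup.characteristic_iff_map_le]
  intro φ
  rw [Subgroup.map_iSup]
  refine iSup_le fun S => ?_
  rw [Cfsg.Agent.Lib.Helper15.omegaOne_map p _ φ.injective,
    Cfsg.Agent.Lib.Helper15.map_inf_centralizer _ φ.injective]
  have e : (S : Subgroup K₀).map φ.toMonoidHom =
      (((show MulAut K₀ from φ) • S : Sylow p K₀) : Subgroup K₀) := rfl
  rw [e]
  exact le_iSup (fun S : Sylow p K₀ => Cfsg.omegaOne p ((S : Subgroup K₀) ⊓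
      centralizer ((S : Subgroup K₀) : Set K₀))) ((show MulAut K₀ from φ) • S)

theorem map_centralizer_le (j : K₀ →* L) (V : Subgroup K₀) :
    (centralizer (V : Set K₀)).map j ≤ centralizer ((V.map j : Subgroup L) : Set L) := by
  rintro _ ⟨c, hc, rfl⟩
  rw [mem_centralizer_iff]
  rintro _ ⟨v, hv, rfl⟩
  rw [← map_mul, ← map_mul, (mem_centralizer_iff.mp hc) v hv]

theorem map_inf_centralizer_map (j : K₀ →* L) (hj : Function.Injective j) (V B : Subgroup K₀) :
    V.map j ⊓ centralizer ((B.map j : Subgroup L) : Set L) =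
      (V ⊓ centralizer (B : Set K₀)).map j := by
  ext x
  constructor
  · rintro ⟨⟨v, hv, rfl⟩, hc⟩
    refine ⟨v, Subgroup.mem_inf.mpr ⟨hv, ?_⟩, rfl⟩
    rw [mem_centralizer_iff]
    intro b hb
    apply hj
    rw [map_mul, map_mul]
    exact (mem_centralizer_iff.mp hc) (j b) ⟨b, hb, rfl⟩
  · rintro ⟨v, hv, rfl⟩
    exact Subgroup.mem_inf.mpr ⟨⟨v, hv.1, rfl⟩, map_centralizer_le j B ⟨v, hv.2, rfl⟩⟩

theorem comap_centralizer_map (j : K₀ →* L) (hj : Function.Injective j) (V : Subgroup K₀) :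
    (centralizer ((V.map j : Subgroup L) : Set L)).comap j = centralizer (V : Set K₀) := by
  ext k
  rw [mem_comap, mem_centralizer_iff, mem_centralizer_iff]
  constructor
  · intro h v hv
    apply hj
    rw [map_mul, map_mul]
    exact h (j v) ⟨v, hv, rfl⟩
  · rintro h _ ⟨v, hv, rfl⟩
    rw [← map_mul, ← map_mul, h v hv]

theorem best_map {p : ℕ} (j : K₀ →* L) (hj : Function.Injective j) {V A : Subgroup K₀}
    (hA : Cfsg.IsBestOffenderOn p V A) : Cfsg.IsBestOffenderOn p (V.map j) (A.map j) := by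
  obtain ⟨h1, h2, h3⟩ := hA
  refine ⟨?_, ?_, ?_⟩
  · intro B' hB'
    obtain ⟨B, hB⟩ : ∃ B : Subgroup K₀, B = B'.comap j := ⟨_, rfl⟩
    have hmap : B.map j = B' := by
      rw [hB]
      exact Subgroup.map_comap_eq_self (hB'.trans (Subgroup.map_le_range _ _))
    have hBA : B ≤ A := by
      rw [hB]
      have := Subgroup.comap_mono (f := j) hB'
      rwa [Subgroup.comap_map_eq_self_of_injective hj] at this
    rw [← hmap, map_inf_centralizer_map j hj, map_inf_centralizer_map j hj,
      Subgroup.card_map_of_injective hj, Subgroup.card_map_of_injective hj,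
      Subgroup.card_map_of_injective hj, Subgroup.card_map_of_injective hj]
    exact h1 B hBA
  · rw [← Subgroup.map_commutator]
    exact (Subgroup.map_mono h2).trans (map_centralizer_le j V)
  · rintro _ ⟨a, ha, rfl⟩
    rw [← map_pow]
    exact map_centralizer_le j V ⟨_, h3 a ha, rfl⟩

end Transport

section Rel

variable {G : Type*} [Group G] [Finite G] {p : ℕ} [hp : Fact p.Prime] (V : Subgroup G) [V.Normal]

/-- `O_p(R C_G(V) / C_G(V)) = 1` for `G`-invariant subgroups, in subgroup form -/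
def FMOpRel (p : ℕ) (V R : Subgroup G) : Prop :=
  ∀ D : Subgroup G, D.Normal → centralizer (V : Set G) ≤ D → D ≤ R ⊔ centralizer (V : Set G) →
    (∃ k : ℕ, (centralizer (V : Set G)).relIndex D = p ^ k) → D = centralizer (V : Set G)

theorem fm_pCore_eq_bot' {R : Subgroup G} (hOp : FMOpRel p V R) (N : Subgroup G) [N.Normal]
    (hNR : N ≤ R) : Cfsg.pCore p ↥(N.map (fmπ V)) = ⊥ := by
  obtain ⟨P, hP⟩ : ∃ P : Subgroup (FM V), P = Cfsg.pCoreOf p (N.map (fmπ V)) := ⟨_, rfl⟩
  have hPp : IsPGroup p P := by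
    rw [hP]; exact Cfsg.Agent.Lib.Helper55.isPGroup_pCoreOf _
  have hPH : P ≤ N.map (fmπ V) := by
    rw [hP]; exact Cfsg.Agent.Lib.Helper55.pCoreOf_le _
  have hPr : P ≤ (fmπ V).range := hPH.trans (Subgroup.map_le_range _ _)
  have hnorm : (fmπ V).range ≤ normalizer (P : Set (FM V)) := by
    rw [hP]
    exact (fm_range_le_normalizer_map V N).trans
      (Cfsg.Agent.Lib.Helper55.normalizer_le_normalizer_pCoreOf _)
  have hDn : (P.comap (fmπ V)).Normal := by
    refine ⟨fun d hd g => ?_⟩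
    rw [mem_comap, map_mul, map_mul, map_inv]
    exact (mem_normalizer_iff.mp (hnorm ⟨g, rfl⟩) _).mp hd
  have hCD : centralizer (V : Set G) ≤ P.comap (fmπ V) := by
    intro c hc
    rw [mem_comap, (fmπ_eq_one_iff V).mpr hc]
    exact one_mem _
  have hDR : P.comap (fmπ V) ≤ R ⊔ centralizer (V : Set G) := by
    refine (Subgroup.comap_mono hPH).trans ?_
    rw [Subgroup.comap_map_eq, fmπ_ker]
    exact sup_le_sup_right hNR _
  have hmap : (P.comap (fmπ V)).map (fmπ V) = P := by
    rw [Subgroup.map_comap_eq, inf_eq_right.mpr hPr]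
  have hidx : ∃ k : ℕ, (centralizer (V : Set G)).relIndex (P.comap (fmπ V)) = p ^ k := by
    have h1 := Subgroup.relIndex_ker (K := P.comap (fmπ V)) (fmπ V)
    rw [fmπ_ker, hmap] at h1
    obtain ⟨k, hk⟩ := hPp.exists_card_eq
    exact ⟨k, by rw [h1, hk]⟩
  have hD := hOp _ hDn hCD hDR hidx
  have hPbot : P = ⊥ := by
    rw [← hmap, hD, fm_map_centralizer]
  rw [hP] at hPbot
  unfold Cfsg.pCoreOf at hPbot
  exact (Subgroup.map_eq_bot_iff_of_injective _ (Subgroup.subtype_injective _)).mp hPbot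

theorem fm_hyp' (hV : Cfsg.IsElementaryAbelian p V) {R : Subgroup G} (hOp : FMOpRel p V R)
    (N : Subgroup G) [N.Normal] (hNR : N ≤ R) (hsepN : Cfsg.IsPSolvable p ↥N) :
    FFHyp p (fmι V).range (N.map (fmπ V)) where
  hV := fm_isEA V hV
  hHV := (Subgroup.map_le_range _ _).trans (fm_range_le_normalizer V)
  hf := le_bot_iff.mp ((inf_le_inf_right _ (Subgroup.map_le_range _ _)).trans (fm_faithful V).le)
  hS1 := by
    have h2 : Cfsg.IsPSolvable p ↥(N.map (fmπ V)) :=
      Cfsg.Agent.Lib.Helper15.IsPSolvable.of_surjective hp.out hsepN ((fmπ V).subgroupMap N)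
        ((fmπ V).subgroupMap_surjective N)
    exact Cfsg.Agent.Lib.Helper02.HHDual.centralizer_pPrimeCore_le h2
      (fm_pCore_eq_bot' V hOp N hNR)

end Rel

section RelMap

variable {K₀ L : Type*} [Group K₀] [Group L] [Finite L] {p : ℕ} [hp : Fact p.Prime]

theorem fmOpRel_map (j : K₀ →* L) (hj : Function.Injective j) (V : Subgroup K₀)
    [hVn : (V.map j).Normal] (hOp : FMOp p V) : FMOpRel p (V.map j) j.range := by
  intro D hDn hCD hDR hidx
  obtain ⟨k, hk⟩ := hidx
  obtain ⟨C, hC⟩ : ∃ C : Subgroup L, C = centralizer ((V.map j : Subgroup L) : Set L) := ⟨_, rfl⟩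
  rw [← hC] at hCD hDR hk ⊢
  have hCn : C.Normal := by rw [hC]; infer_instance
  have hC₀ : C.comap j = centralizer (V : Set K₀) := by
    rw [hC]; exact comap_centralizer_map j hj V
  have hD₀n : (D.comap j).Normal := hDn.comap j
  have hCD₀ : centralizer (V : Set K₀) ≤ D.comap j := by
    rw [← hC₀]; exact Subgroup.comap_mono hCD
  have hidx₀ : ∃ k' : ℕ, (centralizer (V : Set K₀)).relIndex (D.comap j) = p ^ k' := by
    have h1 : (centralizer (V : Set K₀)).relIndex (D.comap j) = C.relIndex (D ⊓ j.range) := by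
      rw [← hC₀, Subgroup.relIndex_comap, Subgroup.map_comap_eq, inf_comm]
    have h2 : C.relIndex (D ⊓ j.range) ∣ C.relIndex D := by
      have h3 : (C.subgroupOf D).relIndex ((D ⊓ j.range).subgroupOf D) = C.relIndex (D ⊓ j.range) :=
        Subgroup.relIndex_subgroupOf inf_le_left
      rw [← h3]
      haveI : (C.subgroupOf D).Normal := hCn.subgroupOf D
      exact Subgroup.relIndex_dvd_index_of_normal _ _
    rw [hk] at h2
    obtain ⟨k', -, hk'⟩ := (Nat.dvd_prime_pow hp.out).mp h2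
    exact ⟨k', by rw [h1, hk']⟩
  have hD₀ := hOp _ hD₀n hCD₀ hidx₀
  apply le_antisymm _ hCD
  intro d hd
  have hd' := hDR hd
  obtain ⟨r, hr, c, hc, rfl⟩ := Cfsg.Agent.Lib.Helper01.exists_mul_of_mem_sup
    (A := j.range) (N := C) (by rw [normalizer_eq_top_iff.mpr hCn]; exact le_top) hd'
  obtain ⟨k₀, rfl⟩ := hr
  have h1 : j k₀ ∈ D := by
    have : j k₀ = (j k₀ * c) * c⁻¹ := by group
    rw [this]
    exact mul_mem hd (inv_mem (hCD hc))
  have h2 : k₀ ∈ centralizer (V : Set K₀) := by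
    rw [← hD₀]; exact h1
  have h3 : j k₀ ∈ C := by
    rw [← hC₀] at h2; exact h2
  exact mul_mem h3 hc

end RelMap

section Lift

variable {G : Type*} [Group G] [Finite G] (V : Subgroup G) [V.Normal]

/-- coprime lifting of `X`-fixed subgroups through `π` -/
theorem cop_lift {q : ℕ} [Fact q.Prime] (R : Subgroup G) [hRn : R.Normal] (X : Subgroup G)
    (hXq : IsPGroup q X) (hqR : ¬ q ∣ Nat.card R) (D' : Subgroup (FM V))
    (hD'R : D' ≤ R.map (fmπ V))
    (hD'X : D' ≤ centralizer ((X.map (fmπ V) : Subgroup (FM V)) : Set (FM V))) :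
    ∃ D : Subgroup G, D ≤ R ⊓ centralizer (X : Set G) ∧ D.map (fmπ V) = D' := by
  obtain ⟨P, hP⟩ : ∃ P : Subgroup G, P = D'.comap (fmπ V) ⊓ R := ⟨_, rfl⟩
  obtain ⟨N, hN⟩ : ∃ N : Subgroup G, N = P ⊓ centralizer (V : Set G) := ⟨_, rfl⟩
  have hPR : P ≤ R := by rw [hP]; exact inf_le_right
  have hcop : (Nat.card P).Coprime q := by
    rw [Nat.coprime_comm, Nat.Prime.coprime_iff_not_dvd Fact.out]
    intro hd
    exact hqR (hd.trans (Subgroup.card_dvd_of_le hPR))
  have hcentral : ∀ x ∈ X, ∀ r ∈ P, fmπ V x * fmπ V r = fmπ V r * fmπ V x := by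
    intro x hx r hr
    have hr' : fmπ V r ∈ D' := by rw [hP] at hr; exact hr.1
    exact (mem_centralizer_iff.mp (hD'X hr')) _ ⟨x, hx, rfl⟩
  have hXP : ∀ x ∈ X, ∀ r ∈ P, x * r * x⁻¹ ∈ P := by
    intro x hx r hr
    rw [hP]
    refine Subgroup.mem_inf.mpr ⟨?_, hRn.conj_mem r (hPR hr) x⟩
    rw [mem_comap, map_mul, map_mul, map_inv, hcentral x hx r hr]
    have hr' : fmπ V r ∈ D' := by rw [hP] at hr; exact hr.1
    simpa using hr'
  have hYN : X ≤ normalizer (N : Set G) := by
    apply le_normalizer_of_conj_mem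
    intro x hx n hn
    rw [hN] at hn ⊢
    refine Subgroup.mem_inf.mpr ⟨hXP x hx n hn.1, ?_⟩
    exact (inferInstance : (centralizer (V : Set G)).Normal).conj_mem n hn.2 x
  have hRY : ⁅P, X⁆ ≤ N := by
    rw [Subgroup.commutator_le]
    intro r hr x hx
    have h1 : x * r⁻¹ * x⁻¹ ∈ P := hXP x hx _ (inv_mem hr)
    have h2 : ⁅r, x⁆ ∈ P := by
      have : ⁅r, x⁆ = r * (x * r⁻¹ * x⁻¹) := by rw [commutatorElement_def]; group
      rw [this]; exact mul_mem hr h1
    rw [hN]
    refine Subgroup.mem_inf.mpr ⟨h2, ?_⟩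
    rw [← fmπ_eq_one_iff V, commutatorElement_def, map_mul, map_mul, map_mul, map_inv, map_inv,
      ← hcentral x hx r hr]
    group
  have key := Cfsg.Agent.Lib.Helper54.le_sup_inf_centralizer_of_coprime hXq hcop
    (by rw [hN]; exact inf_le_left) hYN hRY
  refine ⟨P ⊓ centralizer (X : Set G), ?_, ?_⟩
  · exact le_inf (inf_le_left.trans hPR) inf_le_right
  · apply le_antisymm
    · rw [Subgroup.map_le_iff_le_comap]
      refine inf_le_left.trans ?_
      rw [hP]; exact inf_le_left
    · have h1 : D' ≤ P.map (fmπ V) := by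
        intro d hd
        obtain ⟨r, hr, rfl⟩ := hD'R hd
        exact ⟨r, by rw [hP]; exact Subgroup.mem_inf.mpr ⟨hd, hr⟩, rfl⟩
      refine h1.trans ((Subgroup.map_mono key).trans ?_)
      rw [Subgroup.map_sup]
      have h2 : N.map (fmπ V) = ⊥ := by
        rw [eq_bot_iff, Subgroup.map_le_iff_le_comap]
        intro n hn
        rw [hN] at hn
        rw [mem_comap, (fmπ_eq_one_iff V).mpr hn.2]
        exact one_mem _
      rw [h2, bot_sup_eq]

end Lift

end Cfsg.Agent.Lib.Helper52
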