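import Mathlib
import Cfsg.Agent.Lib.Helper52.CopModel
import Cfsg.Agent.Lib.Helper52.CopSetup
import Cfsg.Agent.Lib.Helper99.Thompson

/-!
# Coprime operators: the theorem in the ambient group `L`
-/

set_option autoImplicit false
set_option linter.style.haveILetI false
set_option linter.unusedSectionVars false

namespace Cfsg.Agent.Lib.Helper52

open Subgroup Matrix
open scoped commutatorElement

section CopMain

variable {L : Type*} [Group L] [Finite L] {p q : ℕ} [hp : Fact p.Prime] [hq : Fact q.Prime]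

/-- the data in the ambient group `L` -/
structure CopData (p q : ℕ) (V R N X : Subgroup L) (𝒜 : Set (Subgroup L)) : Prop where
  hVn : V.Normal
  hRn : R.Normal
  hNn : N.Normal
  hV : Cfsg.IsElementaryAbelian p V
  hNR : N ≤ R
  hOp : FMOpRel p V R
  hsepN : Cfsg.IsPSolvable p ↥N
  h𝒜 : ∀ A ∈ 𝒜, Cfsg.IsBestOffenderOn p V A
  hN : N = sSup 𝒜
  hNC : ¬ N ≤ centralizer (V : Set L)
  hXq : IsPGroup q X
  hqR : ¬ q ∣ Nat.card R

variable {V R N X : Subgroup L} {𝒜 : Set (Subgroup L)}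

theorem CopData.hyp (d : CopData p q V R N X 𝒜) :
    haveI := d.hVn
    FFHyp p (fmι V).range (N.map (fmπ V)) := by
  haveI := d.hVn
  haveI := d.hNn
  exact fm_hyp' V d.hV d.hOp N d.hNR d.hsepN

theorem CopData.gen (d : CopData p q V R N X 𝒜) :
    haveI := d.hVn
    FFGen p (fmι V).range (N.map (fmπ V)) := by
  haveI := d.hVn
  exact fm_gen V d.hyp 𝒜 d.h𝒜 d.hN

theorem CopData.ne_bot (d : CopData p q V R N X 𝒜) :
    haveI := d.hVn
    N.map (fmπ V) ≠ ⊥ := by
  haveI := d.hVn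
  intro h0
  apply d.hNC
  rw [Subgroup.map_eq_bot_iff, fmπ_ker] at h0
  exact h0

theorem CopData.not_dvd (d : CopData p q V R N X 𝒜) :
    haveI := d.hVn
    ¬ q ∣ Nat.card ↥(N.map (fmπ V)) := by
  haveI := d.hVn
  intro hd
  apply d.hqR
  have h1 : Nat.card ↥(N.map (fmπ V)) ∣ Nat.card N := Subgroup.card_map_dvd N (fmπ V)
  exact (hd.trans h1).trans (Subgroup.card_dvd_of_le d.hNR)

/-- **KS 9.3.10 (second part) in the ambient group** -/
theorem cop_main_L (d : CopData p q V R N X 𝒜) :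
    ∃ W D : Subgroup L, W ≤ V ⊓ centralizer (X : Set L) ∧ D ≤ R ⊓ centralizer (X : Set L) ∧
      Nat.card W = p ^ 2 ∧ D ≤ normalizer (W : Set L) ∧
      ∃ φ : ↥D →* SpecialLinearGroup (Fin 2) (ZMod p), Function.Surjective φ ∧
        ∀ x : ↥D, φ x = 1 ↔ (x : L) ∈ centralizer (W : Set L) := by
  haveI := d.hVn
  haveI := d.hRn
  haveI := d.hNn
  have h := d.hyp
  have hgen := d.gen
  obtain ⟨A₀, hA₀⟩ := exists_ffmin h hgen d.ne_bot
  obtain ⟨W', D', hW', hD', hcardW', hDW', hDCW', ⟨f⟩⟩ := cop_model_sl2 h hgen hA₀ (X.map (fmπ V))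
    (d.hXq.map _) ((Subgroup.map_le_range _ _).trans (fm_range_le_normalizer V))
    ((Subgroup.map_le_range _ _).trans (fm_range_le_normalizer_map V N)) d.not_dvd
  -- the plane
  have hW'r : W' ≤ (fmι V).range := hW'.trans inf_le_left
  have hW'fix : W' ≤ ((V ⊓ centralizer (X : Set L)).subgroupOf V).map (fmι V) := by
    rw [← fm_fix]; exact hW'
  obtain ⟨W, hW⟩ : ∃ W : Subgroup L, W = (W'.comap (fmι V)).map V.subtype := ⟨_, rfl⟩
  have hmemW : ∀ w : L, w ∈ W ↔ ∃ hw : w ∈ V, fmι V ⟨w, hw⟩ ∈ W' := by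
    intro w
    rw [hW]
    constructor
    · rintro ⟨v, hv, rfl⟩
      exact ⟨v.2, hv⟩
    · rintro ⟨hw, hv⟩
      exact ⟨⟨w, hw⟩, hv, rfl⟩
  have hWV : W ≤ V := by
    intro w hw
    exact ((hmemW w).mp hw).1
  have hWX : W ≤ centralizer (X : Set L) := by
    intro w hw
    obtain ⟨hwV, hw'⟩ := (hmemW w).mp hw
    obtain ⟨v, hv, hvw⟩ := hW'fix hw'
    have : v = ⟨w, hwV⟩ := fmι_injective V hvw
    rw [this] at hv
    have hv2 : ((⟨w, hwV⟩ : V) : L) ∈ V ⊓ centralizer (X : Set L) := hv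
    exact hv2.2
  have hcardW : Nat.card W = p ^ 2 := by
    rw [hW, Subgroup.card_map_of_injective (Subgroup.subtype_injective _), ← hcardW',
      ← Subgroup.card_map_of_injective (fmι_injective V), Subgroup.map_comap_eq_self hW'r]
  -- the lift of `D'`
  have hD'R : D' ≤ R.map (fmπ V) := (hD'.trans inf_le_left).trans (Subgroup.map_mono d.hNR)
  obtain ⟨D, hDle, hDmap⟩ := cop_lift V R X d.hXq d.hqR D' hD'R (hD'.trans inf_le_right)
  have hπD : ∀ x ∈ D, fmπ V x ∈ D' := by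
    intro x hx
    rw [← hDmap]; exact ⟨x, hx, rfl⟩
  have hconjW : ∀ x ∈ D, ∀ w ∈ W, x * w * x⁻¹ ∈ W := by
    intro x hx w hw
    obtain ⟨hwV, hw'⟩ := (hmemW w).mp hw
    refine (hmemW _).mpr ⟨d.hVn.conj_mem w hwV x, ?_⟩
    have := fm_conj V x ⟨w, hwV⟩
    rw [← this]
    exact (mem_normalizer_iff.mp (hDW' (hπD x hx)) _).mp hw'
  have hcentW : ∀ x ∈ D, (x ∈ centralizer (W : Set L) ↔ fmπ V x = 1) := by
    intro x hx
    constructor
    · intro hc
      have h1 : fmπ V x ∈ D' ⊓ centralizer (W' : Set (FM V)) := by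
        refine Subgroup.mem_inf.mpr ⟨hπD x hx, ?_⟩
        rw [mem_centralizer_iff]
        intro w' hw'
        obtain ⟨v, rfl⟩ := hW'r hw'
        have hvW : (v : L) ∈ W := (hmemW _).mpr ⟨v.2, hw'⟩
        have h2 := fm_conj V x v
        have h3 : x * (v : L) * x⁻¹ = (v : L) := by
          have := (mem_centralizer_iff.mp hc) _ hvW
          rw [← this]; group
        have h4 : (⟨x * (v : L) * x⁻¹, d.hVn.conj_mem _ v.2 x⟩ : V) = v := Subtype.ext h3
        rw [h4] at h2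
        calc fmι V v * fmπ V x = (fmπ V x * fmι V v * (fmπ V x)⁻¹) * fmπ V x := by rw [h2]
          _ = fmπ V x * fmι V v := by group
      rw [hDCW', mem_bot] at h1
      exact h1
    · intro h1
      exact centralizer_le (by exact_mod_cast hWV) ((fmπ_eq_one_iff V).mp h1)
  refine ⟨W, D, le_inf hWV hWX, hDle, hcardW, le_normalizer_of_conj_mem hconjW, ?_⟩
  obtain ⟨ψ, hψ⟩ : ∃ ψ : ↥D →* ↥D', ∀ x : ↥D, (ψ x : FM V) = fmπ V x :=
    ⟨MonoidHom.codRestrict ((fmπ V).comp D.subtype) D' (fun x => hπD x x.2), fun _ => rfl⟩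
  refine ⟨f.toMonoidHom.comp ψ, ?_, ?_⟩
  · refine f.surjective.comp ?_
    rintro ⟨y, hy⟩
    have hy' := hy
    rw [← hDmap] at hy'
    obtain ⟨x, hx, rfl⟩ := hy'
    exact ⟨⟨x, hx⟩, Subtype.ext (hψ _)⟩
  · intro x
    rw [hcentW x x.2, MonoidHom.comp_apply]
    constructor
    · intro h1
      have h2 : ψ x = 1 := by
        apply f.injective
        rw [map_one]; exact h1
      rw [← hψ, h2]; rfl
    · intro h1
      have h2 : ψ x = 1 := Subtype.ext (by rw [hψ, h1]; rfl)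
      rw [h2]; exact map_one _

end CopMain

end Cfsg.Agent.Lib.Helper52
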