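import Mathlib
import Cfsg.Agent.Lib.Helper52.CopMain
import Cfsg.Agent.Lib.Helper81.PSolvable
import Cfsg.Agent.S0601
import Cfsg.Agent.S0602
import Cfsg.Agent.S0606
import Cfsg.Agent.S0608

/-!
# Coprime operators: building the data from a `p`-separable group, and transport
-/

set_option autoImplicit false
set_option linter.style.haveILetI false
set_option linter.unusedSectionVars false

namespace Cfsg.Agent.Lib.Helper52

open Subgroup Matrix
open scoped commutatorElement

section Quot

variable {G : Type*} [Group G]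

theorem quot_equiv_of_surj {D C : Subgroup G} {T : Type*} [Group T] (φ : ↥D →* T)
    (hφ : Function.Surjective φ) (hker : ∀ x : ↥D, φ x = 1 ↔ (x : G) ∈ C) :
    ∃ _ : (C.subgroupOf D).Normal, Nonempty ((↥D ⧸ C.subgroupOf D) ≃* T) := by
  have hk : φ.ker = C.subgroupOf D := by
    ext x
    rw [MonoidHom.mem_ker, mem_subgroupOf]
    exact hker x
  have hn : (C.subgroupOf D).Normal := by rw [← hk]; infer_instance
  exact ⟨hn, ⟨(QuotientGroup.quotientMulEquivOfEq hk).symm.trans
    (QuotientGroup.quotientKerEquivOfSurjective φ hφ)⟩⟩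

theorem cop_transport {L : Type*} [Group L] (s : L →* G) (hs : Function.Injective s)
    (W D : Subgroup L) (hDW : D ≤ normalizer (W : Set L)) {T : Type*} [Group T] (φ : ↥D →* T)
    (hφ : Function.Surjective φ)
    (hker : ∀ x : ↥D, φ x = 1 ↔ (x : L) ∈ centralizer (W : Set L)) :
    D.map s ≤ normalizer ((W.map s : Subgroup G) : Set G) ∧
      ∃ _ : ((centralizer ((W.map s : Subgroup G) : Set G)).subgroupOf (D.map s)).Normal,
        Nonempty ((↥(D.map s) ⧸ (centralizer ((W.map s : Subgroup G) : Set G)).subgroupOf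
          (D.map s)) ≃* T) := by
  constructor
  · apply le_normalizer_of_conj_mem
    rintro _ ⟨x, hx, rfl⟩ _ ⟨w, hw, rfl⟩
    refine ⟨x * w * x⁻¹, (mem_normalizer_iff.mp (hDW hx) w).mp hw, ?_⟩
    rw [map_mul, map_mul, map_inv]
  · obtain ⟨e, he⟩ : ∃ e : ↥D ≃* ↥(D.map s), ∀ x : ↥D, (e x : G) = s x :=
      ⟨D.equivMapOfInjective s hs, fun x => Subgroup.coe_equivMapOfInjective_apply D s hs x⟩
    apply quot_equiv_of_surj (φ.comp e.symm.toMonoidHom)
    · exact hφ.comp e.symm.surjective
    · intro y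
      obtain ⟨x, rfl⟩ := e.surjective y
      rw [MonoidHom.comp_apply]
      have : e.symm.toMonoidHom (e x) = x := e.symm_apply_apply x
      rw [this, hker, he, ← comap_centralizer_map s hs W, mem_comap]

end Quot

section Build

variable {K₀ L : Type*} [Group K₀] [Finite K₀] [Group L] [Finite L] {p q : ℕ}
  [hp : Fact p.Prime] [hq : Fact q.Prime]

/-- the data of KS 9.3.10 from a `p`-separable group `K₀` embedded as a normal subgroup -/
theorem copData_of (j : K₀ →* L) (hj : Function.Injective j) [hn : j.range.Normal]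
    (X : Subgroup L) (hXq : IsPGroup q X) (hqK : ¬ q ∣ Nat.card K₀)
    (hsep : Cfsg.IsPSolvable p K₀) (hO : Cfsg.pPrimeCore p K₀ = ⊥)
    (hnf : ¬ Cfsg.IsThompsonFactorizable p K₀) :
    CopData p q ((⨆ S : Sylow p K₀, Cfsg.omegaOne p ((S : Subgroup K₀) ⊓
      centralizer ((S : Subgroup K₀) : Set K₀))).map j) j.range
      ((Cfsg.thompsonSubgroup p K₀).map j) X
      ((fun A : Subgroup K₀ => A.map j) '' Cfsg.maxElementaryAbelianSubgroups p K₀) := by
  have hc : centralizer (Cfsg.pCore p K₀ : Set K₀) ≤ Cfsg.pCore p K₀ :=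
    Cfsg.Agent.Lib.Helper81.centralizer_pCore_le hsep hO
  obtain ⟨hVn, hV, hD⟩ := Cfsg.Agent.S0601.result (p := p) hc
  haveI hVc := omegaZ_characteristic (K₀ := K₀) p
  haveI hJc : (Cfsg.thompsonSubgroup p K₀).Characteristic :=
    (Cfsg.Agent.S0602.result (G := K₀) (p := p)).1
  have hJn : (Cfsg.thompsonSubgroup p K₀).Normal := inferInstance
  have hNC₀ : ¬ Cfsg.thompsonSubgroup p K₀ ≤ centralizer ((⨆ S : Sylow p K₀,
      Cfsg.omegaOne p ((S : Subgroup K₀) ⊓ centralizer ((S : Subgroup K₀) : Set K₀)) :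
        Subgroup K₀) : Set K₀) := fun h => hnf ((Cfsg.Agent.S0608.result hO).mpr h)
  obtain ⟨V, hVdef⟩ : ∃ V : Subgroup K₀, V = ⨆ S : Sylow p K₀, Cfsg.omegaOne p
      ((S : Subgroup K₀) ⊓ centralizer ((S : Subgroup K₀) : Set K₀)) := ⟨_, rfl⟩
  rw [← hVdef] at hVn hV hD hVc hNC₀ ⊢
  haveI := hVn
  haveI hVjn : (V.map j).Normal := map_normal_of_characteristic j hj V
  refine
    { hVn := hVjn
      hRn := hn
      hNn := map_normal_of_characteristic j hj _
      hV := Cfsg.Agent.Lib.Helper99.isEA_map j V hV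
      hNR := Subgroup.map_le_range _ _
      hOp := fmOpRel_map j hj V hD
      hsepN := ?_
      h𝒜 := ?_
      hN := ?_
      hNC := ?_
      hXq := hXq
      hqR := ?_ }
  · have h1 : Cfsg.IsPSolvable p ↥(Cfsg.thompsonSubgroup p K₀) :=
      Cfsg.Agent.Lib.Helper40.isPSolvable_subgroup hp.out hsep _
    exact Cfsg.Agent.Lib.Helper15.IsPSolvable.of_surjective hp.out h1
      (j.subgroupMap (Cfsg.thompsonSubgroup p K₀)) (j.subgroupMap_surjective _)
  · rintro _ ⟨A, hA, rfl⟩
    exact best_map j hj (Cfsg.Agent.S0606.result V hV A hA)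
  · unfold Cfsg.thompsonSubgroup
    apply le_antisymm
    · rw [Subgroup.map_le_iff_le_comap]
      refine sSup_le fun A hA => ?_
      rw [← Subgroup.map_le_iff_le_comap]
      exact le_sSup ⟨A, hA, rfl⟩
    · refine sSup_le ?_
      rintro _ ⟨A, hA, rfl⟩
      exact Subgroup.map_mono (le_sSup hA)
  · intro h
    apply hNC₀
    rw [← comap_centralizer_map j hj V, ← Subgroup.map_le_iff_le_comap]
    exact h
  · rw [Nat.card_congr (MonoidHom.ofInjective hj).toEquiv.symm]
    exact hqK

end Build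

end Cfsg.Agent.Lib.Helper52
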