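import Mathlib
import Cfsg.Agent.Lib.Helper52.CopFinal
import Cfsg.Agent.Lib.Helper13.KWSylow

/-!
# Coprime operators: generation (KS 9.3.10, first part)
-/

set_option autoImplicit false
set_option linter.style.haveILetI false
set_option linter.unusedSectionVars false

namespace Cfsg.Agent.Lib.Helper52

open Subgroup Matrix
open scoped commutatorElement Pointwise

section Gen

variable {K₀ L : Type*} [Group K₀] [Finite K₀] [Group L] [Finite L] {p q : ℕ}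
  [hp : Fact p.Prime] [hq : Fact q.Prime]

/-- **KS 9.3.10, generation**: a subgroup `Q` of `K₀` containing a Sylow `p`-subgroup, the
centralizer of `V` and the fixed points of `X` contains `J(K₀)`. -/
theorem cop_gen (j : K₀ →* L) (hj : Function.Injective j) [hn : j.range.Normal]
    (X : Subgroup L) (hXq : IsPGroup q X) (hqK : ¬ q ∣ Nat.card K₀)
    (hsep : Cfsg.IsPSolvable p K₀) (hO : Cfsg.pPrimeCore p K₀ = ⊥)
    (hnf : ¬ Cfsg.IsThompsonFactorizable p K₀) (S : Sylow p K₀) (Q : Subgroup K₀)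
    (hSQ : (S : Subgroup K₀) ≤ Q)
    (hCQ : centralizer ((⨆ S : Sylow p K₀, Cfsg.omegaOne p ((S : Subgroup K₀) ⊓
      centralizer ((S : Subgroup K₀) : Set K₀)) : Subgroup K₀) : Set K₀) ≤ Q)
    (hXQ : (centralizer (X : Set L)).comap j ≤ Q) :
    Cfsg.thompsonSubgroup p K₀ ≤ Q := by
  have d := copData_of j hj X hXq hqK hsep hO hnf
  obtain ⟨V₀, hV₀⟩ : ∃ V₀ : Subgroup K₀, V₀ = ⨆ S : Sylow p K₀, Cfsg.omegaOne p
      ((S : Subgroup K₀) ⊓ centralizer ((S : Subgroup K₀) : Set K₀)) := ⟨_, rfl⟩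
  obtain ⟨J, hJ⟩ : ∃ J : Subgroup K₀, J = Cfsg.thompsonSubgroup p K₀ := ⟨_, rfl⟩
  rw [← hV₀] at d hCQ
  rw [← hJ] at d ⊢
  obtain ⟨V, hV⟩ : ∃ V : Subgroup L, V = V₀.map j := ⟨_, rfl⟩
  rw [← hV] at d
  haveI := d.hVn
  haveI := d.hRn
  haveI := d.hNn
  have h := d.hyp
  have hgen := d.gen
  obtain ⟨π₀, hπ₀⟩ : ∃ π₀ : K₀ →* FM V, π₀ = (fmπ V).comp j := ⟨_, rfl⟩
  have hπ₀a : ∀ k, π₀ k = fmπ V (j k) := by intro k; rw [hπ₀]; rfl
  have hker : ∀ k, π₀ k = 1 ↔ k ∈ centralizer (V₀ : Set K₀) := by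
    intro k
    rw [hπ₀a, fmπ_eq_one_iff, hV, ← comap_centralizer_map j hj V₀, mem_comap]
  have hmapJ : (J.map j).map (fmπ V) = J.map π₀ := by
    rw [hπ₀, Subgroup.map_map]
  have hrange : π₀.range = (j.range).map (fmπ V) := by
    rw [hπ₀, MonoidHom.range_eq_map, MonoidHom.range_eq_map, ← Subgroup.map_map]
  -- reduction to the model
  suffices hsuff : (J.map j).map (fmπ V) ≤ Q.map π₀ by
    intro a ha
    have h1 : π₀ a ∈ Q.map π₀ := by
      apply hsuff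
      rw [hmapJ]
      exact ⟨a, ha, rfl⟩
    obtain ⟨b, hb, hab⟩ := h1
    have h2 : a * b⁻¹ ∈ centralizer (V₀ : Set K₀) := by
      rw [← hker, map_mul, map_inv, hab, mul_inv_cancel]
    have : a = (a * b⁻¹) * b := by group
    rw [this]
    exact mul_mem (hCQ h2) hb
  refine hgen.trans (iSup_le fun B => ?_)
  obtain ⟨B, hB⟩ := B
  show B ≤ Q.map π₀
  obtain ⟨H', hH'⟩ : ∃ H' : Subgroup (FM V), H' = (J.map j).map (fmπ V) := ⟨_, rfl⟩
  rw [← hH'] at h hgen hB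
  obtain ⟨V', hV'⟩ : ∃ V' : Subgroup (FM V), V' = (fmι V).range := ⟨_, rfl⟩
  rw [← hV'] at h hgen hB
  have hH'r : H' ≤ π₀.range := by
    rw [hH', hrange]; exact Subgroup.map_mono d.hNR
  have hqH' : ¬ q ∣ Nat.card H' := by rw [hH']; exact d.not_dvd
  have hX'V : X.map (fmπ V) ≤ normalizer (V' : Set (FM V)) := by
    rw [hV']; exact (Subgroup.map_le_range _ _).trans (fm_range_le_normalizer V)
  have hX'H : X.map (fmπ V) ≤ normalizer (H' : Set (FM V)) := by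
    rw [hH']; exact (Subgroup.map_le_range _ _).trans (fm_range_le_normalizer_map V (J.map j))
  have hπ₀H : π₀.range ≤ normalizer (H' : Set (FM V)) := by
    rw [hH', hrange]
    exact (Subgroup.map_le_range _ _).trans (fm_range_le_normalizer_map V (J.map j))
  obtain ⟨μ, hμ1, hμ2, hμ3⟩ := cop_model_mu h hgen hB (X.map (fmπ V)) (d.hXq.map _) hX'V hX'H hqH'
  have hEH : ffE p H' B ≤ H' := ffE_le hB
  have hBE : B ≤ ffE p H' B := le_ffE
  have hEcard : Nat.card ↥(ffE p H' B) = (p ^ 2 - 1) * p := card_ffE h hB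
  have hH'E : H' ≤ normalizer ((ffE p H' B : Subgroup (FM V)) : Set (FM V)) :=
    H_le_normalizer_ffE h hgen hB
  generalize ffE p H' B = E at *
  -- the Sylow subgroup of `E`
  obtain ⟨Et, hEt⟩ : ∃ Et : Subgroup K₀, Et = E.comap π₀ := ⟨_, rfl⟩
  obtain ⟨Jt, hJt⟩ : ∃ Jt : Subgroup K₀, Jt = H'.comap π₀ := ⟨_, rfl⟩
  have hJtn : Jt.Normal := by
    rw [hJt]
    refine ⟨fun x hx g => ?_⟩
    rw [mem_comap, map_mul, map_mul, map_inv]
    exact (mem_normalizer_iff.mp (hπ₀H ⟨g, rfl⟩) _).mp hx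
  have hEtJt : Et ≤ Jt := by rw [hEt, hJt]; exact Subgroup.comap_mono hEH
  have hEtn : (Et.subgroupOf Jt).Normal := by
    rw [Subgroup.normal_subgroupOf_iff_le_normalizer hEtJt]
    apply le_normalizer_of_conj_mem
    intro x hx t ht
    rw [hEt, mem_comap, map_mul, map_mul, map_inv]
    rw [hJt] at hx
    rw [hEt] at ht
    exact (mem_normalizer_iff.mp (hH'E hx) _).mp ht
  have hEtsub : Et.IsSubnormal := Subgroup.IsSubnormal.step Et Jt hEtJt hJtn.isSubnormal hEtn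
  have hSidx : ¬ p ∣ (S : Subgroup K₀).relIndex Et :=
    Cfsg.Agent.Lib.Helper13.not_dvd_relIndex_of_isSubnormal p _ Et hEtsub S.not_dvd_index
  have hEmap : Et.map π₀ = E := by
    rw [hEt]; exact Subgroup.map_comap_eq_self (hEH.trans hH'r)
  obtain ⟨P, hP⟩ : ∃ P : Subgroup (FM V), P = ((S : Subgroup K₀) ⊓ Et).map π₀ := ⟨_, rfl⟩
  have hPE : P ≤ E := by
    rw [hP, ← hEmap]; exact Subgroup.map_mono inf_le_right
  have hPQ : P ≤ Q.map π₀ := by
    rw [hP]; exact Subgroup.map_mono (inf_le_left.trans hSQ)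
  have hPp : IsPGroup p P := by
    rw [hP]; exact (S.isPGroup'.to_le inf_le_left).map _
  have hPidx : ¬ p ∣ P.relIndex E := by
    intro hd
    apply hSidx
    have h1 : P.relIndex E = (((S : Subgroup K₀) ⊓ Et) ⊔ π₀.ker).relIndex (Et ⊔ π₀.ker) := by
      rw [hP, ← hEmap]; exact Subgroup.relIndex_map_map π₀ _ _
    have h2 : Et ⊔ π₀.ker = Et := by
      apply sup_eq_left.mpr
      intro k hk
      rw [hEt, mem_comap, MonoidHom.mem_ker.mp hk]
      exact one_mem _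
    rw [h2] at h1
    have h3 : (((S : Subgroup K₀) ⊓ Et) ⊔ π₀.ker).relIndex Et ∣ ((S : Subgroup K₀) ⊓ Et).relIndex Et :=
      Subgroup.relIndex_dvd_of_le_left Et le_sup_left
    rw [Subgroup.inf_relIndex_right] at h3
    rw [h1] at hd
    exact hd.trans h3
  have hBp : IsPGroup p B := hB.isPGroup
  have hBidx : ¬ p ∣ B.relIndex E := by
    have h1 := Subgroup.relIndex_mul_relIndex ⊥ B E bot_le hBE
    rw [Subgroup.relIndex_bot_left, Subgroup.relIndex_bot_left, hB.card, hEcard] at h1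
    have h2 : B.relIndex E = p ^ 2 - 1 := by
      have : p * B.relIndex E = p * (p ^ 2 - 1) := by rw [h1, mul_comm]
      exact Nat.eq_of_mul_eq_mul_left hp.out.pos this
    rw [h2]
    intro hd
    have hp1 : 1 < p := hp.out.one_lt
    have h3 : p ∣ p ^ 2 := dvd_pow_self p (by norm_num)
    have h4 : 1 ≤ p ^ 2 := Nat.one_le_pow _ _ hp.out.pos
    have h5 : p ∣ p ^ 2 - (p ^ 2 - 1) := Nat.dvd_sub h3 hd
    have h6 : p ^ 2 - (p ^ 2 - 1) = 1 := by omega
    rw [h6] at h5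
    exact hp.out.one_lt.ne' (Nat.dvd_one.mp h5)
  obtain ⟨c, hcE, hBc⟩ := Cfsg.Agent.Lib.Helper13.exists_conj_eq_of_not_dvd_relIndex hPE hBE hPp hBp
    hPidx hBidx
  -- the orbit norm of `c`
  obtain ⟨u, hu⟩ : ∃ u : ↥(⁅V', E⁆ ⊔ E), (u : FM V) = c := ⟨⟨c, le_sup_right (a := ⁅V', E⁆) hcE⟩, rfl⟩
  have hμH : μ u ∈ H' := by
    apply hμ3 u H'
    · intro g hg t ht
      exact (mem_normalizer_iff.mp (hX'H hg) t).mp ht
    · rw [hu]; exact hEH hcE
  have hμX : μ u ∈ centralizer ((X.map (fmπ V) : Subgroup (FM V)) : Set (FM V)) := by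
    rw [mem_centralizer_iff]
    intro x hx
    have := hμ1 u x hx
    calc x * μ u = (x * μ u * x⁻¹) * x := by group
      _ = μ u * x := by rw [this]
  have hμQ : μ u ∈ Q.map π₀ := by
    obtain ⟨D, hDle, hDmap⟩ := cop_lift V j.range X d.hXq d.hqR
      (H' ⊓ centralizer ((X.map (fmπ V) : Subgroup (FM V)) : Set (FM V)))
      (inf_le_left.trans (by rw [hH']; exact Subgroup.map_mono d.hNR)) inf_le_right
    have h1 : μ u ∈ D.map (fmπ V) := by
      rw [hDmap]; exact Subgroup.mem_inf.mpr ⟨hμH, hμX⟩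
    obtain ⟨y, hy, hyμ⟩ := h1
    obtain ⟨⟨k, rfl⟩, hyX⟩ := hDle hy
    refine ⟨k, hXQ ?_, ?_⟩
    · rw [mem_comap]; exact hyX
    · rw [hπ₀a]; exact hyμ
  -- conclusion
  rw [hBc]
  rintro _ ⟨t, ht, rfl⟩
  have htU : t ∈ ⁅V', E⁆ ⊔ E := le_sup_right (a := ⁅V', E⁆) (hPE ht)
  have hcomm := hμ2 u t htU
  rw [hu] at hcomm
  show c * t * c⁻¹ ∈ Q.map π₀
  have e2 : c * t * c⁻¹ = μ u * t * (μ u)⁻¹ := by
    have h3 : t * (c⁻¹ * μ u) = (c⁻¹ * μ u) * t := hcomm.eq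
    calc c * t * c⁻¹ = c * (t * (c⁻¹ * μ u)) * (μ u)⁻¹ := by group
      _ = c * ((c⁻¹ * μ u) * t) * (μ u)⁻¹ := by rw [h3]
      _ = μ u * t * (μ u)⁻¹ := by group
  rw [e2]
  exact mul_mem (mul_mem hμQ (hPQ ht)) (inv_mem hμQ)

end Gen

end Cfsg.Agent.Lib.Helper52
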