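import Cfsg.Prelude.Def_Amalgam

set_option autoImplicit false

namespace Cfsg.Agent.Lib.Helper52

variable {X : Type*} [Group X] (M₁ M₂ : Subgroup X)

theorem cosetGraph_adj_iff (a b : Cfsg.CosetVertex M₁ M₂) :
    (Cfsg.cosetGraph M₁ M₂).Adj a b ↔
      (∃ x : X, a = Sum.inl (x : X ⧸ M₁) ∧ b = Sum.inr (x : X ⧸ M₂)) ∨
      (∃ x : X, b = Sum.inl (x : X ⧸ M₁) ∧ a = Sum.inr (x : X ⧸ M₂)) := by
  unfold Cfsg.cosetGraph
  rw [SimpleGraph.fromRel_adj]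
  constructor
  · rintro ⟨_, h⟩
    exact h
  · intro h
    refine ⟨?_, h⟩
    rcases h with ⟨x, rfl, rfl⟩ | ⟨x, rfl, rfl⟩
    · exact Sum.inl_ne_inr
    · exact Sum.inr_ne_inl

theorem cosetGraph_adj_inl_inr (x : X) :
    (Cfsg.cosetGraph M₁ M₂).Adj (Sum.inl (x : X ⧸ M₁)) (Sum.inr (x : X ⧸ M₂)) := by
  rw [cosetGraph_adj_iff]
  exact Or.inl ⟨x, rfl, rfl⟩

theorem cosetGraph_adj_inr_inl (x : X) :
    (Cfsg.cosetGraph M₁ M₂).Adj (Sum.inr (x : X ⧸ M₂)) (Sum.inl (x : X ⧸ M₁)) :=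
  (cosetGraph_adj_inl_inr M₁ M₂ x).symm

theorem smul_inl (g x : X) :
    g • (Sum.inl (x : X ⧸ M₁) : Cfsg.CosetVertex M₁ M₂) = Sum.inl ((g * x : X) : X ⧸ M₁) := rfl

theorem smul_inr (g x : X) :
    g • (Sum.inr (x : X ⧸ M₂) : Cfsg.CosetVertex M₁ M₂) = Sum.inr ((g * x : X) : X ⧸ M₂) := rfl

theorem cosetGraph_adj_smul {a b : Cfsg.CosetVertex M₁ M₂} (g : X)
    (h : (Cfsg.cosetGraph M₁ M₂).Adj a b) : (Cfsg.cosetGraph M₁ M₂).Adj (g • a) (g • b) := by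
  rw [cosetGraph_adj_iff] at h ⊢
  rcases h with ⟨x, rfl, rfl⟩ | ⟨x, rfl, rfl⟩
  · exact Or.inl ⟨g * x, rfl, rfl⟩
  · exact Or.inr ⟨g * x, rfl, rfl⟩

theorem cosetGraph_adj_smul_iff {a b : Cfsg.CosetVertex M₁ M₂} (g : X) :
    (Cfsg.cosetGraph M₁ M₂).Adj (g • a) (g • b) ↔ (Cfsg.cosetGraph M₁ M₂).Adj a b := by
  constructor
  · intro h
    have := cosetGraph_adj_smul M₁ M₂ g⁻¹ h
    simpa using this
  · exact cosetGraph_adj_smul M₁ M₂ g

theorem exists_rep_inl (a : X ⧸ M₁) : ∃ x : X, a = (x : X ⧸ M₁) := by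
  obtain ⟨x, rfl⟩ := QuotientGroup.mk_surjective a
  exact ⟨x, rfl⟩

theorem stabilizer_inl (x : X) :
    MulAction.stabilizer X (Sum.inl (x : X ⧸ M₁) : Cfsg.CosetVertex M₁ M₂) =
      M₁.map (MulAut.conj x).toMonoidHom := by
  ext g
  rw [MulAction.mem_stabilizer_iff, smul_inl, Sum.inl.injEq, Subgroup.mem_map]
  rw [eq_comm, QuotientGroup.eq]
  constructor
  · intro h
    refine ⟨x⁻¹ * (g * x), h, ?_⟩
    simp [MulAut.conj_apply, mul_assoc]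
  · rintro ⟨m, hm, rfl⟩
    simpa [MulAut.conj_apply, mul_assoc] using hm

theorem stabilizer_inr (x : X) :
    MulAction.stabilizer X (Sum.inr (x : X ⧸ M₂) : Cfsg.CosetVertex M₁ M₂) =
      M₂.map (MulAut.conj x).toMonoidHom := by
  ext g
  rw [MulAction.mem_stabilizer_iff, smul_inr, Sum.inr.injEq, Subgroup.mem_map]
  rw [eq_comm, QuotientGroup.eq]
  constructor
  · intro h
    refine ⟨x⁻¹ * (g * x), h, ?_⟩
    simp [MulAut.conj_apply, mul_assoc]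
  · rintro ⟨m, hm, rfl⟩
    simpa [MulAut.conj_apply, mul_assoc] using hm

theorem stabilizer_inl_one :
    MulAction.stabilizer X (Sum.inl ((1 : X) : X ⧸ M₁) : Cfsg.CosetVertex M₁ M₂) = M₁ := by
  rw [stabilizer_inl]
  ext g
  simp

theorem stabilizer_inr_one :
    MulAction.stabilizer X (Sum.inr ((1 : X) : X ⧸ M₂) : Cfsg.CosetVertex M₁ M₂) = M₂ := by
  rw [stabilizer_inr]
  ext g
  simp

end Cfsg.Agent.Lib.Helper52

namespace Cfsg.Agent.Lib.Helper52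

theorem mem_of_reachable_of_closed {V : Type*} (G : SimpleGraph V) (S : Set V)
    (hclosed : ∀ u v : V, u ∈ S → G.Adj u v → v ∈ S) {u v : V} (h : G.Reachable u v)
    (hu : u ∈ S) : v ∈ S := by
  obtain ⟨w⟩ := h
  induction w with
  | nil => exact hu
  | cons hadj _ ih => exact ih (hclosed _ _ hu hadj)

end Cfsg.Agent.Lib.Helper52
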