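import Cfsg.Agent.Lib.Helper52.Amalgam

set_option autoImplicit false

namespace Cfsg.Agent.Lib.Helper52

variable {X : Type*} [Group X]

theorem omegaOne_le (p : ℕ) (K : Subgroup X) : Cfsg.omegaOne p K ≤ K := by
  unfold Cfsg.omegaOne
  rw [Subgroup.closure_le]
  intro x hx
  exact hx.1

theorem omegaOne_mono (p : ℕ) {K L : Subgroup X} (h : K ≤ L) :
    Cfsg.omegaOne p K ≤ Cfsg.omegaOne p L := by
  unfold Cfsg.omegaOne
  apply Subgroup.closure_mono
  intro x hx
  exact ⟨h hx.1, hx.2⟩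

theorem map_omegaOne_le {Y : Type*} [Group Y] (p : ℕ) (K : Subgroup X) (f : X →* Y) :
    (Cfsg.omegaOne p K).map f ≤ Cfsg.omegaOne p (K.map f) := by
  unfold Cfsg.omegaOne
  rw [MonoidHom.map_closure]
  apply Subgroup.closure_mono
  rintro _ ⟨x, hx, rfl⟩
  refine ⟨Subgroup.mem_map_of_mem f hx.1, ?_⟩
  rw [← map_pow, hx.2, map_one]

/-- `Ω₁(Z(T))` as used in the amalgam definitions. -/
def zOf (p : ℕ) (T : Subgroup X) : Subgroup X :=
  Cfsg.omegaOne p (T ⊓ Subgroup.centralizer (T : Set X))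

theorem zOf_le (p : ℕ) (T : Subgroup X) : zOf p T ≤ T :=
  (omegaOne_le p _).trans inf_le_left

theorem zOf_le_centralizer (p : ℕ) (T : Subgroup X) :
    zOf p T ≤ Subgroup.centralizer (T : Set X) :=
  (omegaOne_le p _).trans inf_le_right

theorem map_zOf_le {Y : Type*} [Group Y] (p : ℕ) (T : Subgroup X) (f : X →* Y) :
    (zOf p T).map f ≤ zOf p (T.map f) := by
  unfold zOf
  refine (map_omegaOne_le p _ f).trans (omegaOne_mono p ?_)
  refine (Subgroup.map_inf_le _ _ f).trans (inf_le_inf_left _ ?_)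
  have := Subgroup.map_centralizer_le_centralizer_image (T : Set X) f
  rwa [← Subgroup.coe_map] at this

theorem map_zOf_equiv (p : ℕ) (T : Subgroup X) (f : X ≃* X) :
    (zOf p T).map f.toMonoidHom = zOf p (T.map f.toMonoidHom) := by
  apply le_antisymm (map_zOf_le p T _)
  have h := map_zOf_le p (T.map f.toMonoidHom) f.symm.toMonoidHom
  have e : (T.map f.toMonoidHom).map f.symm.toMonoidHom = T := by
    rw [Subgroup.map_map]
    have : f.symm.toMonoidHom.comp f.toMonoidHom = MonoidHom.id X := by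
      ext x
      simp
    rw [this, Subgroup.map_id]
  rw [e] at h
  intro y hy
  have hy' := h (Subgroup.mem_map_of_mem _ hy)
  refine ⟨f.symm y, hy', ?_⟩
  simp

theorem sylowCenterClosure_eq (p : ℕ) (H : Subgroup X) :
    Cfsg.sylowCenterClosure p H = ⨆ S : Sylow p H, zOf p ((S : Subgroup H).map H.subtype) := rfl

theorem zOf_sylow_le_sylowCenterClosure (p : ℕ) (H : Subgroup X) (S : Sylow p H) :
    zOf p ((S : Subgroup H).map H.subtype) ≤ Cfsg.sylowCenterClosure p H := by
  rw [sylowCenterClosure_eq]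
  exact le_iSup (fun S : Sylow p H => zOf p ((S : Subgroup H).map H.subtype)) S

theorem sylowCenterClosure_le (p : ℕ) (H : Subgroup X) : Cfsg.sylowCenterClosure p H ≤ H := by
  rw [sylowCenterClosure_eq]
  refine iSup_le fun S => ?_
  exact (zOf_le p _).trans (Subgroup.map_subtype_le _)

theorem sylow_smul_map_subtype (p : ℕ) (H : Subgroup X) (S : Sylow p H) (g : H) :
    ((g • S : Sylow p H) : Subgroup H).map H.subtype =
      ((S : Subgroup H).map H.subtype).map (MulAut.conj (g : X)).toMonoidHom := by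
  ext y
  simp only [Subgroup.mem_map, Subgroup.coe_subtype, MulEquiv.coe_toMonoidHom, MulAut.conj_apply]
  constructor
  · rintro ⟨z, hz, rfl⟩
    rw [Sylow.coe_subgroup_smul, Subgroup.mem_smul_pointwise_iff_exists] at hz
    obtain ⟨s, hs, rfl⟩ := hz
    refine ⟨s, ⟨s, hs, rfl⟩, ?_⟩
    simp [MulAut.smul_def, MulAut.conj_apply]
  · rintro ⟨_, ⟨z, hz, rfl⟩, rfl⟩
    refine ⟨g * z * g⁻¹, ?_, by simp⟩
    rw [Sylow.coe_subgroup_smul, Subgroup.mem_smul_pointwise_iff_exists]
    exact ⟨z, hz, by simp [MulAut.smul_def, MulAut.conj_apply]⟩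

theorem map_conj_sylowCenterClosure_le (p : ℕ) (H : Subgroup X) {g : X} (hg : g ∈ H) :
    (Cfsg.sylowCenterClosure p H).map (MulAut.conj g).toMonoidHom ≤
      Cfsg.sylowCenterClosure p H := by
  rw [sylowCenterClosure_eq, Subgroup.map_iSup]
  refine iSup_le fun S => ?_
  rw [map_zOf_equiv]
  have := sylow_smul_map_subtype p H S ⟨g, hg⟩
  simp only at this
  rw [← this]
  exact le_iSup (fun S : Sylow p H => zOf p ((S : Subgroup H).map H.subtype)) _

theorem conj_mem_sylowCenterClosure (p : ℕ) (H : Subgroup X) {g z : X} (hg : g ∈ H)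
    (hz : z ∈ Cfsg.sylowCenterClosure p H) : g * z * g⁻¹ ∈ Cfsg.sylowCenterClosure p H := by
  apply map_conj_sylowCenterClosure_le p H hg
  exact ⟨z, hz, by simp [MulAut.conj_apply]⟩

theorem le_normalizer_sylowCenterClosure (p : ℕ) (H : Subgroup X) :
    H ≤ Subgroup.normalizer (Cfsg.sylowCenterClosure p H : Set X) := by
  intro g hg
  rw [Subgroup.mem_normalizer_iff]
  intro z
  constructor
  · exact conj_mem_sylowCenterClosure p H hg
  · intro h
    have := conj_mem_sylowCenterClosure p H (H.inv_mem hg) h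
    simpa [mul_assoc] using this

/-! ### distance lemmas -/

theorem exists_adj_dist_lt {V : Type*} {G : SimpleGraph V} {u v : V} (h : G.Reachable u v)
    (hne : u ≠ v) : ∃ w, G.Adj u w ∧ G.dist w v < G.dist u v := by
  obtain ⟨q, hq⟩ := h.exists_walk_length_eq_dist
  cases q with
  | nil => exact absurd rfl hne
  | cons hadj q' =>
    refine ⟨_, hadj, ?_⟩
    rw [← hq, SimpleGraph.Walk.length_cons]
    exact Nat.lt_succ_of_le (SimpleGraph.dist_le q')

theorem vertexZ_le_of_dist_lt {M₁ M₂ : Subgroup X} (p : ℕ) {δ μ : Cfsg.CosetVertex M₁ M₂}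
    (h : (Cfsg.cosetGraph M₁ M₂).dist δ μ < Cfsg.criticalDistance p M₁ M₂) :
    Cfsg.vertexZ p δ ≤ Cfsg.neighbourKernel μ := by
  by_contra hcon
  have := Nat.notMem_of_lt_sInf h
  exact this ⟨δ, μ, rfl, hcon⟩

theorem neighbourKernel_le_stabilizer {M₁ M₂ : Subgroup X} (δ : Cfsg.CosetVertex M₁ M₂) :
    Cfsg.neighbourKernel δ ≤ MulAction.stabilizer X δ := by
  unfold Cfsg.neighbourKernel
  exact inf_le_left

theorem neighbourKernel_le_stabilizer_of_adj {M₁ M₂ : Subgroup X} {δ μ : Cfsg.CosetVertex M₁ M₂}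
    (h : (Cfsg.cosetGraph M₁ M₂).Adj δ μ) :
    Cfsg.neighbourKernel δ ≤ MulAction.stabilizer X μ := by
  unfold Cfsg.neighbourKernel
  refine inf_le_right.trans ?_
  exact (iInf_le _ μ).trans (iInf_le _ h)

end Cfsg.Agent.Lib.Helper52

namespace Cfsg.Agent.Lib.Helper52

variable {X : Type*} [Group X]

theorem vertexZ_le_stabilizer_of_dist_le {M₁ M₂ : Subgroup X} (p : ℕ)
    (hconn : (Cfsg.cosetGraph M₁ M₂).Connected) {u v : Cfsg.CosetVertex M₁ M₂}
    (hd : (Cfsg.cosetGraph M₁ M₂).dist u v ≤ Cfsg.criticalDistance p M₁ M₂) :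
    Cfsg.vertexZ p u ≤ MulAction.stabilizer X v := by
  by_cases huv : v = u
  · subst huv
    exact sylowCenterClosure_le p _
  · obtain ⟨w, hadj, hlt⟩ := exists_adj_dist_lt (hconn.preconnected v u) huv
    have h1 : (Cfsg.cosetGraph M₁ M₂).dist u w < Cfsg.criticalDistance p M₁ M₂ := by
      rw [SimpleGraph.dist_comm]
      rw [SimpleGraph.dist_comm] at hd
      exact lt_of_lt_of_le hlt hd
    exact (vertexZ_le_of_dist_lt p h1).trans (neighbourKernel_le_stabilizer_of_adj hadj.symm)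

open scoped commutatorElement in
theorem commutator_le_of_normalizes {A B : Subgroup X}
    (hB : B ≤ Subgroup.normalizer (A : Set X)) : ⁅A, B⁆ ≤ A := by
  rw [Subgroup.commutator_le]
  intro a ha b hb
  have h1 : b * a⁻¹ * b⁻¹ ∈ A := (Subgroup.mem_normalizer_iff.mp (hB hb) a⁻¹).mp (A.inv_mem ha)
  have : ⁅a, b⁆ = a * (b * a⁻¹ * b⁻¹) := by
    rw [commutatorElement_def]
    group
  rw [this]
  exact A.mul_mem ha h1

end Cfsg.Agent.Lib.Helper52
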