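import Cfsg.Agent.Lib.Helper52.CenterTransfer
import Mathlib.GroupTheory.SpecificGroups.Dihedral
import Cfsg.Agent.Lib.Helper92.SylowAux

set_option autoImplicit false

namespace Cfsg.Agent.Lib.Helper52

open DihedralGroup

/-- The sign homomorphism of a dihedral group: rotations to `1`, reflections to the generator. -/
def dihedralSign (m : ℕ) : DihedralGroup m →* Multiplicative (ZMod 2) :=
  MonoidHom.mk' (fun x => match x with
    | r _ => 1
    | sr _ => Multiplicative.ofAdd 1) (by
    rintro (a | a) (b | b)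
    · rfl
    · rfl
    · rfl
    · show (1 : Multiplicative (ZMod 2)) = Multiplicative.ofAdd 1 * Multiplicative.ofAdd 1
      decide)

theorem dihedralSign_r (m : ℕ) (i : ZMod m) : dihedralSign m (r i) = 1 := rfl

theorem dihedralSign_sr (m : ℕ) (i : ZMod m) : dihedralSign m (sr i) ≠ 1 := by
  show (Multiplicative.ofAdd (1 : ZMod 2)) ≠ 1
  decide

theorem dihedralSign_eq_one_iff (m : ℕ) (x : DihedralGroup m) :
    dihedralSign m x = 1 ↔ ∃ i, x = r i := by
  rcases x with i | i
  · exact ⟨fun _ => ⟨i, rfl⟩, fun _ => rfl⟩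
  · constructor
    · intro h
      exact absurd h (dihedralSign_sr m i)
    · rintro ⟨j, hj⟩
      cases hj

/-- In `D_{2·2^n}` there is at most one rotation of order two. -/
theorem rot_involution_unique (n : ℕ) (i j : ZMod (2 ^ n)) (hi : orderOf (r i) = 2)
    (hj : orderOf (r j) = 2) : i = j := by
  have key : ∀ k : ZMod (2 ^ n), orderOf (r k) = 2 → k.val = 2 ^ n / 2 := by
    intro k hk
    have h2 : (r k) ^ 2 = 1 := by
      have := pow_orderOf_eq_one (r k)
      rwa [hk] at this
    have h1 : r k ≠ 1 := by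
      intro h
      rw [h, orderOf_one] at hk
      omega
    rw [r_pow, one_def] at h2
    have h2' : k * (2 : ℕ) = 0 := by injection h2
    have hk0 : k ≠ 0 := by
      rintro rfl
      exact h1 rfl
    have hlt : k.val < 2 ^ n := ZMod.val_lt k
    have hv0 : k.val ≠ 0 := fun h => hk0 ((ZMod.val_eq_zero k).mp h)
    have hdvd : 2 ^ n ∣ k.val * 2 := by
      rw [← ZMod.natCast_eq_zero_iff]
      push_cast
      rw [ZMod.natCast_zmod_val]
      exact_mod_cast h2'
    obtain ⟨c, hc⟩ := hdvd
    have hc1 : c = 1 := by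
      have h3 : 2 ^ n * c < 2 ^ n * 2 := by rw [← hc]; omega
      have h4 : c < 2 := Nat.lt_of_mul_lt_mul_left h3
      have h5 : c ≠ 0 := by
        rintro rfl
        omega
      omega
    subst hc1
    omega
  apply ZMod.val_injective
  rw [key i hi, key j hj]


/-- If `G = O^2(G)` and the Sylow `2`-subgroup `T` is dihedral (via `e`), every involution of `G`
is conjugate to an element of `T` which `e` sends to a rotation. -/
theorem exists_conj_rot {G : Type*} [Group G] [Finite G] (T : Sylow 2 G) (m : ℕ)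
    (e : (T : Subgroup G) ≃* DihedralGroup m) (hO : Cfsg.pResidual 2 G = ⊤) (u : G)
    (hu : orderOf u = 2) :
    ∃ s : (T : Subgroup G), IsConj u (s : G) ∧ ∃ i, e s = r i := by
  have : Fact (Nat.Prime 2) := ⟨Nat.prime_two⟩
  -- conjugate `u` into `T`
  have hP : IsPGroup 2 (Subgroup.zpowers u) := by
    apply IsPGroup.of_card (n := 1)
    rw [Nat.card_zpowers, hu, pow_one]
  obtain ⟨g, hg⟩ := Cfsg.Agent.Lib.Helper92.exists_conj_le_sylow T hP
  have hu'T : g⁻¹ * u * g ∈ (T : Subgroup G) := hg u (Subgroup.mem_zpowers u)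
  have hconj1 : IsConj u (g⁻¹ * u * g) := by
    rw [isConj_iff]
    exact ⟨g⁻¹, by rw [inv_inv]⟩
  have hu' : orderOf (g⁻¹ * u * g) = 2 := by
    have : g⁻¹ * u * g = (MulAut.conj g⁻¹) u := by simp
    rw [this, MulEquiv.orderOf_eq, hu]
  set ϕ : (T : Subgroup G) →* Multiplicative (ZMod 2) :=
    (dihedralSign m).comp e.toMonoidHom with hϕ
  by_cases h1 : ϕ ⟨g⁻¹ * u * g, hu'T⟩ = 1
  · refine ⟨⟨g⁻¹ * u * g, hu'T⟩, hconj1, ?_⟩
    exact (dihedralSign_eq_one_iff m _).mp h1
  · have hA : Nat.card (Multiplicative (ZMod 2)) = 2 := by simp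
    have htr : MonoidHom.transfer ϕ (g⁻¹ * u * g) = 1 := by
      have := pResidual_le_ker_of_card_two hA (MonoidHom.transfer ϕ)
      rw [hO] at this
      exact this (Subgroup.mem_top _)
    obtain ⟨g', hker, -, -⟩ :=
      Cfsg.Agent.S1853.thompson_general (S := T) ϕ (g⁻¹ * u * g) hu' hu'T h1 htr
    obtain ⟨s, hs, hsg⟩ := hker
    refine ⟨s, ?_, ?_⟩
    · refine hconj1.trans ?_
      rw [isConj_iff]
      exact ⟨g', hsg.symm⟩
    · exact (dihedralSign_eq_one_iff m _).mp hs

/-- A finite group with `O^2(G) = G` and dihedral Sylow `2`-subgroups of order `2 · 2^n` has a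
single class of involutions. -/
theorem isConj_of_involutions_of_dihedral {G : Type*} [Group G] [Finite G] (T : Sylow 2 G)
    (n : ℕ) (e : (T : Subgroup G) ≃* DihedralGroup (2 ^ n)) (hO : Cfsg.pResidual 2 G = ⊤)
    (x y : G) (hx : orderOf x = 2) (hy : orderOf y = 2) : IsConj x y := by
  obtain ⟨s, hxs, i, hi⟩ := exists_conj_rot T (2 ^ n) e hO x hx
  obtain ⟨t, hyt, j, hj⟩ := exists_conj_rot T (2 ^ n) e hO y hy
  have hos : orderOf (r i : DihedralGroup (2 ^ n)) = 2 := by
    rw [← hi, MulEquiv.orderOf_eq, ← Subgroup.orderOf_coe]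
    obtain ⟨c, hc⟩ := isConj_iff.mp hxs
    rw [← hc]
    have : c * x * c⁻¹ = (MulAut.conj c) x := by simp [MulAut.conj_apply]
    rw [this, MulEquiv.orderOf_eq, hx]
  have hot : orderOf (r j : DihedralGroup (2 ^ n)) = 2 := by
    rw [← hj, MulEquiv.orderOf_eq, ← Subgroup.orderOf_coe]
    obtain ⟨c, hc⟩ := isConj_iff.mp hyt
    rw [← hc]
    have : c * y * c⁻¹ = (MulAut.conj c) y := by simp [MulAut.conj_apply]
    rw [this, MulEquiv.orderOf_eq, hy]
  have hij : i = j := rot_involution_unique n i j hos hot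
  have hst : s = t := by
    apply e.injective
    rw [hi, hj, hij]
  rw [hst] at hxs
  exact hxs.trans hyt.symm

end Cfsg.Agent.Lib.Helper52
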