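import Cfsg.Agent.Lib.Helper52.Dihedral
import Cfsg.Agent.Lib.Helper20.SylowNormal
import Cfsg.Agent.Lib.Helper03.NormalPComplement
import Cfsg.Agent.S0071

set_option autoImplicit false

namespace Cfsg.Agent.Lib.Helper52

variable {X : Type*} [Group X]

/-- Odd-order elements of `N(Q)` centralize `Q` when the automizer is a `2`-group. -/
theorem mem_centralizer_of_isPGroup_range (Q : Subgroup X)
    (h : IsPGroup 2 Q.normalizerMonoidHom.range) (g : X)
    (hg : g ∈ Subgroup.normalizer (Q : Set X)) (hodd : Nat.Coprime (orderOf g) 2) :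
    g ∈ Subgroup.centralizer (Q : Set X) := by
  set x := Q.normalizerMonoidHom ⟨g, hg⟩ with hx
  obtain ⟨k, hk⟩ := h ⟨x, ⟨⟨g, hg⟩, rfl⟩⟩
  have hk' : x ^ 2 ^ k = 1 := congrArg Subtype.val hk
  have h2 : x ^ orderOf g = 1 := by
    rw [hx, ← map_pow]
    have : (⟨g, hg⟩ : Subgroup.normalizer (Q : Set X)) ^ orderOf g = 1 := by
      apply Subtype.ext
      simp [pow_orderOf_eq_one]
    rw [this, map_one]
  have h3 : orderOf x ∣ Nat.gcd (orderOf g) (2 ^ k) :=
    Nat.dvd_gcd (orderOf_dvd_of_pow_eq_one h2) (orderOf_dvd_of_pow_eq_one hk')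
  rw [Nat.Coprime.pow_right k hodd] at h3
  have h4 : x = 1 := orderOf_eq_one_iff.mp (Nat.dvd_one.mp h3)
  have h5 : (⟨g, hg⟩ : Subgroup.normalizer (Q : Set X)) ∈ Q.normalizerMonoidHom.ker := h4
  rw [Subgroup.normalizerMonoidHom_ker, Subgroup.mem_subgroupOf] at h5
  exact h5

/-- Odd-order elements normalizing a cyclic `2`-subgroup centralize it. -/
theorem mem_centralizer_of_cyclic_two [Finite X] (Q : Subgroup X) (hcyc : IsCyclic Q)
    (hQ : IsPGroup 2 Q) (g : X) (hg : g ∈ Subgroup.normalizer (Q : Set X))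
    (hodd : Nat.Coprime (orderOf g) 2) : g ∈ Subgroup.centralizer (Q : Set X) := by
  have : Fact (Nat.Prime 2) := ⟨Nat.prime_two⟩
  obtain ⟨i, hi⟩ := Cfsg.Agent.Lib.Helper20.relIndex_centralizer_normalizer_two_pow Q hcyc hQ
  have h1 : Nat.card Q.normalizerMonoidHom.range = 2 ^ i := by
    rw [← hi, Subgroup.relIndex, ← Subgroup.normalizerMonoidHom_ker, Subgroup.index_ker]
  exact mem_centralizer_of_isPGroup_range Q (IsPGroup.of_card h1) g hg hodd

/-- If `N(Q) = C(Q) ⊔ T` with `T` a `2`-group, odd-order elements of `N(Q)` centralize `Q`. -/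
theorem mem_centralizer_of_normalizer_eq_sup (Q T : Subgroup X) (hT : IsPGroup 2 T)
    (hTN : T ≤ Subgroup.normalizer (Q : Set X))
    (hN : Subgroup.normalizer (Q : Set X) = Subgroup.centralizer (Q : Set X) ⊔ T) (g : X)
    (hg : g ∈ Subgroup.normalizer (Q : Set X)) (hodd : Nat.Coprime (orderOf g) 2) :
    g ∈ Subgroup.centralizer (Q : Set X) := by
  apply mem_centralizer_of_isPGroup_range Q _ g hg hodd
  have hCN : Subgroup.centralizer (Q : Set X) ≤ Subgroup.normalizer (Q : Set X) :=
    Subgroup.centralizer_le_normalizer _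
  have h1 : (⊤ : Subgroup (Subgroup.normalizer (Q : Set X))) =
      (Subgroup.centralizer (Q : Set X)).subgroupOf (Subgroup.normalizer (Q : Set X)) ⊔
        T.subgroupOf (Subgroup.normalizer (Q : Set X)) := by
    rw [← Subgroup.subgroupOf_sup hCN hTN, ← hN, Subgroup.subgroupOf_self]
  have h2 : Q.normalizerMonoidHom.range =
      (T.subgroupOf (Subgroup.normalizer (Q : Set X))).map Q.normalizerMonoidHom := by
    rw [MonoidHom.range_eq_map, h1, Subgroup.map_sup, ← Subgroup.normalizerMonoidHom_ker]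
    have : (Q.normalizerMonoidHom.ker).map Q.normalizerMonoidHom = ⊥ := by
      rw [Subgroup.map_eq_bot_iff]
    rw [this, bot_sup_eq]
  rw [h2]
  exact (hT.comap_subtype).map _


/-- conjugation by powers: if `g s g⁻¹ = c s` and `g` commutes with `c` then
`g^k s g^{-k} = c^k s`. -/
theorem conj_pow_of_conj_eq_mul {g s c : X} (h : g * s * g⁻¹ = c * s) (hc : g * c = c * g)
    (k : ℕ) : g ^ k * s * (g ^ k)⁻¹ = c ^ k * s := by
  induction k with
  | zero => simp
  | succ n ih =>
    have hcn : g * c ^ n = c ^ n * g := by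
      have : Commute g c := hc
      exact (this.pow_right n)
    calc g ^ (n + 1) * s * (g ^ (n + 1))⁻¹ = g * (g ^ n * s * (g ^ n)⁻¹) * g⁻¹ := by
          rw [pow_succ']; group
      _ = g * (c ^ n * s) * g⁻¹ := by rw [ih]
      _ = (g * c ^ n) * s * g⁻¹ := by group
      _ = c ^ n * (g * s * g⁻¹) := by rw [hcn]; group
      _ = c ^ n * (c * s) := by rw [h]
      _ = c ^ (n + 1) * s := by rw [pow_succ]; group

/-- A `2`-element whose order divides an odd number is trivial. -/
theorem eq_one_of_pow_odd_of_isPGroup {S : Subgroup X} (hS : IsPGroup 2 S) {c : X} (hcS : c ∈ S)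
    {k : ℕ} (hk : Nat.Coprime k 2) (hck : c ^ k = 1) : c = 1 := by
  obtain ⟨j, hj⟩ := hS ⟨c, hcS⟩
  have hj' : c ^ 2 ^ j = 1 := congrArg Subtype.val hj
  have h3 : orderOf c ∣ Nat.gcd k (2 ^ j) :=
    Nat.dvd_gcd (orderOf_dvd_of_pow_eq_one hck) (orderOf_dvd_of_pow_eq_one hj')
  rw [Nat.Coprime.pow_right j hk] at h3
  exact orderOf_eq_one_iff.mp (Nat.dvd_one.mp h3)


theorem comm_of_mem_cyclic {R : Subgroup X} (hRc : IsCyclic R) {a b : X} (ha : a ∈ R)
    (hb : b ∈ R) : a * b = b * a := by
  letI := IsCyclic.commGroup (α := R)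
  have := mul_comm (⟨a, ha⟩ : R) ⟨b, hb⟩
  exact congrArg Subtype.val this

theorem involution_unique_of_cyclic [Finite X] {R : Subgroup X} (hRc : IsCyclic R) {a b : X}
    (ha : a ∈ R) (hb : b ∈ R) (ha2 : a * a = 1) (hb2 : b * b = 1) (ha1 : a ≠ 1) (hb1 : b ≠ 1) :
    a = b := by
  have h := Cfsg.Agent.S1853.cyclic_involution_unique (A := R) (a := ⟨a, ha⟩) (b := ⟨b, hb⟩)
    (by apply Subtype.ext; simp [pow_two, ha2]) (by apply Subtype.ext; simp [pow_two, hb2])
    (fun h => ha1 (congrArg Subtype.val h)) (fun h => hb1 (congrArg Subtype.val h))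
  exact congrArg Subtype.val h

theorem isCyclic_of_le_cyclic {R Q : Subgroup X} (hRc : IsCyclic R) (hQR : Q ≤ R) : IsCyclic Q := by
  have : IsCyclic (Q.subgroupOf R) := inferInstance
  exact isCyclic_of_surjective (Subgroup.subgroupOfEquivOfLe hQR).toMonoidHom
    (Subgroup.subgroupOfEquivOfLe hQR).surjective

/-- The key lemma for dihedral-like `2`-groups `S` (cyclic `R` of index two all of whose
non-members in `S` are involutions): if normalizers of Klein four-subgroups of `S` are
`C(U)(S ∩ N(U))`, then odd-order elements normalizing a subgroup of `S` centralize it. -/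
theorem mem_centralizer_of_dihedralLike [Finite X] {S R : Subgroup X} (hRS : R ≤ S)
    (hS : IsPGroup 2 S) (hRc : IsCyclic R)
    (hmul : ∀ a ∈ S, ∀ b ∈ S, a ∉ R → b ∉ R → a * b⁻¹ ∈ R)
    (hrefl : ∀ a ∈ S, a ∉ R → a * a = 1)
    (hK : ∀ U : Subgroup X, U ≤ S → IsKleinFour U →
      Subgroup.normalizer (U : Set X) =
        Subgroup.centralizer (U : Set X) ⊔ (S ⊓ Subgroup.normalizer (U : Set X)))
    (Q : Subgroup X) (hQS : Q ≤ S) (g : X) (hg : g ∈ Subgroup.normalizer (Q : Set X))
    (hodd : Nat.Coprime (orderOf g) 2) : g ∈ Subgroup.centralizer (Q : Set X) := by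
  classical
  have hgQ : ∀ x, x ∈ Q → g * x * g⁻¹ ∈ Q := fun x hx => (Subgroup.mem_normalizer_iff.mp hg x).mp hx
  by_cases hQR : Q ≤ R
  · exact mem_centralizer_of_cyclic_two Q (isCyclic_of_le_cyclic hRc hQR) (hS.to_le hQS) g hg hodd
  obtain ⟨s, hsQ, hsR⟩ := SetLike.not_le_iff_exists.mp hQR
  have hsS : s ∈ S := hQS hsQ
  -- decomposition of `Q`
  have hdec : ∀ q ∈ Q, q ∉ R → q * s⁻¹ ∈ Q ⊓ R := fun q hq hqR =>
    ⟨Q.mul_mem hq (Q.inv_mem hsQ), hmul q (hQS hq) s hsS hqR hsR⟩
  by_cases hsq : ∃ c ∈ Q ⊓ R, c * c ≠ 1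
  · -- dihedral case
    obtain ⟨c, ⟨hcQ, hcR⟩, hcc⟩ := hsq
    have hconjsq : ∀ x : X, g * x * g⁻¹ * (g * x * g⁻¹) = g * (x * x) * g⁻¹ := fun x => by group
    have hd : g * c * g⁻¹ ∈ R := by
      by_contra hdR
      have := hrefl _ (hQS (hgQ c hcQ)) hdR
      rw [hconjsq] at this
      apply hcc
      have h2 : c * c = g⁻¹ * (g * (c * c) * g⁻¹) * g := by group
      rw [h2, this]; group
    have hnorm0 : ∀ x ∈ Q ⊓ R, g * x * g⁻¹ ∈ Q ⊓ R := by
      rintro x ⟨hxQ, hxR⟩
      refine ⟨hgQ x hxQ, ?_⟩
      by_contra hyR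
      have hy2 := hrefl _ (hQS (hgQ x hxQ)) hyR
      have hyd : g * x * g⁻¹ * (g * c * g⁻¹) ∉ R := by
        intro h
        apply hyR
        have : g * x * g⁻¹ = (g * x * g⁻¹ * (g * c * g⁻¹)) * (g * c * g⁻¹)⁻¹ := by group
        rw [this]
        exact R.mul_mem h (R.inv_mem hd)
      have hyd2 := hrefl _ (S.mul_mem (hQS (hgQ x hxQ)) (hQS (hgQ c hcQ))) hyd
      have e1 : g * x * g⁻¹ * (g * c * g⁻¹) = g * (x * c) * g⁻¹ := by group
      rw [e1, hconjsq] at hyd2
      have hxc : (x * c) * (x * c) = 1 := by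
        have h2 : (x * c) * (x * c) = g⁻¹ * (g * ((x * c) * (x * c)) * g⁻¹) * g := by group
        rw [h2, hyd2]; group
      rw [hconjsq] at hy2
      have hxx : x * x = 1 := by
        have h2 : x * x = g⁻¹ * (g * (x * x) * g⁻¹) * g := by group
        rw [h2, hy2]; group
      apply hcc
      have hcomm := comm_of_mem_cyclic hRc hcR hxR
      calc c * c = (x * x) * (c * c) := by rw [hxx, one_mul]
        _ = x * (x * c) * c := by group
        _ = x * (c * x) * c := by rw [hcomm]
        _ = (x * c) * (x * c) := by group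
        _ = 1 := hxc
    have hgN0 : g ∈ Subgroup.normalizer ((Q ⊓ R : Subgroup X) : Set X) := by
      apply mem_normalizer_of_map_conj_le_finite
      rintro _ ⟨x, hx, rfl⟩
      exact hnorm0 x hx
    have hgC0 := mem_centralizer_of_cyclic_two (Q ⊓ R) (isCyclic_of_le_cyclic hRc inf_le_right)
      (hS.to_le (inf_le_left.trans hQS)) g hgN0 hodd
    have hcomm0 : ∀ x ∈ Q ⊓ R, g * x = x * g := fun x hx =>
      ((Subgroup.mem_centralizer_iff.mp hgC0) x hx).symm
    -- `g` centralizes `s`
    have htR : g * s * g⁻¹ ∉ R := by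
      intro h
      apply hsR
      have hginv : g⁻¹ ∈ Subgroup.normalizer ((Q ⊓ R : Subgroup X) : Set X) :=
        Subgroup.inv_mem _ hgN0
      have := (Subgroup.mem_normalizer_iff.mp hginv (g * s * g⁻¹)).mp ⟨hgQ s hsQ, h⟩
      have e : g⁻¹ * (g * s * g⁻¹) * g⁻¹⁻¹ = s := by group
      rw [e] at this
      exact this.2
    have hc' := hdec _ (hgQ s hsQ) htR
    have hconj : g * s * g⁻¹ = (g * s * g⁻¹ * s⁻¹) * s := by group
    have hpow := conj_pow_of_conj_eq_mul hconj (hcomm0 _ hc') (orderOf g)
    rw [pow_orderOf_eq_one, one_mul, inv_one, mul_one] at hpow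
    have hck : (g * s * g⁻¹ * s⁻¹) ^ orderOf g = 1 := by
      have : (g * s * g⁻¹ * s⁻¹) ^ orderOf g * s = 1 * s := by rw [← hpow, one_mul]
      exact mul_right_cancel this
    have hc1 := eq_one_of_pow_odd_of_isPGroup hS (hQS hc'.1) hodd hck
    have hgs : g * s = s * g := by
      have : g * s * g⁻¹ = s := by
        have e : g * s * g⁻¹ = (g * s * g⁻¹ * s⁻¹) * s := by group
        rw [e, hc1, one_mul]
      calc g * s = (g * s * g⁻¹) * g := by group
        _ = s * g := by rw [this]
    rw [Subgroup.mem_centralizer_iff]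
    intro q hq
    by_cases hqR : q ∈ R
    · exact (hcomm0 q ⟨hq, hqR⟩).symm
    · have h1 := hcomm0 _ (hdec q hq hqR)
      have e : q = (q * s⁻¹) * s := by group
      rw [e]
      calc (q * s⁻¹) * s * g = (q * s⁻¹) * (s * g) := by group
        _ = (q * s⁻¹) * (g * s) := by rw [hgs]
        _ = ((q * s⁻¹) * g) * s := by group
        _ = (g * (q * s⁻¹)) * s := by rw [h1]
        _ = g * ((q * s⁻¹) * s) := by group
  · -- elementary abelian case
    push Not at hsq
    have hQ2 : ∀ q ∈ Q, q * q = 1 := by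
      intro q hq
      by_cases hqR : q ∈ R
      · exact hsq q ⟨hq, hqR⟩
      · exact hrefl q (hQS hq) hqR
    have hs1 : s ≠ 1 := by
      rintro rfl
      exact hsR R.one_mem
    by_cases hbot : Q ⊓ R = ⊥
    · have hQel : ∀ q ∈ Q, q = 1 ∨ q = s := by
        intro q hq
        by_cases hqR : q ∈ R
        · left
          have : q ∈ Q ⊓ R := ⟨hq, hqR⟩
          rw [hbot] at this
          exact Subgroup.mem_bot.mp this
        · right
          have := hdec q hq hqR
          rw [hbot, Subgroup.mem_bot] at this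
          exact mul_inv_eq_one.mp this
      rw [Subgroup.mem_centralizer_iff]
      intro q hq
      rcases hQel q hq with rfl | rfl
      · simp
      · rcases hQel _ (hgQ q hq) with h | h
        · exfalso
          apply hs1
          have e : q = g⁻¹ * (g * q * g⁻¹) * g := by group
          rw [e, h]; group
        · calc q * g = (g * q * g⁻¹) * g := by rw [h]
            _ = g * q := by group
    · obtain ⟨z, hz, hz1⟩ : ∃ z ∈ Q ⊓ R, z ≠ 1 := by
        by_contra h
        push Not at h
        apply hbot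
        rw [eq_bot_iff]
        intro x hx
        exact Subgroup.mem_bot.mpr (h x hx)
      have hzs : z * s ∉ R := by
        intro h
        apply hsR
        have e : s = z⁻¹ * (z * s) := by group
        rw [e]
        exact R.mul_mem (R.inv_mem hz.2) h
      have hQel : ∀ q ∈ Q, q = 1 ∨ q = z ∨ q = s ∨ q = z * s := by
        intro q hq
        have key : ∀ x ∈ Q ⊓ R, x = 1 ∨ x = z := by
          intro x hx
          by_cases hx1 : x = 1
          · exact Or.inl hx1
          · right
            exact involution_unique_of_cyclic hRc hx.2 hz.2 (hsq x hx) (hsq z hz) hx1 hz1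
        by_cases hqR : q ∈ R
        · rcases key q ⟨hq, hqR⟩ with h | h
          · exact Or.inl h
          · exact Or.inr (Or.inl h)
        · rcases key _ (hdec q hq hqR) with h | h
          · right; right; left
            exact mul_inv_eq_one.mp h
          · right; right; right
            rw [← h]; group
      have hK4 : IsKleinFour Q := by
        constructor
        · have hset : (Q : Set X) = ↑({1, z, s, z * s} : Finset X) := by
            ext q
            simp only [SetLike.mem_coe, Finset.coe_insert, Finset.coe_singleton,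
              Set.mem_insert_iff, Set.mem_singleton_iff]
            constructor
            · exact hQel q
            · rintro (rfl | rfl | rfl | rfl)
              · exact Q.one_mem
              · exact hz.1
              · exact hsQ
              · exact Q.mul_mem hz.1 hsQ
          have h1 : Nat.card Q = (Q : Set X).ncard := Nat.card_coe_set_eq _
          rw [h1, hset, Set.ncard_coe_finset]
          have d1 : (1 : X) ∉ ({z, s, z * s} : Finset X) := by
            simp only [Finset.mem_insert, Finset.mem_singleton, not_or]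
            refine ⟨fun h => hz1 h.symm, fun h => hs1 h.symm, fun h => ?_⟩
            exact hzs (h ▸ R.one_mem)
          have d2 : z ∉ ({s, z * s} : Finset X) := by
            simp only [Finset.mem_insert, Finset.mem_singleton, not_or]
            refine ⟨fun h => hsR (h ▸ hz.2), fun h => ?_⟩
            exact hzs (h ▸ hz.2)
          have d3 : s ≠ z * s := by
            intro h
            apply hz1
            have : 1 * s = z * s := by rw [one_mul]; exact h
            exact (mul_right_cancel this).symm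
          rw [Finset.card_insert_of_notMem d1, Finset.card_insert_of_notMem d2,
            Finset.card_pair d3]
        · have hdvd : Monoid.exponent Q ∣ 2 := by
            apply Monoid.exponent_dvd_of_forall_pow_eq_one
            intro q
            apply Subtype.ext
            simp only [Subgroup.coe_pow, Subgroup.coe_one, pow_two]
            exact hQ2 q q.2
          have hne : Monoid.exponent Q ≠ 1 := by
            intro h
            rw [Monoid.exp_eq_one_iff] at h
            apply hz1
            have := h.elim (⟨z, hz.1⟩ : Q) 1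
            exact congrArg Subtype.val this
          exact ((Nat.dvd_prime Nat.prime_two).mp hdvd).resolve_left hne
      exact mem_centralizer_of_normalizer_eq_sup Q (S ⊓ Subgroup.normalizer (Q : Set X))
        (hS.to_le inf_le_left) inf_le_right (hK Q hQS hK4) g hg hodd


/-- With a normal complement `K` of `S`, normalizers of subgroups of `S` factorize. -/
theorem normalizer_eq_sup_of_normal_complement [Finite X] {S K : Subgroup X} (hKn : K.Normal)
    (hc : K.IsComplement' S) (U : Subgroup X) (hU : U ≤ S) :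
    Subgroup.normalizer (U : Set X) =
      Subgroup.centralizer (U : Set X) ⊔ (S ⊓ Subgroup.normalizer (U : Set X)) := by
  apply le_antisymm
  · intro g hg
    obtain ⟨⟨⟨k, hk⟩, ⟨s, hs⟩⟩, hks, -⟩ := (Subgroup.isComplement'_def.mp hc).existsUnique g
    simp only at hks
    have hdisj : K ⊓ S = ⊥ := disjoint_iff.mp hc.disjoint
    have hgU : ∀ x, x ∈ U → g * x * g⁻¹ ∈ U :=
      fun x hx => (Subgroup.mem_normalizer_iff.mp hg x).mp hx
    have hkey : ∀ u ∈ U, k * (s * u * s⁻¹) = (s * u * s⁻¹) * k := by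
      intro u hu
      have hv : s * u * s⁻¹ ∈ S := S.mul_mem (S.mul_mem hs (hU hu)) (S.inv_mem hs)
      have e1 : k * (s * u * s⁻¹) * k⁻¹ = g * u * g⁻¹ := by rw [← hks]; group
      have hw : k * (s * u * s⁻¹) * k⁻¹ * (s * u * s⁻¹)⁻¹ ∈ K ⊓ S := by
        constructor
        · have : k * (s * u * s⁻¹) * k⁻¹ * (s * u * s⁻¹)⁻¹ =
              k * ((s * u * s⁻¹) * k⁻¹ * (s * u * s⁻¹)⁻¹) := by group
          rw [this]
          exact K.mul_mem hk (hKn.conj_mem _ (K.inv_mem hk) _)
        · rw [e1]
          exact S.mul_mem (hU (hgU u hu)) (S.inv_mem hv)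
      rw [hdisj, Subgroup.mem_bot] at hw
      have : k * (s * u * s⁻¹) * k⁻¹ = s * u * s⁻¹ := mul_inv_eq_one.mp hw
      calc k * (s * u * s⁻¹) = (k * (s * u * s⁻¹) * k⁻¹) * k := by group
        _ = (s * u * s⁻¹) * k := by rw [this]
    have hsconj : ∀ u ∈ U, s * u * s⁻¹ = g * u * g⁻¹ := by
      intro u hu
      have := hkey u hu
      calc s * u * s⁻¹ = (s * u * s⁻¹) * k * k⁻¹ := by group
        _ = k * (s * u * s⁻¹) * k⁻¹ := by rw [← this]
        _ = g * u * g⁻¹ := by rw [← hks]; group
    have hsN : s ∈ Subgroup.normalizer (U : Set X) := by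
      apply mem_normalizer_of_map_conj_le_finite
      rintro _ ⟨u, hu, rfl⟩
      show s * u * s⁻¹ ∈ U
      rw [hsconj u hu]
      exact hgU u hu
    have hkC : k ∈ Subgroup.centralizer (U : Set X) := by
      rw [Subgroup.mem_centralizer_iff]
      intro u' hu'
      have hsinv : s⁻¹ ∈ Subgroup.normalizer (U : Set X) := Subgroup.inv_mem _ hsN
      have hu : s⁻¹ * u' * s⁻¹⁻¹ ∈ U := (Subgroup.mem_normalizer_iff.mp hsinv u').mp hu'
      have := hkey _ hu
      have e : s * (s⁻¹ * u' * s⁻¹⁻¹) * s⁻¹ = u' := by group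
      rw [e] at this
      exact this.symm
    rw [← hks]
    exact Subgroup.mul_mem_sup hkC ⟨hs, hsN⟩
  · exact sup_le (Subgroup.centralizer_le_normalizer _) inf_le_right


theorem mul_inv_eq_one_of_ne_one_zmod_two :
    ∀ x y : Multiplicative (ZMod 2), x ≠ 1 → y ≠ 1 → x * y⁻¹ = 1 := by decide

open DihedralGroup in
/-- A finite group with dihedral Sylow `2`-subgroup `S` has a normal `2`-complement iff
`N(U) = C(U) (S ∩ N(U))` for every Klein four-subgroup `U` of `S`. -/
theorem hasNormalPComplement_iff_of_dihedral [Finite X] (S : Sylow 2 X) (m : ℕ) (hm : 2 ≤ m)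
    (eS : (S : Subgroup X) ≃* DihedralGroup m) :
    Cfsg.HasNormalPComplement 2 X ↔ ∀ U : Subgroup X, U ≤ S → IsKleinFour U →
      Subgroup.normalizer (U : Set X) =
        Subgroup.centralizer (U : Set X) ⊔ ((S : Subgroup X) ⊓ Subgroup.normalizer (U : Set X)) := by
  have : Fact (Nat.Prime 2) := ⟨Nat.prime_two⟩
  have : NeZero m := ⟨by omega⟩
  rw [Cfsg.Agent.Lib.Helper03.hasNormalPComplement_iff S]
  constructor
  · rintro ⟨N, hN, hc⟩ U hU _
    exact normalizer_eq_sup_of_normal_complement hN hc U hU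
  · intro hK
    rw [Cfsg.Agent.S0071.result S]
    intro Q hQ g hg hodd
    set σ : (S : Subgroup X) →* Multiplicative (ZMod 2) :=
      (dihedralSign m).comp eS.toMonoidHom with hσ
    set R : Subgroup X := σ.ker.map (S : Subgroup X).subtype with hR
    have hmemR : ∀ (a : X) (ha : a ∈ (S : Subgroup X)), a ∈ R ↔ σ ⟨a, ha⟩ = 1 := by
      intro a ha
      constructor
      · rintro ⟨y, hy, hya⟩
        have : y = ⟨a, ha⟩ := Subtype.ext hya
        rw [← this]
        exact hy
      · intro h
        exact ⟨⟨a, ha⟩, h, rfl⟩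
    have hRS : R ≤ (S : Subgroup X) := Subgroup.map_subtype_le _
    have hRc : IsCyclic R := by
      have hρ : ((eS.symm (r 1) : (S : Subgroup X)) : X) ∈ R := by
        rw [hmemR _ (eS.symm (r 1)).2]
        show dihedralSign m (eS (eS.symm (r 1))) = 1
        rw [MulEquiv.apply_symm_apply]
        rfl
      refine ⟨⟨⟨_, hρ⟩, ?_⟩⟩
      rintro ⟨x, hx⟩
      obtain ⟨y, hy, rfl⟩ := hx
      have hy' : dihedralSign m (eS y) = 1 := hy
      obtain ⟨i, hi⟩ := (dihedralSign_eq_one_iff m _).mp hy'
      refine ⟨(i.val : ℤ), ?_⟩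
      apply Subtype.ext
      simp only [zpow_natCast, Subgroup.coe_pow]
      have : y = (eS.symm (r 1)) ^ i.val := by
        apply eS.injective
        rw [map_pow, MulEquiv.apply_symm_apply, hi, r_one_pow, ZMod.natCast_zmod_val]
      rw [this]
      rfl
    have hZ2 := mul_inv_eq_one_of_ne_one_zmod_two
    have hmul : ∀ a ∈ (S : Subgroup X), ∀ b ∈ (S : Subgroup X), a ∉ R → b ∉ R → a * b⁻¹ ∈ R := by
      intro a ha b hb haR hbR
      rw [hmemR a ha] at haR
      rw [hmemR b hb] at hbR
      rw [hmemR _ ((S : Subgroup X).mul_mem ha ((S : Subgroup X).inv_mem hb))]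
      have := hZ2 _ _ haR hbR
      rw [← map_inv, ← map_mul] at this
      exact this
    have hrefl : ∀ a ∈ (S : Subgroup X), a ∉ R → a * a = 1 := by
      intro a ha haR
      rw [hmemR a ha] at haR
      have haR' : dihedralSign m (eS ⟨a, ha⟩) ≠ 1 := haR
      have hsr : ∃ i, eS ⟨a, ha⟩ = sr i := by
        rcases h : eS ⟨a, ha⟩ with i | i
        · rw [h] at haR'
          exact absurd (dihedralSign_r m i) haR'
        · exact ⟨i, rfl⟩
      obtain ⟨i, hi⟩ := hsr
      have h1 : eS (⟨a, ha⟩ * ⟨a, ha⟩) = 1 := by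
        rw [map_mul, hi, sr_mul_self]
      have h2 : (⟨a, ha⟩ * ⟨a, ha⟩ : (S : Subgroup X)) = 1 := by
        apply eS.injective
        rw [h1, map_one]
      exact congrArg Subtype.val h2
    exact mem_centralizer_of_dihedralLike hRS S.isPGroup' hRc hmul hrefl hK Q hQ g hg hodd

end Cfsg.Agent.Lib.Helper52
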