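import Mathlib
import Cfsg.Agent.Lib.Helper52.FFE
import Cfsg.Agent.Lib.Helper14.Timmesfeld

/-!
# Abelian offenders in the setting of KS §9.3

`|A| * |C_V(A)| ≤ |V|` for every abelian subgroup `A ≤ H` (via Timmesfeld replacement).
-/

set_option autoImplicit false
set_option linter.unusedSectionVars false
set_option linter.style.haveILetI false

namespace Cfsg.Agent.Lib.Helper52

open Subgroup
open scoped commutatorElement
open Cfsg.Agent.Lib.Helper14 (offF timmesfeld_main)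

section FFAbelian

variable {G : Type*} [Group G] [Finite G] {p : ℕ} [hp : Fact p.Prime]
variable {V H : Subgroup G}

omit [Finite G] hp in
/-- quadratic action on a group of exponent `p`: `p`-th powers act trivially -/
theorem pow_mem_centralizer_of_quad {Z : Subgroup G} (hVp : ∀ v ∈ V, v ^ p = 1)
    (hZV : Z ≤ normalizer (V : Set G)) (hq : ⁅V, Z⁆ ≤ centralizer (Z : Set G)) :
    ∀ z ∈ Z, z ^ p ∈ centralizer (V : Set G) := by
  intro z hz
  rw [mem_centralizer_iff]
  intro v hv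
  -- `c = [v, z]` lies in `V` and commutes with `z`
  have hcV : ⁅v, z⁆ ∈ V := commutatorElement_mem_of_mem_normalizer (hZV hz) hv
  have hcz : Commute ⁅v, z⁆ z := by
    have := (mem_centralizer_iff.mp (hq (commutator_mem_commutator hv hz))) z hz
    exact this.symm
  have h1 : v * z * v⁻¹ = ⁅v, z⁆ * z := by rw [commutatorElement_def]; group
  have h2 : v * z ^ p * v⁻¹ = (⁅v, z⁆ * z) ^ p := by
    rw [← h1]; exact (conj_pow (a := v) (b := z) (i := p)).symm
  rw [hcz.mul_pow, hVp _ hcV, one_mul] at h2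
  calc v * z ^ p = (v * z ^ p * v⁻¹) * v := by group
    _ = z ^ p * v := by rw [h2]

variable (h : FFHyp p V H)

include h in
/-- **the inequality for abelian subgroups** -/
theorem ff_abelian_le {A : Subgroup G} (hAH : A ≤ H) (hAc : ∀ x ∈ A, ∀ y ∈ A, x * y = y * x) :
    Nat.card A * Nat.card ↥(V ⊓ centralizer (A : Set G)) ≤ Nat.card V := by
  -- choose `Z ≤ A` maximizing `offF V Z`
  obtain ⟨Z, hZA, hZmax⟩ : ∃ Z : Subgroup G, Z ≤ A ∧ ∀ Z' : Subgroup G, Z' ≤ A →
      offF V Z' ≤ offF V Z := by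
    have hfin : {Z : Subgroup G | Z ≤ A}.Finite := Set.toFinite _
    obtain ⟨Z, hZ, hmax⟩ := Set.exists_max_image {Z : Subgroup G | Z ≤ A} (offF V) hfin ⟨A, (le_rfl : A ≤ A)⟩
    exact ⟨Z, hZ, fun Z' hZ' => hmax Z' hZ'⟩
  have hVc : IsMulCommutative V := h.hV.1
  have hZV : Z ≤ normalizer (V : Set G) := (hZA.trans hAH).trans h.hHV
  have hZab : ⁅Z, Z⁆ ≤ centralizer (V : Set G) := by
    rw [commutator_le]
    intro x hx y hy
    have := hAc x (hZA hx) y (hZA hy)
    rw [← commutatorElement_eq_one_iff_mul_comm] at this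
    rw [this]; exact one_mem _
  obtain ⟨h1, h2⟩ := timmesfeld_main (U := V) hVc hZV hZab (fun Z' hZ' => hZmax Z' (hZ'.trans hZA))
    le_rfl
  obtain ⟨Zs, hZs⟩ : ∃ Zs : Subgroup G,
      Zs = Z ⊓ centralizer ((⁅V, Z⁆ : Subgroup G) : Set G) := ⟨_, rfl⟩
  rw [← hZs] at h1 h2
  have hZsZ : Zs ≤ Z := hZs ▸ inf_le_left
  have hZsH : Zs ≤ H := (hZsZ.trans hZA).trans hAH
  have hquad : ⁅V, Zs⁆ ≤ centralizer (Zs : Set G) := by
    have h3 : ⁅V, Zs⁆ ≤ ⁅V, Z⁆ := commutator_mono le_rfl hZsZ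
    have h4 : Zs ≤ centralizer ((⁅V, Z⁆ : Subgroup G) : Set G) := hZs ▸ inf_le_right
    exact h3.trans (le_centralizer_iff.mp h4)
  have hacts : FFActs p V (ffK p H) Zs := by
    refine ff_acts h.hHV h.hf h.hS1 hZsH ?_ ?_
    · exact (commutator_mono hZsZ hZsZ).trans hZab
    · exact pow_mem_centralizer_of_quad h.hV.2 (hZsH.trans h.hHV) hquad
  have h5 := ff_card_le h.setup _ Zs rfl hacts
  have h6 : offF V A ≤ offF V Z := hZmax A le_rfl
  unfold offF at h1 h6
  omega

end FFAbelian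

end Cfsg.Agent.Lib.Helper52
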