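import Mathlib
import Cfsg.Agent.Lib.Helper52.FFAbelian
import Cfsg.Agent.Lib.Helper52.FFPair2
import Cfsg.Agent.Lib.Helper31.SemiPQ
import Cfsg.Agent.Lib.Helper32.Supplement
import Cfsg.Agent.Lib.Helper89.GL2Essential

/-!
# Tight abelian subgroups are elementary abelian (KS §9.3 setting)
-/

set_option autoImplicit false
set_option linter.unusedSectionVars false
set_option linter.style.haveILetI false

namespace Cfsg.Agent.Lib.Helper52

open Subgroup Matrix
open scoped commutatorElement
open Cfsg.Agent.Lib.Helper14 (offF timmesfeld_main)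
open Cfsg.Agent.Lib.Helper55 (cj mem_cj conj_mem_cj cj_one cj_mul cj_inv_cj cj_cj_inv cj_mono
  cj_eq_self_iff cj_inf cj_centralizer card_cj isPGroup_cj)

section Tools

variable {G : Type*} [Group G]

/-- fixed points in an internal direct product of two invariant subgroups -/
theorem fix_prod {V W V₀ X : Subgroup G} (hW : W ≤ V) (hV₀ : V₀ ≤ V)
    (hVc : ∀ x ∈ V, ∀ y ∈ V, x * y = y * x)
    (hinf : W ⊓ V₀ = ⊥) (hsup : W ⊔ V₀ = V)
    (hXW : X ≤ normalizer (W : Set G)) (hXV₀ : X ≤ normalizer (V₀ : Set G)) :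
    Nat.card ↥(V ⊓ centralizer (X : Set G)) =
      Nat.card ↥(W ⊓ centralizer (X : Set G)) * Nat.card ↥(V₀ ⊓ centralizer (X : Set G)) := by
  have hcomm : ∀ h ∈ W ⊓ centralizer (X : Set G), ∀ k ∈ V₀ ⊓ centralizer (X : Set G),
      h * k = k * h := fun h hh k hk => hVc h (hW hh.1) k (hV₀ hk.1)
  have hd : (W ⊓ centralizer (X : Set G)) ⊓ (V₀ ⊓ centralizer (X : Set G)) = ⊥ := by
    rw [eq_bot_iff, ← hinf]
    exact inf_le_inf inf_le_left inf_le_left
  have hn : W ⊓ centralizer (X : Set G) ≤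
      normalizer ((V₀ ⊓ centralizer (X : Set G) : Subgroup G) : Set G) := by
    refine le_trans ?_ (centralizer_le_normalizer _)
    intro h hh
    rw [mem_centralizer_iff]
    intro k hk
    exact (hcomm h hh k hk).symm
  have hd' : (V₀ ⊓ centralizer (X : Set G)) ⊓ (W ⊓ centralizer (X : Set G)) = ⊥ := by
    rw [inf_comm]; exact hd
  have hcard := Cfsg.Agent.Lib.Helper32.card_sup_of_le_normalizer _ _ hn hd'
  rw [mul_comm, ← hcard]
  congr 2
  apply le_antisymm
  · intro v hv
    have hvV : v ∈ W ⊔ V₀ := hsup ▸ hv.1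
    have hWn : W ≤ normalizer (V₀ : Set G) := by
      intro w hw
      rw [mem_normalizer_iff]
      intro y
      constructor
      · intro hy
        have : w * y * w⁻¹ = y := by
          rw [hVc w (hW hw) y (hV₀ hy)]; group
        rw [this]; exact hy
      · intro hy
        have hyV : w * y * w⁻¹ ∈ V := hV₀ hy
        have hy' : y ∈ V := by
          have : y = w⁻¹ * (w * y * w⁻¹) * w := by group
          rw [this]
          exact V.mul_mem (V.mul_mem (V.inv_mem (hW hw)) hyV) (hW hw)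
        have : w * y * w⁻¹ = y := by
          rw [hVc w (hW hw) y hy']; group
        rw [← this]; exact hy
    obtain ⟨w, hw, v₀, hv₀, rfl⟩ := Cfsg.Agent.Lib.Helper01.exists_mul_of_mem_sup hWn hvV
    have key : ∀ x ∈ X, x * w * x⁻¹ = w ∧ x * v₀ * x⁻¹ = v₀ := by
      intro x hx
      have h1 : (w * v₀) * x = x * (w * v₀) := (mem_centralizer_iff.mp hv.2) x hx |>.symm
      have ha : x * w * x⁻¹ ∈ W := (mem_normalizer_iff.mp (hXW hx) w).mp hw
      have hb : x * v₀ * x⁻¹ ∈ V₀ := (mem_normalizer_iff.mp (hXV₀ hx) v₀).mp hv₀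
      have h2 : (x * w * x⁻¹) * (x * v₀ * x⁻¹) = w * v₀ := by
        calc (x * w * x⁻¹) * (x * v₀ * x⁻¹) = x * (w * v₀) * x⁻¹ := by group
          _ = (w * v₀) * x * x⁻¹ := by rw [h1]
          _ = w * v₀ := by group
      have h3 : w⁻¹ * (x * w * x⁻¹) = v₀ * (x * v₀ * x⁻¹)⁻¹ := by
        calc w⁻¹ * (x * w * x⁻¹) = w⁻¹ * ((x * w * x⁻¹) * (x * v₀ * x⁻¹)) * (x * v₀ * x⁻¹)⁻¹ := by
              group
          _ = w⁻¹ * (w * v₀) * (x * v₀ * x⁻¹)⁻¹ := by rw [h2]
          _ = v₀ * (x * v₀ * x⁻¹)⁻¹ := by group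
      have h4 : w⁻¹ * (x * w * x⁻¹) ∈ W ⊓ V₀ :=
        ⟨W.mul_mem (W.inv_mem hw) ha, h3 ▸ V₀.mul_mem hv₀ (V₀.inv_mem hb)⟩
      rw [hinf, mem_bot] at h4
      have h5 : x * w * x⁻¹ = w := by
        calc x * w * x⁻¹ = w * (w⁻¹ * (x * w * x⁻¹)) := by group
          _ = w := by rw [h4, mul_one]
      refine ⟨h5, ?_⟩
      rw [h5] at h2
      exact mul_left_cancel h2
    refine Subgroup.mul_mem_sup (Subgroup.mem_inf.mpr ⟨hw, ?_⟩) (Subgroup.mem_inf.mpr ⟨hv₀, ?_⟩)
    · rw [mem_centralizer_iff]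
      intro x hx
      have := (key x hx).1
      calc x * w = (x * w * x⁻¹) * x := by group
        _ = w * x := by rw [this]
    · rw [mem_centralizer_iff]
      intro x hx
      have := (key x hx).2
      calc x * v₀ = (x * v₀ * x⁻¹) * x := by group
        _ = v₀ * x := by rw [this]
  · exact sup_le (inf_le_inf_right _ hW) (inf_le_inf_right _ hV₀)

/-- `p ^ 2` does not divide the order of `GL₂(p)` -/
theorem not_sq_dvd_card_GL2 (p : ℕ) [hp : Fact p.Prime] :
    ¬ p ^ 2 ∣ Nat.card (GL (Fin 2) (ZMod p)) := by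
  rw [Matrix.card_GL_field, Fin.prod_univ_two, ZMod.card]
  simp only [Fin.val_zero, Fin.val_one, pow_zero, pow_one]
  have hp1 := hp.out.one_lt
  have h1 : p ^ 2 - p = p * (p - 1) := by
    rw [Nat.mul_sub, mul_one, pow_two]
  rw [h1, mul_comm (p ^ 2 - 1), mul_assoc, pow_two]
  intro hdvd
  have h2 : p ∣ (p - 1) * (p * p - 1) := (Nat.mul_dvd_mul_iff_left hp.out.pos).mp hdvd
  rcases (Nat.Prime.dvd_mul hp.out).mp h2 with h3 | h3
  · have := Nat.le_of_dvd (by omega) h3
    omega
  · have h4 : p ∣ p * p := dvd_mul_right p p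
    have h5 : p ∣ p * p - (p * p - 1) := Nat.dvd_sub h4 h3
    have h6 : p * p - (p * p - 1) = 1 := by
      have : 1 ≤ p * p := Nat.mul_pos hp.out.pos hp.out.pos
      omega
    rw [h6] at h5
    exact hp.out.one_lt.ne' (Nat.dvd_one.mp h5)

end Tools

section Tight

variable {G : Type*} [Group G] [Finite G] {p : ℕ} [hp : Fact p.Prime]
variable {V H : Subgroup G}

omit [Finite G] hp in
theorem conjAutOn_ker (L W : Subgroup G) (hLW : L ≤ normalizer (W : Set G)) :
    (conjAutOn L W hLW).ker = (centralizer (W : Set G)).subgroupOf L := by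
  ext g
  rw [MonoidHom.mem_ker, mem_subgroupOf, mem_centralizer_iff]
  constructor
  · intro hg w hw
    have h1 : (g : G) * w * (g : G)⁻¹ = w := by
      rw [← conjAutOn_coe L W hLW g ⟨w, hw⟩, hg]; rfl
    calc w * (g : G) = ((g : G) * w * (g : G)⁻¹) * g := by rw [h1]
      _ = g * w := by simp [mul_assoc]
  · intro hg
    ext w
    rw [conjAutOn_coe]
    have := hg w w.2
    show (g : G) * w * (g : G)⁻¹ = w
    calc (g : G) * w * (g : G)⁻¹ = ((w : G) * g) * (g : G)⁻¹ := by rw [this]
      _ = w := by group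

variable (h : FFHyp p V H)

include h in
/-- a nontrivial tight abelian `p`-subgroup contains a minimal offender -/
theorem exists_ffmin_le_of_tight {A : Subgroup G} (hAH : A ≤ H)
    (hAc : ∀ x ∈ A, ∀ y ∈ A, x * y = y * x) (hAp : IsPGroup p A) (hA1 : A ≠ ⊥)
    (htight : Nat.card A * Nat.card ↥(V ⊓ centralizer (A : Set G)) = Nat.card V) :
    ∃ B : Subgroup G, B ≤ A ∧ FFMin p V H B := by
  have hVc : IsMulCommutative V := h.hV.1
  have hAV : A ≤ normalizer (V : Set G) := hAH.trans h.hHV
  have hAab : ⁅A, A⁆ ≤ centralizer (V : Set G) := by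
    rw [commutator_le]
    intro x hx y hy
    have := hAc x hx y hy
    rw [← commutatorElement_eq_one_iff_mul_comm] at this
    rw [this]; exact one_mem _
  have hbest : ∀ Z : Subgroup G, Z ≤ A → offF V Z ≤ offF V A := by
    intro Z hZ
    have h1 := ff_abelian_le h (hZ.trans hAH) (fun x hx y hy => hAc x (hZ hx) y (hZ hy))
    unfold offF
    rw [htight]; exact h1
  obtain ⟨h1, h2⟩ := timmesfeld_main (U := V) hVc hAV hAab hbest le_rfl
  obtain ⟨As, hAs⟩ : ∃ As : Subgroup G,
      As = A ⊓ centralizer ((⁅V, A⁆ : Subgroup G) : Set G) := ⟨_, rfl⟩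
  rw [← hAs] at h1 h2
  have hAsA : As ≤ A := hAs ▸ inf_le_left
  have hAsH : As ≤ H := hAsA.trans hAH
  -- `As ≠ ⊥`
  have hAs1 : As ≠ ⊥ := by
    intro hbot
    rw [hbot] at h2
    have hVtop : V ⊓ centralizer (((⊥ : Subgroup G) : Subgroup G) : Set G) = V := by
      refine inf_eq_left.mpr ?_
      intro v _
      rw [mem_centralizer_iff]
      intro x hx
      rw [Subgroup.coe_bot, Set.mem_singleton_iff] at hx
      subst hx
      simp
    rw [hVtop] at h2
    -- `R = [V, A]`
    obtain ⟨R, hR⟩ : ∃ R : Subgroup G, R = ⁅V, A⁆ := ⟨_, rfl⟩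
    rw [← hR] at h2
    have hRV : R ≤ V := by
      rw [hR, commutator_le]
      intro v hv a ha
      exact commutatorElement_mem_of_mem_normalizer (hAV ha) hv
    have hAR : A ≤ normalizer (R : Set G) := hR ▸ le_normalizer_commutator hAV
    have hRle : R ≤ ⁅R, A⁆ := by
      conv_lhs => rw [hR]
      rw [commutator_le]
      intro v hv a ha
      have hv' : v ∈ R ⊔ (V ⊓ centralizer (A : Set G)) := h2 ▸ hv
      have hn : R ≤ normalizer ((V ⊓ centralizer (A : Set G) : Subgroup G) : Set G) := by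
        refine le_trans ?_ (centralizer_le_normalizer _)
        intro r hr
        rw [mem_centralizer_iff]
        intro c hc
        exact h.comm c hc.1 r (hRV hr)
      obtain ⟨r, hr, c, hc, rfl⟩ := Cfsg.Agent.Lib.Helper01.exists_mul_of_mem_sup hn hv'
      have hca : c * a = a * c := ((mem_centralizer_iff.mp hc.2) a ha).symm
      have : ⁅r * c, a⁆ = ⁅r, a⁆ := by
        rw [commutatorElement_def, commutatorElement_def]
        calc r * c * a * (r * c)⁻¹ * a⁻¹ = r * (c * a) * c⁻¹ * r⁻¹ * a⁻¹ := by group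
          _ = r * (a * c) * c⁻¹ * r⁻¹ * a⁻¹ := by rw [hca]
          _ = r * a * r⁻¹ * a⁻¹ := by group
      rw [this]
      exact commutator_mem_commutator hr ha
    have hRge : ⁅R, A⁆ ≤ R := by
      rw [commutator_le]
      intro r hr a ha
      exact commutatorElement_mem_of_mem_normalizer (hAR ha) hr
    have hReq : ⁅R, A⁆ = R := le_antisymm hRge hRle
    have hRbot : R = ⊥ := by
      by_contra hne
      exact Cfsg.Agent.Lib.Helper31.commutator_ne_self'' p A R hAp (h.isPGroup.to_le hRV) hAR hne hReq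
    rw [hR, commutator_eq_bot_iff_le_centralizer] at hRbot
    have hAC : A ≤ H ⊓ centralizer (V : Set G) := le_inf hAH (le_centralizer_iff.mp hRbot)
    rw [h.hf] at hAC
    exact hA1 (le_bot_iff.mp hAC)
  have hquad : ⁅V, As⁆ ≤ centralizer (As : Set G) := by
    have h3 : ⁅V, As⁆ ≤ ⁅V, A⁆ := commutator_mono le_rfl hAsA
    have h4 : As ≤ centralizer ((⁅V, A⁆ : Subgroup G) : Set G) := hAs ▸ inf_le_right
    exact h3.trans (le_centralizer_iff.mp h4)
  have hacts : FFActs p V (ffK p H) As := by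
    refine ff_acts h.hHV h.hf h.hS1 hAsH ?_ ?_
    · exact (commutator_mono hAsA hAsA).trans hAab
    · exact pow_mem_centralizer_of_quad h.hV.2 (hAsH.trans h.hHV) hquad
  have htightS : Nat.card As * Nat.card ↥(V ⊓ centralizer (As : Set G)) = Nat.card V := by
    unfold offF at h1
    rw [h1, htight]
  obtain ⟨k, B, hk, hB, -, -⟩ := ff_decomp h.setup hacts htightS
  have hk0 : k ≠ 0 := by
    intro h0
    rw [h0, pow_zero] at hk
    exact hAs1 (Subgroup.card_eq_one.mp hk)
  obtain ⟨hB1, hB2, hB3⟩ := hB ⟨0, Nat.pos_of_ne_zero hk0⟩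
  exact ⟨_, hB1.trans hAsA, ⟨hB1.trans hAsH, hB2, hB3⟩⟩

include h in
/-- **tight abelian `p`-subgroups of `H` are elementary abelian** -/
theorem ff_abelian_tight : ∀ (n : ℕ) (A : Subgroup G), Nat.card A = n → A ≤ H →
    (∀ x ∈ A, ∀ y ∈ A, x * y = y * x) → IsPGroup p A →
    Nat.card A * Nat.card ↥(V ⊓ centralizer (A : Set G)) = Nat.card V →
    ∀ a ∈ A, a ^ p = 1 := by
  intro n
  induction n using Nat.strong_induction_on with
  | _ n ih =>
    intro A hn hAH hAc hAp htight
    by_cases hA1 : A = ⊥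
    · intro a ha
      rw [hA1, mem_bot] at ha
      rw [ha, one_pow]
    obtain ⟨B, hBA, hB⟩ := exists_ffmin_le_of_tight h hAH hAc hAp hA1 htight
    obtain ⟨E, hE⟩ : ∃ E : Subgroup G, E = ffE p H B := ⟨_, rfl⟩
    obtain ⟨W, hW⟩ : ∃ W : Subgroup G, W = ⁅V, E⁆ := ⟨_, rfl⟩
    obtain ⟨V₀, hV₀⟩ : ∃ V₀ : Subgroup G, V₀ = V ⊓ centralizer (E : Set G) := ⟨_, rfl⟩
    have hBE : B ≤ E := hE ▸ le_ffE
    have hWV : W ≤ V := by rw [hW, hE]; exact ffE_W_le h hB
    have hV₀V : V₀ ≤ V := hV₀ ▸ inf_le_left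
    have hinf : W ⊓ V₀ = ⊥ := by rw [hW, hV₀, hE]; exact ffE_W_inf h hB
    have hsup : W ⊔ V₀ = V := by rw [hW, hV₀, hE]; exact ffE_W_sup h hB
    have hWcard : Nat.card W = p ^ 2 := by rw [hW, hE]; exact ffE_card_W h hB
    have hV₀card : Nat.card V₀ * p ^ 2 = Nat.card V := by
      rw [hV₀, hE]; exact ffE_card_centralizer h hB
    have hfaith : E ⊓ centralizer (W : Set G) = ⊥ := by rw [hW, hE]; exact ffE_faithful h hB
    -- `A` normalizes everything
    have hAE : ∀ a ∈ A, cj a E = E := by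
      intro a ha
      have haB : cj a B = B := by
        refine cj_eq_self_iff.mpr (centralizer_le_normalizer _ ?_)
        rw [mem_centralizer_iff]
        intro b hb
        exact hAc b (hBA hb) a ha
      have haK : cj a (ffK p H) = ffK p H := cj_eq_self_iff.mpr (ffK_normal H (hAH ha))
      rw [hE]
      unfold ffE
      rw [cj_sup, cj_commutator, haB, haK]
    have hAVn : ∀ a ∈ A, cj a V = V := fun a ha => cj_eq_self_iff.mpr (h.hHV (hAH ha))
    have hAW : A ≤ normalizer (W : Set G) := by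
      intro a ha
      rw [← cj_eq_self_iff, hW, cj_commutator, hAVn a ha, hAE a ha]
    have hAV₀ : A ≤ normalizer (V₀ : Set G) := by
      intro a ha
      rw [← cj_eq_self_iff, hV₀, cj_inf, cj_centralizer, hAVn a ha, hAE a ha]
    obtain ⟨D, hD⟩ : ∃ D : Subgroup G, D = A ⊓ centralizer (W : Set G) := ⟨_, rfl⟩
    have hDA : D ≤ A := hD ▸ inf_le_left
    have hDW : D ≤ centralizer (W : Set G) := hD ▸ inf_le_right
    have hBD : D ⊓ B = ⊥ := by
      rw [eq_bot_iff, ← hfaith]
      exact le_inf (inf_le_right.trans hBE) (inf_le_left.trans hDW)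
    -- the index of `D` in `A` is at most `p`
    have hidx : D.relIndex A ∣ p := by
      have hker := conjAutOn_ker A W hAW
      have h1 : D.relIndex A = Nat.card (conjAutOn A W hAW).range := by
        rw [← Subgroup.index_ker, hker]
        unfold Subgroup.relIndex
        congr 1
        rw [hD, inf_comm]
        exact (Subgroup.inf_subgroupOf_right _ _)
      have hcomm : ∀ a b : W, a * b = b * a := fun a b =>
        Subtype.ext (h.comm a (hWV a.2) b (hWV b.2))
      have hexp : ∀ a : W, a ^ p = 1 := fun a => Subtype.ext (h.hV.2 a (hWV a.2))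
      obtain ⟨e⟩ := Cfsg.Agent.Lib.Helper89.exists_mulAut_equiv_GL hcomm hexp hWcard
      have hfin : Finite (MulAut W) := Finite.of_equiv _ e.symm.toEquiv
      have h2 : Nat.card (conjAutOn A W hAW).range ∣ Nat.card (GL (Fin 2) (ZMod p)) := by
        rw [← Nat.card_congr e.toEquiv]
        exact Subgroup.card_subgroup_dvd_card _
      have h3 : IsPGroup p (conjAutOn A W hAW).range :=
        IsPGroup.of_surjective hAp (conjAutOn A W hAW).rangeRestrict
          (conjAutOn A W hAW).rangeRestrict_surjective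
      obtain ⟨k, hk⟩ := IsPGroup.iff_card.mp h3
      rw [h1, hk]
      rw [hk] at h2
      rcases k with _ | _ | k
      · simp
      · simp
      · exfalso
        apply not_sq_dvd_card_GL2 p
        refine dvd_trans ?_ h2
        exact pow_dvd_pow p (by omega)
    have hcardAD : Nat.card D * D.relIndex A = Nat.card A := by
      rw [← Subgroup.relIndex_bot_left, ← Subgroup.relIndex_bot_left]
      exact Subgroup.relIndex_mul_relIndex _ _ _ bot_le hDA
    have hBn : B ≤ normalizer (D : Set G) := by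
      refine le_trans ?_ (centralizer_le_normalizer _)
      intro b hb
      rw [mem_centralizer_iff]
      intro d hd
      exact hAc d (hDA hd) b (hBA hb)
    have hcardBD : Nat.card (B ⊔ D : Subgroup G) = Nat.card D * p := by
      rw [Cfsg.Agent.Lib.Helper32.card_sup_of_le_normalizer B D hBn hBD, hB.card]
    have hle : Nat.card A ≤ Nat.card (B ⊔ D : Subgroup G) := by
      rw [hcardBD, ← hcardAD]
      exact Nat.mul_le_mul_left _ (Nat.le_of_dvd hp.out.pos hidx)
    have hAeq : B ⊔ D = A := Subgroup.eq_of_le_of_card_ge (sup_le hBA hDA) hle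
    have hcardA : Nat.card A = Nat.card D * p := by rw [← hAeq, hcardBD]
    -- fixed points
    have hV₀B : V₀ ≤ centralizer (B : Set G) := by
      rw [hV₀]
      exact inf_le_right.trans (centralizer_le (by exact_mod_cast hBE))
    have hWD : W ≤ centralizer (D : Set G) := le_centralizer_iff.mp hDW
    have hcA : centralizer (A : Set G) = centralizer (B : Set G) ⊓ centralizer (D : Set G) := by
      rw [← hAeq]; exact Cfsg.Agent.Lib.Helper14.centralizer_sup_eq B D
    have e1 := fix_prod hWV hV₀V h.comm hinf hsup hAW hAV₀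
    have e2 := fix_prod hWV hV₀V h.comm hinf hsup (hBA.trans hAW) (hBA.trans hAV₀)
    have e3 := fix_prod hWV hV₀V h.comm hinf hsup (hDA.trans hAW) (hDA.trans hAV₀)
    have e4 : W ⊓ centralizer (A : Set G) = W ⊓ centralizer (B : Set G) := by
      rw [hcA, ← inf_assoc, inf_comm W, inf_assoc, inf_eq_left.mpr hWD, inf_comm]
    have e5 : V₀ ⊓ centralizer (A : Set G) = V₀ ⊓ centralizer (D : Set G) := by
      rw [hcA, ← inf_assoc, inf_eq_left.mpr hV₀B]
    have e6 : V₀ ⊓ centralizer (B : Set G) = V₀ := inf_eq_left.mpr hV₀B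
    have e7 : W ⊓ centralizer (D : Set G) = W := inf_eq_left.mpr hWD
    rw [e4, e5] at e1
    rw [e6] at e2
    rw [e7] at e3
    have hVcard : Nat.card V = Nat.card W * Nat.card V₀ := by
      rw [hWcard, ← hV₀card, mul_comm]
    have t1 := hB.card_cent
    rw [e2, hVcard] at t1
    have hv0pos : 0 < Nat.card V₀ := Nat.card_pos
    have hwpos : 0 < Nat.card W := Nat.card_pos
    have t2 : p * Nat.card ↥(W ⊓ centralizer (B : Set G)) = Nat.card W := by
      have : (p * Nat.card ↥(W ⊓ centralizer (B : Set G))) * Nat.card V₀ =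
          Nat.card W * Nat.card V₀ := by rw [← t1]; ring
      exact Nat.eq_of_mul_eq_mul_right hv0pos this
    have t3 := htight
    rw [hcardA, e1, hVcard] at t3
    have t4 : Nat.card D * Nat.card ↥(V₀ ⊓ centralizer (D : Set G)) = Nat.card V₀ := by
      have : Nat.card W * (Nat.card D * Nat.card ↥(V₀ ⊓ centralizer (D : Set G))) =
          Nat.card W * Nat.card V₀ := by
        rw [← t3, ← t2]; ring
      exact Nat.eq_of_mul_eq_mul_left hwpos this
    have htightD : Nat.card D * Nat.card ↥(V ⊓ centralizer (D : Set G)) = Nat.card V := by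
      rw [e3, hVcard, ← t4]; ring
    have hDlt : Nat.card D < n := by
      rw [← hn, hcardA]
      have : 0 < Nat.card D := Nat.card_pos
      have := hp.out.one_lt
      nlinarith
    have hDexp := ih _ hDlt D rfl (hDA.trans hAH)
      (fun x hx y hy => hAc x (hDA hx) y (hDA hy)) (hAp.to_le hDA) htightD
    intro a ha
    rw [← hAeq] at ha
    obtain ⟨b, hb, d, hd, rfl⟩ := Cfsg.Agent.Lib.Helper01.exists_mul_of_mem_sup hBn ha
    have hbd : Commute b d := hAc b (hBA hb) d (hDA hd)
    rw [hbd.mul_pow, hB.pow b hb, hDexp d hd, one_mul]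

end Tight

end Cfsg.Agent.Lib.Helper52
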