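import Mathlib
import Cfsg.Agent.Lib.Helper52.FFGlobal5

/-!
# KS §9.3 for `p = 2`: covering `H` by `E_B` and the minimal offenders centralizing `W_B`
-/

set_option autoImplicit false
set_option linter.unusedSectionVars false
set_option linter.unusedVariables false
set_option linter.style.haveILetI false

namespace Cfsg.Agent.Lib.Helper52

open Subgroup
open scoped commutatorElement

section FFCover

variable {G : Type*} [Group G] [Finite G]
variable {V H : Subgroup G}

/-- a subgroup of order `2`: its elements -/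
theorem card_two_cases {U : Subgroup G} (hU : Nat.card U = 2) {u : G} (hu : u ∈ U) (hu1 : u ≠ 1) :
    ∀ x ∈ U, x = 1 ∨ x = u := by
  intro x hx
  have hz := zpowers_eq_of_card_prime Nat.prime_two hU hu hu1
  have hord : orderOf u = 2 := by
    rw [← Nat.card_zpowers, hz, hU]
  rw [← hz] at hx
  obtain ⟨n, rfl⟩ := Subgroup.mem_zpowers_iff.mp hx
  rw [← zpow_mod_orderOf, hord]
  have h2 : ((2 : ℕ) : ℤ) = 2 := by norm_num
  rw [h2]
  rcases Int.emod_two_eq_zero_or_one n with h | h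
  · left; rw [h]; simp
  · right; rw [h]; simp

/-- the subgroup generated by the minimal offenders centralizing `W` -/
def ffR (V H W : Subgroup G) : Subgroup G :=
  ⨆ B : {B : Subgroup G // FFMin 2 V H B ∧ B ≤ centralizer (W : Set G)}, (B : Subgroup G)

theorem ffR_le (V H W : Subgroup G) : ffR V H W ≤ H ⊓ centralizer (W : Set G) := by
  unfold ffR
  exact iSup_le fun B => le_inf B.2.1.le B.2.2

variable [hp : Fact (Nat.Prime 2)]

/-- `W_B = W` for a minimal offender `B` acting nontrivially on the `H`-invariant four-group `W` -/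
theorem ffE_W_eq (h : FFHyp 2 V H) (hgen : FFGen 2 V H) {W : Subgroup G} (hWV : W ≤ V)
    (hW4 : Nat.card W = 4) (hHW : H ≤ normalizer (W : Set G)) {B : Subgroup G}
    (hB : FFMin 2 V H B) (hBW : ¬ B ≤ centralizer (W : Set G)) :
    ⁅V, ffE 2 H B⁆ = W := by
  -- a nontrivial commutator
  have hex : ∃ b ∈ B, ∃ w ∈ W, b * w ≠ w * b := by
    by_contra hne
    push Not at hne
    apply hBW
    intro b hb
    rw [Subgroup.mem_centralizer_iff]
    intro w hw
    exact (hne b hb w hw).symm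
  obtain ⟨b₀, hb₀, w₀, hw₀, hne⟩ := hex
  obtain ⟨u, hu⟩ : ∃ u, u = ⁅w₀, b₀⁆ := ⟨_, rfl⟩
  have hu1 : u ≠ 1 := by
    intro e
    rw [hu, commutatorElement_eq_one_iff_mul_comm] at e
    exact hne e.symm
  have huVB : u ∈ ⁅V, B⁆ := hu ▸ Subgroup.commutator_mem_commutator (hWV hw₀) hb₀
  have huW : u ∈ W := by
    rw [hu, commutatorElement_def]
    have h1 : b₀ * w₀⁻¹ * b₀⁻¹ ∈ W :=
      (Subgroup.mem_normalizer_iff.mp (hHW (hB.le hb₀)) _).mp (W.inv_mem hw₀)
    have e : w₀ * b₀ * w₀⁻¹ * b₀⁻¹ = w₀ * (b₀ * w₀⁻¹ * b₀⁻¹) := by group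
    rw [e]
    exact W.mul_mem hw₀ h1
  have huE : u ∈ ⁅V, ffE 2 H B⁆ := Subgroup.commutator_mono le_rfl le_ffE huVB
  have hcardE : Nat.card ↥⁅V, ffE 2 H B⁆ = 4 := by
    rw [ffE_card_W h hB]; norm_num
  -- `W_B ≤ W`
  have hle : ⁅V, ffE 2 H B⁆ ≤ W := by
    by_contra hnle
    obtain ⟨U, hUdef⟩ : ∃ U : Subgroup G, U = W ⊓ ⁅V, ffE 2 H B⁆ := ⟨_, rfl⟩
    have huU : u ∈ U := hUdef ▸ Subgroup.mem_inf.mpr ⟨huW, huE⟩
    have hUE : U ≤ ⁅V, ffE 2 H B⁆ := hUdef ▸ inf_le_right
    have hdvd : Nat.card U ∣ 4 := hcardE ▸ Subgroup.card_dvd_of_le hUE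
    have hU1 : Nat.card U ≠ 1 := by
      intro e
      rw [Subgroup.card_eq_one] at e
      rw [e, Subgroup.mem_bot] at huU
      exact hu1 huU
    have hU4 : Nat.card U ≠ 4 := by
      intro e
      apply hnle
      have : U = ⁅V, ffE 2 H B⁆ :=
        Subgroup.eq_of_le_of_card_ge hUE (by rw [e, hcardE])
      rw [← this, hUdef]
      exact inf_le_left
    have hU2 : Nat.card U = 2 := by
      have hle4 : Nat.card U ≤ 4 := Nat.le_of_dvd (by norm_num) hdvd
      have hpos : 0 < Nat.card U := Nat.card_pos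
      interval_cases hc : Nat.card U
      · exact absurd rfl hU1
      · rfl
      · norm_num at hdvd
      · exact absurd rfl hU4
    -- `E` centralizes `u`
    have huC : u ∈ centralizer ((ffE 2 H B : Subgroup G) : Set G) := by
      rw [Subgroup.mem_centralizer_iff]
      intro e he
      have heH : e ∈ H := ffE_le hB he
      have h1 : e * u * e⁻¹ ∈ U := by
        rw [hUdef]
        refine Subgroup.mem_inf.mpr ⟨?_, ?_⟩
        · exact (Subgroup.mem_normalizer_iff.mp (hHW heH) _).mp huW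
        · exact (Subgroup.mem_normalizer_iff.mp (H_le_normalizer_W h hgen hB heH) _).mp huE
      rcases card_two_cases hU2 huU hu1 _ h1 with h2 | h2
      · exfalso
        apply hu1
        have : u = e⁻¹ * (e * u * e⁻¹) * e := by group
        rw [this, h2]; group
      · calc e * u = (e * u * e⁻¹) * e := by group
          _ = u * e := by rw [h2]
    have : u ∈ ⁅V, ffE 2 H B⁆ ⊓ (V ⊓ centralizer ((ffE 2 H B : Subgroup G) : Set G)) :=
      Subgroup.mem_inf.mpr ⟨huE, Subgroup.mem_inf.mpr ⟨hWV huW, huC⟩⟩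
    rw [ffE_W_inf h hB, Subgroup.mem_bot] at this
    exact hu1 this
  exact Subgroup.eq_of_le_of_card_ge hle (by rw [hW4, hcardE])

/-- **the covering**: `H = ⟨k⟩ B R` -/
theorem ff_cover (h : FFHyp 2 V H) (hgen : FFGen 2 V H) {W : Subgroup G} (hWV : W ≤ V)
    (hW4 : Nat.card W = 4) (hHW : H ≤ normalizer (W : Set G)) {B : Subgroup G}
    (hB : FFMin 2 V H B) (hBW : ¬ B ≤ centralizer (W : Set G))
    {k : G} (hkH : k ∈ H) (hkW : ∀ v ∈ V, ⁅v, k⁆ ∈ W) (hk1 : k ≠ 1) (hk3 : k ^ 3 = 1) :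
    ∀ y ∈ H, ∃ i : ℕ, ∃ b ∈ B, ∃ c ∈ ffR V H W, y = k ^ i * b * c := by
  haveI : Fact (Nat.Prime 3) := ⟨Nat.prime_three⟩
  have hWB := ffE_W_eq h hgen hWV hW4 hHW hB hBW
  obtain ⟨E, hE⟩ : ∃ E : Subgroup G, E = ffE 2 H B := ⟨_, rfl⟩
  have hEH : E ≤ H := hE ▸ ffE_le hB
  have hBE : B ≤ E := hE ▸ le_ffE
  have hVE : ⁅V, E⁆ = W := hE ▸ hWB
  have hRle : ffR V H W ≤ H ⊓ centralizer (W : Set G) := ffR_le V H W
  -- `E` and `R` commute
  have hcomm : ∀ e ∈ E, ∀ c ∈ H ⊓ centralizer (W : Set G), e * c = c * e := by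
    intro e he c hc
    have h1 := commutator_ffE_centralizer h hgen hB
    rw [hWB, ← hE] at h1
    have h2 : ⁅e, c⁆ ∈ ⁅E, H ⊓ centralizer (W : Set G)⁆ :=
      Subgroup.commutator_mem_commutator he hc
    rw [h1, Subgroup.mem_bot, commutatorElement_eq_one_iff_mul_comm] at h2
    exact h2
  -- `H = E R`
  have hdec : ∀ y ∈ H, ∃ e ∈ E, ∃ c ∈ ffR V H W, y = e * c := by
    intro y hy
    have hy' : y ∈ E ⊔ ffR V H W := by
      refine (hgen.trans (iSup_le fun B' => ?_)) hy
      rcases ffmin_dichotomy h hB B'.2 with h1 | h1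
      · rw [hE]; exact h1.trans le_sup_left
      · rw [hWB] at h1
        refine le_trans ?_ le_sup_right
        unfold ffR
        exact le_iSup (fun B : {B : Subgroup G // FFMin 2 V H B ∧ B ≤ centralizer (W : Set G)} =>
          (B : Subgroup G)) ⟨B'.1, B'.2, h1⟩
    have hnorm : E ≤ normalizer ((ffR V H W : Subgroup G) : Set G) := by
      intro e he
      rw [Subgroup.mem_normalizer_iff]
      intro c
      constructor
      · intro hc
        have e1 : e * c * e⁻¹ = c := by rw [hcomm e he c (hRle hc)]; group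
        rw [e1]; exact hc
      · intro hc
        have hc' := hRle hc
        have e0 : e⁻¹ * (e * c * e⁻¹) = (e * c * e⁻¹) * e⁻¹ :=
          hcomm e⁻¹ (E.inv_mem he) _ hc'
        have e1 : c = e * c * e⁻¹ := by
          calc c = e⁻¹ * (e * c * e⁻¹) * e := by group
            _ = (e * c * e⁻¹) * e⁻¹ * e := by rw [e0]
            _ = e * c * e⁻¹ := by group
        rw [e1]; exact hc
    exact Cfsg.Agent.Lib.Helper01.exists_mul_of_mem_sup hnorm hy'
  -- `k ∈ E`
  have hkE : k ∈ E := by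
    obtain ⟨e, he, c, hc, hkec⟩ := hdec k hkH
    have hc' := hRle hc
    have hcW : c ∈ centralizer (W : Set G) := hc'.2
    have hcCE : ∀ u' ∈ V ⊓ centralizer ((E : Subgroup G) : Set G), ⁅u', c⁆ = 1 := by
      intro u' hu'
      have h1 : ⁅u', c⁆ ∈ V ⊓ centralizer ((E : Subgroup G) : Set G) := by
        have := commutator_V_centralizer_le h hgen hB
        rw [hWB, ← hE] at this
        exact this (Subgroup.commutator_mem_commutator hu'.1 hc')
      have h2 : ⁅u', k⁆ = ⁅u', c⁆ := by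
        have hue : u' * e = e * u' := (Subgroup.mem_centralizer_iff.mp hu'.2 e he).symm
        have hce : ⁅u', c⁆ * e = e * ⁅u', c⁆ := (Subgroup.mem_centralizer_iff.mp h1.2 e he).symm
        rw [hkec]
        calc ⁅u', e * c⁆ = (u' * e) * c * u'⁻¹ * c⁻¹ * e⁻¹ := by
              rw [commutatorElement_def]; group
          _ = (e * u') * c * u'⁻¹ * c⁻¹ * e⁻¹ := by rw [hue]
          _ = (e * ⁅u', c⁆) * e⁻¹ := by rw [commutatorElement_def]; group
          _ = (⁅u', c⁆ * e) * e⁻¹ := by rw [hce]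
          _ = ⁅u', c⁆ := by group
      have h3 : ⁅u', c⁆ ∈ ⁅V, E⁆ ⊓ (V ⊓ centralizer ((E : Subgroup G) : Set G)) := by
        refine Subgroup.mem_inf.mpr ⟨?_, h1⟩
        rw [hVE, ← h2]
        exact hkW u' hu'.1
      have h4 := ffE_W_inf h hB
      rw [← hE] at h4
      rw [h4, Subgroup.mem_bot] at h3
      exact h3
    have hcV : c ∈ centralizer (V : Set G) := by
      have h5 := ffE_W_sup h hB
      rw [← hE, hVE] at h5
      rw [← h5, centralizer_sup_eq]
      refine Subgroup.mem_inf.mpr ⟨hcW, ?_⟩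
      rw [Subgroup.mem_centralizer_iff]
      intro u' hu'
      have := hcCE u' hu'
      rw [commutatorElement_eq_one_iff_mul_comm] at this
      exact this
    have hc1 : c = 1 := by
      have : c ∈ H ⊓ centralizer (V : Set G) := Subgroup.mem_inf.mpr ⟨hc'.1, hcV⟩
      rw [h.hf, Subgroup.mem_bot] at this
      exact this
    rw [hkec, hc1, mul_one]
    exact he
  -- an involution in `B`
  have hexb : ∃ b₀ ∈ B, b₀ ≠ 1 := exists_ne_one_of_card_prime Nat.prime_two hB.card
  obtain ⟨b₀, hb₀, hb₀1⟩ := hexb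
  have hb₀2 : b₀ ^ 2 = 1 := hB.pow b₀ hb₀
  have hordk : orderOf k = 3 := orderOf_eq_prime hk3 hk1
  have hordb : orderOf b₀ = 2 := orderOf_eq_prime hb₀2 hb₀1
  have hbk : b₀ ∉ zpowers k := by
    intro hmem
    have := orderOf_dvd_of_mem_zpowers hmem
    rw [hordk, hordb] at this
    norm_num at this
  -- the six elements of `E`
  have hcardE : Nat.card E = 6 := by
    rw [hE, card_ffE h hB]; norm_num
  let f : Fin 3 × Fin 2 → ↥E := fun ij =>
    ⟨k ^ ij.1.1 * b₀ ^ ij.2.1, E.mul_mem (E.pow_mem hkE _) (E.pow_mem (hBE hb₀) _)⟩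
  have hfinj : Function.Injective f := by
    rintro ⟨i, j⟩ ⟨i', j'⟩ hij
    have hij' : k ^ i.1 * b₀ ^ j.1 = k ^ i'.1 * b₀ ^ j'.1 := congrArg Subtype.val hij
    have hjj : j = j' := by
      by_contra hjne
      apply hbk
      have hj2 := j.2
      have hj'2 := j'.2
      have hcases : (j.1 = 0 ∧ j'.1 = 1) ∨ (j.1 = 1 ∧ j'.1 = 0) := by
        have : j.1 ≠ j'.1 := fun e => hjne (Fin.ext e)
        omega
      rcases hcases with ⟨h0, h1⟩ | ⟨h1, h0⟩
      · rw [h0, h1, pow_zero, pow_one, mul_one] at hij'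
        have : b₀ = (k ^ i'.1)⁻¹ * k ^ i.1 := by rw [hij']; group
        rw [this]
        exact Subgroup.mul_mem _ (Subgroup.inv_mem _ (Subgroup.pow_mem _ (mem_zpowers k) _))
          (Subgroup.pow_mem _ (mem_zpowers k) _)
      · rw [h0, h1, pow_zero, pow_one, mul_one] at hij'
        have : b₀ = (k ^ i.1)⁻¹ * k ^ i'.1 := by rw [← hij']; group
        rw [this]
        exact Subgroup.mul_mem _ (Subgroup.inv_mem _ (Subgroup.pow_mem _ (mem_zpowers k) _))
          (Subgroup.pow_mem _ (mem_zpowers k) _)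
    subst hjj
    have hii : k ^ i.1 = k ^ i'.1 := mul_right_cancel hij'
    have : i.1 = i'.1 := by
      apply pow_injOn_Iio_orderOf _ _ hii
      · rw [hordk]; exact i.2
      · rw [hordk]; exact i'.2
    rw [Fin.ext this]
  have hfbij : Function.Bijective f := by
    apply Function.Injective.bijective_of_nat_card_le hfinj
    rw [hcardE]
    simp
  intro y hy
  obtain ⟨e, he, c, hc, rfl⟩ := hdec y hy
  obtain ⟨⟨i, j⟩, hij⟩ := hfbij.2 ⟨e, he⟩
  have hij' : k ^ i.1 * b₀ ^ j.1 = e := congrArg Subtype.val hij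
  exact ⟨i.1, b₀ ^ j.1, B.pow_mem hb₀ _, c, hc, by rw [hij']⟩

end FFCover

end Cfsg.Agent.Lib.Helper52
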