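import Cfsg.Agent.Lib.Helper52.JComp2

/-!
# `Ω₁(Z(J(T)))` and a J(T)-component

For a `J(T)`-component `K`, `Z₀ = Ω₁(Z(J(T)))`, `X = K J(T)`:
`|Z₀ ∩ W_K| = 2` and `Z₀ = (Z₀ ∩ Z(X)) (Z₀ ∩ W_K)`.
-/

set_option autoImplicit false
set_option linter.unusedSectionVars false
set_option linter.unusedVariables false
set_option linter.style.haveILetI false

namespace Cfsg.Agent.Lib.Helper52.JComp

open Cfsg Subgroup
open scoped commutatorElement
open Cfsg.Agent.Lib.Helper15 (maxElemIn)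

variable {G : Type*} [Group G]

namespace Ctx

variable {K J S : Subgroup G}

/-- two elements of `A` that do not centralize `W_K` differ by an element centralizing `W_K` -/
theorem coset_dichotomy [Finite G] (c : Ctx K J S) {A : Subgroup G} (hA : A ∈ maxElemIn 2 S)
    {a : G} (ha : a ∈ A) (hanc : a ∉ centralizer ((wOf K : Subgroup G) : Set G)) {w₀ : G}
    (h0 : w₀ ∈ wOf K) (h01 : w₀ ≠ 1) (hfix : ∀ j ∈ J, j * w₀ = w₀ * j) :
    ∀ a₁ ∈ A, a₁ ∈ centralizer ((wOf K : Subgroup G) : Set G) ∨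
      a⁻¹ * a₁ ∈ centralizer ((wOf K : Subgroup G) : Set G) := by
  intro a₁ ha₁
  by_cases h : a₁ ∈ centralizer ((wOf K : Subgroup G) : Set G)
  · exact Or.inl h
  right
  have haJ : a ∈ J := c.le_J_of_mem hA ha
  have ha₁J : a₁ ∈ J := c.le_J_of_mem hA ha₁
  have han := c.J_le_normalizer_W haJ
  have ha₁n := c.J_le_normalizer_W ha₁J
  have hanc' : ¬ ∀ w ∈ wOf K, a * w = w * a := fun h => hanc (mem_centralizer_iff'.mpr h)
  have ha₁nc' : ¬ ∀ w ∈ wOf K, a₁ * w = w * a₁ := fun h' => h (mem_centralizer_iff'.mpr h')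
  rw [mem_centralizer_iff']
  intro w hw
  by_cases hw1 : w = 1
  · rw [hw1]; simp
  by_cases hw0 : w = w₀
  · rw [hw0]
    have h1 : Commute a w₀ := hfix a haJ
    have h2 : Commute a₁ w₀ := hfix a₁ ha₁J
    exact (h1.inv_left.mul_left h2)
  have e1 := fg_swap c.card c.exp han h0 h01 (hfix a haJ) hanc' w hw hw1 hw0
  have e2 := fg_swap c.card c.exp ha₁n h0 h01 (hfix a₁ ha₁J) ha₁nc' w hw hw1 hw0
  calc a⁻¹ * a₁ * w = a⁻¹ * (a₁ * w * a₁⁻¹) * a₁ := by group
    _ = a⁻¹ * (a * w * a⁻¹) * a₁ := by rw [e2, e1]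
    _ = w * (a⁻¹ * a₁) := by group

theorem card_le_two_mul [Finite G] (c : Ctx K J S) {A : Subgroup G} (hA : A ∈ maxElemIn 2 S)
    {a : G} (ha : a ∈ A) (hanc : a ∉ centralizer ((wOf K : Subgroup G) : Set G)) {w₀ : G}
    (h0 : w₀ ∈ wOf K) (h01 : w₀ ≠ 1) (hfix : ∀ j ∈ J, j * w₀ = w₀ * j) :
    Nat.card ↥A ≤ 2 * Nat.card ↥(A ⊓ centralizer ((wOf K : Subgroup G) : Set G)) := by
  have hsub : (A : Set G) ⊆ ((A ⊓ centralizer ((wOf K : Subgroup G) : Set G) : Subgroup G) : Set G) ∪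
      (fun b => a * b) '' ((A ⊓ centralizer ((wOf K : Subgroup G) : Set G) : Subgroup G) : Set G) := by
    intro a₁ ha₁
    rcases c.coset_dichotomy hA ha hanc h0 h01 hfix a₁ ha₁ with h | h
    · exact Or.inl (Subgroup.mem_inf.mpr ⟨ha₁, h⟩)
    · right
      refine ⟨a⁻¹ * a₁, Subgroup.mem_inf.mpr ⟨A.mul_mem (A.inv_mem ha) ha₁, h⟩, ?_⟩
      simp
  have h1 : Nat.card ↥A = (A : Set G).ncard := Nat.card_coe_set_eq _
  have h2 : Nat.card ↥(A ⊓ centralizer ((wOf K : Subgroup G) : Set G)) =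
      ((A ⊓ centralizer ((wOf K : Subgroup G) : Set G) : Subgroup G) : Set G).ncard :=
    Nat.card_coe_set_eq _
  rw [h1, h2]
  calc (A : Set G).ncard ≤ _ := Set.ncard_le_ncard hsub (Set.toFinite _)
    _ ≤ _ + _ := Set.ncard_union_le _ _
    _ ≤ _ + _ := Nat.add_le_add_left (Set.ncard_image_le (Set.toFinite _)) _
    _ = _ := by ring

theorem two_mul_card_le [Finite G] (c : Ctx K J S) {A : Subgroup G} (hA : A ∈ maxElemIn 2 S)
    {a : G} (ha : a ∈ A) (hanc : a ∉ centralizer ((wOf K : Subgroup G) : Set G)) :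
    2 * Nat.card ↥(A ⊓ centralizer ((wOf K : Subgroup G) : Set G)) ≤
      Nat.card ↥((A ⊓ centralizer ((wOf K : Subgroup G) : Set G)) ⊔ wOf K) := by
  have hle : A ⊓ centralizer ((wOf K : Subgroup G) : Set G) ≤
      (A ⊓ centralizer ((wOf K : Subgroup G) : Set G)) ⊔ wOf K := le_sup_left
  obtain ⟨m, hm⟩ := Subgroup.card_dvd_of_le hle
  have hpos : 0 < Nat.card ↥((A ⊓ centralizer ((wOf K : Subgroup G) : Set G)) ⊔ wOf K) :=
    Nat.card_pos
  have hm0 : m ≠ 0 := by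
    intro h; rw [h, mul_zero] at hm; omega
  have hm1 : m ≠ 1 := by
    intro h
    rw [h, mul_one] at hm
    have heq := Subgroup.eq_of_le_of_card_ge hle (le_of_eq hm)
    apply hanc
    rw [mem_centralizer_iff']
    intro w hw
    have hwB : w ∈ A ⊓ centralizer ((wOf K : Subgroup G) : Set G) := by
      rw [heq]; exact (le_sup_right : wOf K ≤ _) hw
    exact IsElementaryAbelian.comm' hA.2.1 ha (Subgroup.mem_inf.mp hwB).1
  rw [hm]
  have : 2 ≤ m := by omega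
  calc 2 * Nat.card ↥(A ⊓ centralizer ((wOf K : Subgroup G) : Set G))
      = Nat.card ↥(A ⊓ centralizer ((wOf K : Subgroup G) : Set G)) * 2 := by ring
    _ ≤ _ := Nat.mul_le_mul_left _ this

theorem isElementaryAbelian_BW (c : Ctx K J S) {A : Subgroup G} (hA : A ∈ maxElemIn 2 S) :
    IsElementaryAbelian 2 ((A ⊓ centralizer ((wOf K : Subgroup G) : Set G)) ⊔ wOf K) := by
  apply isElementaryAbelian_sup (isElementaryAbelian_of_le hA.2.1 inf_le_left)
    c.isElementaryAbelian_W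
  intro b hb w hw
  exact mem_centralizer_iff'.mp (Subgroup.mem_inf.mp hb).2 w hw

/-- **Thompson replacement**: all `X`-conjugates of `C_A(W) W` are again of largest order in `S` -/
theorem conj_mem_maxElemIn [Finite G] (c : Ctx K J S) {A : Subgroup G} (hA : A ∈ maxElemIn 2 S)
    {a : G} (ha : a ∈ A) (hanc : a ∉ centralizer ((wOf K : Subgroup G) : Set G)) {w₀ : G}
    (h0 : w₀ ∈ wOf K) (h01 : w₀ ≠ 1) (hfix : ∀ j ∈ J, j * w₀ = w₀ * j) {x : G}
    (hx : x ∈ K ⊔ J) :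
    ((A ⊓ centralizer ((wOf K : Subgroup G) : Set G)) ⊔ wOf K).map (MulAut.conj x).toMonoidHom
      ∈ maxElemIn 2 S := by
  have hxn := c.X_le_normalizer_W hx
  apply mem_maxElemIn_of_card_ge hA
  · rw [Subgroup.map_le_iff_le_comap]
    apply sup_le
    · intro b hb
      rw [Subgroup.mem_comap]
      obtain ⟨hbA, hbC⟩ := Subgroup.mem_inf.mp hb
      apply c.R_le_S
      have hbX : b ∈ K ⊔ J := (le_sup_right : J ≤ K ⊔ J) (c.le_J_of_mem hA hbA)
      refine Subgroup.mem_inf.mpr ⟨?_, ?_⟩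
      · exact Subgroup.mul_mem _ (Subgroup.mul_mem _ hx hbX) (Subgroup.inv_mem _ hx)
      · exact conj_mem_centralizer hxn hbC
    · intro w hw
      rw [Subgroup.mem_comap]
      exact c.W_le_S (conj_mem_of_mem_normalizer hxn hw)
  · exact Cfsg.Agent.Lib.Helper15.isElementaryAbelian_map _ (c.isElementaryAbelian_BW hA)
  · rw [Subgroup.card_map_of_injective (MulAut.conj x).injective]
    exact (c.card_le_two_mul hA ha hanc h0 h01 hfix).trans (c.two_mul_card_le hA ha hanc)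

theorem exists_decomp [Finite G] (c : Ctx K J S) {A : Subgroup G} (hA : A ∈ maxElemIn 2 S)
    {a : G} (ha : a ∈ A) (hanc : a ∉ centralizer ((wOf K : Subgroup G) : Set G)) {w₀ : G}
    (h0 : w₀ ∈ wOf K) (h01 : w₀ ≠ 1) (hfix : ∀ j ∈ J, j * w₀ = w₀ * j) {x : G}
    (hx : x ∈ K ⊔ J) {z : G} (hz : z ∈ omegaCenterOf J) :
    ∃ b ∈ A, b ∈ centralizer ((wOf K : Subgroup G) : Set G) ∧ ∃ w ∈ wOf K,
      z = x * (b * w) * x⁻¹ := by
  have h := c.mem_all_of_mem_Z0 hz (c.conj_mem_maxElemIn hA ha hanc h0 h01 hfix hx)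
  obtain ⟨y, hy, hyz⟩ := h
  have hBn : A ⊓ centralizer ((wOf K : Subgroup G) : Set G) ≤
      normalizer ((wOf K : Subgroup G) : Set G) :=
    inf_le_left.trans ((c.le_J_of_mem hA).trans c.J_le_normalizer_W)
  obtain ⟨b, hb, w, hw, rfl⟩ := Cfsg.Agent.Lib.Helper01.exists_mul_of_mem_sup hBn hy
  obtain ⟨hbA, hbC⟩ := Subgroup.mem_inf.mp hb
  refine ⟨b, hbA, hbC, w, hw, ?_⟩
  rw [← hyz]
  rfl

/-- `|Ω₁(Z(J)) ∩ W_K| = 2` -/
theorem card_Z0_inf_W [Finite G] (c : Ctx K J S) :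
    Nat.card ↥(omegaCenterOf J ⊓ wOf K) = 2 := by
  obtain ⟨A, hA, a, ha, hanc⟩ := c.exists_A
  obtain ⟨w₀, h0, h01, hfix⟩ := c.exists_fix
  have haJ : a ∈ J := c.le_J_of_mem hA ha
  have han := c.J_le_normalizer_W haJ
  have hanc' : ¬ ∀ w ∈ wOf K, a * w = w * a := fun h => hanc (mem_centralizer_iff'.mpr h)
  have heq : omegaCenterOf J ⊓ wOf K = Subgroup.zpowers w₀ := by
    apply le_antisymm
    · intro t ht
      obtain ⟨ht1, ht2⟩ := Subgroup.mem_inf.mp ht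
      obtain ⟨-, htC, -⟩ := mem_omegaCenterOf_iff.mp ht1
      have hat : a * t = t * a := Subgroup.mem_centralizer_iff.mp htC a haJ
      rcases fg_fix c.card c.exp han h0 h01 (hfix a haJ) hanc' t ht2 hat with h | h
      · rw [h]; exact Subgroup.one_mem _
      · rw [h]; exact Subgroup.mem_zpowers _
    · rw [Subgroup.zpowers_le]
      exact Subgroup.mem_inf.mpr ⟨c.mem_Z0_of_fix h0 hfix, h0⟩
  rw [heq, Nat.card_zpowers]
  haveI : Fact (Nat.Prime 2) := ⟨Nat.prime_two⟩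
  apply orderOf_eq_prime
  · rw [pow_two]; exact c.exp w₀ h0
  · exact h01

/-- `Ω₁(Z(J)) = (Ω₁(Z(J)) ∩ Z(K J)) (Ω₁(Z(J)) ∩ W_K)` -/
theorem Z0_split [Finite G] (c : Ctx K J S) :
    (omegaCenterOf J ⊓ ((K ⊔ J) ⊓ centralizer ((K ⊔ J : Subgroup G) : Set G))) ⊔
      (omegaCenterOf J ⊓ wOf K) = omegaCenterOf J := by
  apply le_antisymm
  · exact sup_le inf_le_left inf_le_left
  intro z hz
  obtain ⟨A, hA, a, ha, hanc⟩ := c.exists_A
  obtain ⟨w₀, h0, h01, hfix⟩ := c.exists_fix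
  obtain ⟨x, hxK, hxQ⟩ : ∃ x ∈ K, x ∉ pCoreOf 2 K := by
    by_contra hcon
    push Not at hcon
    have h1 := Subgroup.relIndex_eq_one.mpr (show K ≤ pCoreOf 2 K from hcon)
    rw [c.idx] at h1
    omega
  have haJ : a ∈ J := c.le_J_of_mem hA ha
  have hxX : x ∈ K ⊔ J := (le_sup_left : K ≤ K ⊔ J) hxK
  have han := c.J_le_normalizer_W haJ
  have hxn := c.K_le_normalizer_W hxK
  have haa : a * a = 1 := by
    have := hA.2.1.2 a ha
    rwa [pow_two] at this
  have hainv : a⁻¹ = a := inv_eq_of_mul_eq_one_left haa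
  obtain ⟨a', ha'⟩ : ∃ a', a' = x * a * x⁻¹ := ⟨_, rfl⟩
  obtain ⟨w₀', hw₀'⟩ : ∃ w, w = x * w₀ * x⁻¹ := ⟨_, rfl⟩
  have h0' : w₀' ∈ wOf K := by rw [hw₀']; exact conj_mem_of_mem_normalizer hxn h0
  have h01' : w₀' ≠ 1 := by
    intro h
    apply h01
    rw [hw₀'] at h
    have : w₀ = x⁻¹ * (x * w₀ * x⁻¹) * x := by group
    rw [this, h]; group
  have ha'n : a' ∈ normalizer ((wOf K : Subgroup G) : Set G) := by
    rw [ha']
    exact Subgroup.mul_mem _ (Subgroup.mul_mem _ hxn han) (Subgroup.inv_mem _ hxn)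
  have ha'a' : a' * a' = 1 := by
    rw [ha']
    calc x * a * x⁻¹ * (x * a * x⁻¹) = x * (a * a) * x⁻¹ := by group
      _ = 1 := by rw [haa]; group
  have hfix' : a' * w₀' = w₀' * a' := by
    rw [ha', hw₀']
    have := hfix a haJ
    calc x * a * x⁻¹ * (x * w₀ * x⁻¹) = x * (a * w₀) * x⁻¹ := by group
      _ = x * (w₀ * a) * x⁻¹ := by rw [this]
      _ = x * w₀ * x⁻¹ * (x * a * x⁻¹) := by group
  have ha'nc : ¬ ∀ w ∈ wOf K, a' * w = w * a' := by
    intro h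
    apply hanc
    have h1 : a' ∈ centralizer ((wOf K : Subgroup G) : Set G) := mem_centralizer_iff'.mpr h
    have h2 := conj_mem_centralizer (Subgroup.inv_mem _ hxn) h1
    have e : x⁻¹ * a' * x⁻¹⁻¹ = a := by rw [ha']; group
    rwa [e] at h2
  have hanc' : ¬ ∀ w ∈ wOf K, a * w = w * a := fun h => hanc (mem_centralizer_iff'.mpr h)
  have hne : w₀' ≠ w₀ := by
    intro h
    apply h01
    apply c.K_fpf hxK hxQ w₀ h0
    rw [hw₀'] at h
    calc x * w₀ = (x * w₀ * x⁻¹) * x := by group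
      _ = w₀ * x := by rw [h]
  obtain ⟨g, hg⟩ : ∃ g, g = a * a' := ⟨_, rfl⟩
  have hgK : g ∈ K := by
    have h1 : a * x * a⁻¹ ∈ K := conj_mem_of_mem_normalizer (c.J_le_normalizer haJ) hxK
    have e : g = (a * x * a⁻¹) * x⁻¹ := by
      rw [hg, ha', hainv]; group
    rw [e]
    exact K.mul_mem h1 (K.inv_mem hxK)
  have hgQ : g ∉ pCoreOf 2 K := by
    intro h
    have hgc := mem_centralizer_iff'.mp (c.Q_cent_W h) w₀' h0'
    have h2 : a * w₀' = w₀' * a := by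
      rw [hg] at hgc
      have : a * w₀' * a' = w₀' * a * a' := by
        calc a * w₀' * a' = a * (w₀' * a') := by group
          _ = a * (a' * w₀') := by rw [hfix']
          _ = a * a' * w₀' := by group
          _ = w₀' * (a * a') := hgc
          _ = w₀' * a * a' := by group
      exact mul_right_cancel this
    rcases fg_fix c.card c.exp han h0 h01 (hfix a haJ) hanc' w₀' h0' h2 with h | h
    · exact h01' h
    · exact hne h
  obtain ⟨b, hbA, hbC, w, hw, hzd⟩ := c.exists_decomp hA ha hanc h0 h01 hfix hxX hz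
  obtain ⟨hzJ, hzC, hz2⟩ := mem_omegaCenterOf_iff.mp hz
  obtain ⟨b', hb'⟩ : ∃ b', b' = x * b * x⁻¹ := ⟨_, rfl⟩
  obtain ⟨w', hw'⟩ : ∃ w', w' = x * w * x⁻¹ := ⟨_, rfl⟩
  have hw'W : w' ∈ wOf K := by rw [hw']; exact conj_mem_of_mem_normalizer hxn hw
  have hzd' : z = b' * w' := by rw [hzd, hb', hw']; group
  have hab' : a' * b' = b' * a' := by
    rw [ha', hb']
    have := IsElementaryAbelian.comm' hA.2.1 ha hbA
    calc x * a * x⁻¹ * (x * b * x⁻¹) = x * (a * b) * x⁻¹ := by group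
      _ = x * (b * a) * x⁻¹ := by rw [this]
      _ = x * b * x⁻¹ * (x * a * x⁻¹) := by group
  obtain ⟨u, hu⟩ : ∃ u, u = w' * (a' * w' * a'⁻¹) := ⟨_, rfl⟩
  have hcw' : a' * w' * a'⁻¹ ∈ wOf K := conj_mem_of_mem_normalizer ha'n hw'W
  have huW : u ∈ wOf K := by rw [hu]; exact (wOf K).mul_mem hw'W hcw'
  have hzu : a' * z * a'⁻¹ = z * u := by
    rw [hzd', hu]
    calc a' * (b' * w') * a'⁻¹ = (a' * b') * w' * a'⁻¹ := by group
      _ = (b' * a') * w' * a'⁻¹ := by rw [hab']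
      _ = b' * (a' * w' * a'⁻¹) := by group
      _ = b' * ((w' * w') * (a' * w' * a'⁻¹)) := by rw [c.exp w' hw'W, one_mul]
      _ = b' * w' * (w' * (a' * w' * a'⁻¹)) := by group
  have hau : a' * u = u * a' := by
    have h1 : a' * u * a'⁻¹ = (a' * w' * a'⁻¹) * w' := by
      rw [hu]
      calc a' * (w' * (a' * w' * a'⁻¹)) * a'⁻¹
          = (a' * w' * a'⁻¹) * ((a' * a') * w' * (a' * a')⁻¹) := by group
        _ = (a' * w' * a'⁻¹) * w' := by rw [ha'a']; group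
    have h2 : (a' * w' * a'⁻¹) * w' = u := by rw [hu]; exact fg_comm c.exp hcw' hw'W
    calc a' * u = (a' * u * a'⁻¹) * a' := by group
      _ = u * a' := by rw [h1, h2]
  have hzJc : ∀ j ∈ J, z * j = j * z := fun j hj =>
    (Subgroup.mem_centralizer_iff.mp hzC j hj).symm
  have hza : z * a = a * z := hzJc a haJ
  rcases fg_fix c.card c.exp ha'n h0' h01' hfix' ha'nc u huW hau with h | h
  · -- `u = 1`
    rw [h, mul_one] at hzu
    have hza' : z * a' = a' * z := by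
      calc z * a' = (a' * z * a'⁻¹) * a' := by rw [hzu]
        _ = a' * z := by group
    have hzg : z * g = g * z := by
      rw [hg]
      calc z * (a * a') = (z * a) * a' := by group
        _ = (a * z) * a' := by rw [hza]
        _ = a * (z * a') := by group
        _ = a * (a' * z) := by rw [hza']
        _ = a * a' * z := by group
    have hzX := c.gen hgK hgQ hzJc hzg
    apply (le_sup_left : omegaCenterOf J ⊓ ((K ⊔ J) ⊓ centralizer ((K ⊔ J : Subgroup G) : Set G))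
      ≤ _)
    exact Subgroup.mem_inf.mpr ⟨hz, Subgroup.mem_inf.mpr ⟨(le_sup_right : J ≤ K ⊔ J) hzJ, hzX⟩⟩
  · -- `u = w₀'`
    have hsw : a' * w₀ * a'⁻¹ = w₀' * w₀ :=
      fg_swap c.card c.exp ha'n h0' h01' hfix' ha'nc w₀ h0 h01 (Ne.symm hne)
    obtain ⟨c', hc'⟩ : ∃ c', c' = z * w₀ := ⟨_, rfl⟩
    have hc'a' : c' * a' = a' * c' := by
      have h1 : a' * c' * a'⁻¹ = c' := by
        rw [hc']
        calc a' * (z * w₀) * a'⁻¹ = (a' * z * a'⁻¹) * (a' * w₀ * a'⁻¹) := by group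
          _ = (z * u) * (w₀' * w₀) := by rw [hzu, hsw]
          _ = z * ((w₀' * w₀') * w₀) := by rw [h]; group
          _ = z * w₀ := by rw [c.exp w₀' h0', one_mul]
      calc c' * a' = (a' * c' * a'⁻¹) * a' := by rw [h1]
        _ = a' * c' := by group
    have hc'J : ∀ j ∈ J, c' * j = j * c' := by
      intro j hj
      rw [hc']
      calc z * w₀ * j = z * (w₀ * j) := by group
        _ = z * (j * w₀) := by rw [hfix j hj]
        _ = (z * j) * w₀ := by group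
        _ = (j * z) * w₀ := by rw [hzJc j hj]
        _ = j * (z * w₀) := by group
    have hc'g : c' * g = g * c' := by
      rw [hg]
      calc c' * (a * a') = (c' * a) * a' := by group
        _ = (a * c') * a' := by rw [hc'J a haJ]
        _ = a * (c' * a') := by group
        _ = a * (a' * c') := by rw [hc'a']
        _ = a * a' * c' := by group
    have hc'X := c.gen hgK hgQ hc'J hc'g
    have hw₀Z : w₀ ∈ omegaCenterOf J := c.mem_Z0_of_fix h0 hfix
    have hc'Z : c' ∈ omegaCenterOf J := by rw [hc']; exact Subgroup.mul_mem _ hz hw₀Z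
    have hc'XX : c' ∈ K ⊔ J := (le_sup_right : J ≤ K ⊔ J) (omegaCenterOf_le J hc'Z)
    have hzc : z = c' * w₀ := by
      rw [hc']
      calc z = z * (w₀ * w₀) := by rw [c.exp w₀ h0, mul_one]
        _ = z * w₀ * w₀ := by group
    rw [hzc]
    exact Subgroup.mul_mem_sup
      (Subgroup.mem_inf.mpr ⟨hc'Z, Subgroup.mem_inf.mpr ⟨hc'XX, hc'X⟩⟩)
      (Subgroup.mem_inf.mpr ⟨hw₀Z, h0⟩)

end Ctx

/-- a `J(T)`-component gives a context -/
theorem exists_ctx [Finite G] {T K : Subgroup G} (hT : IsPGroup 2 ↥T) (hK : IsJComponent T K) :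
    ∃ S : Subgroup G, Ctx K (thompsonSubgroupOf 2 T) S := by
  haveI : Fact (Nat.Prime 2) := ⟨Nat.prime_two⟩
  obtain ⟨hodd, hcomm, hidx, hsyl, hcard, hexp⟩ := hK
  obtain ⟨J, hJ⟩ : ∃ J, J = thompsonSubgroupOf 2 T := ⟨_, rfl⟩
  rw [← hJ] at hcomm hsyl ⊢
  have hJ2 : IsPGroup 2 ↥J := by
    rw [hJ]
    exact hT.to_le (Cfsg.Agent.Lib.Helper15.thompsonSubgroupOf_le 2 T)
  -- `J` normalizes `K`
  have hJK : J ≤ normalizer (K : Set G) := by
    have key : ∀ a ∈ J, ∀ k ∈ K, a * k * a⁻¹ ∈ K := by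
      intro a ha k hk
      have h1 : ⁅k⁻¹, a⁆ ∈ ⁅K, J⁆ := Subgroup.commutator_mem_commutator (K.inv_mem hk) ha
      rw [hcomm, commutatorElement_def] at h1
      have h2 : k * (k⁻¹ * a * k⁻¹⁻¹ * a⁻¹) ∈ K := K.mul_mem hk h1
      have : k * (k⁻¹ * a * k⁻¹⁻¹ * a⁻¹) = a * k * a⁻¹ := by group
      rwa [this] at h2
    intro a ha
    rw [Subgroup.mem_normalizer_iff]
    intro k
    constructor
    · exact key a ha k
    · intro h
      have := key a⁻¹ (J.inv_mem ha) _ h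
      have h3 : a⁻¹ * (a * k * a⁻¹) * a⁻¹⁻¹ = k := by group
      rwa [h3] at this
  have hXK : K ⊔ J ≤ normalizer (K : Set G) := sup_le Subgroup.le_normalizer hJK
  have hXQ : K ⊔ J ≤ normalizer ((pCoreOf 2 K : Subgroup G) : Set G) :=
    hXK.trans (Cfsg.Agent.Lib.Helper54.normalizer_le_normalizer_pCoreOf 2 K)
  obtain ⟨P, hP⟩ := (hJ2.comap_subtype (K := K ⊔ J)).exists_le_sylow
  refine ⟨(P : Subgroup ↥(K ⊔ J)).map (K ⊔ J).subtype, ?_⟩
  have hJS : J ≤ (P : Subgroup ↥(K ⊔ J)).map (K ⊔ J).subtype := by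
    intro j hj
    exact ⟨⟨j, (le_sup_right : J ≤ K ⊔ J) hj⟩, hP (Subgroup.mem_comap.mpr hj), rfl⟩
  have hS2 : IsPGroup 2 ↥((P : Subgroup ↥(K ⊔ J)).map (K ⊔ J).subtype) := P.isPGroup'.map _
  have hSX : (P : Subgroup ↥(K ⊔ J)).map (K ⊔ J).subtype ≤ K ⊔ J := Subgroup.map_subtype_le _
  have hSyl : IsSylowTwoIn ((P : Subgroup ↥(K ⊔ J)).map (K ⊔ J).subtype) (K ⊔ J) := by
    refine ⟨hSX, hS2, ?_⟩
    have h1 : ((P : Subgroup ↥(K ⊔ J)).map (K ⊔ J).subtype).relIndex (K ⊔ J) =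
        (P : Subgroup ↥(K ⊔ J)).index := by
      unfold Subgroup.relIndex Subgroup.subgroupOf
      rw [Subgroup.comap_map_eq_self_of_injective (K ⊔ J).subtype_injective]
    rw [h1]
    have h2 := P.not_dvd_index
    rw [← Nat.not_even_iff_odd, even_iff_two_dvd]
    exact h2
  have hJeq := hsyl _ hSyl hJS
  have hQS : pCoreOf 2 K ≤ (P : Subgroup ↥(K ⊔ J)).map (K ⊔ J).subtype := by
    haveI : ((pCoreOf 2 K).subgroupOf (K ⊔ J)).Normal :=
      Subgroup.normal_subgroupOf_of_le_normalizer hXQ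
    have hQ2 : IsPGroup 2 ↥((pCoreOf 2 K).subgroupOf (K ⊔ J)) :=
      (Cfsg.Agent.Lib.Helper54.isPGroup_pCoreOf 2 K).comap_subtype
    have hle := hQ2.le_sylow_of_normal P
    intro q hq
    have hqX : q ∈ K ⊔ J :=
      (le_sup_left : K ≤ K ⊔ J) (Cfsg.Agent.Lib.Helper54.pCoreOf_le 2 K hq)
    exact ⟨⟨q, hqX⟩, hle (Subgroup.mem_subgroupOf.mpr hq), rfl⟩
  exact ⟨hodd, hcomm, hidx, hcard, hexp, hJ2, hJeq.symm, hQS, hS2, hSX⟩

end Cfsg.Agent.Lib.Helper52.JComp
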