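import Mathlib
import Cfsg.Agent.Lib.Helper52.FModel4
import Cfsg.Agent.Lib.Helper55.Large

/-!
# Preparations for Glauberman's theorem on solvable groups (abelian Thompson subgroup)

* `normalCore_centralizer_eq`: the core of `C(S)` is `C(⟨S^X⟩)`;
* `omegaSub p V`: the subgroup generated by the elements of order dividing `p` of `V`;
* `mem_centralizer_of_centralizes_omega`: a `p'`-element centralizing `Ω₁(V)` (`V` abelian `p`-group,
  normalized) centralizes `V`;
* `fmOp_normalClosure`: `O_p(X / C_X(V)) = 1` for `V = ⟨S^X⟩`, `S` centralized by a Sylow `p`-subgroup;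
* `centralizer_omegaSub_eq`: `C_X(Ω₁(V)) = C_X(V)` in that situation.
-/

set_option autoImplicit false
set_option linter.unusedSectionVars false
set_option linter.style.haveILetI false

namespace Cfsg.Agent.Lib.Helper52

open Subgroup
open scoped commutatorElement
open Cfsg.Agent.Lib.Helper55 (cj mem_cj conj_mem_cj cj_one cj_mul cj_inv_cj cj_cj_inv cj_mono
  cj_eq_self_iff cj_inf cj_centralizer card_cj isPGroup_cj)

section GlauSolv1

variable {X : Type*} [Group X]

theorem normalCore_centralizer_eq (S : Subgroup X) :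
    (centralizer (S : Set X)).normalCore = centralizer (normalClosure (S : Set X) : Set X) := by
  apply le_antisymm
  · intro c hc
    have hc' : ∀ b : X, b * c * b⁻¹ ∈ centralizer (S : Set X) := hc
    have h1 : c ∈ centralizer (Group.conjugatesOfSet (S : Set X)) := by
      rw [mem_centralizer_iff]
      intro y hy
      rw [Group.mem_conjugatesOfSet_iff] at hy
      obtain ⟨s, hs, hsy⟩ := hy
      rw [isConj_iff] at hsy
      obtain ⟨b, rfl⟩ := hsy
      have h2 := (mem_centralizer_iff.mp (hc' b⁻¹)) s hs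
      rw [inv_inv] at h2
      calc b * s * b⁻¹ * c = b * (s * (b⁻¹ * c * b)) * b⁻¹ := by group
        _ = b * ((b⁻¹ * c * b) * s) * b⁻¹ := by rw [h2]
        _ = c * (b * s * b⁻¹) := by group
    have h3 : centralizer (Group.conjugatesOfSet (S : Set X)) =
        centralizer (normalClosure (S : Set X) : Set X) := by
      unfold normalClosure
      rw [Subgroup.centralizer_closure]
    rw [← h3]; exact h1
  · haveI : (normalClosure (S : Set X)).Normal := normalClosure_normal
    haveI : (centralizer (normalClosure (S : Set X) : Set X)).Normal := Subgroup.normal_centralizer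
    apply Subgroup.normal_le_normalCore.mpr
    exact centralizer_le (by exact_mod_cast (subset_normalClosure : (S : Set X) ⊆ _))

/-- the subgroup generated by the elements of order dividing `p` of `V` -/
def omegaSub (p : ℕ) (V : Subgroup X) : Subgroup X :=
  Subgroup.closure {v | v ∈ V ∧ v ^ p = 1}

theorem omegaSub_le (p : ℕ) (V : Subgroup X) : omegaSub p V ≤ V := by
  unfold omegaSub
  rw [closure_le]
  intro v hv
  exact hv.1

theorem mem_omegaSub {p : ℕ} {V : Subgroup X} {v : X} (hv : v ∈ V) (hvp : v ^ p = 1) :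
    v ∈ omegaSub p V := Subgroup.subset_closure ⟨hv, hvp⟩

theorem omegaSub_pow {p : ℕ} {V : Subgroup X} (hVc : ∀ x ∈ V, ∀ y ∈ V, x * y = y * x) :
    ∀ w ∈ omegaSub p V, w ^ p = 1 := by
  intro w hw
  have key : ∀ w, w ∈ omegaSub p V → w ∈ V ∧ w ^ p = 1 := by
    intro w hw
    unfold omegaSub at hw
    induction hw using closure_induction with
    | mem x hx => exact hx
    | one => exact ⟨V.one_mem, one_pow _⟩
    | mul x y _ _ hx hy =>
      refine ⟨V.mul_mem hx.1 hy.1, ?_⟩
      have : Commute x y := hVc x hx.1 y hy.1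
      rw [this.mul_pow, hx.2, hy.2, one_mul]
    | inv x _ hx =>
      exact ⟨V.inv_mem hx.1, by rw [inv_pow, hx.2, inv_one]⟩
  exact (key w hw).2

instance omegaSub_normal (p : ℕ) (V : Subgroup X) [hV : V.Normal] : (omegaSub p V).Normal := by
  constructor
  intro w hw g
  unfold omegaSub at hw ⊢
  induction hw using closure_induction with
  | mem x hx =>
    apply Subgroup.subset_closure
    refine ⟨hV.conj_mem x hx.1 g, ?_⟩
    rw [conj_pow, hx.2]; group
  | one => simp
  | mul x y _ _ hx hy =>
    have : g * (x * y) * g⁻¹ = (g * x * g⁻¹) * (g * y * g⁻¹) := by group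
    rw [this]; exact mul_mem hx hy
  | inv x _ hx =>
    have : g * x⁻¹ * g⁻¹ = (g * x * g⁻¹)⁻¹ := by group
    rw [this]; exact inv_mem hx

theorem omegaSub_isEA {p : ℕ} {V : Subgroup X} (hVc : ∀ x ∈ V, ∀ y ∈ V, x * y = y * x) :
    Cfsg.IsElementaryAbelian p (omegaSub p V) := by
  refine ⟨⟨⟨?_⟩⟩, omegaSub_pow hVc⟩
  intro a b
  apply Subtype.ext
  exact hVc a (omegaSub_le p V a.2) b (omegaSub_le p V b.2)

variable [Finite X] {p : ℕ} [hp : Fact p.Prime]

/-- a `p'`-element normalizing the abelian `p`-group `V` and centralizing `Ω₁(V)` centralizes `V` -/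
theorem mem_centralizer_of_centralizes_omega {V : Subgroup X}
    (hVc : ∀ x ∈ V, ∀ y ∈ V, x * y = y * x) (hVp : IsPGroup p V) {c : X}
    (hcV : c ∈ normalizer (V : Set X)) (hcop : (orderOf c).Coprime p)
    (hc : c ∈ centralizer (omegaSub p V : Set X)) : c ∈ centralizer (V : Set X) := by
  have key : ∀ k : ℕ, ∀ v ∈ V, v ^ (p ^ k) = 1 → c * v * c⁻¹ = v := by
    intro k
    induction k with
    | zero =>
      intro v _ hv1
      rw [pow_zero, pow_one] at hv1
      rw [hv1]; group
    | succ k ih =>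
      intro v hv hvk
      have hcv : c * v * c⁻¹ ∈ V := (mem_normalizer_iff.mp hcV v).mp hv
      have hu : c * v ^ p * c⁻¹ = v ^ p := by
        apply ih _ (V.pow_mem hv p)
        rw [← pow_mul, ← pow_succ']; exact hvk
      obtain ⟨w, hwdef⟩ : ∃ w, w = v⁻¹ * (c * v * c⁻¹) := ⟨_, rfl⟩
      have hwV : w ∈ V := hwdef ▸ V.mul_mem (V.inv_mem hv) hcv
      have hwp : w ^ p = 1 := by
        have hcomm : Commute v⁻¹ (c * v * c⁻¹) := hVc _ (V.inv_mem hv) _ hcv
        rw [hwdef, hcomm.mul_pow, conj_pow, hu, inv_pow, inv_mul_cancel]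
      have hwc : c * w * c⁻¹ = w := by
        have := (mem_centralizer_iff.mp hc) w (mem_omegaSub hwV hwp)
        calc c * w * c⁻¹ = (w * c) * c⁻¹ := by rw [this]
          _ = w := by group
      have hcv' : c * v * c⁻¹ = v * w := by rw [hwdef]; group
      have hj : ∀ j : ℕ, c ^ j * v * (c ^ j)⁻¹ = v * w ^ j := by
        intro j
        induction j with
        | zero => simp
        | succ j ihj =>
          have hwj : c * w ^ j * c⁻¹ = w ^ j := by rw [← conj_pow, hwc]
          calc c ^ (j + 1) * v * (c ^ (j + 1))⁻¹ = c * (c ^ j * v * (c ^ j)⁻¹) * c⁻¹ := by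
                rw [pow_succ']; group
            _ = c * (v * w ^ j) * c⁻¹ := by rw [ihj]
            _ = (c * v * c⁻¹) * (c * w ^ j * c⁻¹) := by group
            _ = v * w * w ^ j := by rw [hcv', hwj]
            _ = v * w ^ (j + 1) := by rw [pow_succ']; group
      have h1 := hj (orderOf c)
      rw [pow_orderOf_eq_one, one_mul, inv_one, mul_one] at h1
      have hw1 : w ^ orderOf c = 1 := by
        have : v * w ^ orderOf c = v * 1 := by rw [mul_one]; exact h1.symm
        exact mul_left_cancel this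
      have hw : w = 1 := by
        have h2 : orderOf w ∣ orderOf c := orderOf_dvd_of_pow_eq_one hw1
        have h3 : orderOf w ∣ p := orderOf_dvd_of_pow_eq_one hwp
        have h4 : orderOf w = 1 := Nat.eq_one_of_dvd_coprimes hcop h2 h3
        exact orderOf_eq_one_iff.mp h4
      rw [hcv', hw, mul_one]
  rw [mem_centralizer_iff]
  intro v hv
  obtain ⟨k, hk⟩ := (IsPGroup.iff_orderOf.mp hVp) ⟨v, hv⟩
  have hvk : v ^ (p ^ k) = 1 := by
    have := pow_orderOf_eq_one (⟨v, hv⟩ : V)
    rw [hk] at this
    exact congrArg Subtype.val this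
  have := key k v hv hvk
  calc v * c = (c * v * c⁻¹) * c := by rw [this]
    _ = c * v := by group

/-- `O_p(X / C_X(V)) = 1` for `V = ⟨S^X⟩` with `S` centralized by a Sylow `p`-subgroup -/
theorem fmOp_normalClosure (T : Sylow p X) (S : Subgroup X)
    (hST : S ≤ centralizer ((T : Subgroup X) : Set X)) : FMOp p (normalClosure (S : Set X)) := by
  intro D hDn hCD hidx
  obtain ⟨V, hV⟩ : ∃ V : Subgroup X, V = normalClosure (S : Set X) := ⟨_, rfl⟩
  rw [← hV] at hCD hidx ⊢
  haveI hVn : V.Normal := hV ▸ normalClosure_normal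
  have hSV : S ≤ V := by
    rw [hV]; exact subset_normalClosure
  obtain ⟨k, hk⟩ := hidx
  -- a Sylow `p`-subgroup of `D` inside `T`
  obtain ⟨P⟩ : Nonempty (Sylow p ↥D) := inferInstance
  obtain ⟨Q, hQ⟩ := (P.2.map D.subtype).exists_le_sylow
  obtain ⟨g, hg⟩ := MulAction.exists_smul_eq X Q T
  obtain ⟨P2, hP2⟩ : ∃ P2 : Subgroup X, P2 = cj g ((P : Subgroup ↥D).map D.subtype) := ⟨_, rfl⟩
  have hP2T : P2 ≤ (T : Subgroup X) := by
    rw [hP2, ← hg, Cfsg.Agent.Lib.Helper55.coe_smul_sylow]
    exact cj_mono hQ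
  have hP2D : P2 ≤ D := by
    rw [hP2]
    rintro _ ⟨x, ⟨y, _, rfl⟩, rfl⟩
    exact hDn.conj_mem _ y.2 g
  have hP2card : Nat.card P2 = Nat.card P := by
    rw [hP2, card_cj]
    exact Nat.card_congr ((P : Subgroup ↥D).equivMapOfInjective D.subtype
      D.subtype_injective).symm.toEquiv
  have hP2idx : P2.relIndex D = (P : Subgroup ↥D).index := by
    have h1 : Nat.card P2 * P2.relIndex D = Nat.card D := by
      rw [← Subgroup.relIndex_bot_left, ← Subgroup.relIndex_bot_left]
      exact Subgroup.relIndex_mul_relIndex _ _ _ bot_le hP2D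
    have h2 : Nat.card P * (P : Subgroup ↥D).index = Nat.card D :=
      (P : Subgroup ↥D).card_mul_index
    rw [hP2card] at h1
    have hpos : 0 < Nat.card P := Nat.card_pos
    exact Nat.eq_of_mul_eq_mul_left hpos (h1.trans h2.symm)
  have hcop : ¬ p ∣ P2.relIndex D := by
    rw [hP2idx]
    exact P.not_dvd_index
  -- `D = C ⊔ P2`
  have hsupD : centralizer (V : Set X) ⊔ P2 ≤ D := sup_le hCD hP2D
  have h1 : (centralizer (V : Set X) ⊔ P2).relIndex D ∣ (centralizer (V : Set X)).relIndex D :=
    Subgroup.relIndex_dvd_of_le_left D le_sup_left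
  have h2 : (centralizer (V : Set X) ⊔ P2).relIndex D ∣ P2.relIndex D :=
    Subgroup.relIndex_dvd_of_le_left D le_sup_right
  have h3 : (centralizer (V : Set X) ⊔ P2).relIndex D = 1 := by
    rw [hk] at h1
    obtain ⟨j, -, hj⟩ := (Nat.dvd_prime_pow hp.out).mp h1
    rcases j with _ | j
    · rw [hj, pow_zero]
    · exfalso
      apply hcop
      refine dvd_trans ?_ h2
      rw [hj, pow_succ]
      exact dvd_mul_left p _
  have hDle : D ≤ centralizer (V : Set X) ⊔ P2 := Subgroup.relIndex_eq_one.mp h3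
  -- `S ≤ C(D)`
  have hSD : S ≤ centralizer (D : Set X) := by
    refine le_trans ?_ (centralizer_le (by exact_mod_cast hDle))
    rw [Cfsg.Agent.Lib.Helper52.centralizer_sup_eq]
    refine le_inf ?_ ?_
    · exact hSV.trans (le_centralizer_iff.mp le_rfl)
    · exact hST.trans (centralizer_le (by exact_mod_cast hP2T))
  haveI : (centralizer (D : Set X)).Normal := Subgroup.normal_centralizer
  have hVD : V ≤ centralizer (D : Set X) := by
    rw [hV]
    exact normalClosure_le_normal (by exact_mod_cast hSD)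
  exact le_antisymm (le_centralizer_iff.mp hVD) hCD

/-- `C_X(Ω₁(V)) = C_X(V)` when `O_p(X / C_X(V)) = 1` -/
theorem centralizer_omegaSub_eq {V : Subgroup X} [hVn : V.Normal]
    (hVc : ∀ x ∈ V, ∀ y ∈ V, x * y = y * x) (hVp : IsPGroup p V) (hOp : FMOp p V) :
    centralizer (omegaSub p V : Set X) = centralizer (V : Set X) := by
  haveI : (centralizer (omegaSub p V : Set X)).Normal := Subgroup.normal_centralizer
  haveI hCn : (centralizer (V : Set X)).Normal := Subgroup.normal_centralizer
  have hCD : centralizer (V : Set X) ≤ centralizer (omegaSub p V : Set X) :=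
    centralizer_le (by exact_mod_cast omegaSub_le p V)
  refine hOp _ inferInstance hCD ?_
  obtain ⟨D, hD⟩ : ∃ D : Subgroup X, D = centralizer (omegaSub p V : Set X) := ⟨_, rfl⟩
  rw [← hD] at hCD ⊢
  have hpg : IsPGroup p (↥D ⧸ (centralizer (V : Set X)).subgroupOf D) := by
    intro q
    induction q using QuotientGroup.induction_on with
    | H d =>
      have hn0 : orderOf (d : X) ≠ 0 := (orderOf_pos (d : X)).ne'
      obtain ⟨e, m, hm, hn⟩ := Nat.exists_eq_pow_mul_and_not_dvd hn0 p hp.out.ne_one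
      refine ⟨e, ?_⟩
      rw [← QuotientGroup.mk_pow, QuotientGroup.eq_one_iff, mem_subgroupOf]
      have hdD : ((d ^ p ^ e : D) : X) ∈ centralizer (omegaSub p V : Set X) := hD ▸ (d ^ p ^ e).2
      refine mem_centralizer_of_centralizes_omega hVc hVp ?_ ?_ hdD
      · rw [normalizer_eq_top_iff.mpr hVn]; exact mem_top _
      · have h1 : ((d ^ p ^ e : D) : X) ^ m = 1 := by
          rw [Subgroup.coe_pow, ← pow_mul, ← hn, pow_orderOf_eq_one]
        have h2 : orderOf ((d ^ p ^ e : D) : X) ∣ m := orderOf_dvd_of_pow_eq_one h1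
        exact Nat.Coprime.coprime_dvd_left h2
          ((Nat.Prime.coprime_iff_not_dvd hp.out).mpr hm).symm
  obtain ⟨n, hn⟩ := IsPGroup.iff_card.mp hpg
  refine ⟨n, ?_⟩
  rw [← hn]
  unfold Subgroup.relIndex
  exact Subgroup.index_eq_card _

end GlauSolv1

end Cfsg.Agent.Lib.Helper52
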