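import Mathlib
import Cfsg.Agent.Lib.Helper52.GlauSolv1
import Cfsg.Agent.Lib.Helper52.FFAbelian2
import Cfsg.Agent.Lib.Helper52.FFGlobal6
import Cfsg.Agent.Lib.Helper52.CopModel
import Cfsg.Agent.Lib.Helper53.ThompsonJA
import Cfsg.Agent.Lib.Helper55.FrakM

/-!
# Glauberman's theorem on solvable groups (abelian Thompson subgroup): the model part
-/

set_option autoImplicit false
set_option linter.unusedSectionVars false
set_option linter.style.haveILetI false

namespace Cfsg.Agent.Lib.Helper52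

open Subgroup Matrix
open scoped commutatorElement
open Cfsg.Agent.Lib.Helper55 (cj mem_cj conj_mem_cj cj_one cj_mul cj_inv_cj cj_cj_inv cj_mono
  cj_eq_self_iff cj_inf cj_centralizer card_cj isPGroup_cj)
open Cfsg.Agent.Lib.Helper53 (IsMaxAbIn)

section StructurePi

variable {G : Type*} [Group G] [Finite G] {p : ℕ} [hp : Fact p.Prime]
variable {V H : Subgroup G}

/-- **the structure theorem, as an isomorphism with a direct power of `SL₂(p)`** -/
theorem ff_structure_pi (h : FFHyp p V H) (hgen : FFGen p V H) :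
    ∃ n : ℕ, (H ≠ ⊥ → 1 ≤ n) ∧
      Nonempty (↥H ≃* (Fin n → SpecialLinearGroup (Fin 2) (ZMod p))) := by
  classical
  obtain ⟨ι, hι⟩ : ∃ ι : Type _, ι = {E : Subgroup G // ∃ A, FFMin p V H A ∧ E = ffE p H A} :=
    ⟨_, rfl⟩
  subst hι
  haveI : Fintype {E : Subgroup G // ∃ A, FFMin p V H A ∧ E = ffE p H A} := Fintype.ofFinite _
  let f : {E : Subgroup G // ∃ A, FFMin p V H A ∧ E = ffE p H A} → Subgroup G := fun i => i.1
  have hinj : Function.Injective f := Subtype.val_injective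
  have hf1 : ∀ i, ∃ A, FFMin p V H A ∧ f i = ffE p H A := fun i => i.2
  have hf2 : ∀ A, FFMin p V H A → ∃ i, f i = ffE p H A := fun A hA => ⟨⟨_, A, hA, rfl⟩, rfl⟩
  have hind := ff_structure_indep h f hinj hf1
  have hsup := ff_structure_sup hgen f hf1 hf2
  have heach := ff_structure_each h hgen f hf1
  have hle : ∀ i, f i ≤ H := fun i => hsup ▸ le_iSup f i
  have hcomm : Pairwise fun i j => ∀ x y : G, x ∈ f i → y ∈ f j → Commute x y := by
    intro i j hij x y hx hy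
    have h1 : ⁅x, y⁆ ∈ f i := by
      have hyN := (heach i).1 (hle j hy)
      have : y * x⁻¹ * y⁻¹ ∈ f i := (mem_normalizer_iff.mp hyN x⁻¹).mp ((f i).inv_mem hx)
      have e : ⁅x, y⁆ = x * (y * x⁻¹ * y⁻¹) := by rw [commutatorElement_def]; group
      rw [e]; exact (f i).mul_mem hx this
    have h2 : ⁅x, y⁆ ∈ f j := by
      have hxN := (heach j).1 (hle i hx)
      have : x * y * x⁻¹ ∈ f j := (mem_normalizer_iff.mp hxN y).mp hy
      have e : ⁅x, y⁆ = (x * y * x⁻¹) * y⁻¹ := by rw [commutatorElement_def]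
      rw [e]; exact (f j).mul_mem this ((f j).inv_mem hy)
    have h3 : f i ⊓ f j = ⊥ := by
      have := hind i
      rw [disjoint_iff] at this
      rw [eq_bot_iff, ← this]
      exact inf_le_inf_left _ (le_iSup₂_of_le j hij.symm le_rfl)
    have h4 : ⁅x, y⁆ ∈ f i ⊓ f j := ⟨h1, h2⟩
    rw [h3, mem_bot, commutatorElement_eq_one_iff_mul_comm] at h4
    exact h4
  have hφinj := Subgroup.injective_noncommPiCoprod_of_iSupIndep (hcomm := hcomm) hind
  have hφrange : (Subgroup.noncommPiCoprod hcomm).range = H := by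
    rw [Subgroup.noncommPiCoprod_range, hsup]
  have e1 : (∀ i, ↥(f i)) ≃* ↥H :=
    (MonoidHom.ofInjective hφinj).trans (MulEquiv.subgroupCongr hφrange)
  have e2 : (∀ i, ↥(f i)) ≃* ({E : Subgroup G // ∃ A, FFMin p V H A ∧ E = ffE p H A} →
      SpecialLinearGroup (Fin 2) (ZMod p)) :=
    MulEquiv.piCongrRight (fun i => (heach i).2.1.some)
  have e3 : ({E : Subgroup G // ∃ A, FFMin p V H A ∧ E = ffE p H A} →
      SpecialLinearGroup (Fin 2) (ZMod p)) ≃*
      (Fin (Fintype.card {E : Subgroup G // ∃ A, FFMin p V H A ∧ E = ffE p H A}) →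
        SpecialLinearGroup (Fin 2) (ZMod p)) :=
    MulEquiv.arrowCongr (Fintype.equivFin _) (MulEquiv.refl _)
  refine ⟨Fintype.card {E : Subgroup G // ∃ A, FFMin p V H A ∧ E = ffE p H A}, ?_,
    ⟨(e1.symm.trans e2).trans e3⟩⟩
  intro hH
  rw [Nat.one_le_iff_ne_zero]
  intro h0
  apply hH
  haveI : IsEmpty {E : Subgroup G // ∃ A, FFMin p V H A ∧ E = ffE p H A} :=
    Fintype.card_eq_zero_iff.mp h0
  rw [← hsup, iSup_of_empty]

end StructurePi

section GlauModel

variable {X : Type*} [Group X] [Finite X] {p : ℕ} [hp : Fact p.Prime]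
variable (V₁ : Subgroup X) [hV₁n : V₁.Normal]

omit hp in
/-- the image of an abelian subgroup of largest order of `T ≥ V₁` is an offender on `V₁` -/
theorem glau_offender (hV₁ : Cfsg.IsElementaryAbelian p V₁) {T A : Subgroup X} (hVT : V₁ ≤ T)
    (hA : IsMaxAbIn T A) :
    Nat.card (fmι V₁).range ≤ Nat.card (A.map (fmπ V₁)) *
      Nat.card ↥((fmι V₁).range ⊓
        centralizer ((A.map (fmπ V₁) : Subgroup (FM V₁)) : Set (FM V₁))) := by
  rw [fm_card_V, fm_card_fix]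
  obtain ⟨A₀, hA₀⟩ : ∃ A₀ : Subgroup X, A₀ = A ⊓ centralizer (V₁ : Set X) := ⟨_, rfl⟩
  have hA₀A : A₀ ≤ A := hA₀ ▸ inf_le_left
  have hA₀C : A₀ ≤ centralizer (V₁ : Set X) := hA₀ ▸ inf_le_right
  have hVcomm : ∀ x ∈ V₁, ∀ y ∈ V₁, x * y = y * x := by
    intro x hx y hy
    have := hV₁.1.is_comm.comm ⟨x, hx⟩ ⟨y, hy⟩
    exact congrArg Subtype.val this
  -- `B = A₀ V₁` is abelian
  have hBc : A₀ ⊔ V₁ ≤ centralizer ((A₀ ⊔ V₁ : Subgroup X) : Set X) := by
    rw [Cfsg.Agent.Lib.Helper52.centralizer_sup_eq]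
    refine sup_le (le_inf ?_ hA₀C) (le_inf ?_ ?_)
    · intro x hx
      rw [mem_centralizer_iff]
      intro y hy
      exact hA.2.1 y (hA₀A hy) x (hA₀A hx)
    · exact le_centralizer_iff.mp hA₀C
    · intro x hx
      rw [mem_centralizer_iff]
      intro y hy
      exact hVcomm y hy x hx
  have hBcomm : ∀ x ∈ A₀ ⊔ V₁, ∀ y ∈ A₀ ⊔ V₁, x * y = y * x := by
    intro x hx y hy
    exact ((mem_centralizer_iff.mp (hBc hy)) x hx)
  have hBT : A₀ ⊔ V₁ ≤ T := sup_le (hA₀A.trans hA.1) hVT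
  have h1 : Nat.card ↥(A₀ ⊔ V₁) ≤ Nat.card A := hA.2.2 _ hBT hBcomm
  have hn : A₀ ≤ normalizer (V₁ : Set X) := by
    rw [normalizer_eq_top_iff.mpr hV₁n]; exact le_top
  have h2 := Cfsg.Agent.Lib.Helper01.card_sup_mul_card_inf_of_le_normalizer V₁ A₀ hn
  have h3 : V₁ ⊓ A₀ ≤ V₁ ⊓ centralizer (A : Set X) := by
    refine inf_le_inf_left _ ?_
    intro x hx
    rw [mem_centralizer_iff]
    intro y hy
    exact hA.2.1 y hy x (hA₀A hx)
  have h4 : Nat.card ↥(V₁ ⊓ A₀) ≤ Nat.card ↥(V₁ ⊓ centralizer (A : Set X)) :=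
    Subgroup.card_le_of_le h3
  have h5 := fm_card_map V₁ A
  rw [← hA₀] at h5
  have hpos : 0 < Nat.card A₀ := Nat.card_pos
  have h6 : Nat.card V₁ * Nat.card A₀ ≤
      (Nat.card (A.map (fmπ V₁)) * Nat.card ↥(V₁ ⊓ centralizer (A : Set X))) * Nat.card A₀ := by
    calc Nat.card V₁ * Nat.card A₀ = Nat.card ↥(A₀ ⊔ V₁) * Nat.card ↥(V₁ ⊓ A₀) := h2.symm
      _ ≤ Nat.card A * Nat.card ↥(V₁ ⊓ centralizer (A : Set X)) := Nat.mul_le_mul h1 h4
      _ = (Nat.card (A.map (fmπ V₁)) * Nat.card ↥(V₁ ⊓ centralizer (A : Set X))) *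
          Nat.card A₀ := by rw [← h5]; ring
  exact Nat.le_of_mul_le_mul_right h6 hpos

/-- the image of the normal closure of `J(T)` (abelian version) is generated by minimal
offenders -/
theorem glau_gen (hV₁ : Cfsg.IsElementaryAbelian p V₁) (hsep : Cfsg.IsPSolvable p X)
    (hOp : FMOp p V₁) {T : Subgroup X} (hT : IsPGroup p T) (hVT : V₁ ≤ T) :
    FFGen p (fmι V₁).range
      ((normalClosure (Cfsg.thompsonSubgroupAOf T : Set X)).map (fmπ V₁)) := by
  obtain ⟨Y, hY⟩ : ∃ Y : Subgroup X, Y = normalClosure (Cfsg.thompsonSubgroupAOf T : Set X) :=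
    ⟨_, rfl⟩
  rw [← hY]
  haveI hYn : Y.Normal := hY ▸ normalClosure_normal
  have hJY : Cfsg.thompsonSubgroupAOf T ≤ Y := hY ▸ subset_normalClosure
  have h := fm_hyp V₁ hV₁ hsep hOp Y
  unfold FFGen
  obtain ⟨Nb, hNb⟩ : ∃ Nb : Subgroup (FM V₁), Nb = ⨆ B : {B : Subgroup (FM V₁) //
      FFMin p (fmι V₁).range (Y.map (fmπ V₁)) B}, (B : Subgroup (FM V₁)) := ⟨_, rfl⟩
  rw [← hNb]
  -- Step 1
  have step1 : ∀ A : Subgroup X, IsMaxAbIn T A → A.map (fmπ V₁) ≤ Nb := by
    intro A hA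
    have hAY : A ≤ Y := hA.le_thompsonAOf.trans hJY
    have hAH : A.map (fmπ V₁) ≤ Y.map (fmπ V₁) := Subgroup.map_mono hAY
    have hAc : ∀ x ∈ A.map (fmπ V₁), ∀ y ∈ A.map (fmπ V₁), x * y = y * x := by
      rintro _ ⟨a, ha, rfl⟩ _ ⟨b, hb, rfl⟩
      rw [← map_mul, ← map_mul, hA.2.1 a ha b hb]
    have hAp : IsPGroup p ↥(A.map (fmπ V₁)) := (hT.to_le hA.1).map _
    have hoff := glau_offender V₁ hV₁ hVT hA
    have hle := ff_abelian_le h hAH hAc
    have htight := le_antisymm hle hoff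
    have hexp := ff_abelian_tight h _ _ rfl hAH hAc hAp htight
    rw [hNb]
    refine best_le_iSup_ffmin h hAH ⟨?_, ?_, ?_⟩
    · intro B hB
      rw [htight]
      exact ff_abelian_le h (hB.trans hAH) (fun x hx y hy => hAc x (hB hx) y (hB hy))
    · rw [commutator_le]
      intro x hx y hy
      have := hAc x hx y hy
      rw [← commutatorElement_eq_one_iff_mul_comm] at this
      rw [this]; exact one_mem _
    · intro a ha
      rw [hexp a ha]; exact one_mem _
  -- Step 2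
  have step2 : (fmπ V₁).range ≤ normalizer (Nb : Set (FM V₁)) := by
    apply Cfsg.Agent.Lib.Helper55.le_normalizer_of_cj_le
    intro m hm
    rw [hNb]
    show Subgroup.map _ _ ≤ _
    rw [Subgroup.map_iSup]
    refine iSup_le fun B => ?_
    have hB' : FFMin p (fmι V₁).range (Y.map (fmπ V₁)) (cj m (B : Subgroup (FM V₁))) :=
      FFMin.conj' B.2 (fm_range_le_normalizer V₁ hm) (fm_range_le_normalizer_map V₁ Y hm)
    exact le_iSup (fun B : {B : Subgroup (FM V₁) //
      FFMin p (fmι V₁).range (Y.map (fmπ V₁)) B} => (B : Subgroup (FM V₁))) ⟨_, hB'⟩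
  haveI hNn : (Nb.comap (fmπ V₁)).Normal := by
    constructor
    intro n hn g
    rw [mem_comap] at hn ⊢
    rw [map_mul, map_mul, map_inv]
    exact (mem_normalizer_iff.mp (step2 ⟨g, rfl⟩) _).mp hn
  -- Step 3
  have step3 : Cfsg.thompsonSubgroupAOf T ≤ Nb.comap (fmπ V₁) := by
    rw [Cfsg.Agent.Lib.Helper53.thompsonAOf_eq_sSup]
    refine sSup_le fun A hA => ?_
    rw [← Subgroup.map_le_iff_le_comap]
    exact step1 A hA
  -- Step 4
  have step4 : Y ≤ Nb.comap (fmπ V₁) := by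
    rw [hY]
    exact normalClosure_le_normal (by exact_mod_cast step3)
  rw [Subgroup.map_le_iff_le_comap]
  exact step4

end GlauModel

end Cfsg.Agent.Lib.Helper52
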