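import Mathlib
import Cfsg.Agent.Lib.Helper52.GlauSolv2
import Cfsg.Agent.Lib.Helper52.PCore
import Cfsg.Agent.Lib.Helper13.Fitting
import Cfsg.Agent.Lib.Helper33.SolvPSolv
import Cfsg.Agent.Lib.Helper16.ZJ
import Cfsg.Agent.Lib.Helper53.NpcFunctor
import Cfsg.Agent.Lib.Helper53.ThompsonJA
import Cfsg.Agent.Lib.Helper51.O4b

/-!
# Glauberman's theorem on solvable groups with `F(X) = O₂(X)` (abelian Thompson subgroup)

`glau_main`: `X = C Y N_X(J(T))` and `Y ≤ C` or `CY/C` is a direct product of copies of `S₃`.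
-/

set_option autoImplicit false
set_option linter.unusedSectionVars false
set_option linter.style.haveILetI false

namespace Cfsg.Agent.Lib.Helper52

open Subgroup Matrix
open scoped commutatorElement

section GlauSolv3

variable {X : Type*} [Group X] [Finite X]

/-- Frattini: `X = Y N_X(J(T))` for the normal closure `Y` of `J(T)` -/
theorem glau_frattini {p : ℕ} [hp : Fact p.Prime] (T : Sylow p X) (Y : Subgroup X) [hYn : Y.Normal]
    (hJY : Cfsg.thompsonSubgroupAOf (T : Subgroup X) ≤ Y) :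
    Y ⊔ normalizer (Cfsg.thompsonSubgroupAOf (T : Subgroup X) : Set X) = ⊤ := by
  rw [eq_top_iff]
  intro g _
  obtain ⟨a, ha, c, hc, rfl⟩ := Cfsg.Agent.Lib.Helper16.ZJ.frattini_inf_normal T Y g
  obtain ⟨R, hR⟩ : ∃ R : Subgroup X, R = (T : Subgroup X) ⊓ Y := ⟨_, rfl⟩
  rw [← hR] at ha
  have hRT : R ≤ (T : Subgroup X) := hR ▸ inf_le_left
  have hRp : IsPGroup p R := T.2.to_le hRT
  have hJR : Cfsg.thompsonSubgroupAOf (T : Subgroup X) ≤ R :=
    hR ▸ le_inf (Cfsg.Agent.Lib.Helper53.thompsonAOf_le _) hJY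
  have hJeq : Cfsg.thompsonSubgroupAOf R = Cfsg.thompsonSubgroupAOf (T : Subgroup X) :=
    Cfsg.Agent.Lib.Helper53.thompsonAOf_eq_of_le hJR hRT
  have hN : normalizer (R : Set X) ≤ normalizer (Cfsg.thompsonSubgroupAOf R : Set X) := by
    have := Cfsg.Agent.Lib.Helper53.normalizer_le_normalizer_inducedFunctor (p := p)
      (W := Cfsg.Agent.Lib.Helper53.JAfun) Cfsg.Agent.Lib.Helper53.isCharPFunctor_JA hRp
    rwa [Cfsg.Agent.Lib.Helper53.inducedFunctor_JA] at this
  rw [hJeq] at hN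
  exact mul_mem (mem_sup_right (hN ha)) (mem_sup_left hc)

theorem glau_aux [Group.IsSolvable X] (hF : Cfsg.fittingSubgroup X = Cfsg.pCore 2 X)
    (T : Sylow 2 X) (Z J Y C : Subgroup X)
    (hZ : Z = (T : Subgroup X) ⊓ centralizer ((T : Subgroup X) : Set X))
    (hJ : J = Cfsg.thompsonSubgroupAOf (T : Subgroup X))
    (hY : Y = normalClosure (J : Set X)) [hYn : Y.Normal] [hCn : C.Normal]
    (hC : C = (centralizer (Z : Set X)).normalCore) :
    (C ⊔ Y ⊔ normalizer (J : Set X) = ⊤) ∧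
      (Y ≤ C ∨ ∃ n : ℕ, 1 ≤ n ∧
        Nonempty (↥Y ⧸ C.subgroupOf Y ≃* (Fin n → Equiv.Perm (Fin 3)))) := by
  haveI : Fact (Nat.Prime 2) := ⟨Nat.prime_two⟩
  have hJY : J ≤ Y := hY ▸ subset_normalClosure
  constructor
  · have h1 := glau_frattini T Y (hJ ▸ hJY)
    rw [← hJ] at h1
    rw [eq_top_iff, ← h1]
    exact sup_le (le_sup_left.trans' le_sup_right) le_sup_right
  -- the second part
  obtain ⟨Q, hQ⟩ : ∃ Q : Subgroup X, Q = Cfsg.pCore 2 X := ⟨_, rfl⟩
  haveI hQn : Q.Normal := hQ ▸ pCore_normal 2 X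
  have hQp : IsPGroup 2 Q := hQ ▸ pCore_isPGroup 2 X
  have hQT : Q ≤ (T : Subgroup X) := hQ ▸ pCore_le_sylow 2 X T
  have hCQ : centralizer (Q : Set X) ≤ Q := by
    have := Cfsg.Agent.Lib.Helper13.centralizer_fittingSubgroup_le (G := X)
    rw [hF, ← hQ] at this
    exact this
  have hZcT : Z ≤ centralizer ((T : Subgroup X) : Set X) := hZ ▸ inf_le_right
  have hZcQ : Z ≤ centralizer (Q : Set X) :=
    hZcT.trans (centralizer_le (by exact_mod_cast hQT))
  have hZQ : Z ≤ Q := hZcQ.trans hCQ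
  haveI hcQn : (centralizer (Q : Set X)).Normal := Subgroup.normal_centralizer
  obtain ⟨V, hV⟩ : ∃ V : Subgroup X, V = normalClosure (Z : Set X) := ⟨_, rfl⟩
  haveI hVn : V.Normal := hV ▸ normalClosure_normal
  have hVQ : V ≤ Q := by
    rw [hV]; exact normalClosure_le_normal (by exact_mod_cast hZQ)
  have hVcQ : V ≤ centralizer (Q : Set X) := by
    rw [hV]; exact normalClosure_le_normal (by exact_mod_cast hZcQ)
  have hVc : ∀ x ∈ V, ∀ y ∈ V, x * y = y * x := by
    intro x hx y hy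
    exact (mem_centralizer_iff.mp (hVcQ hx) y (hVQ hy)).symm
  have hVp : IsPGroup 2 V := hQp.to_le hVQ
  have hVT : V ≤ (T : Subgroup X) := hVQ.trans hQT
  have hCV : C = centralizer (V : Set X) := by
    rw [hC, hV]; exact normalCore_centralizer_eq Z
  have hOpV : FMOp 2 V := hV ▸ fmOp_normalClosure T Z hZcT
  obtain ⟨V₁, hV₁def⟩ : ∃ V₁ : Subgroup X, V₁ = omegaSub 2 V := ⟨_, rfl⟩
  haveI hV₁n : V₁.Normal := hV₁def ▸ omegaSub_normal 2 V
  have hV₁ : Cfsg.IsElementaryAbelian 2 V₁ := hV₁def ▸ omegaSub_isEA hVc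
  have hC₁ : centralizer (V₁ : Set X) = centralizer (V : Set X) := by
    rw [hV₁def]; exact centralizer_omegaSub_eq hVc hVp hOpV
  have hOp₁ : FMOp 2 V₁ := by
    intro D hDn hCD hidx
    rw [hC₁] at hCD hidx ⊢
    exact hOpV D hDn hCD hidx
  have hV₁T : V₁ ≤ (T : Subgroup X) := (hV₁def ▸ omegaSub_le 2 V).trans hVT
  have hsep : Cfsg.IsPSolvable 2 X := Cfsg.Agent.Lib.Helper33.isPSolvable_of_isSolvable 2 X
  have h := fm_hyp V₁ hV₁ hsep hOp₁ Y
  have hgen := glau_gen V₁ hV₁ hsep hOp₁ T.2 hV₁T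
  rw [← hJ, ← hY] at hgen
  obtain ⟨n, hn, ⟨e⟩⟩ := ff_structure_pi h hgen
  by_cases hYC : Y ≤ C
  · exact Or.inl hYC
  right
  refine ⟨n, hn ?_, ?_⟩
  · intro h0
    apply hYC
    rw [Subgroup.map_eq_bot_iff, fmπ_ker, hC₁, ← hCV] at h0
    exact h0
  · have hsurj : Function.Surjective ((fmπ V₁).subgroupMap Y) :=
      (fmπ V₁).subgroupMap_surjective Y
    have hker : ((fmπ V₁).subgroupMap Y).ker = C.subgroupOf Y := by
      ext x
      rw [MonoidHom.mem_ker, mem_subgroupOf, hCV, ← hC₁, ← fmπ_eq_one_iff V₁]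
      constructor
      · intro h
        exact congrArg Subtype.val h
      · intro h
        apply Subtype.ext
        exact h
    exact ⟨(((QuotientGroup.quotientMulEquivOfEq hker).symm.trans
      (QuotientGroup.quotientKerEquivOfSurjective _ hsurj)).trans e).trans
      (MulEquiv.piCongrRight (fun _ => Cfsg.Agent.Lib.Helper51.sl2EquivPerm))⟩

/-- **Glauberman's theorem for solvable groups with `F(X) = O₂(X)`, abelian Thompson subgroup** -/
theorem glau_main [Group.IsSolvable X] (hF : Cfsg.fittingSubgroup X = Cfsg.pCore 2 X)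
    (T : Sylow 2 X) :
    ((Subgroup.centralizer (((T : Subgroup X) ⊓ Subgroup.centralizer ((T : Subgroup X) : Set X) : Subgroup X) : Set X)).normalCore
        ⊔ Subgroup.normalClosure (Cfsg.thompsonSubgroupAOf (T : Subgroup X) : Set X)
        ⊔ Subgroup.normalizer (Cfsg.thompsonSubgroupAOf (T : Subgroup X) : Set X) = ⊤) ∧
    (Subgroup.normalClosure (Cfsg.thompsonSubgroupAOf (T : Subgroup X) : Set X)
        ≤ (Subgroup.centralizer (((T : Subgroup X) ⊓ Subgroup.centralizer ((T : Subgroup X) : Set X) : Subgroup X) : Set X)).normalCore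
      ∨ ∃ n : ℕ, 1 ≤ n ∧
        Nonempty (↥(Subgroup.normalClosure (Cfsg.thompsonSubgroupAOf (T : Subgroup X) : Set X)) ⧸
            ((Subgroup.centralizer (((T : Subgroup X) ⊓ Subgroup.centralizer ((T : Subgroup X) : Set X) : Subgroup X) : Set X)).normalCore).subgroupOf
              (Subgroup.normalClosure (Cfsg.thompsonSubgroupAOf (T : Subgroup X) : Set X))
          ≃* (Fin n → Equiv.Perm (Fin 3)))) :=
  glau_aux hF T _ _ _ _ rfl rfl rfl rfl

end GlauSolv3

end Cfsg.Agent.Lib.Helper52
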