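import Cfsg.Prelude.Def_JComponents
import Cfsg.Agent.Lib.Helper15.ThompsonOf
import Cfsg.Agent.Lib.Helper54.Subnormal
import Cfsg.Agent.Lib.Helper38.PGroup

/-!
# General lemmas for the J(T)-component chain

* membership in `omegaCenterOf`, conjugation invariance of `omegaCenterOf` and `wOf`;
* elementary facts on the action of elements on a four-group `W`;
* joins of commuting elementary abelian subgroups, and the `maxElemIn` family.
-/

set_option autoImplicit false
set_option linter.unusedSectionVars false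
set_option linter.unusedVariables false

namespace Cfsg.Agent.Lib.Helper52.JComp

open Cfsg Subgroup
open scoped commutatorElement

variable {G : Type*} [Group G]

/-! ### `omegaCenterOf` -/

theorem mem_omegaCenterOf_iff {X : Subgroup G} {z : G} :
    z ∈ omegaCenterOf X ↔ z ∈ X ∧ z ∈ centralizer (X : Set G) ∧ z ^ 2 = 1 := by
  constructor
  · intro hz
    unfold omegaCenterOf omegaOne at hz
    induction hz using Subgroup.closure_induction with
    | mem y hy =>
      obtain ⟨hy1, hy2⟩ := hy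
      rw [Subgroup.mem_inf] at hy1
      exact ⟨hy1.1, hy1.2, hy2⟩
    | one => exact ⟨X.one_mem, Subgroup.one_mem _, one_pow _⟩
    | mul a b _ _ iha ihb =>
      obtain ⟨ha1, ha2, ha3⟩ := iha
      obtain ⟨hb1, hb2, hb3⟩ := ihb
      refine ⟨X.mul_mem ha1 hb1, Subgroup.mul_mem _ ha2 hb2, ?_⟩
      have hc : Commute a b := (Subgroup.mem_centralizer_iff.mp hb2 a ha1)
      rw [hc.mul_pow, ha3, hb3, one_mul]
    | inv a _ iha =>
      obtain ⟨ha1, ha2, ha3⟩ := iha
      exact ⟨X.inv_mem ha1, Subgroup.inv_mem _ ha2, by rw [inv_pow, ha3, inv_one]⟩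
  · rintro ⟨h1, h2, h3⟩
    unfold omegaCenterOf omegaOne
    exact Subgroup.subset_closure ⟨Subgroup.mem_inf.mpr ⟨h1, h2⟩, h3⟩

theorem omegaCenterOf_le (X : Subgroup G) : omegaCenterOf X ≤ X :=
  fun _ hz => (mem_omegaCenterOf_iff.mp hz).1

theorem omegaCenterOf_le_centralizer (X : Subgroup G) :
    omegaCenterOf X ≤ centralizer (X : Set G) :=
  fun _ hz => (mem_omegaCenterOf_iff.mp hz).2.1

theorem conj_mem_of_mem_normalizer {X : Subgroup G} {g x : G}
    (hg : g ∈ normalizer (X : Set G)) (hx : x ∈ X) : g * x * g⁻¹ ∈ X :=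
  (Subgroup.mem_normalizer_iff.mp hg x).mp hx

theorem conj_inv_mem_of_mem_normalizer {X : Subgroup G} {g x : G}
    (hg : g ∈ normalizer (X : Set G)) (hx : x ∈ X) : g⁻¹ * x * g ∈ X := by
  have := conj_mem_of_mem_normalizer (Subgroup.inv_mem _ hg) hx
  simpa using this

theorem conj_mem_omegaCenterOf {X : Subgroup G} {g z : G}
    (hg : g ∈ normalizer (X : Set G)) (hz : z ∈ omegaCenterOf X) :
    g * z * g⁻¹ ∈ omegaCenterOf X := by
  obtain ⟨h1, h2, h3⟩ := mem_omegaCenterOf_iff.mp hz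
  refine mem_omegaCenterOf_iff.mpr ⟨conj_mem_of_mem_normalizer hg h1, ?_, ?_⟩
  · rw [Subgroup.mem_centralizer_iff]
    intro y hy
    have hy' : g⁻¹ * y * g ∈ X := conj_inv_mem_of_mem_normalizer hg hy
    have hc := Subgroup.mem_centralizer_iff.mp h2 _ hy'
    calc y * (g * z * g⁻¹) = g * ((g⁻¹ * y * g) * z) * g⁻¹ := by group
      _ = g * (z * (g⁻¹ * y * g)) * g⁻¹ := by rw [hc]
      _ = g * z * g⁻¹ * y := by group
  · have : (g * z * g⁻¹) ^ 2 = g * z ^ 2 * g⁻¹ := by
      rw [pow_two, pow_two]; group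
    rw [this, h3]; group

/-! ### `wOf` -/

theorem wOf_le_omega (K : Subgroup G) : wOf K ≤ omegaCenterOf (pCoreOf 2 K) := by
  unfold wOf
  rw [Subgroup.commutator_le]
  intro v hv k hk
  have hkn : k ∈ normalizer ((pCoreOf 2 K : Subgroup G) : Set G) :=
    Cfsg.Agent.Lib.Helper54.le_normalizer_pCoreOf 2 K hk
  have h1 : k * v⁻¹ * k⁻¹ ∈ omegaCenterOf (pCoreOf 2 K) :=
    conj_mem_omegaCenterOf hkn (Subgroup.inv_mem _ hv)
  have : ⁅v, k⁆ = v * (k * v⁻¹ * k⁻¹) := by
    rw [commutatorElement_def]; group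
  rw [this]
  exact Subgroup.mul_mem _ hv h1

theorem wOf_le_pCoreOf (K : Subgroup G) : wOf K ≤ pCoreOf 2 K :=
  (wOf_le_omega K).trans (omegaCenterOf_le _)

theorem wOf_le (K : Subgroup G) : wOf K ≤ K :=
  (wOf_le_pCoreOf K).trans (Cfsg.Agent.Lib.Helper54.pCoreOf_le 2 K)

theorem wOf_le_centralizer_pCoreOf (K : Subgroup G) :
    wOf K ≤ centralizer ((pCoreOf 2 K : Subgroup G) : Set G) :=
  (wOf_le_omega K).trans (omegaCenterOf_le_centralizer _)

theorem conj_mem_wOf [Finite G] {K : Subgroup G} {g w : G}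
    (hg : g ∈ normalizer (K : Set G)) (hw : w ∈ wOf K) : g * w * g⁻¹ ∈ wOf K := by
  have hgQ : g ∈ normalizer ((pCoreOf 2 K : Subgroup G) : Set G) :=
    Cfsg.Agent.Lib.Helper54.normalizer_le_normalizer_pCoreOf 2 K hg
  have hle : wOf K ≤ (wOf K).comap (MulAut.conj g).toMonoidHom := by
    unfold wOf
    rw [Subgroup.commutator_le]
    intro v hv k hk
    rw [Subgroup.mem_comap]
    have h1 : (MulAut.conj g).toMonoidHom ⁅v, k⁆ = ⁅g * v * g⁻¹, g * k * g⁻¹⁆ := by
      rw [map_commutatorElement]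
      rfl
    rw [h1]
    exact Subgroup.commutator_mem_commutator (conj_mem_omegaCenterOf hgQ hv)
      (conj_mem_of_mem_normalizer hg hk)
  have := hle hw
  rw [Subgroup.mem_comap] at this
  exact this

theorem le_normalizer_wOf [Finite G] (K : Subgroup G) :
    normalizer (K : Set G) ≤ normalizer ((wOf K : Subgroup G) : Set G) := by
  intro g hg
  rw [Subgroup.mem_normalizer_iff]
  intro w
  constructor
  · exact conj_mem_wOf hg
  · intro h
    have := conj_mem_wOf (Subgroup.inv_mem _ hg) h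
    have h3 : g⁻¹ * (g * w * g⁻¹) * g⁻¹⁻¹ = w := by group
    rwa [h3] at this

/-! ### four-groups -/

section four

variable {W : Subgroup G}

theorem fg_inv (hW2 : ∀ w ∈ W, w * w = 1) {w : G} (hw : w ∈ W) : w⁻¹ = w :=
  inv_eq_of_mul_eq_one_left (hW2 w hw)

theorem fg_comm (hW2 : ∀ w ∈ W, w * w = 1) {u v : G} (hu : u ∈ W) (hv : v ∈ W) :
    u * v = v * u := by
  have h := hW2 (u * v) (W.mul_mem hu hv)
  have h1 : u * v = (u * v)⁻¹ := (fg_inv hW2 (W.mul_mem hu hv)).symm
  rw [mul_inv_rev, fg_inv hW2 hu, fg_inv hW2 hv] at h1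
  exact h1

theorem fg_cases [Finite G] (hW4 : Nat.card W = 4) (hW2 : ∀ w ∈ W, w * w = 1) {w₁ w₂ : G}
    (h1 : w₁ ∈ W) (h2 : w₂ ∈ W) (hne1 : w₁ ≠ 1) (hne2 : w₂ ≠ 1) (hne : w₁ ≠ w₂) :
    ∀ w ∈ W, w = 1 ∨ w = w₁ ∨ w = w₂ ∨ w = w₁ * w₂ := by
  classical
  have h12 : w₁ * w₂ ≠ 1 := by
    intro h
    have : w₁ = w₂⁻¹ := eq_inv_of_mul_eq_one_left h
    rw [fg_inv hW2 h2] at this
    exact hne this
  have h12a : w₁ * w₂ ≠ w₁ := by
    intro h
    exact hne2 (by simpa using h)
  have h12b : w₁ * w₂ ≠ w₂ := by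
    intro h
    exact hne1 (by simpa using h)
  let s : Finset G := {1, w₁, w₂, w₁ * w₂}
  have hs4 : s.card = 4 := by
    have : s = insert 1 (insert w₁ (insert w₂ {w₁ * w₂})) := rfl
    rw [this, Finset.card_insert_of_notMem, Finset.card_insert_of_notMem,
      Finset.card_insert_of_notMem, Finset.card_singleton]
    · simp only [Finset.mem_singleton]; exact fun h => h12b h.symm
    · simp only [Finset.mem_insert, Finset.mem_singleton, not_or]
      exact ⟨hne, fun h => h12a h.symm⟩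
    · simp only [Finset.mem_insert, Finset.mem_singleton, not_or]
      exact ⟨fun h => hne1 h.symm, fun h => hne2 h.symm, fun h => h12 h.symm⟩
  have hsub : (↑s : Set G) ⊆ (W : Set G) := by
    intro x hx
    simp only [s, Finset.coe_insert, Finset.coe_singleton, Set.mem_insert_iff,
      Set.mem_singleton_iff] at hx
    rcases hx with rfl | rfl | rfl | rfl
    · exact W.one_mem
    · exact h1
    · exact h2
    · exact W.mul_mem h1 h2
  have heq : (↑s : Set G) = (W : Set G) := by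
    apply Set.eq_of_subset_of_ncard_le hsub _ (Set.toFinite _)
    rw [Set.ncard_coe_finset, hs4]
    have : (W : Set G).ncard = Nat.card W := (Nat.card_coe_set_eq (W : Set G)).symm
    rw [this, hW4]
  intro w hw
  have : w ∈ (↑s : Set G) := by rw [heq]; exact hw
  simpa [s] using this

/-- if `g` normalizes the four-group `W` and fixes a nonidentity element, then `g * g`
centralizes `W` -/
theorem fg_sq_cent [Finite G] (hW4 : Nat.card W = 4) (hW2 : ∀ w ∈ W, w * w = 1) {g w₀ : G}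
    (hg : g ∈ normalizer (W : Set G)) (h0 : w₀ ∈ W) (h01 : w₀ ≠ 1) (hc : g * w₀ = w₀ * g) :
    ∀ w ∈ W, (g * g) * w = w * (g * g) := by
  intro w hw
  by_cases hw1 : w = 1
  · rw [hw1]; simp
  by_cases hw0 : w = w₀
  · rw [hw0, mul_assoc, hc, ← mul_assoc, hc, mul_assoc]
  have hw' : g * w * g⁻¹ ∈ W := conj_mem_of_mem_normalizer hg hw
  have hne1 : g * w * g⁻¹ ≠ 1 := by
    intro h
    apply hw1
    have : w = g⁻¹ * (g * w * g⁻¹) * g := by group
    rw [this, h]; group
  have hne0 : g * w * g⁻¹ ≠ w₀ := by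
    intro h
    apply hw0
    have h2 : g * w = w₀ * g := by rw [← h]; group
    rw [← hc] at h2
    exact mul_left_cancel h2
  rcases fg_cases hW4 hW2 h0 hw h01 hw1 (Ne.symm hw0) _ hw' with h | h | h | h
  · exact absurd h hne1
  · exact absurd h hne0
  · have hgw : g * w = w * g := by
      calc g * w = (g * w * g⁻¹) * g := by group
        _ = w * g := by rw [h]
    rw [mul_assoc, hgw, ← mul_assoc, hgw, mul_assoc]
  · have hgw : g * w = w₀ * w * g := by
      calc g * w = (g * w * g⁻¹) * g := by group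
        _ = w₀ * w * g := by rw [h]
    calc g * g * w = g * (g * w) := by group
      _ = g * (w₀ * w * g) := by rw [hgw]
      _ = (g * w₀) * (w * g) := by group
      _ = (w₀ * g) * (w * g) := by rw [hc]
      _ = w₀ * (g * w) * g := by group
      _ = w₀ * (w₀ * w * g) * g := by rw [hgw]
      _ = (w₀ * w₀) * w * (g * g) := by group
      _ = w * (g * g) := by rw [hW2 w₀ h0, one_mul]

/-- an element normalizing `W` whose cube centralizes `W` but which does not centralize `W`
fixes no nonidentity element of `W` -/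
theorem fg_fpf [Finite G] (hW4 : Nat.card W = 4) (hW2 : ∀ w ∈ W, w * w = 1) {g : G}
    (hg : g ∈ normalizer (W : Set G)) (h3 : ∀ w ∈ W, g ^ 3 * w = w * g ^ 3)
    (hnc : ¬ ∀ w ∈ W, g * w = w * g) : ∀ w ∈ W, g * w = w * g → w = 1 := by
  intro w₀ h0 hc
  by_contra h01
  apply hnc
  intro w hw
  have h2 := fg_sq_cent hW4 hW2 hg h0 h01 hc w hw
  have h3' := h3 w hw
  have e : g ^ 3 = g * (g * g) := by rw [pow_succ, pow_two]; group
  rw [e] at h3'
  -- g (g g) w = w g (g g), and (g g) w = w (g g)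
  have : g * w * (g * g) = w * g * (g * g) := by
    calc g * w * (g * g) = g * (w * (g * g)) := by group
      _ = g * ((g * g) * w) := by rw [h2]
      _ = g * (g * g) * w := by group
      _ = w * (g * (g * g)) := h3'
      _ = w * g * (g * g) := by group
  exact mul_right_cancel this

/-- the unique nontrivial action on `W` fixing `w₀` -/
theorem fg_swap [Finite G] (hW4 : Nat.card W = 4) (hW2 : ∀ w ∈ W, w * w = 1) {a w₀ : G}
    (ha : a ∈ normalizer (W : Set G)) (h0 : w₀ ∈ W) (h01 : w₀ ≠ 1) (hc : a * w₀ = w₀ * a)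
    (hnc : ¬ ∀ w ∈ W, a * w = w * a) :
    ∀ w ∈ W, w ≠ 1 → w ≠ w₀ → a * w * a⁻¹ = w₀ * w := by
  intro w hw hw1 hw0
  have hw' : a * w * a⁻¹ ∈ W := conj_mem_of_mem_normalizer ha hw
  have hne1 : a * w * a⁻¹ ≠ 1 := by
    intro h
    apply hw1
    have : w = a⁻¹ * (a * w * a⁻¹) * a := by group
    rw [this, h]; group
  have hne0 : a * w * a⁻¹ ≠ w₀ := by
    intro h
    apply hw0
    have h2 : a * w = w₀ * a := by rw [← h]; group
    rw [← hc] at h2
    exact mul_left_cancel h2
  rcases fg_cases hW4 hW2 h0 hw h01 hw1 (Ne.symm hw0) _ hw' with h | h | h | h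
  · exact absurd h hne1
  · exact absurd h hne0
  · exfalso
    apply hnc
    have hgw : a * w = w * a := by
      calc a * w = (a * w * a⁻¹) * a := by group
        _ = w * a := by rw [h]
    intro u hu
    rcases fg_cases hW4 hW2 h0 hw h01 hw1 (Ne.symm hw0) u hu with rfl | rfl | rfl | rfl
    · simp
    · exact hc
    · exact hgw
    · rw [← mul_assoc, hc, mul_assoc, hgw, ← mul_assoc]
  · exact h

/-- the fixed points on `W` of a non-centralizing element fixing `w₀` are `1` and `w₀` -/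
theorem fg_fix [Finite G] (hW4 : Nat.card W = 4) (hW2 : ∀ w ∈ W, w * w = 1) {a w₀ : G}
    (ha : a ∈ normalizer (W : Set G)) (h0 : w₀ ∈ W) (h01 : w₀ ≠ 1) (hc : a * w₀ = w₀ * a)
    (hnc : ¬ ∀ w ∈ W, a * w = w * a) :
    ∀ w ∈ W, a * w = w * a → w = 1 ∨ w = w₀ := by
  intro w hw hcw
  by_contra hcon
  rw [not_or] at hcon
  have h := fg_swap hW4 hW2 ha h0 h01 hc hnc w hw hcon.1 hcon.2
  have h2 : a * w * a⁻¹ = w := by rw [hcw]; group
  rw [h2] at h
  apply h01
  have : w₀ * w = 1 * w := by rw [one_mul]; exact h.symm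
  exact mul_right_cancel this

end four

/-! ### elementary abelian subgroups -/

theorem isElementaryAbelian_sup {p : ℕ} {A B : Subgroup G} (hA : IsElementaryAbelian p A)
    (hB : IsElementaryAbelian p B) (hc : ∀ a ∈ A, ∀ b ∈ B, a * b = b * a) :
    IsElementaryAbelian p (A ⊔ B) := by
  obtain ⟨hAc, hAe⟩ := hA
  obtain ⟨hBc, hBe⟩ := hB
  have hsup : A ⊔ B = Subgroup.closure ((A : Set G) ∪ (B : Set G)) := by
    rw [Subgroup.closure_union, Subgroup.closure_eq, Subgroup.closure_eq]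
  have hcomm : ∀ a ∈ ((A : Set G) ∪ (B : Set G)), ∀ b ∈ ((A : Set G) ∪ (B : Set G)),
      a * b = b * a := by
    rintro a (ha | ha) b (hb | hb)
    · exact congrArg Subtype.val (hAc.is_comm.comm (⟨a, ha⟩ : A) ⟨b, hb⟩)
    · exact hc a ha b hb
    · exact (hc b hb a ha).symm
    · exact congrArg Subtype.val (hBc.is_comm.comm (⟨a, ha⟩ : B) ⟨b, hb⟩)
  have hCc : IsMulCommutative (Subgroup.closure ((A : Set G) ∪ (B : Set G))) :=
    Subgroup.isMulCommutative_closure hcomm
  rw [hsup]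
  refine ⟨hCc, ?_⟩
  intro g hg
  induction hg using Subgroup.closure_induction with
  | mem y hy =>
    rcases hy with hy | hy
    · exact hAe y hy
    · exact hBe y hy
  | one => exact one_pow _
  | mul g h hg hh ihg ihh =>
    have hcm : Commute g h :=
      congrArg Subtype.val (hCc.is_comm.comm
        (⟨g, hg⟩ : Subgroup.closure ((A : Set G) ∪ (B : Set G))) ⟨h, hh⟩)
    rw [hcm.mul_pow, ihg, ihh, one_mul]
  | inv g _ ihg => rw [inv_pow, ihg, inv_one]

theorem isElementaryAbelian_of_le {p : ℕ} {A B : Subgroup G} (hB : IsElementaryAbelian p B)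
    (hAB : A ≤ B) : IsElementaryAbelian p A := by
  obtain ⟨hBc, hBe⟩ := hB
  refine ⟨⟨⟨fun a b => ?_⟩⟩, fun a ha => hBe a (hAB ha)⟩
  apply Subtype.ext
  have := congrArg Subtype.val (hBc.is_comm.comm (⟨a.1, hAB a.2⟩ : B) ⟨b.1, hAB b.2⟩)
  simpa using this

theorem IsElementaryAbelian.comm' {p : ℕ} {A : Subgroup G} (hA : IsElementaryAbelian p A)
    {a b : G} (ha : a ∈ A) (hb : b ∈ A) : a * b = b * a :=
  congrArg Subtype.val (hA.1.is_comm.comm (⟨a, ha⟩ : A) ⟨b, hb⟩)

open Cfsg.Agent.Lib.Helper15 in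
/-- an element of order dividing `p` of `S` centralizing a member of `maxElemIn p S` lies in it -/
theorem mem_of_mem_maxElemIn [Finite G] {p : ℕ} {S A : Subgroup G} (hA : A ∈ maxElemIn p S)
    {z : G} (hzS : z ∈ S) (hz : z ^ p = 1) (hc : ∀ a ∈ A, z * a = a * z) : z ∈ A := by
  obtain ⟨hAS, hAe, hAm⟩ := hA
  have hD := isElementaryAbelian_adjoin hAe z hz hc
  have hDS : Subgroup.closure ((A : Set G) ∪ {z}) ≤ S := by
    rw [Subgroup.closure_le]
    rintro x (hx | hx)
    · exact hAS hx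
    · rw [Set.mem_singleton_iff] at hx; rw [hx]; exact hzS
  have hle : A ≤ Subgroup.closure ((A : Set G) ∪ {z}) :=
    fun a ha => Subgroup.subset_closure (Or.inl ha)
  have := Subgroup.eq_of_le_of_card_ge hle (hAm _ hDS hD)
  rw [this]
  exact Subgroup.subset_closure (Or.inr rfl)

open Cfsg.Agent.Lib.Helper15 in
theorem mem_maxElemIn_of_card_ge {p : ℕ} {S A D : Subgroup G} (hA : A ∈ maxElemIn p S)
    (hDS : D ≤ S) (hD : IsElementaryAbelian p D) (hc : Nat.card A ≤ Nat.card D) :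
    D ∈ maxElemIn p S :=
  ⟨hDS, hD, fun B hBS hB => (hA.2.2 B hBS hB).trans hc⟩

end Cfsg.Agent.Lib.Helper52.JComp
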