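import Mathlib
import Cfsg.Agent.Lib.Helper52.GlauSolv2
import Cfsg.Agent.Lib.Helper52.JComp1

/-!
# Glauberman's structure for the elementary abelian Thompson subgroup, model part

`glau_gen_e`: for `V₁ ⊴ X` elementary abelian with `O_p(X / C_X(V₁)) = 1`, `X` `p`-solvable and a
`p`-subgroup `T ≥ V₁`, the image in the faithful model of the normal closure of `J_e(T)` (generated
by the elementary abelian subgroups of `T` of largest order) is generated by minimal offenders.
-/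

set_option autoImplicit false
set_option linter.unusedSectionVars false
set_option linter.style.haveILetI false

namespace Cfsg.Agent.Lib.Helper52

open Subgroup Matrix
open scoped commutatorElement
open Cfsg.Agent.Lib.Helper55 (cj mem_cj conj_mem_cj cj_one cj_mul cj_inv_cj cj_cj_inv cj_mono
  cj_eq_self_iff cj_inf cj_centralizer card_cj isPGroup_cj)
open Cfsg.Agent.Lib.Helper15 (maxElemIn)

section GlauModelE

variable {X : Type*} [Group X] [Finite X] {p : ℕ} [hp : Fact p.Prime]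
variable (V₁ : Subgroup X) [hV₁n : V₁.Normal]

omit hp in
/-- the image of an elementary abelian subgroup of largest order of `T ≥ V₁` is an offender on
`V₁` -/
theorem glau_offender_e (hV₁ : Cfsg.IsElementaryAbelian p V₁) {T A : Subgroup X} (hVT : V₁ ≤ T)
    (hA : A ∈ maxElemIn p T) :
    Nat.card (fmι V₁).range ≤ Nat.card (A.map (fmπ V₁)) *
      Nat.card ↥((fmι V₁).range ⊓
        centralizer ((A.map (fmπ V₁) : Subgroup (FM V₁)) : Set (FM V₁))) := by
  rw [fm_card_V, fm_card_fix]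
  obtain ⟨A₀, hA₀⟩ : ∃ A₀ : Subgroup X, A₀ = A ⊓ centralizer (V₁ : Set X) := ⟨_, rfl⟩
  have hA₀A : A₀ ≤ A := hA₀ ▸ inf_le_left
  have hA₀C : A₀ ≤ centralizer (V₁ : Set X) := hA₀ ▸ inf_le_right
  have hBe : Cfsg.IsElementaryAbelian p (A₀ ⊔ V₁) := by
    apply JComp.isElementaryAbelian_sup (JComp.isElementaryAbelian_of_le hA.2.1 hA₀A) hV₁
    intro a ha v hv
    exact (mem_centralizer_iff.mp (hA₀C ha) v hv).symm
  have hBT : A₀ ⊔ V₁ ≤ T := sup_le (hA₀A.trans hA.1) hVT
  have h1 : Nat.card ↥(A₀ ⊔ V₁) ≤ Nat.card A := hA.2.2 _ hBT hBe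
  have hn : A₀ ≤ normalizer (V₁ : Set X) := by
    rw [normalizer_eq_top_iff.mpr hV₁n]; exact le_top
  have h2 := Cfsg.Agent.Lib.Helper01.card_sup_mul_card_inf_of_le_normalizer V₁ A₀ hn
  have h3 : V₁ ⊓ A₀ ≤ V₁ ⊓ centralizer (A : Set X) := by
    refine inf_le_inf_left _ ?_
    intro x hx
    rw [mem_centralizer_iff]
    intro y hy
    exact JComp.IsElementaryAbelian.comm' hA.2.1 hy (hA₀A hx)
  have h4 : Nat.card ↥(V₁ ⊓ A₀) ≤ Nat.card ↥(V₁ ⊓ centralizer (A : Set X)) :=
    Subgroup.card_le_of_le h3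
  have h5 := fm_card_map V₁ A
  rw [← hA₀] at h5
  have hpos : 0 < Nat.card A₀ := Nat.card_pos
  have h6 : Nat.card V₁ * Nat.card A₀ ≤
      (Nat.card (A.map (fmπ V₁)) * Nat.card ↥(V₁ ⊓ centralizer (A : Set X))) * Nat.card A₀ := by
    calc Nat.card V₁ * Nat.card A₀ = Nat.card ↥(A₀ ⊔ V₁) * Nat.card ↥(V₁ ⊓ A₀) := h2.symm
      _ ≤ Nat.card A * Nat.card ↥(V₁ ⊓ centralizer (A : Set X)) := Nat.mul_le_mul h1 h4
      _ = (Nat.card (A.map (fmπ V₁)) * Nat.card ↥(V₁ ⊓ centralizer (A : Set X))) *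
          Nat.card A₀ := by rw [← h5]; ring
  exact Nat.le_of_mul_le_mul_right h6 hpos

/-- the image of the normal closure of `J_e(T)` is generated by minimal offenders -/
theorem glau_gen_e (hV₁ : Cfsg.IsElementaryAbelian p V₁) (hsep : Cfsg.IsPSolvable p X)
    (hOp : FMOp p V₁) {T : Subgroup X} (hT : IsPGroup p T) (hVT : V₁ ≤ T) :
    FFGen p (fmι V₁).range
      ((normalClosure (Cfsg.thompsonSubgroupOf p T : Set X)).map (fmπ V₁)) := by
  obtain ⟨Y, hY⟩ : ∃ Y : Subgroup X, Y = normalClosure (Cfsg.thompsonSubgroupOf p T : Set X) :=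
    ⟨_, rfl⟩
  rw [← hY]
  haveI hYn : Y.Normal := hY ▸ normalClosure_normal
  have hJY : Cfsg.thompsonSubgroupOf p T ≤ Y := hY ▸ subset_normalClosure
  have h := fm_hyp V₁ hV₁ hsep hOp Y
  unfold FFGen
  obtain ⟨Nb, hNb⟩ : ∃ Nb : Subgroup (FM V₁), Nb = ⨆ B : {B : Subgroup (FM V₁) //
      FFMin p (fmι V₁).range (Y.map (fmπ V₁)) B}, (B : Subgroup (FM V₁)) := ⟨_, rfl⟩
  rw [← hNb]
  -- Step 1
  have step1 : ∀ A : Subgroup X, A ∈ maxElemIn p T → A.map (fmπ V₁) ≤ Nb := by
    intro A hA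
    have hAJ : A ≤ Cfsg.thompsonSubgroupOf p T := by
      rw [Cfsg.Agent.Lib.Helper15.thompsonSubgroupOf_eq]; exact le_sSup hA
    have hAY : A ≤ Y := hAJ.trans hJY
    have hAH : A.map (fmπ V₁) ≤ Y.map (fmπ V₁) := Subgroup.map_mono hAY
    have hAc : ∀ x ∈ A.map (fmπ V₁), ∀ y ∈ A.map (fmπ V₁), x * y = y * x := by
      rintro _ ⟨a, ha, rfl⟩ _ ⟨b, hb, rfl⟩
      rw [← map_mul, ← map_mul, JComp.IsElementaryAbelian.comm' hA.2.1 ha hb]
    have hAp : IsPGroup p ↥(A.map (fmπ V₁)) := (hT.to_le hA.1).map _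
    have hoff := glau_offender_e V₁ hV₁ hVT hA
    have hle := ff_abelian_le h hAH hAc
    have htight := le_antisymm hle hoff
    have hexp := ff_abelian_tight h _ _ rfl hAH hAc hAp htight
    rw [hNb]
    refine best_le_iSup_ffmin h hAH ⟨?_, ?_, ?_⟩
    · intro B hB
      rw [htight]
      exact ff_abelian_le h (hB.trans hAH) (fun x hx y hy => hAc x (hB hx) y (hB hy))
    · rw [commutator_le]
      intro x hx y hy
      have := hAc x hx y hy
      rw [← commutatorElement_eq_one_iff_mul_comm] at this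
      rw [this]; exact one_mem _
    · intro a ha
      rw [hexp a ha]; exact one_mem _
  -- Step 2
  have step2 : (fmπ V₁).range ≤ normalizer (Nb : Set (FM V₁)) := by
    apply Cfsg.Agent.Lib.Helper55.le_normalizer_of_cj_le
    intro m hm
    rw [hNb]
    show Subgroup.map _ _ ≤ _
    rw [Subgroup.map_iSup]
    refine iSup_le fun B => ?_
    have hB' : FFMin p (fmι V₁).range (Y.map (fmπ V₁)) (cj m (B : Subgroup (FM V₁))) :=
      FFMin.conj' B.2 (fm_range_le_normalizer V₁ hm) (fm_range_le_normalizer_map V₁ Y hm)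
    exact le_iSup (fun B : {B : Subgroup (FM V₁) //
      FFMin p (fmι V₁).range (Y.map (fmπ V₁)) B} => (B : Subgroup (FM V₁))) ⟨_, hB'⟩
  haveI hNn : (Nb.comap (fmπ V₁)).Normal := by
    constructor
    intro n hn g
    rw [mem_comap] at hn ⊢
    rw [map_mul, map_mul, map_inv]
    exact (mem_normalizer_iff.mp (step2 ⟨g, rfl⟩) _).mp hn
  -- Step 3
  have step3 : Cfsg.thompsonSubgroupOf p T ≤ Nb.comap (fmπ V₁) := by
    rw [Cfsg.Agent.Lib.Helper15.thompsonSubgroupOf_eq]
    refine sSup_le fun A hA => ?_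
    rw [← Subgroup.map_le_iff_le_comap]
    exact step1 A hA
  -- Step 4
  have step4 : Y ≤ Nb.comap (fmπ V₁) := by
    rw [hY]
    exact normalClosure_le_normal (by exact_mod_cast step3)
  rw [Subgroup.map_le_iff_le_comap]
  exact step4

end GlauModelE

end Cfsg.Agent.Lib.Helper52
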