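import Mathlib
import Cfsg.Agent.Lib.Helper52.JOver1
import Cfsg.Agent.Lib.Helper51.O4b

/-!
# A normal series through `K C_X(V₁)` for subgroups `K` of `⟨J_e(T)^X⟩` generated by odd-order
elements (solvable failure-of-factorization structure, `p = 2`)
-/

set_option autoImplicit false
set_option linter.unusedSectionVars false
set_option linter.style.haveILetI false

namespace Cfsg.Agent.Lib.Helper52

open Subgroup Matrix
open scoped commutatorElement

/-- odd-order permutations of three letters commute -/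
theorem perm3_odd_comm (σ τ : Equiv.Perm (Fin 3)) (hσ : Odd (orderOf σ)) (hτ : Odd (orderOf τ)) :
    σ * τ = τ * σ := by
  have key : ∀ ρ : Equiv.Perm (Fin 3), Odd (orderOf ρ) → ρ ^ 3 = 1 := by
    intro ρ hρ
    have h6 : orderOf ρ ∣ 2 * 3 := by
      have := orderOf_dvd_card (x := ρ)
      rw [Fintype.card_perm, Fintype.card_fin] at this
      exact this
    have hcop : Nat.Coprime (orderOf ρ) 2 := Nat.Coprime.symm (Nat.coprime_two_left.mpr hρ)
    have h3 : orderOf ρ ∣ 3 := hcop.dvd_of_dvd_mul_left h6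
    exact orderOf_dvd_iff_pow_eq_one.mp h3
  have hσ3 := key σ hσ
  have hτ3 := key τ hτ
  revert hσ3 hτ3
  clear hσ hτ key
  revert σ τ
  decide

/-- odd-order elements of a direct power of `SL₂(2)` commute -/
theorem pi_sl2_odd_comm {n : ℕ} (g h : Fin n → SpecialLinearGroup (Fin 2) (ZMod 2))
    (hg : Odd (orderOf g)) (hh : Odd (orderOf h)) : g * h = h * g := by
  have hcomp : ∀ f : Fin n → SpecialLinearGroup (Fin 2) (ZMod 2), Odd (orderOf f) →
      ∀ i, Odd (orderOf (f i)) := by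
    intro f hf i
    have h1 : orderOf (f i) ∣ orderOf f := by
      apply orderOf_dvd_of_pow_eq_one
      have := congrFun (pow_orderOf_eq_one f) i
      simpa using this
    exact Odd.of_dvd_nat hf h1
  funext i
  show g i * h i = h i * g i
  have e := Cfsg.Agent.Lib.Helper51.sl2EquivPerm
  apply e.injective
  rw [map_mul, map_mul]
  apply perm3_odd_comm
  · rw [MulEquiv.orderOf_eq]; exact hcomp g hg i
  · rw [MulEquiv.orderOf_eq]; exact hcomp h hh i

section Series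

variable {X : Type*} [Group X] [Finite X]

/-- **the normal series**: there is `M ⊴ X` containing `C_X(V₁)` such that every subgroup `K` of
the normal closure of `J_e(T)` that is generated by odd-order elements satisfies
`K C_X(V₁) ⊴ M`. -/
theorem jover_normal_series (V₁ : Subgroup X) [hV₁n : V₁.Normal]
    (hV₁ : Cfsg.IsElementaryAbelian 2 V₁) (hsep : Cfsg.IsPSolvable 2 X) (hOp : FMOp 2 V₁)
    {T : Subgroup X} (hT : IsPGroup 2 T) (hVT : V₁ ≤ T) :
    ∃ M : Subgroup X, M.Normal ∧ centralizer (V₁ : Set X) ≤ M ∧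
      ∀ K : Subgroup X, K ≤ normalClosure (Cfsg.thompsonSubgroupOf 2 T : Set X) →
        Subgroup.closure {g : X | g ∈ K ∧ Odd (orderOf g)} = K →
        K ≤ M ∧ M ≤ normalizer ((K ⊔ centralizer (V₁ : Set X) : Subgroup X) : Set X) := by
  haveI : Fact (Nat.Prime 2) := ⟨Nat.prime_two⟩
  obtain ⟨Y, hY⟩ : ∃ Y : Subgroup X, Y = normalClosure (Cfsg.thompsonSubgroupOf 2 T : Set X) :=
    ⟨_, rfl⟩
  haveI hYn : Y.Normal := hY ▸ normalClosure_normal
  have h := fm_hyp V₁ hV₁ hsep hOp Y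
  have hgen := glau_gen_e V₁ hV₁ hsep hOp hT hVT
  rw [← hY] at hgen ⊢
  obtain ⟨n, -, ⟨e⟩⟩ := ff_structure_pi h hgen
  obtain ⟨H, hH⟩ : ∃ H : Subgroup (FM V₁), H = Y.map (fmπ V₁) := ⟨_, rfl⟩
  rw [← hH] at e
  obtain ⟨H₃, hH₃⟩ : ∃ H₃ : Subgroup (FM V₁),
      H₃ = Subgroup.closure {y : FM V₁ | y ∈ H ∧ Odd (orderOf y)} := ⟨_, rfl⟩
  -- generators commute
  have hgc : ∀ a ∈ {y : FM V₁ | y ∈ H ∧ Odd (orderOf y)},
      ∀ b ∈ {y : FM V₁ | y ∈ H ∧ Odd (orderOf y)}, a * b = b * a := by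
    rintro a ⟨haH, hao⟩ b ⟨hbH, hbo⟩
    have h1 : e ⟨a, haH⟩ * e ⟨b, hbH⟩ = e ⟨b, hbH⟩ * e ⟨a, haH⟩ := by
      apply pi_sl2_odd_comm
      · rw [MulEquiv.orderOf_eq, Subgroup.orderOf_mk]; exact hao
      · rw [MulEquiv.orderOf_eq, Subgroup.orderOf_mk]; exact hbo
    rw [← map_mul, ← map_mul] at h1
    have h2 := e.injective h1
    exact congrArg Subtype.val h2
  have hH₃c : IsMulCommutative H₃ := hH₃ ▸ Subgroup.isMulCommutative_closure hgc
  have hcomm : ∀ a ∈ H₃, ∀ b ∈ H₃, a * b = b * a := by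
    intro a ha b hb
    exact congrArg Subtype.val (hH₃c.is_comm.comm (⟨a, ha⟩ : H₃) ⟨b, hb⟩)
  -- `H₃` is normalized by the image of `X`
  have hHn : (fmπ V₁).range ≤ normalizer (H : Set (FM V₁)) :=
    hH ▸ fm_range_le_normalizer_map V₁ Y
  have hconj : ∀ m ∈ (fmπ V₁).range, ∀ y ∈ H₃, m * y * m⁻¹ ∈ H₃ := by
    intro m hm y hy
    have hle : H₃ ≤ H₃.comap (MulAut.conj m).toMonoidHom := by
      conv_lhs => rw [hH₃]
      rw [Subgroup.closure_le]
      rintro z ⟨hzH, hzo⟩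
      show (MulAut.conj m) z ∈ H₃
      rw [hH₃]
      apply Subgroup.subset_closure
      refine ⟨?_, ?_⟩
      · rw [MulAut.conj_apply]
        exact (mem_normalizer_iff.mp (hHn hm) z).mp hzH
      · rw [MulEquiv.orderOf_eq]; exact hzo
    have := hle hy
    rw [Subgroup.mem_comap] at this
    simpa [MulAut.conj_apply] using this
  refine ⟨H₃.comap (fmπ V₁), ?_, ?_, ?_⟩
  · constructor
    intro x hx g
    rw [mem_comap] at hx ⊢
    rw [map_mul, map_mul, map_inv]
    exact hconj _ ⟨g, rfl⟩ _ hx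
  · intro c hc
    rw [mem_comap, (fmπ_eq_one_iff V₁).mpr hc]
    exact one_mem _
  · intro K hKY hKodd
    have hKH₃ : K.map (fmπ V₁) ≤ H₃ := by
      rw [Subgroup.map_le_iff_le_comap]
      conv_lhs => rw [← hKodd]
      rw [Subgroup.closure_le]
      rintro k ⟨hkK, hko⟩
      show fmπ V₁ k ∈ H₃
      rw [hH₃]
      apply Subgroup.subset_closure
      refine ⟨?_, ?_⟩
      · rw [hH]; exact ⟨k, hKY hkK, rfl⟩
      · exact Odd.of_dvd_nat hko (orderOf_map_dvd _ k)
    refine ⟨?_, ?_⟩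
    · rw [← Subgroup.map_le_iff_le_comap]; exact hKH₃
    · have hKC : K ⊔ centralizer (V₁ : Set X) = (K.map (fmπ V₁)).comap (fmπ V₁) := by
        rw [Subgroup.comap_map_eq, fmπ_ker]
      intro m hm
      rw [mem_comap] at hm
      rw [hKC, mem_normalizer_iff]
      intro x
      rw [mem_comap, mem_comap, map_mul, map_mul, map_inv]
      constructor
      · intro hx
        have h1 := hcomm _ hm _ (hKH₃ hx)
        have h2 : fmπ V₁ m * fmπ V₁ x * (fmπ V₁ m)⁻¹ = fmπ V₁ x := by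
          rw [h1]; group
        rw [h2]; exact hx
      · intro hx
        have h1 := hcomm _ (H₃.inv_mem hm) _ (hKH₃ hx)
        have h2 : fmπ V₁ x = (fmπ V₁ m)⁻¹ * (fmπ V₁ m * fmπ V₁ x * (fmπ V₁ m)⁻¹) *
            (fmπ V₁ m)⁻¹⁻¹ := by group
        rw [h2, h1]
        have h3 : fmπ V₁ m * fmπ V₁ x * (fmπ V₁ m)⁻¹ * (fmπ V₁ m)⁻¹ * (fmπ V₁ m)⁻¹⁻¹ =
            fmπ V₁ m * fmπ V₁ x * (fmπ V₁ m)⁻¹ := by group
        rw [h3]; exact hx

end Series

end Cfsg.Agent.Lib.Helper52
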