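import Mathlib
import Cfsg.Agent.Lib.Helper52.AsymGallery
import Cfsg.Agent.Lib.Helper55.FrakM2
import Cfsg.Agent.Lib.Helper55.FrakMExist
import Cfsg.Agent.Lib.Helper53.Conj
import Cfsg.Agent.Lib.Helper53.StrongFusion
import Cfsg.Agent.Lib.Helper01.Coprime

/-!
# The asymmetric case: `O_p(M)` is weakly closed (MSS, Lemma 2.6)

Standing hypotheses: `S ∈ Syl_p(G)`, `Q ≤ S` a nontrivial large `p`-subgroup, `S ≤ M ∈ 𝔐_G(S)`,
`Y = Y_M` asymmetric in `G`, `R = O_p(M)`, `M† = M C_G(Y)`.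

* `mss_normalizer_le`: `N_G(L) ≤ N_G(R)` for every `p`-subgroup `L ≥ R`, and `L ≤ N_G(R)`;
* `mss_weaklyClosed`: `R` is weakly closed in `S`;
* `mss_parabolic`, `mss_fusion`.
-/

set_option autoImplicit false
set_option linter.unusedSectionVars false
set_option linter.style.haveILetI false

namespace Cfsg.Agent.Lib.Helper52

open Subgroup
open Cfsg.Agent.Lib.Helper55 (cj mem_cj conj_mem_cj cj_one cj_mul cj_inv_cj cj_cj_inv cj_mono
  cj_le_iff le_cj_iff cj_eq_self_iff cj_inf cj_centralizer cj_normalizer le_normalizer_of_cj_le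
  isPGroup_cj card_cj)

section MSS26

variable {G : Type*} [Group G]

/-- asymmetry, in the form used: conjugates normalizing each other commute -/
theorem asym_comm {Y : Subgroup G} (hasym : ¬ Cfsg.IsSymmetricIn Y) (a b : G)
    (h1 : cj a Y ≤ normalizer ((cj b Y : Subgroup G) : Set G))
    (h2 : cj b Y ≤ normalizer ((cj a Y : Subgroup G) : Set G)) :
    cj a Y ≤ centralizer ((cj b Y : Subgroup G) : Set G) := by
  obtain ⟨g, hg⟩ : ∃ g : G, g = a⁻¹ * b := ⟨_, rfl⟩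
  have hb : b = a * g := by rw [hg]; group
  have e1 : cj b Y = cj a (cj g Y) := by rw [hb, cj_mul]
  have h1' : Y ≤ normalizer ((cj g Y : Subgroup G) : Set G) := by
    rw [e1, ← cj_normalizer] at h1
    have := cj_mono (g := a⁻¹) h1
    rwa [cj_inv_cj, cj_inv_cj] at this
  have h2' : cj g Y ≤ normalizer (Y : Set G) := by
    rw [e1, ← cj_normalizer] at h2
    have := cj_mono (g := a⁻¹) h2
    rwa [cj_inv_cj, cj_inv_cj] at this
  have h3 : ⁅Y, cj g Y⁆ ≤ Y ⊓ cj g Y := by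
    rw [Subgroup.commutator_le]
    intro y hy z hz
    rw [commutatorElement_def]
    refine Subgroup.mem_inf.mpr ⟨?_, ?_⟩
    · have hz' : z * y⁻¹ * z⁻¹ ∈ Y :=
        (mem_normalizer_iff.mp (h2' hz) y⁻¹).mp (Y.inv_mem hy)
      have : y * z * y⁻¹ * z⁻¹ = y * (z * y⁻¹ * z⁻¹) := by group
      rw [this]
      exact Y.mul_mem hy hz'
    · have hy' : y * z * y⁻¹ ∈ cj g Y := (mem_normalizer_iff.mp (h1' hy) z).mp hz
      exact (cj g Y).mul_mem hy' ((cj g Y).inv_mem hz)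
  have h4 : ⁅Y, cj g Y⁆ = ⊥ := by
    by_contra hne
    exact hasym ⟨g, hne, h3⟩
  have h5 : Y ≤ centralizer ((cj g Y : Subgroup G) : Set G) :=
    Subgroup.commutator_eq_bot_iff_le_centralizer.mp h4
  rw [e1, ← cj_centralizer]
  exact cj_mono h5

variable [Finite G] {p : ℕ} [Fact p.Prime]

/-- the basic step: `N_G(T) ≤ M† ∩ N_G(O_p(M))` for `O_p(M) ≤ T ≤ S` -/
theorem mss_step (S : Sylow p G) {Q : Subgroup G} (hQp : IsPGroup p Q) (hQ1 : Q ≠ ⊥)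
    (hQS : Q ≤ (S : Subgroup G)) (hQ : Cfsg.IsLarge Q) {M : Subgroup G}
    (hSM : (S : Subgroup G) ≤ M) (hM : Cfsg.IsInFrakM p M)
    (hasym : ¬ Cfsg.IsSymmetricIn (Cfsg.largestPReducedOf p M)) {T : Subgroup G}
    (hRT : Cfsg.pCoreOf p M ≤ T) (hTS : T ≤ (S : Subgroup G)) :
    normalizer (T : Set G) ≤ normalizer ((Cfsg.pCoreOf p M : Subgroup G) : Set G) := by
  obtain ⟨R, hR⟩ : ∃ R : Subgroup G, R = Cfsg.pCoreOf p M := ⟨_, rfl⟩
  obtain ⟨Y, hY⟩ : ∃ Y : Subgroup G, Y = Cfsg.largestPReducedOf p M := ⟨_, rfl⟩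
  rw [← hR] at hRT ⊢
  rw [← hY] at hasym
  have hpc := hM.2.2.2.2.1
  rw [← hY] at hpc
  have hYM : M ≤ normalizer (Y : Set G) :=
    hY ▸ Cfsg.Agent.Lib.Helper55.le_normalizer_largestPReducedOf M
  have hRM : M ≤ normalizer (R : Set G) := hR ▸ Cfsg.Agent.Lib.Helper55.le_normalizer_pCoreOf M
  have hYR : Y ≤ R := by
    rw [hY, hR]; exact Cfsg.Agent.Lib.Helper55.largestPReducedOf_le_pCoreOf M
  have hRC : R ≤ centralizer (Y : Set G) := by
    rw [hY, hR]; exact Cfsg.Agent.Lib.Helper55.pCoreOf_le_centralizer_largestPReducedOf M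
  have hTM : T ≤ M := hTS.trans hSM
  have hC : T ⊓ centralizer (Y : Set G) ≤ R := by
    rw [hR]
    apply Cfsg.Agent.Lib.Helper55.le_pCoreOf_of_le_inf_centralizer hM.2.2.2.2.1
      (S.2.to_le (inf_le_left.trans hTS))
    rw [← hY]
    exact le_inf (inf_le_left.trans hTM) inf_le_right
  obtain ⟨N, hYN, hNT, hXN⟩ := asym_gallery M T R Y hYM hRM hYR hRT hTM hC (asym_comm hasym)
  have hS1 : (S : Subgroup G) ≠ ⊥ := by
    intro h
    rw [h] at hQS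
    exact hQ1 (le_bot_iff.mp hQS)
  have hY1 : Y ≠ ⊥ := by
    rw [hY]
    exact Cfsg.Agent.Lib.Helper55.largestPReducedOf_ne_bot S hS1 hSM
      (Cfsg.Agent.Lib.Helper55.localChar_of_mem_charP hM.1)
  have hN1 : N ≠ ⊥ := by
    intro h
    rw [h] at hYN
    exact hY1 (le_bot_iff.mp hYN)
  obtain ⟨X, hX⟩ : ∃ X : Subgroup G, X = M ⊔ normalizer (T : Set G) := ⟨_, rfl⟩
  rw [← hX] at hXN
  have hMX : M ≤ X := hX ▸ le_sup_left
  have hNX : N ≤ X := (hNT.trans hTM).trans hMX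
  have hNp : IsPGroup p N := S.2.to_le (hNT.trans hTS)
  have hNcore : N ≤ Cfsg.pCoreOf p X := Cfsg.Agent.Lib.Helper55.le_pCoreOf hNX hXN hNp
  have hX1 : Cfsg.pCoreOf p X ≠ ⊥ := by
    intro h
    rw [h] at hNcore
    exact hN1 (le_bot_iff.mp hNcore)
  have hpar : Cfsg.IsParabolic p X := ⟨S, hSM.trans hMX⟩
  have hXd := Cfsg.Agent.Lib.Helper55.le_dagger_of_parabolic hQ hQp hQ1 hM hMX hpar hX1
  rw [← hY] at hXd
  have hdY : M ⊔ centralizer (Y : Set G) ≤ normalizer (Y : Set G) :=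
    sup_le hYM (centralizer_le_normalizer _)
  have hNTY : normalizer (T : Set G) ≤ normalizer (Y : Set G) :=
    ((hX ▸ le_sup_right : normalizer (T : Set G) ≤ X).trans hXd).trans hdY
  have hReq : R = T ⊓ centralizer (Y : Set G) := le_antisymm (le_inf hRT hRC) hC
  rw [hReq]
  exact (le_inf le_rfl (hNTY.trans
    (Cfsg.Agent.Lib.Helper55.normalizer_le_normalizer_centralizer Y))).trans
    Subgroup.inf_normalizer_le_normalizer_inf

/-- `N_G(L) ≤ N_G(R)` for a `p`-subgroup `L ≥ R` normalizing `R` -/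
theorem mss_normalizer_le_of_normal (S : Sylow p G) {Q : Subgroup G} (hQp : IsPGroup p Q)
    (hQ1 : Q ≠ ⊥) (hQS : Q ≤ (S : Subgroup G)) (hQ : Cfsg.IsLarge Q) {M : Subgroup G}
    (hSM : (S : Subgroup G) ≤ M) (hM : Cfsg.IsInFrakM p M)
    (hasym : ¬ Cfsg.IsSymmetricIn (Cfsg.largestPReducedOf p M)) {L : Subgroup G}
    (hL : IsPGroup p L) (hRL : Cfsg.pCoreOf p M ≤ L)
    (hLR : L ≤ normalizer ((Cfsg.pCoreOf p M : Subgroup G) : Set G)) :
    normalizer (L : Set G) ≤ normalizer ((Cfsg.pCoreOf p M : Subgroup G) : Set G) := by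
  obtain ⟨R, hR⟩ : ∃ R : Subgroup G, R = Cfsg.pCoreOf p M := ⟨_, rfl⟩
  have hRM : M ≤ normalizer (R : Set G) := hR ▸ Cfsg.Agent.Lib.Helper55.le_normalizer_pCoreOf M
  have hstep := fun (T : Subgroup G) (h1 : Cfsg.pCoreOf p M ≤ T) (h2 : T ≤ (S : Subgroup G)) =>
    mss_step S hQp hQ1 hQS hQ hSM hM hasym h1 h2
  rw [← hR] at hRL hLR hstep ⊢
  obtain ⟨a, ha, haL⟩ := Cfsg.Agent.Lib.Helper53.exists_conj_le_sylow_of_le S
    (hSM.trans hRM) hLR hL
  have haR : cj a R = R := cj_eq_self_iff.mpr ha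
  have h1 : R ≤ cj a L := by
    rw [← haR]; exact cj_mono hRL
  have h2 := hstep (cj a L) h1 haL
  rw [← cj_normalizer] at h2
  have h3 := cj_mono (g := a⁻¹) h2
  rw [cj_inv_cj, cj_normalizer] at h3
  have : cj a⁻¹ R = R := by
    conv_lhs => rw [← haR]
    exact cj_inv_cj a R
  rwa [this] at h3

/-- every `p`-subgroup containing `R = O_p(M)` normalizes `R` -/
theorem mss_le_normalizer (S : Sylow p G) {Q : Subgroup G} (hQp : IsPGroup p Q)
    (hQ1 : Q ≠ ⊥) (hQS : Q ≤ (S : Subgroup G)) (hQ : Cfsg.IsLarge Q) {M : Subgroup G}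
    (hSM : (S : Subgroup G) ≤ M) (hM : Cfsg.IsInFrakM p M)
    (hasym : ¬ Cfsg.IsSymmetricIn (Cfsg.largestPReducedOf p M)) {L : Subgroup G}
    (hL : IsPGroup p L) (hRL : Cfsg.pCoreOf p M ≤ L) :
    L ≤ normalizer ((Cfsg.pCoreOf p M : Subgroup G) : Set G) := by
  obtain ⟨R, hR⟩ : ∃ R : Subgroup G, R = Cfsg.pCoreOf p M := ⟨_, rfl⟩
  have hnn := fun (L₀ : Subgroup G) (h0 : IsPGroup p L₀) (h1 : Cfsg.pCoreOf p M ≤ L₀)
      (h2 : L₀ ≤ normalizer ((Cfsg.pCoreOf p M : Subgroup G) : Set G)) =>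
    mss_normalizer_le_of_normal S hQp hQ1 hQS hQ hSM hM hasym h0 h1 h2
  rw [← hR] at hRL hnn ⊢
  obtain ⟨L₀, hL₀⟩ : ∃ L₀ : Subgroup G, L₀ = L ⊓ normalizer (R : Set G) := ⟨_, rfl⟩
  have hL₀L : L₀ ≤ L := hL₀ ▸ inf_le_left
  have hRL₀ : R ≤ L₀ := hL₀ ▸ le_inf hRL le_normalizer
  have hL₀p : IsPGroup p L₀ := hL.to_le hL₀L
  have hN₀ : normalizer (L₀ : Set G) ≤ normalizer (R : Set G) :=
    hnn L₀ hL₀p hRL₀ (hL₀ ▸ inf_le_right)
  -- the normalizer condition in the `p`-group `L`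
  haveI : Group.IsNilpotent ↥L := hL.isNilpotent
  by_contra hcon
  have hlt : L₀.subgroupOf L < ⊤ := by
    rw [lt_top_iff_ne_top]
    intro h
    apply hcon
    rw [Subgroup.subgroupOf_eq_top] at h
    exact (h.trans (hL₀ ▸ inf_le_right))
  have hnc := Group.normalizerCondition_of_isNilpotent (G := ↥L) (L₀.subgroupOf L) hlt
  obtain ⟨x, hxN, hxL₀⟩ := SetLike.exists_of_lt hnc
  apply hxL₀
  rw [mem_subgroupOf, hL₀]
  refine Subgroup.mem_inf.mpr ⟨x.2, hN₀ ?_⟩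
  rw [mem_normalizer_iff]
  intro y
  constructor
  · intro hy
    have hyL : y ∈ L := hL₀L hy
    have := (mem_normalizer_iff.mp hxN ⟨y, hyL⟩).mp (mem_subgroupOf.mpr hy)
    exact mem_subgroupOf.mp this
  · intro hy
    have hyL : y ∈ L := by
      have h1 : (x : G) * y * (x : G)⁻¹ ∈ L := hL₀L hy
      have : y = (x : G)⁻¹ * ((x : G) * y * (x : G)⁻¹) * (x : G) := by group
      rw [this]
      exact L.mul_mem (L.mul_mem (L.inv_mem x.2) h1) x.2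
    have h2 : x * ⟨y, hyL⟩ * x⁻¹ ∈ L₀.subgroupOf L := mem_subgroupOf.mpr hy
    exact mem_subgroupOf.mp ((mem_normalizer_iff.mp hxN ⟨y, hyL⟩).mpr h2)

/-- `N_G(L) ≤ N_G(R)` for every `p`-subgroup `L ≥ R` -/
theorem mss_normalizer_le (S : Sylow p G) {Q : Subgroup G} (hQp : IsPGroup p Q)
    (hQ1 : Q ≠ ⊥) (hQS : Q ≤ (S : Subgroup G)) (hQ : Cfsg.IsLarge Q) {M : Subgroup G}
    (hSM : (S : Subgroup G) ≤ M) (hM : Cfsg.IsInFrakM p M)
    (hasym : ¬ Cfsg.IsSymmetricIn (Cfsg.largestPReducedOf p M)) {L : Subgroup G}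
    (hL : IsPGroup p L) (hRL : Cfsg.pCoreOf p M ≤ L) :
    normalizer (L : Set G) ≤ normalizer ((Cfsg.pCoreOf p M : Subgroup G) : Set G) :=
  mss_normalizer_le_of_normal S hQp hQ1 hQS hQ hSM hM hasym hL hRL
    (mss_le_normalizer S hQp hQ1 hQS hQ hSM hM hasym hL hRL)

/-- `R = O_p(M)` is the only conjugate of itself in any `p`-subgroup containing it -/
theorem mss_weaklyClosed (S : Sylow p G) {Q : Subgroup G} (hQp : IsPGroup p Q)
    (hQ1 : Q ≠ ⊥) (hQS : Q ≤ (S : Subgroup G)) (hQ : Cfsg.IsLarge Q) {M : Subgroup G}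
    (hSM : (S : Subgroup G) ≤ M) (hM : Cfsg.IsInFrakM p M)
    (hasym : ¬ Cfsg.IsSymmetricIn (Cfsg.largestPReducedOf p M)) {g : G}
    (hg : cj g (Cfsg.pCoreOf p M) ≤ (S : Subgroup G)) :
    cj g (Cfsg.pCoreOf p M) = Cfsg.pCoreOf p M := by
  obtain ⟨R, hR⟩ : ∃ R : Subgroup G, R = Cfsg.pCoreOf p M := ⟨_, rfl⟩
  have hRM : M ≤ normalizer (R : Set G) := hR ▸ Cfsg.Agent.Lib.Helper55.le_normalizer_pCoreOf M
  have hRS : R ≤ (S : Subgroup G) := hR ▸ Cfsg.Agent.Lib.Helper55.sylow_le_pCoreOf_sup S hSM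
  have hnle := fun (L : Subgroup G) (h0 : IsPGroup p L) (h1 : Cfsg.pCoreOf p M ≤ L) =>
    mss_le_normalizer S hQp hQ1 hQS hQ hSM hM hasym h0 h1
  have hnn := fun (L : Subgroup G) (h0 : IsPGroup p L) (h1 : Cfsg.pCoreOf p M ≤ L) =>
    mss_normalizer_le S hQp hQ1 hQS hQ hSM hM hasym h0 h1
  rw [← hR] at hg hnle hnn ⊢
  -- `S ≤ N(cj g R)`
  have h1 : cj g⁻¹ (S : Subgroup G) ≤ normalizer (R : Set G) := by
    apply hnle _ (isPGroup_cj S.2)
    rw [← cj_le_iff]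
    exact hg
  have h2 : (S : Subgroup G) ≤ normalizer ((cj g R : Subgroup G) : Set G) := by
    rw [← cj_normalizer, le_cj_iff]
    exact h1
  have h3 : cj g (S : Subgroup G) ≤ normalizer ((cj g R : Subgroup G) : Set G) := by
    rw [← cj_normalizer]
    exact cj_mono (hSM.trans hRM)
  obtain ⟨c, hc, hcS⟩ := Cfsg.Agent.Lib.Helper55.exists_conj_sylow_of_le (g • S) S
    (by rw [Cfsg.Agent.Lib.Helper55.coe_smul_sylow]; exact h3) h2
  rw [Cfsg.Agent.Lib.Helper55.coe_smul_sylow, ← cj_mul] at hcS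
  have h4 : c * g ∈ normalizer ((S : Subgroup G) : Set G) := cj_eq_self_iff.mp hcS
  have h5 : c * g ∈ normalizer (R : Set G) := hnn _ S.2 hRS h4
  have h6 : cj (c * g) R = R := cj_eq_self_iff.mpr h5
  rw [cj_mul, cj_eq_self_iff.mpr hc] at h6
  exact h6

/-- `R = O_p(M)` is the only conjugate of itself in any `p`-subgroup containing it -/
theorem mss_weaklyClosed' (S : Sylow p G) {Q : Subgroup G} (hQp : IsPGroup p Q)
    (hQ1 : Q ≠ ⊥) (hQS : Q ≤ (S : Subgroup G)) (hQ : Cfsg.IsLarge Q) {M : Subgroup G}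
    (hSM : (S : Subgroup G) ≤ M) (hM : Cfsg.IsInFrakM p M)
    (hasym : ¬ Cfsg.IsSymmetricIn (Cfsg.largestPReducedOf p M)) {L : Subgroup G}
    (hL : IsPGroup p L) (hRL : Cfsg.pCoreOf p M ≤ L) {g : G}
    (hg : cj g (Cfsg.pCoreOf p M) ≤ L) :
    cj g (Cfsg.pCoreOf p M) = Cfsg.pCoreOf p M := by
  have hRM : M ≤ normalizer ((Cfsg.pCoreOf p M : Subgroup G) : Set G) :=
    Cfsg.Agent.Lib.Helper55.le_normalizer_pCoreOf M
  have hLR := mss_le_normalizer S hQp hQ1 hQS hQ hSM hM hasym hL hRL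
  obtain ⟨a, ha, haL⟩ := Cfsg.Agent.Lib.Helper53.exists_conj_le_sylow_of_le S
    (hSM.trans hRM) hLR hL
  have h1 : cj (a * g) (Cfsg.pCoreOf p M) ≤ (S : Subgroup G) := by
    rw [cj_mul]
    exact (cj_mono hg).trans haL
  have h2 := mss_weaklyClosed S hQp hQ1 hQS hQ hSM hM hasym h1
  rw [cj_mul] at h2
  have h3 := congrArg (cj a⁻¹) h2
  rw [cj_inv_cj] at h3
  rw [h3]
  have h4 : cj a (Cfsg.pCoreOf p M) = Cfsg.pCoreOf p M := cj_eq_self_iff.mpr ha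
  conv_lhs => rw [← h4]
  exact cj_inv_cj a _

/-- `M` controls fusion in `Y_M` -/
theorem mss_fusion (S : Sylow p G) {Q : Subgroup G} (hQp : IsPGroup p Q)
    (hQ1 : Q ≠ ⊥) (hQS : Q ≤ (S : Subgroup G)) (hQ : Cfsg.IsLarge Q) {M : Subgroup G}
    (hSM : (S : Subgroup G) ≤ M) (hM : Cfsg.IsInFrakM p M)
    (hasym : ¬ Cfsg.IsSymmetricIn (Cfsg.largestPReducedOf p M)) {x : G}
    (hx : x ∈ Cfsg.largestPReducedOf p M) {g : G}
    (hgx : g * x * g⁻¹ ∈ Cfsg.largestPReducedOf p M) :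
    ∃ m ∈ M, m * x * m⁻¹ = g * x * g⁻¹ := by
  obtain ⟨R, hR⟩ : ∃ R : Subgroup G, R = Cfsg.pCoreOf p M := ⟨_, rfl⟩
  obtain ⟨Y, hY⟩ : ∃ Y : Subgroup G, Y = Cfsg.largestPReducedOf p M := ⟨_, rfl⟩
  have hYM : M ≤ normalizer (Y : Set G) :=
    hY ▸ Cfsg.Agent.Lib.Helper55.le_normalizer_largestPReducedOf M
  have hRM : M ≤ normalizer (R : Set G) := hR ▸ Cfsg.Agent.Lib.Helper55.le_normalizer_pCoreOf M
  have hRC : R ≤ centralizer (Y : Set G) := by
    rw [hY, hR]; exact Cfsg.Agent.Lib.Helper55.pCoreOf_le_centralizer_largestPReducedOf M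
  have hRp : IsPGroup p R := hR ▸ Cfsg.Agent.Lib.Helper55.isPGroup_pCoreOf M
  have hR1 : R ≠ ⊥ := by
    rw [hR]
    exact fun h => hM.1.1 ((Cfsg.Agent.Lib.Helper55.pCoreOf_eq_bot_iff M).mp h)
  have hNRd : normalizer (R : Set G) ≤ M ⊔ centralizer (Y : Set G) := by
    rw [hY]
    exact Cfsg.Agent.Lib.Helper55.normalizer_le_dagger hQ hQp hQ1 hM ⟨S, hSM⟩ hR1 hRp hRM
  have hwc := fun (L : Subgroup G) (h0 : IsPGroup p L) (h1 : Cfsg.pCoreOf p M ≤ L) (g : G)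
      (h2 : cj g (Cfsg.pCoreOf p M) ≤ L) =>
    mss_weaklyClosed' S hQp hQ1 hQS hQ hSM hM hasym h0 h1 h2
  rw [← hR] at hwc
  rw [← hY] at hx hgx
  obtain ⟨x', hx'⟩ : ∃ x' : G, x' = g * x * g⁻¹ := ⟨_, rfl⟩
  rw [← hx'] at hgx ⊢
  obtain ⟨C, hC⟩ : ∃ C : Subgroup G, C = centralizer ({x'} : Set G) := ⟨_, rfl⟩
  have hRCx : R ≤ C := by
    rw [hC]
    exact hRC.trans (centralizer_le (by simpa using hgx))
  have hgRC : cj g R ≤ C := by
    rw [hC]
    intro y hy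
    rw [mem_cj] at hy
    rw [mem_centralizer_iff]
    intro z hz
    rw [Set.mem_singleton_iff] at hz
    subst hz
    have h1 : x * (g⁻¹ * y * g) = (g⁻¹ * y * g) * x :=
      (mem_centralizer_iff.mp (hRC hy)) x hx
    rw [hx']
    calc g * x * g⁻¹ * y = g * (x * (g⁻¹ * y * g)) * g⁻¹ := by group
      _ = g * ((g⁻¹ * y * g) * x) * g⁻¹ := by rw [h1]
      _ = y * (g * x * g⁻¹) := by group
  -- a Sylow subgroup of `C` containing `R`
  have hRp' : IsPGroup p (R.subgroupOf C) := hRp.comap_subtype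
  obtain ⟨P, hP⟩ := hRp'.exists_le_sylow
  obtain ⟨c, hc, hcP⟩ := Cfsg.Agent.Lib.Helper53.exists_conj_le_sylow_subgroup P hgRC
    (isPGroup_cj hRp)
  have hP'p : IsPGroup p ((P : Subgroup ↥C).map C.subtype) := P.2.map _
  have hRP' : R ≤ (P : Subgroup ↥C).map C.subtype := by
    intro y hy
    exact ⟨⟨y, hRCx hy⟩, hP (mem_subgroupOf.mpr hy), rfl⟩
  have h1 : cj (c * g) R ≤ (P : Subgroup ↥C).map C.subtype := by
    rw [cj_mul]; exact hcP
  have h2 : cj (c * g) R = R := hwc _ hP'p hRP' _ h1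
  have h3 : c * g ∈ M ⊔ centralizer (Y : Set G) := hNRd (cj_eq_self_iff.mp h2)
  obtain ⟨m, hm, n, hn, hmn⟩ := Cfsg.Agent.Lib.Helper01.exists_mul_of_mem_sup
    (hYM.trans (Cfsg.Agent.Lib.Helper55.normalizer_le_normalizer_centralizer Y)) h3
  refine ⟨m, hm, ?_⟩
  have hcx : c * x' = x' * c := by
    rw [hC] at hc
    exact ((mem_centralizer_iff.mp hc) x' (Set.mem_singleton _)).symm
  have hnx : n * x = x * n := ((mem_centralizer_iff.mp hn) x hx).symm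
  have e1 : x' = c * x' * c⁻¹ := by rw [hcx]; group
  have e2 : c * x' * c⁻¹ = (c * g) * x * (c * g)⁻¹ := by rw [hx']; group
  rw [e1, e2, hmn]
  calc m * x * m⁻¹ = m * (x * n) * n⁻¹ * m⁻¹ := by group
    _ = m * (n * x) * n⁻¹ * m⁻¹ := by rw [hnx]
    _ = m * n * x * (m * n)⁻¹ := by group

end MSS26

end Cfsg.Agent.Lib.Helper52
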