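import Mathlib
import Cfsg.Agent.Lib.Helper52.MSS26
import Cfsg.Agent.Lib.Helper52.CharPInherit
import Cfsg.Agent.Lib.Helper55.LargeChar
import Cfsg.Agent.Lib.Helper54.PRedAmbient

/-!
# The asymmetric char-`p`-tall case: `ℌ_G(O_p(M))` is nonempty (MSS, Lemma 2.8(a))

Standing hypotheses: `S ∈ Syl_p(G)`, `Q ≤ S` a nontrivial large `p`-subgroup, `S ≤ M ∈ 𝔐_G(S)`,
`Y = Y_M` asymmetric and char-`p`-tall in `G`, `R = O_p(M)`.

* `mss_charP_of_le`: every subgroup `H` with `R ≤ H ≤ L`, `L` of characteristic `p`, has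
  characteristic `p`;
* `mss_exists_frakH`: `ℌ_G(O_p(M)) ≠ ∅`.
-/

set_option autoImplicit false
set_option linter.unusedSectionVars false
set_option linter.style.haveILetI false

namespace Cfsg.Agent.Lib.Helper52

open Subgroup
open Cfsg.Agent.Lib.Helper55 (cj mem_cj conj_mem_cj cj_one cj_mul cj_inv_cj cj_cj_inv cj_mono
  cj_le_iff le_cj_iff cj_eq_self_iff cj_inf cj_centralizer cj_normalizer le_normalizer_of_cj_le
  isPGroup_cj card_cj)

section MSS28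

variable {G : Type*} [Group G] [Finite G] {p : ℕ} [hp : Fact p.Prime]

/-- in the asymmetric case, every subgroup between `R = O_p(M)` and a subgroup `L` of
characteristic `p` has characteristic `p` -/
theorem mss_charP_of_le (S : Sylow p G) {Q : Subgroup G} (hQp : IsPGroup p Q)
    (hQ1 : Q ≠ ⊥) (hQS : Q ≤ (S : Subgroup G)) (hQ : Cfsg.IsLarge Q) {M : Subgroup G}
    (hSM : (S : Subgroup G) ≤ M) (hM : Cfsg.IsInFrakM p M)
    (hasym : ¬ Cfsg.IsSymmetricIn (Cfsg.largestPReducedOf p M)) {L H : Subgroup G}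
    (hL : L ⊓ centralizer ((Cfsg.pCoreOf p L : Subgroup G) : Set G) ≤ Cfsg.pCoreOf p L)
    (hRH : Cfsg.pCoreOf p M ≤ H) (hHL : H ≤ L) :
    H ⊓ centralizer ((Cfsg.pCoreOf p H : Subgroup G) : Set G) ≤ Cfsg.pCoreOf p H := by
  obtain ⟨R, hR⟩ : ∃ R : Subgroup G, R = Cfsg.pCoreOf p M := ⟨_, rfl⟩
  have hRp : IsPGroup p R := hR ▸ Cfsg.Agent.Lib.Helper55.isPGroup_pCoreOf M
  have hCR : centralizer (R : Set G) ≤ R := by rw [hR]; exact hM.1.2
  have hnle := fun (L₀ : Subgroup G) (h0 : IsPGroup p L₀) (h1 : Cfsg.pCoreOf p M ≤ L₀) =>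
    mss_le_normalizer S hQp hQ1 hQS hQ hSM hM hasym h0 h1
  rw [← hR] at hnle hRH
  have hDp : IsPGroup p (Cfsg.pCoreOf p L) := Cfsg.Agent.Lib.Helper55.isPGroup_pCoreOf L
  have hLD : L ≤ normalizer ((Cfsg.pCoreOf p L : Subgroup G) : Set G) :=
    Cfsg.Agent.Lib.Helper55.le_normalizer_pCoreOf L
  have hsup : IsPGroup p ↥(R ⊔ Cfsg.pCoreOf p L) :=
    IsPGroup.to_sup_of_normal_right' hRp hDp ((hRH.trans hHL).trans hLD)
  have hDR : Cfsg.pCoreOf p L ≤ normalizer (R : Set G) :=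
    le_sup_right.trans (hnle _ hsup le_sup_left)
  exact charP_inherit hL hRH hHL hRp hDR (inf_le_right.trans hCR)

/-- **MSS Lemma 2.8(a)**: `ℌ_G(O_p(M))` is nonempty -/
theorem mss_exists_frakH (S : Sylow p G) {Q : Subgroup G} (hQp : IsPGroup p Q)
    (hQ1 : Q ≠ ⊥) (hQS : Q ≤ (S : Subgroup G)) (hQ : Cfsg.IsLarge Q) {M : Subgroup G}
    (hSM : (S : Subgroup G) ≤ M) (hM : Cfsg.IsInFrakM p M)
    (htall : Cfsg.IsCharPTall p (Cfsg.largestPReducedOf p M))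
    (hasym : ¬ Cfsg.IsSymmetricIn (Cfsg.largestPReducedOf p M)) :
    ∃ H : Subgroup G, Cfsg.IsInFrakH p M H := by
  obtain ⟨R, hR⟩ : ∃ R : Subgroup G, R = Cfsg.pCoreOf p M := ⟨_, rfl⟩
  obtain ⟨Y, hY⟩ : ∃ Y : Subgroup G, Y = Cfsg.largestPReducedOf p M := ⟨_, rfl⟩
  have hRC : R ≤ centralizer (Y : Set G) := by
    rw [hY, hR]; exact Cfsg.Agent.Lib.Helper55.pCoreOf_le_centralizer_largestPReducedOf M
  have hRp : IsPGroup p R := hR ▸ Cfsg.Agent.Lib.Helper55.isPGroup_pCoreOf M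
  have hchar := fun (L H : Subgroup G)
      (hL : L ⊓ centralizer ((Cfsg.pCoreOf p L : Subgroup G) : Set G) ≤ Cfsg.pCoreOf p L)
      (hRH : Cfsg.pCoreOf p M ≤ H) (hHL : H ≤ L) =>
    mss_charP_of_le S hQp hQ1 hQS hQ hSM hM hasym hL hRH hHL
  unfold Cfsg.IsInFrakH
  rw [← hR] at hchar ⊢
  rw [← hY] at htall ⊢
  obtain ⟨T, L, hTL, hLchar, hYL⟩ := htall
  obtain ⟨c, hc, hcT⟩ := Cfsg.Agent.Lib.Helper53.exists_conj_le_sylow_subgroup T hRC hRp
  have hcY : cj c Y = Y := cj_eq_self_iff.mpr (Subgroup.centralizer_le_normalizer _ hc)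
  obtain ⟨L', hL'⟩ : ∃ L' : Subgroup G, L' = cj c⁻¹ L := ⟨_, rfl⟩
  have hRL' : R ≤ L' := by
    rw [hL']
    exact cj_le_iff.mp (hcT.trans hTL)
  have hcore : Cfsg.pCoreOf p L' = cj c⁻¹ (Cfsg.pCoreOf p L) := by
    rw [hL', Cfsg.Agent.Lib.Helper55.pCoreOf_cj]
  have hL'char : L' ⊓ centralizer ((Cfsg.pCoreOf p L' : Subgroup G) : Set G) ≤
      Cfsg.pCoreOf p L' := by
    have h1 := Cfsg.Agent.Lib.Helper54.inf_centralizer_pCoreOf_le hLchar
    have h2 := cj_mono (g := c⁻¹) h1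
    rw [cj_inf, cj_centralizer, ← hcore, ← hL'] at h2
    exact h2
  have hYL' : ¬ Y ≤ Cfsg.pCoreOf p L' := by
    intro h
    apply hYL
    rw [hcore, ← cj_le_iff, hcY] at h
    exact h
  -- a minimal member
  obtain ⟨H, ⟨hRH, hHL', hYH⟩, hmin⟩ := (Finite.to_wellFoundedLT (α := Subgroup G)).wf.has_min
    {H : Subgroup G | R ≤ H ∧ H ≤ L' ∧ ¬ Y ≤ Cfsg.pCoreOf p H} ⟨L', hRL', le_rfl, hYL'⟩
  refine ⟨H, ?_, hRH, hYH, ?_⟩
  · exact Cfsg.Agent.Lib.Helper55.centralizer_pCore_le_of_pCoreOf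
      (hchar L' H hL'char hRH hHL')
  · intro P hRP hPH
    by_contra hcon
    exact hmin P ⟨hRP, hPH.le.trans hHL', hcon⟩ hPH

end MSS28

end Cfsg.Agent.Lib.Helper52
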