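import Mathlib
import Cfsg.Agent.Lib.Helper52.MSS28
import Cfsg.Agent.Lib.Helper53.Subnormal
import Cfsg.Agent.Lib.Helper54.Subnormal

/-!
# The asymmetric char-`p`-tall case: the structure of the members of `ℌ_G(O_p(M))`
(MSS, Lemma 2.8(b)–(f))
-/

set_option autoImplicit false
set_option linter.unusedSectionVars false
set_option linter.style.haveILetI false

namespace Cfsg.Agent.Lib.Helper52

open Subgroup
open scoped commutatorElement
open Cfsg.Agent.Lib.Helper55 (cj mem_cj conj_mem_cj cj_one cj_mul cj_inv_cj cj_cj_inv cj_mono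
  cj_le_iff le_cj_iff cj_eq_self_iff cj_inf cj_centralizer cj_normalizer le_normalizer_of_cj_le
  isPGroup_cj card_cj)

section Gen

variable {G : Type*} [Group G]

/-- a subgroup normalizing `A` and `B` normalizes `A ⊔ B` -/
theorem nrm_sup {K A B : Subgroup G} (hA : K ≤ normalizer (A : Set G))
    (hB : K ≤ normalizer (B : Set G)) : K ≤ normalizer ((A ⊔ B : Subgroup G) : Set G) := by
  apply le_normalizer_of_cj_le
  intro g hg
  show (A ⊔ B).map (MulAut.conj g).toMonoidHom ≤ A ⊔ B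
  rw [Subgroup.map_sup]
  have h1 : cj g A = A := cj_eq_self_iff.mpr (hA hg)
  have h2 : cj g B = B := cj_eq_self_iff.mpr (hB hg)
  exact sup_le (h1.le.trans le_sup_left) (h2.le.trans le_sup_right)

/-- a subgroup normalizing `A` and `B` normalizes `⁅A, B⁆` -/
theorem nrm_comm {K A B : Subgroup G} (hA : K ≤ normalizer (A : Set G))
    (hB : K ≤ normalizer (B : Set G)) : K ≤ normalizer ((⁅A, B⁆ : Subgroup G) : Set G) := by
  apply le_normalizer_of_cj_le
  intro g hg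
  show (⁅A, B⁆).map (MulAut.conj g).toMonoidHom ≤ ⁅A, B⁆
  rw [Subgroup.map_commutator]
  have h1 : cj g A = A := cj_eq_self_iff.mpr (hA hg)
  have h2 : cj g B = B := cj_eq_self_iff.mpr (hB hg)
  have h1' : A.map (MulAut.conj g).toMonoidHom = A := h1
  have h2' : B.map (MulAut.conj g).toMonoidHom = B := h2
  rw [h1', h2']

/-- `A` normalizes `⁅A, B⁆` -/
theorem nrm_comm_left (A B : Subgroup G) : A ≤ normalizer ((⁅A, B⁆ : Subgroup G) : Set G) := by
  apply le_normalizer_of_cj_le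
  intro a' ha'
  show (⁅A, B⁆).map (MulAut.conj a').toMonoidHom ≤ ⁅A, B⁆
  rw [Subgroup.map_commutator, Subgroup.commutator_le]
  rintro _ ⟨a, ha, rfl⟩ _ ⟨b, hb, rfl⟩
  have e : ⁅(MulAut.conj a').toMonoidHom a, (MulAut.conj a').toMonoidHom b⁆ =
      ⁅a' * a, b⁆ * ⁅a', b⁆⁻¹ := by
    simp only [MulEquiv.coe_toMonoidHom, MulAut.conj_apply, commutatorElement_def]
    group
  rw [e]
  exact Subgroup.mul_mem _ (Subgroup.commutator_mem_commutator (A.mul_mem ha' ha) hb)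
    (Subgroup.inv_mem _ (Subgroup.commutator_mem_commutator ha' hb))

/-- `⁅A, B⁆ ≤ A` when `B` normalizes `A` -/
theorem comm_le_left_of_nrm {A B : Subgroup G} (h : B ≤ normalizer (A : Set G)) :
    ⁅A, B⁆ ≤ A := by
  rw [Subgroup.commutator_le]
  intro a ha b hb
  have h1 : b * a⁻¹ * b⁻¹ ∈ A := (mem_normalizer_iff.mp (h hb) a⁻¹).mp (A.inv_mem ha)
  have e : ⁅a, b⁆ = a * (b * a⁻¹ * b⁻¹) := by
    simp only [commutatorElement_def]; group
  rw [e]
  exact A.mul_mem ha h1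

/-- `B` normalizes `⁅B, Y⁆ ⊔ Y` -/
theorem nrm_comm_sup (B Y : Subgroup G) :
    B ≤ normalizer ((⁅B, Y⁆ ⊔ Y : Subgroup G) : Set G) := by
  apply le_normalizer_of_cj_le
  intro b hb
  show (⁅B, Y⁆ ⊔ Y).map (MulAut.conj b).toMonoidHom ≤ ⁅B, Y⁆ ⊔ Y
  rw [Subgroup.map_sup]
  have h1 : cj b ⁅B, Y⁆ = ⁅B, Y⁆ := cj_eq_self_iff.mpr (nrm_comm_left B Y hb)
  refine sup_le (h1.le.trans le_sup_left) ?_
  rintro _ ⟨y, hy, rfl⟩
  have e : (MulAut.conj b).toMonoidHom y = ⁅b, y⁆ * y := by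
    simp only [MulEquiv.coe_toMonoidHom, MulAut.conj_apply, commutatorElement_def]
    group
  rw [e]
  exact Subgroup.mul_mem _ (le_sup_left (a := ⁅B, Y⁆) (b := Y)
    (Subgroup.commutator_mem_commutator hb hy)) (le_sup_right (a := ⁅B, Y⁆) (b := Y) hy)

/-- `A ≤ ⟨A^H⟩` for `A ≤ H` -/
theorem le_map_normalClosure_subgroupOf {A H : Subgroup G} (hAH : A ≤ H) :
    A ≤ (Subgroup.normalClosure ((A.subgroupOf H : Subgroup ↥H) : Set ↥H)).map H.subtype := by
  intro a ha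
  exact ⟨⟨a, hAH ha⟩, Subgroup.subset_normalClosure (mem_subgroupOf.mpr ha), rfl⟩

/-- `H` normalizes `⟨A^H⟩` -/
theorem le_normalizer_map_normalClosure_subgroupOf (A H : Subgroup G) :
    H ≤ normalizer (((Subgroup.normalClosure ((A.subgroupOf H : Subgroup ↥H) : Set ↥H)).map
      H.subtype : Subgroup G) : Set G) :=
  Cfsg.Agent.Lib.Helper55.le_normalizer_map_subtype _ Subgroup.normalClosure_normal

/-- `⟨A^H⟩` lies in every subgroup containing `A` and normalized by `H` -/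
theorem map_normalClosure_subgroupOf_le' {A H C : Subgroup G} (hAC : A ≤ C)
    (hHC : H ≤ normalizer (C : Set G)) :
    (Subgroup.normalClosure ((A.subgroupOf H : Subgroup ↥H) : Set ↥H)).map H.subtype ≤ C := by
  have hn : (C.subgroupOf H).Normal := by
    refine ⟨fun n hn g => ?_⟩
    rw [mem_subgroupOf] at hn ⊢
    exact (mem_normalizer_iff.mp (hHC g.2) n).mp hn
  have h1 : Subgroup.normalClosure ((A.subgroupOf H : Subgroup ↥H) : Set ↥H) ≤ C.subgroupOf H := by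
    apply Subgroup.normalClosure_le_normal
    intro x hx
    exact mem_subgroupOf.mpr (hAC (mem_subgroupOf.mp hx))
  rintro _ ⟨x, hx, rfl⟩
  exact mem_subgroupOf.mp (h1 hx)

end Gen

section GenP

variable {G : Type*} [Group G] [Finite G] {p : ℕ} [hp : Fact p.Prime]

/-- `O_p(N) ≤ O_p(H)` for `N ⊴ H` -/
theorem pCoreOf_le_pCoreOf_of_normal {N H : Subgroup G} (hNH : N ≤ H)
    (hn : H ≤ normalizer (N : Set G)) : Cfsg.pCoreOf p N ≤ Cfsg.pCoreOf p H :=
  Cfsg.Agent.Lib.Helper55.le_pCoreOf ((Cfsg.Agent.Lib.Helper55.pCoreOf_le N).trans hNH)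
    (hn.trans (Cfsg.Agent.Lib.Helper55.normalizer_le_normalizer_pCoreOf N))
    (Cfsg.Agent.Lib.Helper55.isPGroup_pCoreOf N)

/-- `O_p(P) ≤ O_p(H)` for `O^p(H) ≤ P ≤ H` -/
theorem pCoreOf_le_pCoreOf_of_pResidual_le {P H : Subgroup G} (hPH : P ≤ H)
    (hBP : (Cfsg.pResidual p ↥H).map H.subtype ≤ P) : Cfsg.pCoreOf p P ≤ Cfsg.pCoreOf p H := by
  haveI hBn : (Cfsg.pResidual p ↥H).Normal := Cfsg.Agent.Lib.Helper54.pResidual_normal p ↥H
  -- `P` is subnormal in `H`
  have hq : IsPGroup p (↥H ⧸ Cfsg.pResidual p ↥H) :=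
    Cfsg.Agent.Lib.Helper54.pResidual_quotient_isPGroup
  have hsub : ((P.subgroupOf H).map (QuotientGroup.mk' (Cfsg.pResidual p ↥H))).IsSubnormal :=
    Cfsg.Agent.Lib.Helper54.isSubnormal_of_isPGroup hq _
  have hsub2 := hsub.comap (QuotientGroup.mk' (Cfsg.pResidual p ↥H))
  have hcm : ((P.subgroupOf H).map (QuotientGroup.mk' (Cfsg.pResidual p ↥H))).comap
      (QuotientGroup.mk' (Cfsg.pResidual p ↥H)) = P.subgroupOf H := by
    rw [Subgroup.comap_map_eq, QuotientGroup.ker_mk', sup_eq_left]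
    intro x hx
    rw [mem_subgroupOf]
    exact hBP ⟨x, hx, rfl⟩
  rw [hcm] at hsub2
  -- apply the subnormal lemma to `O_p(P)`
  have hDp : IsPGroup p (Cfsg.pCoreOf p P) := Cfsg.Agent.Lib.Helper55.isPGroup_pCoreOf P
  have hDP : Cfsg.pCoreOf p P ≤ P := Cfsg.Agent.Lib.Helper55.pCoreOf_le P
  have hPD : P ≤ normalizer ((Cfsg.pCoreOf p P : Subgroup G) : Set G) :=
    Cfsg.Agent.Lib.Helper55.le_normalizer_pCoreOf P
  have h1 := Cfsg.Agent.Lib.Helper53.le_pCore_of_subnormal (p := p) hsub2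
    ((Cfsg.pCoreOf p P).subgroupOf H) ?_ ?_ hDp.comap_subtype
  · intro x hx
    exact ⟨⟨x, hPH (hDP hx)⟩, h1 (mem_subgroupOf.mpr hx), rfl⟩
  · intro x hx
    rw [mem_subgroupOf] at hx ⊢
    exact hDP hx
  · intro x hx
    rw [mem_subgroupOf] at hx
    rw [mem_normalizer_iff]
    intro y
    simp only [mem_subgroupOf, Subgroup.coe_mul, Subgroup.coe_inv]
    exact mem_normalizer_iff.mp (hPD hx) y

/-- `O^p(O^p(H)) = O^p(H)` -/
theorem map_pResidual_map_pResidual (H : Subgroup G) :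
    (Cfsg.pResidual p ↥((Cfsg.pResidual p ↥H).map H.subtype)).map
      ((Cfsg.pResidual p ↥H).map H.subtype).subtype = (Cfsg.pResidual p ↥H).map H.subtype := by
  apply le_antisymm (Subgroup.map_subtype_le _)
  conv_lhs => rw [Cfsg.Agent.Lib.Helper54.map_pResidual_subtype]
  rw [Cfsg.Agent.Lib.Helper54.map_pResidual_subtype p
    ((Cfsg.pResidual p ↥H).map H.subtype), Subgroup.closure_le]
  rintro g ⟨hg, hc⟩
  apply Subgroup.subset_closure
  refine ⟨?_, hc⟩
  rw [Cfsg.Agent.Lib.Helper54.map_pResidual_subtype]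
  exact Subgroup.subset_closure ⟨hg, hc⟩

/-- a `p`-subgroup of `H` of the order of a Sylow `p`-subgroup of a subgroup `K ≤ H` which
contains a Sylow `p`-subgroup of `H` -/
theorem exists_sylow_map_eq {H K : Subgroup G} (hKH : K ≤ H) (T₀ : Sylow p ↥H)
    (hT₀ : (T₀ : Subgroup ↥H).map H.subtype ≤ K) (T : Sylow p ↥K) :
    ∃ P : Sylow p ↥H, (P : Subgroup ↥H).map H.subtype = (T : Subgroup ↥K).map K.subtype := by
  obtain ⟨T', hT'⟩ : ∃ T' : Subgroup G, T' = (T : Subgroup ↥K).map K.subtype := ⟨_, rfl⟩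
  have hT'K : T' ≤ K := hT' ▸ Subgroup.map_subtype_le _
  have hT'H : T' ≤ H := hT'K.trans hKH
  have hcT : Nat.card T' = Nat.card (T : Subgroup ↥K) := by
    rw [hT']
    exact Subgroup.card_map_of_injective K.subtype_injective
  have hcT₀ : Nat.card ((T₀ : Subgroup ↥H).map H.subtype) = Nat.card (T₀ : Subgroup ↥H) :=
    Subgroup.card_map_of_injective H.subtype_injective
  have h1 : Nat.card (T₀ : Subgroup ↥H) = p ^ (Nat.card ↥H).factorization p :=
    T₀.card_eq_multiplicity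
  have h2 : Nat.card (T : Subgroup ↥K) = p ^ (Nat.card ↥K).factorization p :=
    T.card_eq_multiplicity
  have h3 : p ^ (Nat.card ↥H).factorization p ∣ Nat.card ↥K := by
    rw [← h1, ← hcT₀]
    exact Subgroup.card_dvd_of_le hT₀
  have h4 : Nat.card ↥K ∣ Nat.card ↥H := Subgroup.card_dvd_of_le hKH
  have hKpos : Nat.card ↥K ≠ 0 := Nat.card_pos.ne'
  have hHpos : Nat.card ↥H ≠ 0 := Nat.card_pos.ne'
  have h5 : (Nat.card ↥H).factorization p ≤ (Nat.card ↥K).factorization p :=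
    (hp.out.pow_dvd_iff_le_factorization hKpos).mp h3
  have h6 : (Nat.card ↥K).factorization p ≤ (Nat.card ↥H).factorization p :=
    (Nat.factorization_le_iff_dvd hKpos hHpos).mpr h4 p
  have h7 : (Nat.card ↥K).factorization p = (Nat.card ↥H).factorization p := le_antisymm h6 h5
  have hcard : Nat.card (T'.subgroupOf H) = p ^ (Nat.card ↥H).factorization p := by
    rw [Nat.card_congr (Subgroup.subgroupOfEquivOfLe hT'H).toEquiv, hcT, h2, h7]
  refine ⟨Sylow.ofCard (T'.subgroupOf H) hcard, ?_⟩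
  rw [Sylow.coe_ofCard, Subgroup.map_subgroupOf_eq_of_le hT'H, hT']

end GenP

section MSS29

variable {G : Type*} [Group G] [Finite G] {p : ℕ} [hp : Fact p.Prime]

/-- **MSS Lemma 2.8(b)–(f)**: the structure of the members of `ℌ_G(O_p(M))` -/
theorem mss_frakH_structure (S : Sylow p G) {Q : Subgroup G} (hQp : IsPGroup p Q)
    (hQ1 : Q ≠ ⊥) (hQS : Q ≤ (S : Subgroup G)) (hQ : Cfsg.IsLarge Q) {M : Subgroup G}
    (hSM : (S : Subgroup G) ≤ M) (hM : Cfsg.IsInFrakM p M)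
    (hasym : ¬ Cfsg.IsSymmetricIn (Cfsg.largestPReducedOf p M)) {H : Subgroup G}
    (hH : Cfsg.IsInFrakH p M H) :
    (∀ T : Sylow p ↥(H ⊓ (M ⊔ Subgroup.centralizer
        (((Cfsg.largestPReducedOf p M) : Subgroup G) : Set G))),
      ∃ P : Sylow p ↥H, ((P : Subgroup ↥H).map H.subtype) =
        (T : Subgroup ↥(H ⊓ (M ⊔ Subgroup.centralizer
          (((Cfsg.largestPReducedOf p M) : Subgroup G) : Set G)))).map
          (H ⊓ (M ⊔ Subgroup.centralizer
            (((Cfsg.largestPReducedOf p M) : Subgroup G) : Set G))).subtype) ∧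
    Cfsg.pCoreOf p H ≤ Subgroup.normalizer (((Cfsg.pCoreOf p M) : Subgroup G) : Set G) ⊓
      Subgroup.normalizer (((Cfsg.largestPReducedOf p M) : Subgroup G) : Set G) ∧
    ⁅(Cfsg.pResidual p ↥H).map H.subtype, (Cfsg.largestPReducedOf p M)⁆ =
      (Cfsg.pResidual p ↥H).map H.subtype ∧
    (Cfsg.pResidual p ↥H).map H.subtype ⊔ (Cfsg.pCoreOf p M) = H ∧
    (Cfsg.pResidual p ↥H).map H.subtype ⊔ (Cfsg.largestPReducedOf p M) =
      (Subgroup.normalClosure ((((Cfsg.largestPReducedOf p M)).subgroupOf H : Subgroup ↥H) :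
        Set ↥H)).map H.subtype ∧
    (Subgroup.normalClosure ((((Cfsg.pCoreOf p M)).subgroupOf H : Subgroup ↥H) :
      Set ↥H)).map H.subtype = H := by
  obtain ⟨R, hR⟩ : ∃ R : Subgroup G, R = Cfsg.pCoreOf p M := ⟨_, rfl⟩
  obtain ⟨Y, hY⟩ : ∃ Y : Subgroup G, Y = Cfsg.largestPReducedOf p M := ⟨_, rfl⟩
  obtain ⟨B, hB⟩ : ∃ B : Subgroup G, B = (Cfsg.pResidual p ↥H).map H.subtype := ⟨_, rfl⟩
  obtain ⟨D, hD⟩ : ∃ D : Subgroup G, D = Cfsg.pCoreOf p H := ⟨_, rfl⟩
  have hYR : Y ≤ R := by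
    rw [hY, hR]; exact Cfsg.Agent.Lib.Helper55.largestPReducedOf_le_pCoreOf M
  have hRC : R ≤ centralizer (Y : Set G) := by
    rw [hY, hR]; exact Cfsg.Agent.Lib.Helper55.pCoreOf_le_centralizer_largestPReducedOf M
  have hRp : IsPGroup p R := hR ▸ Cfsg.Agent.Lib.Helper55.isPGroup_pCoreOf M
  have hYp : IsPGroup p Y := hRp.to_le hYR
  have hR1 : R ≠ ⊥ := by
    rw [hR]
    exact fun h => hM.1.1 ((Cfsg.Agent.Lib.Helper55.pCoreOf_eq_bot_iff M).mp h)
  have hRM : M ≤ normalizer (R : Set G) := hR ▸ Cfsg.Agent.Lib.Helper55.le_normalizer_pCoreOf M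
  have hYM : M ≤ normalizer (Y : Set G) :=
    hY ▸ Cfsg.Agent.Lib.Helper55.le_normalizer_largestPReducedOf M
  have hNRd : normalizer (R : Set G) ≤ M ⊔ centralizer (Y : Set G) := by
    rw [hY]
    exact Cfsg.Agent.Lib.Helper55.normalizer_le_dagger hQ hQp hQ1 hM ⟨S, hSM⟩ hR1 hRp hRM
  have hMdY : M ⊔ centralizer (Y : Set G) ≤ normalizer (Y : Set G) :=
    sup_le hYM (Subgroup.centralizer_le_normalizer _)
  have hnle := fun (L : Subgroup G) (h0 : IsPGroup p L) (h1 : Cfsg.pCoreOf p M ≤ L) =>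
    mss_le_normalizer S hQp hQ1 hQS hQ hSM hM hasym h0 h1
  obtain ⟨hHchar, hRH, hYD, hmin⟩ := hH
  rw [← hR] at hnle hRH hmin ⊢
  rw [← hY] at hYD hmin ⊢
  rw [← hD] at hYD ⊢
  rw [← hB]
  have hYH : Y ≤ H := hYR.trans hRH
  have hDp : IsPGroup p D := hD ▸ Cfsg.Agent.Lib.Helper55.isPGroup_pCoreOf H
  have hDH : D ≤ H := hD ▸ Cfsg.Agent.Lib.Helper55.pCoreOf_le H
  have hHD : H ≤ normalizer (D : Set G) := hD ▸ Cfsg.Agent.Lib.Helper55.le_normalizer_pCoreOf H
  have hBH : B ≤ H := hB ▸ Subgroup.map_subtype_le _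
  have hHB : H ≤ normalizer (B : Set G) := by
    rw [hB]
    exact Cfsg.Agent.Lib.Helper55.le_normalizer_map_subtype _
      (Cfsg.Agent.Lib.Helper54.pResidual_normal p ↥H)
  have hRY : R ≤ normalizer (Y : Set G) := hRC.trans (Subgroup.centralizer_le_normalizer _)
  -- (2)
  have hDR : D ≤ normalizer (R : Set G) := by
    have hsup : IsPGroup p ↥(R ⊔ D) :=
      IsPGroup.to_sup_of_normal_right' hRp hDp (hRH.trans hHD)
    exact le_sup_right.trans (hnle _ hsup le_sup_left)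
  -- (4)
  have hBR : B ⊔ R = H := by
    by_contra hne
    have hlt : B ⊔ R < H := lt_of_le_of_ne (sup_le hBH hRH) hne
    have h1 : Y ≤ Cfsg.pCoreOf p (B ⊔ R) := hmin _ le_sup_right hlt
    apply hYD
    rw [hD]
    refine h1.trans (pCoreOf_le_pCoreOf_of_pResidual_le (sup_le hBH hRH) ?_)
    rw [← hB]
    exact le_sup_left
  -- (6)
  have h6 : (Subgroup.normalClosure ((R.subgroupOf H : Subgroup ↥H) : Set ↥H)).map H.subtype
      = H := by
    by_contra hne
    have hlt : (Subgroup.normalClosure ((R.subgroupOf H : Subgroup ↥H) : Set ↥H)).map H.subtype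
        < H := lt_of_le_of_ne (Subgroup.map_subtype_le _) hne
    have h1 := hmin _ (le_map_normalClosure_subgroupOf hRH) hlt
    apply hYD
    rw [hD]
    exact h1.trans (pCoreOf_le_pCoreOf_of_normal (Subgroup.map_subtype_le _)
      (le_normalizer_map_normalClosure_subgroupOf R H))
  -- (5)
  obtain ⟨N, hN⟩ : ∃ N : Subgroup G, N =
    (Subgroup.normalClosure ((Y.subgroupOf H : Subgroup ↥H) : Set ↥H)).map H.subtype := ⟨_, rfl⟩
  rw [← hN]
  have hYN : Y ≤ N := hN ▸ le_map_normalClosure_subgroupOf hYH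
  have hNH : N ≤ H := hN ▸ Subgroup.map_subtype_le _
  have hHN : H ≤ normalizer (N : Set G) := hN ▸ le_normalizer_map_normalClosure_subgroupOf Y H
  have hBY_norm : H ≤ normalizer ((B ⊔ Y : Subgroup G) : Set G) := by
    calc H = B ⊔ R := hBR.symm
      _ ≤ normalizer ((B ⊔ Y : Subgroup G) : Set G) :=
        sup_le (le_sup_left.trans le_normalizer) (nrm_sup (hRH.trans hHB) hRY)
  have hN_le : N ≤ B ⊔ Y := by
    rw [hN]
    exact map_normalClosure_subgroupOf_le' le_sup_right hBY_norm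
  have hNR : N ⊔ R = H := by
    by_contra hne
    have hlt : N ⊔ R < H := lt_of_le_of_ne (sup_le hNH hRH) hne
    have h1 : Y ≤ Cfsg.pCoreOf p (N ⊔ R) := hmin _ le_sup_right hlt
    apply hYD
    rw [hD]
    have h2 : Cfsg.pCoreOf p (N ⊔ R) ⊓ N ≤ Cfsg.pCoreOf p N := by
      apply Cfsg.Agent.Lib.Helper55.le_pCoreOf inf_le_right _
        ((Cfsg.Agent.Lib.Helper55.isPGroup_pCoreOf (N ⊔ R)).to_le inf_le_left)
      exact (le_inf (le_sup_left.trans (Cfsg.Agent.Lib.Helper55.le_normalizer_pCoreOf (N ⊔ R)))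
        le_normalizer).trans Subgroup.inf_normalizer_le_normalizer_inf
    exact (le_inf h1 hYN).trans (h2.trans (pCoreOf_le_pCoreOf_of_normal hNH hHN))
  have hBN : B ≤ N := by
    rw [hB]
    exact Cfsg.Agent.Lib.Helper54.map_pResidual_subtype_le_of_sup hNR.symm (hRH.trans hHN) hRp
  have h5 : B ⊔ Y = N := le_antisymm (sup_le hBN hYN) hN_le
  -- (3)
  obtain ⟨K, hK⟩ : ∃ K : Subgroup G, K = ⁅B, Y⁆ := ⟨_, rfl⟩
  rw [← hK]
  have hKB : K ≤ B := hK ▸ comm_le_left_of_nrm (hYH.trans hHB)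
  have hBK : B ≤ normalizer (K : Set G) := hK ▸ nrm_comm_left B Y
  have hRK : R ≤ normalizer (K : Set G) := hK ▸ nrm_comm (hRH.trans hHB) hRY
  have hHK : H ≤ normalizer (K : Set G) := by
    calc H = B ⊔ R := hBR.symm
      _ ≤ normalizer (K : Set G) := sup_le hBK hRK
  have hHKY : H ≤ normalizer ((K ⊔ Y : Subgroup G) : Set G) := by
    calc H = B ⊔ R := hBR.symm
      _ ≤ normalizer ((K ⊔ Y : Subgroup G) : Set G) :=
        sup_le (hK ▸ nrm_comm_sup B Y) (nrm_sup hRK hRY)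
  have hNKY : N ≤ K ⊔ Y := by
    rw [hN]
    exact map_normalClosure_subgroupOf_le' le_sup_right hHKY
  have hBKY : B ≤ K ⊔ Y := hBN.trans hNKY
  have hres : (Cfsg.pResidual p ↥(K ⊔ Y)).map (K ⊔ Y).subtype ≤ K :=
    Cfsg.Agent.Lib.Helper54.map_pResidual_subtype_le_of_sup rfl (hYH.trans hHK) hYp
  have hBB : (Cfsg.pResidual p ↥B).map B.subtype = B := by
    rw [hB]; exact map_pResidual_map_pResidual H
  have h3 : K = B := by
    apply le_antisymm hKB
    calc B = (Cfsg.pResidual p ↥B).map B.subtype := hBB.symm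
      _ ≤ (Cfsg.pResidual p ↥(K ⊔ Y)).map (K ⊔ Y).subtype :=
        Cfsg.Agent.Lib.Helper54.map_pResidual_subtype_mono p hBKY
      _ ≤ K := hres
  refine ⟨?_, le_inf hDR (hDR.trans (hNRd.trans hMdY)), h3, hBR, h5, h6⟩
  -- (1)
  intro T
  have hRp' : IsPGroup p (R.subgroupOf H) := hRp.comap_subtype
  obtain ⟨T₀, hT₀⟩ := hRp'.exists_le_sylow
  have hRT₀ : R ≤ (T₀ : Subgroup ↥H).map H.subtype := by
    intro y hy
    exact ⟨⟨y, hRH hy⟩, hT₀ (mem_subgroupOf.mpr hy), rfl⟩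
  have hT₀p : IsPGroup p ((T₀ : Subgroup ↥H).map H.subtype) := T₀.2.map _
  have h1 : (T₀ : Subgroup ↥H).map H.subtype ≤ H ⊓ (M ⊔ centralizer (Y : Set G)) :=
    le_inf (Subgroup.map_subtype_le _) ((hnle _ hT₀p hRT₀).trans hNRd)
  exact exists_sylow_map_eq inf_le_left T₀ h1 T

end MSS29

end Cfsg.Agent.Lib.Helper52
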