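import Mathlib
import Cfsg.Agent.Lib.Helper52.JOver2
import Cfsg.Agent.Lib.Helper52.GlauSolv3
import Cfsg.Agent.Lib.Helper52.MSS29
import Cfsg.Agent.Lib.Helper54.Subnormal

/-!
# Subnormality of subgroups `K = O²(K) = [K, J_e(T)]` in solvable groups of characteristic 2 in
which the centralizer of a subgroup `Z ≤ Z(T)` normalizes the Sylow 2-subgroup `T`
-/

set_option autoImplicit false
set_option linter.unusedSectionVars false
set_option linter.unusedVariables false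
set_option linter.style.haveILetI false

namespace Cfsg.Agent.Lib.Helper52

open Subgroup Matrix
open scoped commutatorElement

section JOver3

variable {X : Type*} [Group X] [Finite X]

/-- the elements of `X` centralizing `C` modulo `Q` (for `Q` normal) -/
def centMod (C Q : Subgroup X) [hQ : Q.Normal] : Subgroup X where
  carrier := {g | ∀ c ∈ C, g * c * g⁻¹ * c⁻¹ ∈ Q}
  one_mem' := by
    intro c _
    simp
  mul_mem' := by
    intro g h hg hh c hc
    have e : g * h * c * (g * h)⁻¹ * c⁻¹ = g * (h * c * h⁻¹ * c⁻¹) * g⁻¹ * (g * c * g⁻¹ * c⁻¹) := by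
      group
    rw [e]
    exact Q.mul_mem (hQ.conj_mem _ (hh c hc) g) (hg c hc)
  inv_mem' := by
    intro g hg c hc
    have e : g⁻¹ * c * g⁻¹⁻¹ * c⁻¹ = g⁻¹ * (g * c * g⁻¹ * c⁻¹)⁻¹ * g⁻¹⁻¹ := by group
    rw [e]
    exact hQ.conj_mem _ (Q.inv_mem (hg c hc)) g⁻¹

theorem mem_centMod {C Q : Subgroup X} [hQ : Q.Normal] {g : X} :
    g ∈ centMod C Q ↔ ∀ c ∈ C, g * c * g⁻¹ * c⁻¹ ∈ Q := Iff.rfl

theorem centMod_normal (C Q : Subgroup X) [hQ : Q.Normal] [hC : C.Normal] :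
    (centMod C Q).Normal := by
  constructor
  intro g hg x c hc
  have hc' : x⁻¹ * c * x⁻¹⁻¹ ∈ C := hC.conj_mem c hc x⁻¹
  have h1 := hg _ hc'
  have e : x * g * x⁻¹ * c * (x * g * x⁻¹)⁻¹ * c⁻¹ =
      x * (g * (x⁻¹ * c * x⁻¹⁻¹) * g⁻¹ * (x⁻¹ * c * x⁻¹⁻¹)⁻¹) * x⁻¹ := by group
  rw [e]
  exact hQ.conj_mem _ h1 x

/-- **subnormality** -/
theorem jover_subnormal [Group.IsSolvable X]
    (hchar : centralizer (Cfsg.pCore 2 X : Set X) ≤ Cfsg.pCore 2 X)
    (T : Sylow 2 X) (Z : Subgroup X) (hZT : Z ≤ centralizer ((T : Subgroup X) : Set X))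
    (hZN : centralizer (Z : Set X) ≤ normalizer ((T : Subgroup X) : Set X))
    (K : Subgroup X) (hodd : Subgroup.closure {g : X | g ∈ K ∧ Odd (orderOf g)} = K)
    (hKJ : ⁅K, Cfsg.thompsonSubgroupOf 2 (T : Subgroup X)⁆ = K)
    (hPK : Cfsg.pCore 2 X ≤ normalizer (K : Set X)) :
    K.IsSubnormal := by
  haveI : Fact (Nat.Prime 2) := ⟨Nat.prime_two⟩
  obtain ⟨Q, hQ⟩ : ∃ Q : Subgroup X, Q = Cfsg.pCore 2 X := ⟨_, rfl⟩
  haveI hQn : Q.Normal := hQ ▸ pCore_normal 2 X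
  have hQp : IsPGroup 2 Q := hQ ▸ pCore_isPGroup 2 X
  have hQT : Q ≤ (T : Subgroup X) := hQ ▸ pCore_le_sylow 2 X T
  rw [← hQ] at hchar hPK
  have hCQ : centralizer (Q : Set X) ≤ Q := hchar
  have hZcQ : Z ≤ centralizer (Q : Set X) :=
    hZT.trans (centralizer_le (by exact_mod_cast hQT))
  have hZQ : Z ≤ Q := hZcQ.trans hCQ
  haveI hcQn : (centralizer (Q : Set X)).Normal := Subgroup.normal_centralizer
  obtain ⟨V, hV⟩ : ∃ V : Subgroup X, V = normalClosure (Z : Set X) := ⟨_, rfl⟩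
  haveI hVn : V.Normal := hV ▸ normalClosure_normal
  have hZV : Z ≤ V := hV ▸ subset_normalClosure
  have hVQ : V ≤ Q := by
    rw [hV]; exact normalClosure_le_normal (by exact_mod_cast hZQ)
  have hVcQ : V ≤ centralizer (Q : Set X) := by
    rw [hV]; exact normalClosure_le_normal (by exact_mod_cast hZcQ)
  have hVc : ∀ x ∈ V, ∀ y ∈ V, x * y = y * x := by
    intro x hx y hy
    exact (mem_centralizer_iff.mp (hVcQ hx) y (hVQ hy)).symm
  have hVp : IsPGroup 2 V := hQp.to_le hVQ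
  have hVT : V ≤ (T : Subgroup X) := hVQ.trans hQT
  have hOpV : FMOp 2 V := hV ▸ fmOp_normalClosure T Z hZT
  obtain ⟨V₁, hV₁def⟩ : ∃ V₁ : Subgroup X, V₁ = omegaSub 2 V := ⟨_, rfl⟩
  haveI hV₁n : V₁.Normal := hV₁def ▸ omegaSub_normal 2 V
  have hV₁ : Cfsg.IsElementaryAbelian 2 V₁ := hV₁def ▸ omegaSub_isEA hVc
  have hC₁ : centralizer (V₁ : Set X) = centralizer (V : Set X) := by
    rw [hV₁def]; exact centralizer_omegaSub_eq hVc hVp hOpV
  have hOp₁ : FMOp 2 V₁ := by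
    intro D hDn hCD hidx
    rw [hC₁] at hCD hidx ⊢
    exact hOpV D hDn hCD hidx
  have hV₁T : V₁ ≤ (T : Subgroup X) := (hV₁def ▸ omegaSub_le 2 V).trans hVT
  have hsep : Cfsg.IsPSolvable 2 X := Cfsg.Agent.Lib.Helper33.isPSolvable_of_isSolvable 2 X
  obtain ⟨M, hMn, hCM, hser⟩ := jover_normal_series V₁ hV₁ hsep hOp₁ T.2 hV₁T
  obtain ⟨C, hC⟩ : ∃ C : Subgroup X, C = centralizer (V₁ : Set X) := ⟨_, rfl⟩
  rw [← hC] at hCM hser
  haveI hCn : C.Normal := hC ▸ Subgroup.normal_centralizer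
  obtain ⟨J, hJ⟩ : ∃ J : Subgroup X, J = Cfsg.thompsonSubgroupOf 2 (T : Subgroup X) := ⟨_, rfl⟩
  rw [← hJ] at hKJ hser
  -- `C` normalizes `T` and `J`
  have hCT : C ≤ normalizer ((T : Subgroup X) : Set X) := by
    refine le_trans ?_ hZN
    rw [hC, hC₁]
    exact centralizer_le (by exact_mod_cast hZV)
  have hCJ : C ≤ normalizer (J : Set X) := by
    rw [hJ]
    exact hCT.trans (Cfsg.Agent.Lib.Helper15.normalizer_le_normalizer_thompsonSubgroupOf 2 _)
  have hJT : J ≤ (T : Subgroup X) := hJ ▸ Cfsg.Agent.Lib.Helper15.thompsonSubgroupOf_le 2 _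
  -- `T ∩ C ≤ Q`
  have hP₁ : (T : Subgroup X) ⊓ C ≤ Q := by
    have h1 : (T : Subgroup X) ⊓ C ≤ Cfsg.pCoreOf 2 C := by
      apply Cfsg.Agent.Lib.Helper54.le_pCoreOf inf_le_right
      · apply le_normalizer_of_conj_mem
        intro c hc t ht
        obtain ⟨ht1, ht2⟩ := Subgroup.mem_inf.mp ht
        exact Subgroup.mem_inf.mpr ⟨(mem_normalizer_iff.mp (hCT hc) t).mp ht1,
          hCn.conj_mem t ht2 c⟩
      · exact T.2.to_le inf_le_left
    have h2 : Cfsg.pCoreOf 2 C ≤ Cfsg.pCoreOf 2 (⊤ : Subgroup X) :=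
      pCoreOf_le_pCoreOf_of_normal le_top (by
        rw [normalizer_eq_top_iff.mpr hCn])
    rw [Cfsg.Agent.Lib.Helper54.pCoreOf_top, ← hQ] at h2
    exact h1.trans h2
  -- `J` centralizes `C` modulo `Q`
  have hJD : J ≤ centMod C Q := by
    intro j hj
    rw [mem_centMod]
    intro c hc
    apply hP₁
    refine Subgroup.mem_inf.mpr ⟨?_, ?_⟩
    · have h1 : c * j⁻¹ * c⁻¹ ∈ J := (mem_normalizer_iff.mp (hCJ hc) _).mp (J.inv_mem hj)
      have e : j * c * j⁻¹ * c⁻¹ = j * (c * j⁻¹ * c⁻¹) := by group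
      rw [e]
      exact Subgroup.mul_mem _ (hJT hj) (hJT h1)
    · exact C.mul_mem (hCn.conj_mem c hc j) (C.inv_mem hc)
  haveI hDn : (centMod C Q).Normal := centMod_normal C Q
  obtain ⟨Y, hY⟩ : ∃ Y : Subgroup X, Y = normalClosure (J : Set X) := ⟨_, rfl⟩
  haveI hYn : Y.Normal := hY ▸ normalClosure_normal
  have hJY : J ≤ Y := hY ▸ subset_normalClosure
  have hYD : Y ≤ centMod C Q := by
    rw [hY]; exact normalClosure_le_normal (by exact_mod_cast hJD)
  have hKY : K ≤ Y := by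
    rw [← hKJ]
    exact (Subgroup.commutator_mono le_rfl hJY).trans (Subgroup.commutator_le_right K Y)
  rw [← hY] at hser
  obtain ⟨hKM, hMN⟩ := hser K hKY hodd
  have hKD : K ≤ centMod C Q := hKY.trans hYD
  -- `Q ≤ C`
  have hQC : Q ≤ C := by
    rw [hC, hC₁]
    exact le_centralizer_iff.mp hVcQ
  -- `C` normalizes `K Q`
  have hCKQ : C ≤ normalizer ((K ⊔ Q : Subgroup X) : Set X) := by
    apply Cfsg.Agent.Lib.Helper55.le_normalizer_of_cj_le
    intro c hc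
    show Subgroup.map _ _ ≤ _
    rw [Subgroup.map_sup]
    apply sup_le
    · rintro _ ⟨k, hk, rfl⟩
      show c * k * c⁻¹ ∈ K ⊔ Q
      have h1 : k * c * k⁻¹ * c⁻¹ ∈ Q := hKD hk c hc
      have e : c * k * c⁻¹ = (k * c * k⁻¹ * c⁻¹)⁻¹ * k := by group
      rw [e]
      exact Subgroup.mul_mem _ (mem_sup_right (Q.inv_mem h1)) (mem_sup_left hk)
    · rintro _ ⟨q, hq, rfl⟩
      show c * q * c⁻¹ ∈ K ⊔ Q
      exact mem_sup_right (hQn.conj_mem q hq c)
  -- the chain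
  have hM : M.IsSubnormal := hMn.isSubnormal
  have hKC : (K ⊔ C).IsSubnormal := by
    refine IsSubnormal.step _ M (sup_le hKM hCM) hM ?_
    exact Subgroup.normal_subgroupOf_of_le_normalizer hMN
  have hKQ : (K ⊔ Q).IsSubnormal := by
    refine IsSubnormal.step _ (K ⊔ C) (sup_le le_sup_left (hQC.trans le_sup_right)) hKC ?_
    apply Subgroup.normal_subgroupOf_of_le_normalizer
    exact sup_le ((le_sup_left : K ≤ K ⊔ Q).trans le_normalizer) hCKQ
  refine IsSubnormal.step _ (K ⊔ Q) le_sup_left hKQ ?_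
  apply Subgroup.normal_subgroupOf_of_le_normalizer
  exact sup_le le_normalizer hPK

end JOver3

end Cfsg.Agent.Lib.Helper52
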