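import Mathlib
import Cfsg.Agent.Lib.Helper52.JOver3

/-!
# The data attached to a solvable group of characteristic 2 in which `C_X(Z)` normalizes a Sylow
2-subgroup `T` (`Z ≤ Z(T)`): the module `V₁`, and the normal subgroup `M` with `M / C_X(V₁)`
abelian containing every `K = O²(K) = [K, J_e(T)]`.
-/

set_option autoImplicit false
set_option linter.unusedSectionVars false
set_option linter.unusedVariables false
set_option linter.style.haveILetI false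

namespace Cfsg.Agent.Lib.Helper52

open Subgroup Matrix
open scoped commutatorElement

section JOver4

variable {X : Type*} [Group X] [Finite X]

/-- the normal series, with `M / C_X(V₁)` abelian -/
theorem jover_abelian_series (V₁ : Subgroup X) [hV₁n : V₁.Normal]
    (hV₁ : Cfsg.IsElementaryAbelian 2 V₁) (hsep : Cfsg.IsPSolvable 2 X) (hOp : FMOp 2 V₁)
    {T : Subgroup X} (hT : IsPGroup 2 T) (hVT : V₁ ≤ T) :
    ∃ M : Subgroup X, M.Normal ∧ centralizer (V₁ : Set X) ≤ M ∧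
      ⁅M, M⁆ ≤ centralizer (V₁ : Set X) ∧
      ∀ K : Subgroup X, K ≤ normalClosure (Cfsg.thompsonSubgroupOf 2 T : Set X) →
        Subgroup.closure {g : X | g ∈ K ∧ Odd (orderOf g)} = K → K ≤ M := by
  haveI : Fact (Nat.Prime 2) := ⟨Nat.prime_two⟩
  obtain ⟨Y, hY⟩ : ∃ Y : Subgroup X, Y = normalClosure (Cfsg.thompsonSubgroupOf 2 T : Set X) :=
    ⟨_, rfl⟩
  haveI hYn : Y.Normal := hY ▸ normalClosure_normal
  have h := fm_hyp V₁ hV₁ hsep hOp Y
  have hgen := glau_gen_e V₁ hV₁ hsep hOp hT hVT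
  rw [← hY] at hgen ⊢
  obtain ⟨n, -, ⟨e⟩⟩ := ff_structure_pi h hgen
  obtain ⟨H, hH⟩ : ∃ H : Subgroup (FM V₁), H = Y.map (fmπ V₁) := ⟨_, rfl⟩
  rw [← hH] at e
  obtain ⟨H₃, hH₃⟩ : ∃ H₃ : Subgroup (FM V₁),
      H₃ = Subgroup.closure {y : FM V₁ | y ∈ H ∧ Odd (orderOf y)} := ⟨_, rfl⟩
  have hgc : ∀ a ∈ {y : FM V₁ | y ∈ H ∧ Odd (orderOf y)},
      ∀ b ∈ {y : FM V₁ | y ∈ H ∧ Odd (orderOf y)}, a * b = b * a := by
    rintro a ⟨haH, hao⟩ b ⟨hbH, hbo⟩
    have h1 : e ⟨a, haH⟩ * e ⟨b, hbH⟩ = e ⟨b, hbH⟩ * e ⟨a, haH⟩ := by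
      apply pi_sl2_odd_comm
      · rw [MulEquiv.orderOf_eq, Subgroup.orderOf_mk]; exact hao
      · rw [MulEquiv.orderOf_eq, Subgroup.orderOf_mk]; exact hbo
    rw [← map_mul, ← map_mul] at h1
    have h2 := e.injective h1
    exact congrArg Subtype.val h2
  have hH₃c : IsMulCommutative H₃ := hH₃ ▸ Subgroup.isMulCommutative_closure hgc
  have hcomm : ∀ a ∈ H₃, ∀ b ∈ H₃, a * b = b * a := by
    intro a ha b hb
    exact congrArg Subtype.val (hH₃c.is_comm.comm (⟨a, ha⟩ : H₃) ⟨b, hb⟩)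
  have hHn : (fmπ V₁).range ≤ normalizer (H : Set (FM V₁)) :=
    hH ▸ fm_range_le_normalizer_map V₁ Y
  have hconj : ∀ m ∈ (fmπ V₁).range, ∀ y ∈ H₃, m * y * m⁻¹ ∈ H₃ := by
    intro m hm y hy
    have hle : H₃ ≤ H₃.comap (MulAut.conj m).toMonoidHom := by
      conv_lhs => rw [hH₃]
      rw [Subgroup.closure_le]
      rintro z ⟨hzH, hzo⟩
      show (MulAut.conj m) z ∈ H₃
      rw [hH₃]
      apply Subgroup.subset_closure
      refine ⟨?_, ?_⟩
      · rw [MulAut.conj_apply]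
        exact (mem_normalizer_iff.mp (hHn hm) z).mp hzH
      · rw [MulEquiv.orderOf_eq]; exact hzo
    have := hle hy
    rw [Subgroup.mem_comap] at this
    simpa [MulAut.conj_apply] using this
  refine ⟨H₃.comap (fmπ V₁), ?_, ?_, ?_, ?_⟩
  · constructor
    intro x hx g
    rw [mem_comap] at hx ⊢
    rw [map_mul, map_mul, map_inv]
    exact hconj _ ⟨g, rfl⟩ _ hx
  · intro c hc
    rw [mem_comap, (fmπ_eq_one_iff V₁).mpr hc]
    exact one_mem _
  · rw [Subgroup.commutator_le]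
    intro m hm m' hm'
    rw [mem_comap] at hm hm'
    rw [← fmπ_eq_one_iff V₁, map_commutatorElement, commutatorElement_eq_one_iff_mul_comm]
    exact hcomm _ hm _ hm'
  · intro K hKY hKodd
    rw [← Subgroup.map_le_iff_le_comap, Subgroup.map_le_iff_le_comap]
    conv_lhs => rw [← hKodd]
    rw [Subgroup.closure_le]
    rintro k ⟨hkK, hko⟩
    show fmπ V₁ k ∈ H₃
    rw [hH₃]
    apply Subgroup.subset_closure
    refine ⟨?_, ?_⟩
    · rw [hH]; exact ⟨k, hKY hkK, rfl⟩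
    · exact Odd.of_dvd_nat hko (orderOf_map_dvd _ k)

/-- **the data** -/
theorem jover_data [Group.IsSolvable X]
    (hchar : centralizer (Cfsg.pCore 2 X : Set X) ≤ Cfsg.pCore 2 X)
    (T : Sylow 2 X) (Z : Subgroup X) (hZT : Z ≤ centralizer ((T : Subgroup X) : Set X))
    (hZN : centralizer (Z : Set X) ≤ normalizer ((T : Subgroup X) : Set X)) :
    ∃ V₁ M : Subgroup X, V₁.Normal ∧ M.Normal ∧ Cfsg.IsElementaryAbelian 2 V₁ ∧
      (∀ z ∈ Z, z ^ 2 = 1 → z ∈ V₁) ∧ V₁ ≤ Cfsg.pCore 2 X ∧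
      V₁ ≤ centralizer (Cfsg.pCore 2 X : Set X) ∧
      centralizer (V₁ : Set X) ≤ M ∧ ⁅M, M⁆ ≤ centralizer (V₁ : Set X) ∧
      centralizer (V₁ : Set X) ≤ normalizer ((T : Subgroup X) : Set X) ∧
      ∀ K : Subgroup X, Subgroup.closure {g : X | g ∈ K ∧ Odd (orderOf g)} = K →
        ⁅K, Cfsg.thompsonSubgroupOf 2 (T : Subgroup X)⁆ = K →
        K ≤ M ∧ ∀ k ∈ K, ∀ c ∈ centralizer (V₁ : Set X), k * c * k⁻¹ * c⁻¹ ∈ Cfsg.pCore 2 X := by
  haveI : Fact (Nat.Prime 2) := ⟨Nat.prime_two⟩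
  obtain ⟨Q, hQ⟩ : ∃ Q : Subgroup X, Q = Cfsg.pCore 2 X := ⟨_, rfl⟩
  haveI hQn : Q.Normal := hQ ▸ pCore_normal 2 X
  have hQp : IsPGroup 2 Q := hQ ▸ pCore_isPGroup 2 X
  have hQT : Q ≤ (T : Subgroup X) := hQ ▸ pCore_le_sylow 2 X T
  rw [← hQ] at hchar ⊢
  have hCQ : centralizer (Q : Set X) ≤ Q := hchar
  have hZcQ : Z ≤ centralizer (Q : Set X) :=
    hZT.trans (centralizer_le (by exact_mod_cast hQT))
  have hZQ : Z ≤ Q := hZcQ.trans hCQ
  haveI hcQn : (centralizer (Q : Set X)).Normal := Subgroup.normal_centralizer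
  obtain ⟨V, hV⟩ : ∃ V : Subgroup X, V = normalClosure (Z : Set X) := ⟨_, rfl⟩
  haveI hVn : V.Normal := hV ▸ normalClosure_normal
  have hZV : Z ≤ V := hV ▸ subset_normalClosure
  have hVQ : V ≤ Q := by
    rw [hV]; exact normalClosure_le_normal (by exact_mod_cast hZQ)
  have hVcQ : V ≤ centralizer (Q : Set X) := by
    rw [hV]; exact normalClosure_le_normal (by exact_mod_cast hZcQ)
  have hVc : ∀ x ∈ V, ∀ y ∈ V, x * y = y * x := by
    intro x hx y hy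
    exact (mem_centralizer_iff.mp (hVcQ hx) y (hVQ hy)).symm
  have hVp : IsPGroup 2 V := hQp.to_le hVQ
  have hVT : V ≤ (T : Subgroup X) := hVQ.trans hQT
  have hOpV : FMOp 2 V := hV ▸ fmOp_normalClosure T Z hZT
  obtain ⟨V₁, hV₁def⟩ : ∃ V₁ : Subgroup X, V₁ = omegaSub 2 V := ⟨_, rfl⟩
  haveI hV₁n : V₁.Normal := hV₁def ▸ omegaSub_normal 2 V
  have hV₁ : Cfsg.IsElementaryAbelian 2 V₁ := hV₁def ▸ omegaSub_isEA hVc
  have hC₁ : centralizer (V₁ : Set X) = centralizer (V : Set X) := by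
    rw [hV₁def]; exact centralizer_omegaSub_eq hVc hVp hOpV
  have hOp₁ : FMOp 2 V₁ := by
    intro D hDn hCD hidx
    rw [hC₁] at hCD hidx ⊢
    exact hOpV D hDn hCD hidx
  have hV₁V : V₁ ≤ V := hV₁def ▸ omegaSub_le 2 V
  have hV₁T : V₁ ≤ (T : Subgroup X) := hV₁V.trans hVT
  have hsep : Cfsg.IsPSolvable 2 X := Cfsg.Agent.Lib.Helper33.isPSolvable_of_isSolvable 2 X
  obtain ⟨M, hMn, hCM, hMM, hser⟩ := jover_abelian_series V₁ hV₁ hsep hOp₁ T.2 hV₁T
  obtain ⟨C, hC⟩ : ∃ C : Subgroup X, C = centralizer (V₁ : Set X) := ⟨_, rfl⟩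
  rw [← hC] at hCM hMM
  haveI hCn : C.Normal := hC ▸ Subgroup.normal_centralizer
  obtain ⟨J, hJ⟩ : ∃ J : Subgroup X, J = Cfsg.thompsonSubgroupOf 2 (T : Subgroup X) := ⟨_, rfl⟩
  rw [← hJ] at hser
  have hCT : C ≤ normalizer ((T : Subgroup X) : Set X) := by
    refine le_trans ?_ hZN
    rw [hC, hC₁]
    exact centralizer_le (by exact_mod_cast hZV)
  have hCJ : C ≤ normalizer (J : Set X) := by
    rw [hJ]
    exact hCT.trans (Cfsg.Agent.Lib.Helper15.normalizer_le_normalizer_thompsonSubgroupOf 2 _)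
  have hJT : J ≤ (T : Subgroup X) := hJ ▸ Cfsg.Agent.Lib.Helper15.thompsonSubgroupOf_le 2 _
  have hP₁ : (T : Subgroup X) ⊓ C ≤ Q := by
    have h1 : (T : Subgroup X) ⊓ C ≤ Cfsg.pCoreOf 2 C := by
      apply Cfsg.Agent.Lib.Helper54.le_pCoreOf inf_le_right
      · apply le_normalizer_of_conj_mem
        intro c hc t ht
        obtain ⟨ht1, ht2⟩ := Subgroup.mem_inf.mp ht
        exact Subgroup.mem_inf.mpr ⟨(mem_normalizer_iff.mp (hCT hc) t).mp ht1,
          hCn.conj_mem t ht2 c⟩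
      · exact T.2.to_le inf_le_left
    have h2 : Cfsg.pCoreOf 2 C ≤ Cfsg.pCoreOf 2 (⊤ : Subgroup X) :=
      pCoreOf_le_pCoreOf_of_normal le_top (by
        rw [normalizer_eq_top_iff.mpr hCn])
    rw [Cfsg.Agent.Lib.Helper54.pCoreOf_top, ← hQ] at h2
    exact h1.trans h2
  have hJD : J ≤ centMod C Q := by
    intro j hj
    rw [mem_centMod]
    intro c hc
    apply hP₁
    refine Subgroup.mem_inf.mpr ⟨?_, ?_⟩
    · have h1 : c * j⁻¹ * c⁻¹ ∈ J := (mem_normalizer_iff.mp (hCJ hc) _).mp (J.inv_mem hj)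
      have e : j * c * j⁻¹ * c⁻¹ = j * (c * j⁻¹ * c⁻¹) := by group
      rw [e]
      exact Subgroup.mul_mem _ (hJT hj) (hJT h1)
    · exact C.mul_mem (hCn.conj_mem c hc j) (C.inv_mem hc)
  haveI hDn : (centMod C Q).Normal := centMod_normal C Q
  obtain ⟨Y, hY⟩ : ∃ Y : Subgroup X, Y = normalClosure (J : Set X) := ⟨_, rfl⟩
  haveI hYn : Y.Normal := hY ▸ normalClosure_normal
  have hJY : J ≤ Y := hY ▸ subset_normalClosure
  have hYD : Y ≤ centMod C Q := by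
    rw [hY]; exact normalClosure_le_normal (by exact_mod_cast hJD)
  rw [← hY] at hser
  subst hC
  subst hJ
  refine ⟨V₁, M, hV₁n, hMn, hV₁, ?_, hV₁V.trans hVQ, hV₁V.trans hVcQ, hCM, hMM, hCT, ?_⟩
  · intro z hz hz2
    rw [hV₁def]
    exact mem_omegaSub (hZV hz) hz2
  · intro K hodd hKJ
    have hKY : K ≤ Y := by
      rw [← hKJ]
      exact (Subgroup.commutator_mono le_rfl hJY).trans (Subgroup.commutator_le_right K Y)
    refine ⟨hser K hKY hodd, ?_⟩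
    intro k hk c hc
    exact (hKY.trans hYD) hk c hc

end JOver4

end Cfsg.Agent.Lib.Helper52
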