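import Mathlib
import Cfsg.Agent.Lib.Helper52.JOver4
import Cfsg.Agent.Lib.Helper15.TransportInj
import Cfsg.Agent.Lib.Helper55.LargeChar

/-!
# The data attached to `L ∈ 𝓛(T)` in a group in which 2-locals are solvable and
`C_G(Ω₁(Z(S))) ≤ N_G(S)` for Sylow 2-subgroups `S`
-/

set_option autoImplicit false
set_option linter.unusedSectionVars false
set_option linter.unusedVariables false
set_option linter.style.haveILetI false

namespace Cfsg.Agent.Lib.Helper52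

open Cfsg Subgroup
open scoped commutatorElement

variable {G : Type*} [Group G]

/-- the data attached to `L ∈ 𝓛(T)` -/
structure LData (L T P V₁ C₁ M Z : Subgroup G) : Prop where
  hPL : P ≤ L
  hPT : P ≤ T
  hTL : T ≤ L
  hPn : L ≤ normalizer (P : Set G)
  hV₁P : V₁ ≤ P
  hV₁n : L ≤ normalizer (V₁ : Set G)
  hV₁ : IsElementaryAbelian 2 V₁
  hV₁cP : V₁ ≤ centralizer (P : Set G)
  hC₁ : C₁ = L ⊓ centralizer (V₁ : Set G)
  hCM : C₁ ≤ M
  hML : M ≤ L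
  hMn : L ≤ normalizer (M : Set G)
  hMc : ∀ m ∈ M, ∀ m' ∈ M, m * m' * m⁻¹ * m'⁻¹ ∈ C₁
  hK : ∀ K : Subgroup G, K ≤ L → Subgroup.closure {g : G | g ∈ K ∧ Odd (orderOf g)} = K →
    ⁅K, thompsonSubgroupOf 2 T⁆ = K →
    K ≤ M ∧ ∀ k ∈ K, ∀ c ∈ C₁, k * c * k⁻¹ * c⁻¹ ∈ P
  hZV : Z ≤ V₁
  hCT : C₁ ≤ normalizer (T : Set G)
  hZN : L ⊓ centralizer (Z : Set G) ≤ normalizer (T : Set G)

theorem closure_odd_subgroupOf {K L : Subgroup G} (hKL : K ≤ L)
    (hKodd : Subgroup.closure {g : G | g ∈ K ∧ Odd (orderOf g)} = K) :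
    Subgroup.closure {x : ↥L | x ∈ K.subgroupOf L ∧ Odd (orderOf x)} = K.subgroupOf L := by
  apply Subgroup.map_injective L.subtype_injective
  rw [MonoidHom.map_closure, Subgroup.map_subgroupOf_eq_of_le hKL]
  conv_rhs => rw [← hKodd]
  congr 1
  ext g
  constructor
  · rintro ⟨x, ⟨hxK, hxo⟩, rfl⟩
    refine ⟨Subgroup.mem_subgroupOf.mp hxK, ?_⟩
    rw [Subgroup.coe_subtype, Subgroup.orderOf_coe]
    exact hxo
  · rintro ⟨hgK, hgo⟩
    refine ⟨⟨g, hKL hgK⟩, ⟨Subgroup.mem_subgroupOf.mpr hgK, ?_⟩, rfl⟩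
    rw [← Subgroup.orderOf_coe]
    exact hgo

theorem exists_ldata [Finite G]
    (hN : ∀ N : Subgroup G, Cfsg.IsTwoLocal N → Group.IsSolvable ↥N)
    (hZ : ∀ S : Sylow 2 G, Subgroup.centralizer (Cfsg.omegaCenterOf (S : Subgroup G) : Set G) ≤
      Subgroup.normalizer ((S : Subgroup G) : Set G))
    {T : Subgroup G} (hT1 : T ≠ ⊥) {L : Subgroup G} (hLT : L ∈ Cfsg.jOvergroups T) :
    ∃ (S : Sylow 2 G) (V₁ C₁ M : Subgroup G), T ≤ S ∧
      LData L T (pCoreOf 2 L) V₁ C₁ M (omegaCenterOf (S : Subgroup G)) := by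
  classical
  have : Fact (Nat.Prime 2) := ⟨Nat.prime_two⟩
  obtain ⟨⟨hTL, hT2, hoddidx⟩, hJP, hCP⟩ := hLT
  obtain ⟨P, hP⟩ : ∃ P, P = Cfsg.pCoreOf 2 L := ⟨_, rfl⟩
  rw [← hP] at hJP hCP ⊢
  have hP1 : P ≠ ⊥ := by
    intro h
    rw [h] at hCP
    apply hT1
    rw [eq_bot_iff]
    intro t _
    have : t ∈ Subgroup.centralizer ((⊥ : Subgroup G) : Set G) := by
      rw [Subgroup.mem_centralizer_iff]
      intro x hx
      rw [Subgroup.coe_bot, Set.mem_singleton_iff] at hx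
      rw [hx]; simp
    exact hCP this
  have hP2 : IsPGroup 2 ↥P := hP ▸ Cfsg.Agent.Lib.Helper54.isPGroup_pCoreOf 2 L
  have hPL : P ≤ L := hP ▸ Cfsg.Agent.Lib.Helper54.pCoreOf_le 2 L
  have hLP : L ≤ Subgroup.normalizer (P : Set G) :=
    hP ▸ Cfsg.Agent.Lib.Helper54.le_normalizer_pCoreOf 2 L
  have hsolN : Group.IsSolvable ↥(Subgroup.normalizer (P : Set G)) := hN _ ⟨P, hP2, hP1, rfl⟩
  have hsolL : Group.IsSolvable ↥L :=
    Group.isSolvable_of_isSolvable_injective (Subgroup.inclusion_injective hLP)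
  obtain ⟨S, hTS⟩ := hT2.exists_le_sylow
  obtain ⟨Z, hZdef⟩ : ∃ Z, Z = Cfsg.omegaCenterOf (S : Subgroup G) := ⟨_, rfl⟩
  have hPT : P ≤ T := by
    rw [hP]
    exact Cfsg.Agent.Lib.Helper52.pCoreOf_le_of_coprime_relIndex L T
      (Nat.coprime_two_right.mpr hoddidx)
  have hZS : Z ≤ Subgroup.centralizer ((S : Subgroup G) : Set G) :=
    hZdef ▸ Cfsg.Agent.Lib.Helper52.JComp.omegaCenterOf_le_centralizer _
  have hT2' : IsPGroup 2 ↥(T.subgroupOf L) := hT2.comap_subtype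
  have hidx : ¬ 2 ∣ (T.subgroupOf L).index := by
    intro h
    have h1 : Even (T.relIndex L) := even_iff_two_dvd.mpr h
    exact (Nat.not_even_iff_odd.mpr hoddidx) h1
  obtain ⟨T', hT'⟩ : ∃ T' : Sylow 2 ↥L, (T' : Subgroup ↥L) = T.subgroupOf L :=
    ⟨hT2'.toSylow hidx, rfl⟩
  have hST' : S.1.subgroupOf L = (T' : Subgroup ↥L) := by
    apply T'.is_maximal' (S.2.comap_subtype)
    rw [hT']
    intro x hx
    exact Subgroup.mem_subgroupOf.mpr (hTS (Subgroup.mem_subgroupOf.mp hx))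
  have hSLT : ∀ y ∈ L, y ∈ (S : Subgroup G) → y ∈ T := by
    intro y hyL hyS
    have h1 : (⟨y, hyL⟩ : ↥L) ∈ S.1.subgroupOf L := Subgroup.mem_subgroupOf.mpr hyS
    rw [hST', hT'] at h1
    exact Subgroup.mem_subgroupOf.mp h1
  have hZ'T : Z.subgroupOf L ≤ Subgroup.centralizer ((T' : Subgroup ↥L) : Set ↥L) := by
    intro z hz
    rw [Subgroup.mem_centralizer_iff]
    intro t ht
    rw [SetLike.mem_coe, hT', Subgroup.mem_subgroupOf] at ht
    apply Subtype.ext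
    exact Subgroup.mem_centralizer_iff.mp (hZS (Subgroup.mem_subgroupOf.mp hz)) _ (hTS ht)
  have hZP : Z ≤ P := by
    refine le_trans ?_ hCP
    refine hZS.trans (Subgroup.centralizer_le ?_)
    intro x hx
    exact hTS (hPT hx)
  have hZL : Z ≤ L := hZP.trans hPL
  have hZNG : L ⊓ centralizer (Z : Set G) ≤ normalizer (T : Set G) := by
    apply le_normalizer_of_conj_mem
    intro c hc t ht
    obtain ⟨hcL, hcZ⟩ := Subgroup.mem_inf.mp hc
    rw [hZdef] at hcZ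
    have hcS := hZ S hcZ
    apply hSLT _ (L.mul_mem (L.mul_mem hcL (hTL ht)) (L.inv_mem hcL))
    exact (Subgroup.mem_normalizer_iff.mp hcS t).mp (hTS ht)
  have hZN' : Subgroup.centralizer ((Z.subgroupOf L : Subgroup ↥L) : Set ↥L) ≤
      Subgroup.normalizer ((T' : Subgroup ↥L) : Set ↥L) := by
    intro c hc
    have hcZ : (c : G) ∈ Subgroup.centralizer (Z : Set G) := by
      rw [Subgroup.mem_centralizer_iff]
      intro z hz
      have h1 := Subgroup.mem_centralizer_iff.mp hc ⟨z, hZL hz⟩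
        (Subgroup.mem_subgroupOf.mpr hz)
      exact congrArg Subtype.val h1
    rw [hZdef] at hcZ
    have hcS := hZ S hcZ
    rw [← hST', Subgroup.mem_normalizer_iff]
    intro x
    rw [Subgroup.mem_subgroupOf, Subgroup.mem_subgroupOf]
    exact Subgroup.mem_normalizer_iff.mp hcS x
  have hchar' : Subgroup.centralizer (Cfsg.pCore 2 ↥L : Set ↥L) ≤ Cfsg.pCore 2 ↥L := by
    apply Cfsg.Agent.Lib.Helper55.centralizer_pCore_le_of_pCoreOf
    rw [← hP]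
    exact inf_le_right.trans hCP
  have hJ' : (Cfsg.thompsonSubgroupOf 2 (T' : Subgroup ↥L)).map L.subtype =
      Cfsg.thompsonSubgroupOf 2 T := by
    rw [hT', Cfsg.Agent.Lib.Helper15.thompsonSubgroupOf_map_of_disjoint 2 L.subtype
      (T.subgroupOf L) (by rw [Subgroup.ker_subtype, inf_bot_eq]),
      Subgroup.map_subgroupOf_eq_of_le hTL]
  obtain ⟨V₁', M', hV₁n', hMn', hV₁', hZV', hV₁P', hV₁cP', hCM', hMM', hCT', hK'⟩ :=
    jover_data hchar' T' (Z.subgroupOf L) hZ'T hZN'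
  -- the centralizer correspondence
  have hcent : ∀ c : ↥L, c ∈ centralizer (V₁' : Set ↥L) ↔
      (c : G) ∈ centralizer ((V₁'.map L.subtype : Subgroup G) : Set G) := by
    intro c
    constructor
    · intro hc
      rw [Subgroup.mem_centralizer_iff]
      rintro _ ⟨v, hv, rfl⟩
      exact congrArg Subtype.val (Subgroup.mem_centralizer_iff.mp hc v hv)
    · intro hc
      rw [Subgroup.mem_centralizer_iff]
      intro v hv
      apply Subtype.ext
      exact Subgroup.mem_centralizer_iff.mp hc v.1 ⟨v, hv, rfl⟩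
  have hPmem : ∀ q : ↥L, q ∈ Cfsg.pCore 2 ↥L ↔ (q : G) ∈ P := by
    intro q
    rw [hP]
    constructor
    · intro hq
      exact Subgroup.mem_map_of_mem L.subtype hq
    · rintro ⟨q', hq', hqq⟩
      have : q' = q := Subtype.ext hqq
      rwa [← this]
  refine ⟨S, V₁'.map L.subtype, L ⊓ centralizer ((V₁'.map L.subtype : Subgroup G) : Set G),
    M'.map L.subtype, hTS, ?_⟩
  rw [← hZdef]
  refine ⟨hPL, hPT, hTL, hLP, ?_, ?_, ?_, ?_, rfl, ?_, ?_, ?_, ?_, ?_, ?_, ?_, hZNG⟩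
  · -- `V₁ ≤ P`
    rintro _ ⟨v, hv, rfl⟩
    exact (hPmem v).mp (hV₁P' hv)
  · -- `L` normalizes `V₁`
    apply le_normalizer_of_conj_mem
    rintro l hl _ ⟨v, hv, rfl⟩
    exact ⟨⟨l, hl⟩ * v * ⟨l, hl⟩⁻¹, hV₁n'.conj_mem v hv ⟨l, hl⟩, rfl⟩
  · exact Cfsg.Agent.Lib.Helper15.isElementaryAbelian_map L.subtype hV₁'
  · -- `V₁` centralizes `P`
    rintro _ ⟨v, hv, rfl⟩
    rw [Subgroup.mem_centralizer_iff]
    intro q hq
    have hq' : (⟨q, hPL hq⟩ : ↥L) ∈ Cfsg.pCore 2 ↥L := (hPmem _).mpr hq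
    exact congrArg Subtype.val (Subgroup.mem_centralizer_iff.mp (hV₁cP' hv) _ hq')
  · -- `C₁ ≤ M`
    intro c hc
    obtain ⟨hcL, hcC⟩ := Subgroup.mem_inf.mp hc
    exact ⟨⟨c, hcL⟩, hCM' ((hcent ⟨c, hcL⟩).mpr hcC), rfl⟩
  · exact Subgroup.map_subtype_le M'
  · -- `L` normalizes `M`
    apply le_normalizer_of_conj_mem
    rintro l hl _ ⟨m, hm, rfl⟩
    exact ⟨⟨l, hl⟩ * m * ⟨l, hl⟩⁻¹, hMn'.conj_mem m hm ⟨l, hl⟩, rfl⟩
  · -- `M / C₁` abelian
    rintro _ ⟨m, hm, rfl⟩ _ ⟨m', hm', rfl⟩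
    have h1 : ⁅m, m'⁆ ∈ centralizer (V₁' : Set ↥L) :=
      hMM' (Subgroup.commutator_mem_commutator hm hm')
    rw [commutatorElement_def] at h1
    refine Subgroup.mem_inf.mpr ⟨(m * m' * m⁻¹ * m'⁻¹).2, ?_⟩
    exact (hcent _).mp h1
  · -- the subgroups `K`
    intro K hKL hKodd hKJ
    have hodd' := closure_odd_subgroupOf hKL hKodd
    have hKJ' : ⁅K.subgroupOf L, Cfsg.thompsonSubgroupOf 2 (T' : Subgroup ↥L)⁆ =
        K.subgroupOf L := by
      apply Subgroup.map_injective L.subtype_injective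
      rw [Subgroup.map_commutator, hJ', Subgroup.map_subgroupOf_eq_of_le hKL, hKJ]
    obtain ⟨h1, h2⟩ := hK' (K.subgroupOf L) hodd' hKJ'
    refine ⟨?_, ?_⟩
    · intro k hk
      exact ⟨⟨k, hKL hk⟩, h1 (Subgroup.mem_subgroupOf.mpr hk), rfl⟩
    · intro k hk c hc
      obtain ⟨hcL, hcC⟩ := Subgroup.mem_inf.mp hc
      have := h2 ⟨k, hKL hk⟩ (Subgroup.mem_subgroupOf.mpr hk) ⟨c, hcL⟩
        ((hcent ⟨c, hcL⟩).mpr hcC)
      exact (hPmem _).mp this
  · -- `Z ≤ V₁`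
    intro z hz
    have hz2 : z ^ 2 = 1 := by
      rw [hZdef] at hz
      exact (JComp.mem_omegaCenterOf_iff.mp hz).2.2
    refine ⟨⟨z, hZL hz⟩, hZV' _ (Subgroup.mem_subgroupOf.mpr hz) ?_, rfl⟩
    apply Subtype.ext
    simpa using hz2
  · -- `C₁` normalizes `T`
    apply le_normalizer_of_conj_mem
    intro c hc t ht
    obtain ⟨hcL, hcC⟩ := Subgroup.mem_inf.mp hc
    have h1 := hCT' ((hcent ⟨c, hcL⟩).mpr hcC)
    have h2 : (⟨t, hTL ht⟩ : ↥L) ∈ (T' : Subgroup ↥L) := by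
      rw [hT']; exact Subgroup.mem_subgroupOf.mpr ht
    have h3 := (Subgroup.mem_normalizer_iff.mp h1 _).mp h2
    rw [hT'] at h3
    exact Subgroup.mem_subgroupOf.mp h3

end Cfsg.Agent.Lib.Helper52
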