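import Mathlib
import Cfsg.Agent.Lib.Helper52.JOver5
import Cfsg.Agent.Lib.Helper52.JComp3
import Cfsg.Agent.S2941

/-!
# A `J(T)`-component `K` inside `L ∈ 𝓛(T)`: the action on the module `V₁`
-/

set_option autoImplicit false
set_option linter.unusedSectionVars false
set_option linter.unusedVariables false
set_option linter.style.haveILetI false

namespace Cfsg.Agent.Lib.Helper52

open Cfsg Subgroup JComp
open scoped commutatorElement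

variable {G : Type*} [Group G]

/-- `O_p` is monotone along normal inclusions -/
theorem pCoreOf_mono_of_normal [Finite G] {p : ℕ} {A B : Subgroup G} (hAB : A ≤ B)
    (hn : B ≤ normalizer (A : Set G)) : pCoreOf p A ≤ pCoreOf p B :=
  Cfsg.Agent.Lib.Helper54.le_pCoreOf ((Cfsg.Agent.Lib.Helper54.pCoreOf_le p A).trans hAB)
    (hn.trans (Cfsg.Agent.Lib.Helper54.normalizer_le_normalizer_pCoreOf p A))
    (Cfsg.Agent.Lib.Helper54.isPGroup_pCoreOf p A)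

/-- a `J(T)`-component `K` inside `L ∈ 𝓛(T)`, with the data of `L` -/
structure LK (L T P V₁ C₁ M Z K S : Subgroup G) : Prop where
  d : LData L T P V₁ C₁ M Z
  c : Ctx K (thompsonSubgroupOf 2 T) S
  hKL : K ≤ L
  hPK : P ≤ normalizer (K : Set G)
  hP : P = pCoreOf 2 L
  hT2 : IsPGroup 2 ↥T
  hZJ : Z ≤ omegaCenterOf (thompsonSubgroupOf 2 T)

namespace LK

variable {L T P V₁ C₁ M Z K S : Subgroup G}

theorem K_le_M (h : LK L T P V₁ C₁ M Z K S) : K ≤ M :=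
  (h.d.hK K h.hKL h.c.odd h.c.comm).1

theorem comm_mem_P (h : LK L T P V₁ C₁ M Z K S) {k c : G} (hk : k ∈ K) (hc : c ∈ C₁) :
    k * c * k⁻¹ * c⁻¹ ∈ P :=
  (h.d.hK K h.hKL h.c.odd h.c.comm).2 k hk c hc

theorem comm_mem_P' (h : LK L T P V₁ C₁ M Z K S) {k c : G} (hk : k ∈ K) (hc : c ∈ C₁) :
    c * k * c⁻¹ * k⁻¹ ∈ P := by
  have := P.inv_mem (h.comm_mem_P hk hc)
  have e : (k * c * k⁻¹ * c⁻¹)⁻¹ = c * k * c⁻¹ * k⁻¹ := by group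
  rwa [e] at this

theorem mem_C₁_iff (h : LK L T P V₁ C₁ M Z K S) {g : G} :
    g ∈ C₁ ↔ g ∈ L ∧ ∀ v ∈ V₁, g * v = v * g := by
  rw [h.d.hC₁, Subgroup.mem_inf, mem_centralizer_iff']

theorem C₁_le_L (h : LK L T P V₁ C₁ M Z K S) : C₁ ≤ L := by
  rw [h.d.hC₁]; exact inf_le_left

theorem L_le_normalizer_C₁ (h : LK L T P V₁ C₁ M Z K S) : L ≤ normalizer (C₁ : Set G) := by
  apply le_normalizer_of_conj_mem
  intro g hg c hc
  rw [h.d.hC₁] at hc ⊢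
  obtain ⟨hcL, hcC⟩ := Subgroup.mem_inf.mp hc
  exact Subgroup.mem_inf.mpr ⟨L.mul_mem (L.mul_mem hg hcL) (L.inv_mem hg),
    conj_mem_centralizer (h.d.hV₁n hg) hcC⟩

theorem P_le_C₁ (h : LK L T P V₁ C₁ M Z K S) : P ≤ C₁ := by
  intro p hp
  rw [h.mem_C₁_iff]
  refine ⟨h.d.hPL hp, ?_⟩
  intro v hv
  exact Subgroup.mem_centralizer_iff.mp (h.d.hV₁cP hv) p hp

theorem conj_mem_V₁ (h : LK L T P V₁ C₁ M Z K S) {g v : G} (hg : g ∈ L) (hv : v ∈ V₁) :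
    g * v * g⁻¹ ∈ V₁ :=
  conj_mem_of_mem_normalizer (h.d.hV₁n hg) hv

theorem conj_mem_C₁ (h : LK L T P V₁ C₁ M Z K S) {g c : G} (hg : g ∈ L) (hc : c ∈ C₁) :
    g * c * g⁻¹ ∈ C₁ :=
  conj_mem_of_mem_normalizer (h.L_le_normalizer_C₁ hg) hc

theorem conj_mem_P (h : LK L T P V₁ C₁ M Z K S) {g p : G} (hg : g ∈ L) (hp : p ∈ P) :
    g * p * g⁻¹ ∈ P :=
  conj_mem_of_mem_normalizer (h.d.hPn hg) hp

theorem conj_mem_M (h : LK L T P V₁ C₁ M Z K S) {g m : G} (hg : g ∈ L) (hm : m ∈ M) :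
    g * m * g⁻¹ ∈ M :=
  conj_mem_of_mem_normalizer (h.d.hMn hg) hm

theorem P_isPGroup (h : LK L T P V₁ C₁ M Z K S) : IsPGroup 2 ↥P :=
  h.hP ▸ Cfsg.Agent.Lib.Helper54.isPGroup_pCoreOf 2 L

/-- `C₁` normalizes `K P` -/
theorem C₁_le_normalizer_KP (h : LK L T P V₁ C₁ M Z K S) :
    C₁ ≤ normalizer ((K ⊔ P : Subgroup G) : Set G) := by
  apply le_normalizer_of_conj_mem
  intro c hc g hg
  obtain ⟨k, hk, p, hp, rfl⟩ :=
    Cfsg.Agent.Lib.Helper54.exists_mul_of_mem_sup_of_le_normalizer h.hPK hg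
  have e : c * (k * p) * c⁻¹ = (c * k * c⁻¹ * k⁻¹) * k * (c * p * c⁻¹) := by group
  rw [e]
  refine (K ⊔ P).mul_mem ((K ⊔ P).mul_mem ?_ ?_) ?_
  · exact (le_sup_right : P ≤ K ⊔ P) (h.comm_mem_P' hk hc)
  · exact (le_sup_left : K ≤ K ⊔ P) hk
  · exact (le_sup_right : P ≤ K ⊔ P) (h.conj_mem_P (h.C₁_le_L hc) hp)

/-- `M` normalizes `K C₁` -/
theorem M_le_normalizer_KC (h : LK L T P V₁ C₁ M Z K S) :
    M ≤ normalizer ((K ⊔ C₁ : Subgroup G) : Set G) := by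
  have hCK : C₁ ≤ normalizer ((K ⊔ C₁ : Subgroup G) : Set G) :=
    (le_sup_right : C₁ ≤ K ⊔ C₁).trans Subgroup.le_normalizer
  apply le_normalizer_of_conj_mem
  intro m hm g hg
  have hKn : K ≤ normalizer (C₁ : Set G) := h.hKL.trans h.L_le_normalizer_C₁
  obtain ⟨k, hk, c, hc, rfl⟩ := Cfsg.Agent.Lib.Helper01.exists_mul_of_mem_sup hKn hg
  have e : m * (k * c) * m⁻¹ = (m * k * m⁻¹ * k⁻¹) * k * (m * c * m⁻¹) := by group
  rw [e]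
  refine (K ⊔ C₁).mul_mem ((K ⊔ C₁).mul_mem ?_ ?_) ?_
  · exact (le_sup_right : C₁ ≤ K ⊔ C₁) (h.d.hMc m hm k (h.K_le_M hk))
  · exact (le_sup_left : K ≤ K ⊔ C₁) hk
  · exact (le_sup_right : C₁ ≤ K ⊔ C₁) (h.conj_mem_C₁ (h.d.hML hm) hc)

/-- `O₂(K) ≤ O₂(L)` -/
theorem Q_le_P [Finite G] (h : LK L T P V₁ C₁ M Z K S) : pCoreOf 2 K ≤ P := by
  rw [h.hP]
  have h1 : pCoreOf 2 K ≤ pCoreOf 2 (K ⊔ P) :=
    pCoreOf_mono_of_normal le_sup_left (sup_le Subgroup.le_normalizer h.hPK)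
  have h2 : pCoreOf 2 (K ⊔ P) ≤ pCoreOf 2 (K ⊔ C₁) :=
    pCoreOf_mono_of_normal (sup_le le_sup_left (h.P_le_C₁.trans le_sup_right))
      (sup_le ((le_sup_left : K ≤ K ⊔ P).trans Subgroup.le_normalizer) h.C₁_le_normalizer_KP)
  have h3 : pCoreOf 2 (K ⊔ C₁) ≤ pCoreOf 2 M :=
    pCoreOf_mono_of_normal (sup_le h.K_le_M h.d.hCM) h.M_le_normalizer_KC
  have h4 : pCoreOf 2 M ≤ pCoreOf 2 L := pCoreOf_mono_of_normal h.d.hML h.d.hMn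
  exact h1.trans (h2.trans (h3.trans h4))

/-- `K ∩ O₂(L) ≤ O₂(K)` -/
theorem K_inf_P_le_Q (h : LK L T P V₁ C₁ M Z K S) : K ⊓ P ≤ pCoreOf 2 K := by
  apply Cfsg.Agent.Lib.Helper54.le_pCoreOf inf_le_left
  · apply le_normalizer_of_conj_mem
    intro k hk g hg
    obtain ⟨hgK, hgP⟩ := Subgroup.mem_inf.mp hg
    exact Subgroup.mem_inf.mpr ⟨K.mul_mem (K.mul_mem hk hgK) (K.inv_mem hk),
      h.conj_mem_P (h.hKL hk) hgP⟩
  · exact h.P_isPGroup.to_le inf_le_right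


/-- some element of `K` outside `O₂(K)` -/
theorem exists_x₀ [Finite G] (h : LK L T P V₁ C₁ M Z K S) : ∃ x₀ ∈ K, x₀ ∉ pCoreOf 2 K := by
  by_contra hne
  push Not at hne
  exact h.c.not_K_cent (fun k hk => h.c.Q_cent_W (hne k hk))

/-- irreducibility of `W` under `K` -/
theorem W_le_of_invariant [Finite G] (h : LK L T P V₁ C₁ M Z K S) {x₀ : G} (hx₀ : x₀ ∈ K)
    (hx₀Q : x₀ ∉ pCoreOf 2 K) (U : Subgroup G)
    (hU : ∀ u ∈ U, u ∈ wOf K → x₀ * u * x₀⁻¹ ∈ U) {u : G} (hu : u ∈ U) (huW : u ∈ wOf K)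
    (hu1 : u ≠ 1) : wOf K ≤ U := by
  have hxN : x₀ ∈ normalizer ((wOf K : Subgroup G) : Set G) := h.c.K_le_normalizer_W hx₀
  have hu2W : x₀ * u * x₀⁻¹ ∈ wOf K := conj_mem_of_mem_normalizer hxN huW
  have hu2U : x₀ * u * x₀⁻¹ ∈ U := hU u hu huW
  have hu21 : x₀ * u * x₀⁻¹ ≠ 1 := by
    intro e
    apply hu1
    have : u = x₀⁻¹ * (x₀ * u * x₀⁻¹) * x₀ := by group
    rw [this, e]; group
  have hne : u ≠ x₀ * u * x₀⁻¹ := by
    intro e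
    apply hu1
    apply h.c.K_fpf hx₀ hx₀Q u huW
    calc x₀ * u = (x₀ * u * x₀⁻¹) * x₀ := by group
      _ = u * x₀ := by rw [← e]
  intro w hw
  rcases fg_cases h.c.card h.c.exp huW hu2W hu1 hu21 hne w hw with rfl | rfl | rfl | rfl
  · exact U.one_mem
  · exact hu
  · exact hu2U
  · exact U.mul_mem hu hu2U

/-- `K` does not centralize `Z = Ω₁(Z(S))` -/
theorem exists_noncomm [Finite G] (h : LK L T P V₁ C₁ M Z K S) :
    ∃ z ∈ Z, ∃ k ∈ K, k * z * k⁻¹ ≠ z := by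
  by_contra hne
  push Not at hne
  have hKN : K ≤ normalizer (T : Set G) := by
    refine le_trans ?_ h.d.hZN
    intro k hk
    refine Subgroup.mem_inf.mpr ⟨h.hKL hk, ?_⟩
    rw [mem_centralizer_iff']
    intro z hz
    have := hne z hz k hk
    calc k * z = (k * z * k⁻¹) * k := by group
      _ = z * k := by rw [this]
  have hKNJ : K ≤ normalizer (thompsonSubgroupOf 2 T : Set G) :=
    hKN.trans (Cfsg.Agent.Lib.Helper15.normalizer_le_normalizer_thompsonSubgroupOf 2 T)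
  have hKJ : K ≤ thompsonSubgroupOf 2 T := by
    rw [← h.c.comm, Subgroup.commutator_le]
    intro k hk j hj
    rw [commutatorElement_def]
    exact Subgroup.mul_mem _ (conj_mem_of_mem_normalizer (hKNJ hk) hj) (Subgroup.inv_mem _ hj)
  have hK2 : IsPGroup 2 ↥K := h.c.hJ2.to_le hKJ
  have hKbot : K = ⊥ := by
    rw [← h.c.odd, Subgroup.closure_eq_bot_iff]
    rintro g ⟨hgK, hgo⟩
    rw [Set.mem_singleton_iff]
    obtain ⟨n, hn⟩ := hK2 ⟨g, hgK⟩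
    have hn' : g ^ 2 ^ n = 1 := by
      have := congrArg Subtype.val hn
      simpa using this
    have hdvd : orderOf g ∣ 2 ^ n := orderOf_dvd_of_pow_eq_one hn'
    have hcop : Nat.Coprime (orderOf g) (2 ^ n) :=
      Nat.Coprime.pow_right n (Nat.coprime_two_right.mpr hgo)
    have : orderOf g = 1 := Nat.Coprime.eq_one_of_dvd hcop hdvd
    exact orderOf_eq_one_iff.mp this
  apply h.c.not_K_cent
  rw [hKbot]
  exact bot_le

/-- `W ≤ V₁` -/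
theorem W_le_V₁ [Finite G] (h : LK L T P V₁ C₁ M Z K S) : wOf K ≤ V₁ := by
  obtain ⟨z, hz, k, hk, hne⟩ := h.exists_noncomm
  have hzZ0 := h.hZJ hz
  rw [← h.c.Z0_split] at hzZ0
  have hcomm : ∀ a ∈ omegaCenterOf (thompsonSubgroupOf 2 T) ⊓
      ((K ⊔ thompsonSubgroupOf 2 T) ⊓ centralizer ((K ⊔ thompsonSubgroupOf 2 T : Subgroup G) : Set G)),
      ∀ b ∈ omegaCenterOf (thompsonSubgroupOf 2 T) ⊓ wOf K, a * b = b * a := by
    intro a ha b hb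
    have ha' := (Subgroup.mem_inf.mp (Subgroup.mem_inf.mp ha).2).2
    have hb' : b ∈ K ⊔ thompsonSubgroupOf 2 T :=
      (le_sup_left : K ≤ K ⊔ thompsonSubgroupOf 2 T) (wOf_le K (Subgroup.mem_inf.mp hb).2)
    exact (Subgroup.mem_centralizer_iff.mp ha' b hb').symm
  have hnorm : omegaCenterOf (thompsonSubgroupOf 2 T) ⊓
      ((K ⊔ thompsonSubgroupOf 2 T) ⊓ centralizer ((K ⊔ thompsonSubgroupOf 2 T : Subgroup G) : Set G)) ≤
      normalizer ((omegaCenterOf (thompsonSubgroupOf 2 T) ⊓ wOf K : Subgroup G) : Set G) := by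
    apply le_normalizer_of_conj_mem
    intro a ha b hb
    have e : a * b * a⁻¹ = b := by
      rw [hcomm a ha b hb]; group
    rw [e]; exact hb
  obtain ⟨c', hc', w', hw', rfl⟩ := Cfsg.Agent.Lib.Helper01.exists_mul_of_mem_sup hnorm hzZ0
  have hc'C := (Subgroup.mem_inf.mp (Subgroup.mem_inf.mp hc').2).2
  have hw'W := (Subgroup.mem_inf.mp hw').2
  have hkX : k ∈ K ⊔ thompsonSubgroupOf 2 T := (le_sup_left : K ≤ K ⊔ thompsonSubgroupOf 2 T) hk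
  have hck : k * c' = c' * k := Subgroup.mem_centralizer_iff.mp hc'C k hkX
  obtain ⟨u, hu⟩ : ∃ u, u = w'⁻¹ * (k * w' * k⁻¹) := ⟨_, rfl⟩
  have hu' : u = (c' * w')⁻¹ * (k * (c' * w') * k⁻¹) := by
    rw [hu]
    calc w'⁻¹ * (k * w' * k⁻¹) = w'⁻¹ * c'⁻¹ * (c' * k) * w' * k⁻¹ := by group
      _ = w'⁻¹ * c'⁻¹ * (k * c') * w' * k⁻¹ := by rw [hck]
      _ = (c' * w')⁻¹ * (k * (c' * w') * k⁻¹) := by group
  have huW : u ∈ wOf K := by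
    rw [hu]
    exact (wOf K).mul_mem ((wOf K).inv_mem hw'W)
      (conj_mem_of_mem_normalizer (h.c.K_le_normalizer_W hk) hw'W)
  have huV : u ∈ V₁ := by
    rw [hu']
    exact V₁.mul_mem (V₁.inv_mem (h.d.hZV hz)) (h.conj_mem_V₁ (h.hKL hk) (h.d.hZV hz))
  have hu1 : u ≠ 1 := by
    intro e
    apply hne
    rw [hu'] at e
    have : k * (c' * w') * k⁻¹ = (c' * w') * ((c' * w')⁻¹ * (k * (c' * w') * k⁻¹)) := by group
    rw [this, e, mul_one]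
  obtain ⟨x₀, hx₀, hx₀Q⟩ := h.exists_x₀
  exact h.W_le_of_invariant hx₀ hx₀Q V₁ (fun u hu _ => h.conj_mem_V₁ (h.hKL hx₀) hu) huV huW hu1


theorem V₁_comm (h : LK L T P V₁ C₁ M Z K S) {a b : G} (ha : a ∈ V₁) (hb : b ∈ V₁) :
    a * b = b * a := IsElementaryAbelian.comm' h.d.hV₁ ha hb

theorem V₁_sq (h : LK L T P V₁ C₁ M Z K S) {a : G} (ha : a ∈ V₁) : a * a = 1 := by
  have := h.d.hV₁.2 a ha
  rwa [pow_two] at this

theorem V₁_inv (h : LK L T P V₁ C₁ M Z K S) {a : G} (ha : a ∈ V₁) : a⁻¹ = a :=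
  inv_eq_of_mul_eq_one_left (h.V₁_sq ha)

/-- `[V₁, K] ≤ W` -/
theorem comm_mem_W [Finite G] (h : LK L T P V₁ C₁ M Z K S) {x v : G} (hx : x ∈ K)
    (hv : v ∈ V₁) : x * v * x⁻¹ * v⁻¹ ∈ wOf K := by
  have hxL : x ∈ L := h.hKL hx
  obtain ⟨b, hb⟩ : ∃ b, b = x * v * x⁻¹ := ⟨_, rfl⟩
  obtain ⟨c, hc⟩ : ∃ c, c = x * b * x⁻¹ := ⟨_, rfl⟩
  have hbV : b ∈ V₁ := hb ▸ h.conj_mem_V₁ hxL hv
  have hcV : c ∈ V₁ := hc ▸ h.conj_mem_V₁ hxL hbV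
  -- `x³` centralizes `V₁`
  have hx3 : (x * x * x) * v = v * (x * x * x) := by
    have h1 : x ^ 3 ∈ P := h.Q_le_P (h.c.pow_three_mem hx)
    have h2 : x ^ 3 = x * x * x := by rw [pow_succ, pow_two]
    rw [h2] at h1
    exact Subgroup.mem_centralizer_iff.mp (h.d.hV₁cP hv) _ h1
  have ha3 : x * c * x⁻¹ = v := by
    rw [hc, hb]
    calc x * (x * (x * v * x⁻¹) * x⁻¹) * x⁻¹ = ((x * x * x) * v) * (x * x * x)⁻¹ := by group
      _ = v := by rw [hx3]; group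
  obtain ⟨u, hu⟩ : ∃ u, u = b * v⁻¹ := ⟨_, rfl⟩
  have huV : u ∈ V₁ := hu ▸ V₁.mul_mem hbV (V₁.inv_mem hv)
  have huK : u ∈ K := by
    rw [hu, hb]
    have h1 : v * x⁻¹ * v⁻¹ ∈ K :=
      conj_mem_of_mem_normalizer (h.hPK (h.d.hV₁P hv)) (K.inv_mem hx)
    have e : x * v * x⁻¹ * v⁻¹ = x * (v * x⁻¹ * v⁻¹) := by group
    rw [e]
    exact K.mul_mem hx h1
  have huQ : u ∈ pCoreOf 2 K := h.K_inf_P_le_Q (Subgroup.mem_inf.mpr ⟨huK, h.d.hV₁P huV⟩)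
  have huΩ : u ∈ omegaCenterOf (pCoreOf 2 K) := by
    rw [mem_omegaCenterOf_iff]
    refine ⟨huQ, ?_, ?_⟩
    · exact Subgroup.centralizer_le (fun q hq => h.Q_le_P hq) (h.d.hV₁cP huV)
    · rw [pow_two]; exact h.V₁_sq huV
  have hxNQ : x ∈ normalizer ((pCoreOf 2 K : Subgroup G) : Set G) :=
    h.c.X_le_normalizer_Q ((le_sup_left : K ≤ K ⊔ thompsonSubgroupOf 2 T) hx)
  obtain ⟨y, hy⟩ : ∃ y, y = x * u * x⁻¹ := ⟨_, rfl⟩
  have hyΩ : y ∈ omegaCenterOf (pCoreOf 2 K) := hy ▸ conj_mem_omegaCenterOf hxNQ huΩ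
  have hy1 : y = c * b⁻¹ := by
    rw [hy, hu]
    calc x * (b * v⁻¹) * x⁻¹ = (x * b * x⁻¹) * (x * v * x⁻¹)⁻¹ := by group
      _ = c * b⁻¹ := by rw [← hb, ← hc]
  have hy2 : x * y * x⁻¹ = v * c⁻¹ := by
    rw [hy1]
    calc x * (c * b⁻¹) * x⁻¹ = (x * c * x⁻¹) * (x * b * x⁻¹)⁻¹ := by group
      _ = v * c⁻¹ := by rw [ha3, ← hc]
  have key : ⁅x, y⁆ = u := by
    rw [commutatorElement_def, hy2, hy1, hu]
    rw [mul_inv_rev, inv_inv, h.V₁_inv hcV, h.V₁_inv hv]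
    calc v * c * (b * c) = v * (c * b) * c := by group
      _ = v * (b * c) * c := by rw [h.V₁_comm hcV hbV]
      _ = v * b * (c * c) := by group
      _ = v * b := by rw [h.V₁_sq hcV, mul_one]
      _ = b * v := h.V₁_comm hv hbV
  have hmem : ⁅x, y⁆ ∈ ⁅K, omegaCenterOf (pCoreOf 2 K)⁆ :=
    Subgroup.commutator_mem_commutator hx hyΩ
  rw [key, Subgroup.commutator_comm] at hmem
  have e : x * v * x⁻¹ * v⁻¹ = u := by rw [hu, hb]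
  rw [e]
  exact hmem

/-- `w ↦ [x₀, w]` is onto `W` -/
theorem comm_surj [Finite G] (h : LK L T P V₁ C₁ M Z K S) {x₀ : G} (hx₀ : x₀ ∈ K)
    (hx₀Q : x₀ ∉ pCoreOf 2 K) {w : G} (hw : w ∈ wOf K) :
    ∃ w₂ ∈ wOf K, w = x₀ * w₂ * x₀⁻¹ * w₂⁻¹ := by
  have hxN : x₀ ∈ normalizer ((wOf K : Subgroup G) : Set G) := h.c.K_le_normalizer_W hx₀
  let f : ↥(wOf K) → ↥(wOf K) := fun w₂ =>
    ⟨x₀ * w₂.1 * x₀⁻¹ * w₂.1⁻¹,
      (wOf K).mul_mem (conj_mem_of_mem_normalizer hxN w₂.2) ((wOf K).inv_mem w₂.2)⟩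
  have hinj : Function.Injective f := by
    intro a b hab
    have hab' : x₀ * a.1 * x₀⁻¹ * a.1⁻¹ = x₀ * b.1 * x₀⁻¹ * b.1⁻¹ := congrArg Subtype.val hab
    have h1 : x₀ * (b.1⁻¹ * a.1) = (b.1⁻¹ * a.1) * x₀ := by
      calc x₀ * (b.1⁻¹ * a.1) = (x₀ * b.1 * x₀⁻¹)⁻¹ * (x₀ * a.1 * x₀⁻¹ * a.1⁻¹) * a.1 * x₀ := by
            group
        _ = (x₀ * b.1 * x₀⁻¹)⁻¹ * (x₀ * b.1 * x₀⁻¹ * b.1⁻¹) * a.1 * x₀ := by rw [hab']
        _ = (b.1⁻¹ * a.1) * x₀ := by group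
    have h2 := h.c.K_fpf hx₀ hx₀Q _ ((wOf K).mul_mem ((wOf K).inv_mem b.2) a.2) h1
    apply Subtype.ext
    have : a.1 = b.1 * (b.1⁻¹ * a.1) := by group
    rw [this, h2, mul_one]
  have hsurj : Function.Surjective f := Finite.injective_iff_surjective.mp hinj
  obtain ⟨w₂, hw₂⟩ := hsurj ⟨w, hw⟩
  exact ⟨w₂.1, w₂.2, (congrArg Subtype.val hw₂).symm⟩

/-- `M` normalizes `W` -/
theorem M_le_normalizer_W [Finite G] (h : LK L T P V₁ C₁ M Z K S) :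
    M ≤ normalizer ((wOf K : Subgroup G) : Set G) := by
  obtain ⟨x₀, hx₀, hx₀Q⟩ := h.exists_x₀
  apply le_normalizer_of_conj_mem
  intro m hm w hw
  obtain ⟨w₂, hw₂, rfl⟩ := h.comm_surj hx₀ hx₀Q hw
  obtain ⟨v', hv'⟩ : ∃ v', v' = m * w₂ * m⁻¹ := ⟨_, rfl⟩
  have hv'V : v' ∈ V₁ := hv' ▸ h.conj_mem_V₁ (h.d.hML hm) (h.W_le_V₁ hw₂)
  obtain ⟨c₀, hc₀⟩ : ∃ c₀, c₀ = m * x₀ * m⁻¹ * x₀⁻¹ := ⟨_, rfl⟩
  have hc₀C : c₀ ∈ C₁ := hc₀ ▸ h.d.hMc m hm x₀ (h.K_le_M hx₀)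
  have hcv : c₀ * (x₀ * v' * x₀⁻¹) = (x₀ * v' * x₀⁻¹) * c₀ :=
    (h.mem_C₁_iff.mp hc₀C).2 _ (h.conj_mem_V₁ (h.hKL hx₀) hv'V)
  have e : m * (x₀ * w₂ * x₀⁻¹ * w₂⁻¹) * m⁻¹ = x₀ * v' * x₀⁻¹ * v'⁻¹ := by
    calc m * (x₀ * w₂ * x₀⁻¹ * w₂⁻¹) * m⁻¹
        = (m * x₀ * m⁻¹ * x₀⁻¹) * (x₀ * (m * w₂ * m⁻¹) * x₀⁻¹) * (m * x₀ * m⁻¹ * x₀⁻¹)⁻¹ *
          (m * w₂ * m⁻¹)⁻¹ := by group
      _ = c₀ * (x₀ * v' * x₀⁻¹) * c₀⁻¹ * v'⁻¹ := by rw [← hc₀, ← hv']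
      _ = (x₀ * v' * x₀⁻¹) * c₀ * c₀⁻¹ * v'⁻¹ := by rw [hcv]
      _ = x₀ * v' * x₀⁻¹ * v'⁻¹ := by group
  rw [e]
  exact h.comm_mem_W hx₀ hv'V

/-- `T` normalizes `W` when `Z(T) ∩ W ≠ 1` -/
theorem T_le_normalizer_W [Finite G] (h : LK L T P V₁ C₁ M Z K S) {w : G} (hwW : w ∈ wOf K)
    (hw1 : w ≠ 1) (hwT : ∀ t ∈ T, t * w = w * t) :
    T ≤ normalizer ((wOf K : Subgroup G) : Set G) := by
  obtain ⟨x₀, hx₀, hx₀Q⟩ := h.exists_x₀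
  have claim : ∀ t ∈ T, ∀ w₁ ∈ wOf K, ∃ w₂ ∈ wOf K, w₁ = t * w₂ * t⁻¹ := by
    intro t ht w₁ hw₁
    have hU : wOf K ≤ (wOf K).map (MulAut.conj t).toMonoidHom := by
      apply h.W_le_of_invariant hx₀ hx₀Q _ _ (u := w) _ hwW hw1
      · rintro _ ⟨w₂, hw₂, rfl⟩ -
        have hm : t⁻¹ * x₀ * t ∈ M := by
          have := h.conj_mem_M (L.inv_mem (h.d.hTL ht)) (h.K_le_M hx₀)
          rwa [inv_inv] at this
        have h1 : (t⁻¹ * x₀ * t) * w₂ * (t⁻¹ * x₀ * t)⁻¹ ∈ wOf K :=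
          conj_mem_of_mem_normalizer (h.M_le_normalizer_W hm) hw₂
        refine ⟨_, h1, ?_⟩
        simp only [MulEquiv.coe_toMonoidHom, MulAut.conj_apply]
        group
      · refine ⟨w, hwW, ?_⟩
        simp only [MulEquiv.coe_toMonoidHom, MulAut.conj_apply]
        rw [hwT t ht]; group
    obtain ⟨w₂, hw₂, e⟩ := hU hw₁
    refine ⟨w₂, hw₂, ?_⟩
    rw [← e]
    simp only [MulEquiv.coe_toMonoidHom, MulAut.conj_apply]
  apply le_normalizer_of_conj_mem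
  intro t ht w₁ hw₁
  obtain ⟨w₂, hw₂, e⟩ := claim t⁻¹ (T.inv_mem ht) w₁ hw₁
  rw [e]
  have : t * (t⁻¹ * w₂ * t⁻¹⁻¹) * t⁻¹ = w₂ := by group
  rw [this]
  exact hw₂


/-- elements of `M` act on `V₁` as commuting maps -/
theorem M_act_comm (h : LK L T P V₁ C₁ M Z K S) {m m' v : G} (hm : m ∈ M) (hm' : m' ∈ M)
    (hv : v ∈ V₁) : (m * m') * v * (m * m')⁻¹ = (m' * m) * v * (m' * m)⁻¹ := by
  have hcC : m * m' * m⁻¹ * m'⁻¹ ∈ C₁ := h.d.hMc m hm m' hm'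
  have hvV : (m' * m) * v * (m' * m)⁻¹ ∈ V₁ :=
    h.conj_mem_V₁ (L.mul_mem (h.d.hML hm') (h.d.hML hm)) hv
  have hcv := (h.mem_C₁_iff.mp hcC).2 _ hvV
  calc (m * m') * v * (m * m')⁻¹
      = (m * m' * m⁻¹ * m'⁻¹) * ((m' * m) * v * (m' * m)⁻¹) * (m * m' * m⁻¹ * m'⁻¹)⁻¹ := by group
    _ = ((m' * m) * v * (m' * m)⁻¹) * (m * m' * m⁻¹ * m'⁻¹) * (m * m' * m⁻¹ * m'⁻¹)⁻¹ := by
        rw [hcv]
    _ = (m' * m) * v * (m' * m)⁻¹ := by group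

/-- the key step: an element of `T` centralizing `W` moves `K` only modulo `C₁` -/
theorem key [Finite G] (h : LK L T P V₁ C₁ M Z K S) {t : G} (ht : t ∈ T)
    (htW : ∀ w ∈ wOf K, t * w = w * t) {x : G} (hx : x ∈ K) :
    t * x * t⁻¹ * x⁻¹ ∈ C₁ := by
  have htL : t ∈ L := h.d.hTL ht
  have hxL : x ∈ L := h.hKL hx
  by_cases hxQ : x ∈ pCoreOf 2 K
  · have hxP : x ∈ P := h.Q_le_P hxQ
    exact C₁.mul_mem (h.P_le_C₁ (h.conj_mem_P htL hxP)) (C₁.inv_mem (h.P_le_C₁ hxP))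
  obtain ⟨y, hy⟩ : ∃ y, y = t * x * t⁻¹ * x⁻¹ := ⟨_, rfl⟩
  rw [← hy]
  have hxM : x ∈ M := h.K_le_M hx
  have hx'M : t * x * t⁻¹ ∈ M := h.conj_mem_M htL hxM
  have hyM : y ∈ M := hy ▸ M.mul_mem hx'M (M.inv_mem hxM)
  have hyL : y ∈ L := h.d.hML hyM
  have hxN : x ∈ normalizer ((wOf K : Subgroup G) : Set G) := h.c.K_le_normalizer_W hx
  have htW' : ∀ w ∈ wOf K, t⁻¹ * w = w * t⁻¹ := by
    intro w hw
    calc t⁻¹ * w = t⁻¹ * (w * t) * t⁻¹ := by group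
      _ = t⁻¹ * (t * w) * t⁻¹ := by rw [htW w hw]
      _ = w * t⁻¹ := by group
  -- `y` centralizes `W`
  have hyW : ∀ w ∈ wOf K, y * w = w * y := by
    intro w hw
    have hw'' : x⁻¹ * w * x ∈ wOf K := conj_inv_mem_of_mem_normalizer hxN hw
    have e1 : t⁻¹ * (x⁻¹ * w * x) = (x⁻¹ * w * x) * t⁻¹ := htW' _ hw''
    have e2 : t * w = w * t := htW w hw
    rw [hy]
    calc t * x * t⁻¹ * x⁻¹ * w = t * x * (t⁻¹ * (x⁻¹ * w * x)) * x⁻¹ := by group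
      _ = t * x * ((x⁻¹ * w * x) * t⁻¹) * x⁻¹ := by rw [e1]
      _ = (t * w) * x * t⁻¹ * x⁻¹ := by group
      _ = (w * t) * x * t⁻¹ * x⁻¹ := by rw [e2]
      _ = w * (t * x * t⁻¹ * x⁻¹) := by group
  -- `[V₁, y] ≤ W`
  have hyV : ∀ v ∈ V₁, y * v * y⁻¹ * v⁻¹ ∈ wOf K := by
    intro v hv
    -- `x⁻¹ v x = w₁ v`
    have hw₁ : x⁻¹ * v * x⁻¹⁻¹ * v⁻¹ ∈ wOf K := h.comm_mem_W (K.inv_mem hx) hv
    -- `x' v x'⁻¹ v⁻¹ ∈ W`
    have hv' : t⁻¹ * v * t⁻¹⁻¹ ∈ V₁ := h.conj_mem_V₁ (L.inv_mem htL) hv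
    have hw₂ : x * (t⁻¹ * v * t⁻¹⁻¹) * x⁻¹ * (t⁻¹ * v * t⁻¹⁻¹)⁻¹ ∈ wOf K := h.comm_mem_W hx hv'
    have hw₂' : t * (x * (t⁻¹ * v * t⁻¹⁻¹) * x⁻¹ * (t⁻¹ * v * t⁻¹⁻¹)⁻¹) * t⁻¹ ∈ wOf K := by
      have e : t * (x * (t⁻¹ * v * t⁻¹⁻¹) * x⁻¹ * (t⁻¹ * v * t⁻¹⁻¹)⁻¹) * t⁻¹ =
          x * (t⁻¹ * v * t⁻¹⁻¹) * x⁻¹ * (t⁻¹ * v * t⁻¹⁻¹)⁻¹ := by
        rw [htW _ hw₂]; group
      rw [e]; exact hw₂
    have hw₁' : (t * x * t⁻¹) * (x⁻¹ * v * x⁻¹⁻¹ * v⁻¹) * (t * x * t⁻¹)⁻¹ ∈ wOf K :=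
      conj_mem_of_mem_normalizer (h.M_le_normalizer_W hx'M) hw₁
    have e : y * v * y⁻¹ * v⁻¹ =
        ((t * x * t⁻¹) * (x⁻¹ * v * x⁻¹⁻¹ * v⁻¹) * (t * x * t⁻¹)⁻¹) *
        (t * (x * (t⁻¹ * v * t⁻¹⁻¹) * x⁻¹ * (t⁻¹ * v * t⁻¹⁻¹)⁻¹) * t⁻¹) := by
      rw [hy]; group
    rw [e]
    exact (wOf K).mul_mem hw₁' hw₂'
  -- `y` centralizes `V₁`
  rw [h.mem_C₁_iff]
  refine ⟨hyL, ?_⟩
  intro v hv
  obtain ⟨d, hd⟩ : ∃ d, d = y * v * y⁻¹ * v⁻¹ := ⟨_, rfl⟩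
  have hdW : d ∈ wOf K := hd ▸ hyV v hv
  have hyv : y * v * y⁻¹ = d * v := by rw [hd]; group
  obtain ⟨w₁, hw₁⟩ : ∃ w₁, w₁ = x * v * x⁻¹ * v⁻¹ := ⟨_, rfl⟩
  have hw₁W : w₁ ∈ wOf K := hw₁ ▸ h.comm_mem_W hx hv
  have hxv : x * v * x⁻¹ = w₁ * v := by rw [hw₁]; group
  have hcomm := h.M_act_comm hxM hyM hv
  -- LHS: `x (d v) x⁻¹ = (x d x⁻¹) w₁ v`;  RHS: `y (w₁ v) y⁻¹ = w₁ d v`
  have hL : (x * y) * v * (x * y)⁻¹ = (x * d * x⁻¹) * w₁ * v := by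
    calc (x * y) * v * (x * y)⁻¹ = x * (y * v * y⁻¹) * x⁻¹ := by group
      _ = x * (d * v) * x⁻¹ := by rw [hyv]
      _ = (x * d * x⁻¹) * (x * v * x⁻¹) := by group
      _ = (x * d * x⁻¹) * w₁ * v := by rw [hxv]; group
  have hR : (y * x) * v * (y * x)⁻¹ = w₁ * d * v := by
    calc (y * x) * v * (y * x)⁻¹ = y * (x * v * x⁻¹) * y⁻¹ := by group
      _ = y * (w₁ * v) * y⁻¹ := by rw [hxv]
      _ = (y * w₁) * y⁻¹ * (y * v * y⁻¹) := by group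
      _ = (w₁ * y) * y⁻¹ * (d * v) := by rw [hyW w₁ hw₁W, hyv]
      _ = w₁ * d * v := by group
  rw [hL, hR] at hcomm
  have hxd : x * d * x⁻¹ ∈ wOf K := conj_mem_of_mem_normalizer hxN hdW
  have h3 : x * d * x⁻¹ * w₁ = w₁ * d := mul_right_cancel hcomm
  have h4 : x * d * x⁻¹ = d := by
    have e1 : w₁ * d = d * w₁ := fg_comm h.c.exp hw₁W hdW
    rw [e1] at h3
    exact mul_right_cancel h3
  have hd1 : d = 1 := by
    apply h.c.K_fpf hx hxQ d hdW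
    calc x * d = (x * d * x⁻¹) * x := by group
      _ = d * x := by rw [h4]
  rw [hd1, one_mul] at hyv
  calc y * v = (y * v * y⁻¹) * y := by group
    _ = v * y := by rw [hyv]

/-- `T ∩ C₁ ≤ O₂(L)` -/
theorem T_inf_C₁_le_P [Finite G] (h : LK L T P V₁ C₁ M Z K S) : T ⊓ C₁ ≤ P := by
  have h1 : T ⊓ C₁ ≤ pCoreOf 2 C₁ := by
    apply Cfsg.Agent.Lib.Helper54.le_pCoreOf inf_le_right
    · apply le_normalizer_of_conj_mem
      intro c hc g hg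
      obtain ⟨hgT, hgC⟩ := Subgroup.mem_inf.mp hg
      exact Subgroup.mem_inf.mpr ⟨conj_mem_of_mem_normalizer (h.d.hCT hc) hgT,
        C₁.mul_mem (C₁.mul_mem hc hgC) (C₁.inv_mem hc)⟩
    · exact h.hT2.to_le inf_le_left
  have h2 : pCoreOf 2 C₁ ≤ pCoreOf 2 L := pCoreOf_mono_of_normal h.C₁_le_L h.L_le_normalizer_C₁
  rw [h.hP]
  exact h1.trans h2

/-- `[C₁, J] ≤ O₂(L)` -/
theorem comm_C₁_J [Finite G] (h : LK L T P V₁ C₁ M Z K S) {c j : G} (hc : c ∈ C₁)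
    (hj : j ∈ thompsonSubgroupOf 2 T) : c * j * c⁻¹ * j⁻¹ ∈ P := by
  apply h.T_inf_C₁_le_P
  have hJT : thompsonSubgroupOf 2 T ≤ T := Cfsg.Agent.Lib.Helper15.thompsonSubgroupOf_le 2 T
  have hcNJ : c ∈ normalizer (thompsonSubgroupOf 2 T : Set G) :=
    Cfsg.Agent.Lib.Helper15.normalizer_le_normalizer_thompsonSubgroupOf 2 T (h.d.hCT hc)
  refine Subgroup.mem_inf.mpr ⟨?_, ?_⟩
  · exact T.mul_mem (hJT (conj_mem_of_mem_normalizer hcNJ hj)) (T.inv_mem (hJT hj))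
  · have hjL : j ∈ L := h.d.hTL (hJT hj)
    have h1 : j * c⁻¹ * j⁻¹ ∈ C₁ := h.conj_mem_C₁ hjL (C₁.inv_mem hc)
    have e : c * j * c⁻¹ * j⁻¹ = c * (j * c⁻¹ * j⁻¹) := by group
    rw [e]
    exact C₁.mul_mem hc h1

/-- an element of `T` centralizing `W` normalizes `K` -/
theorem conj_mem_K [Finite G] (h : LK L T P V₁ C₁ M Z K S) {t : G} (ht : t ∈ T)
    (htW : ∀ w ∈ wOf K, t * w = w * t) : ∀ k ∈ K, t * k * t⁻¹ ∈ K := by
  haveI : Fact (Nat.Prime 2) := ⟨Nat.prime_two⟩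
  have hJT : thompsonSubgroupOf 2 T ≤ T := Cfsg.Agent.Lib.Helper15.thompsonSubgroupOf_le 2 T
  have htNJ : t ∈ normalizer (thompsonSubgroupOf 2 T : Set G) :=
    Cfsg.Agent.Lib.Helper15.normalizer_le_normalizer_thompsonSubgroupOf 2 T
      (Subgroup.le_normalizer ht)
  -- first: `t K t⁻¹ ≤ K P`
  have hKP : K ≤ (K ⊔ P).comap (MulAut.conj t).toMonoidHom := by
    conv_lhs => rw [← h.c.comm]
    rw [Subgroup.commutator_le]
    intro k hk j hj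
    rw [Subgroup.mem_comap]
    simp only [MulEquiv.coe_toMonoidHom, MulAut.conj_apply]
    obtain ⟨y, hy⟩ : ∃ y, y = t * k * t⁻¹ * k⁻¹ := ⟨_, rfl⟩
    have hyC : y ∈ C₁ := hy ▸ h.key ht htW hk
    obtain ⟨j', hj'⟩ : ∃ j', j' = t * j * t⁻¹ := ⟨_, rfl⟩
    have hj'J : j' ∈ thompsonSubgroupOf 2 T := hj' ▸ conj_mem_of_mem_normalizer htNJ hj
    obtain ⟨k₂, hk₂⟩ : ∃ k₂, k₂ = k * j' * k⁻¹ * j'⁻¹ := ⟨_, rfl⟩
    have hk₂K : k₂ ∈ K := by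
      have : ⁅k, j'⁆ ∈ ⁅K, thompsonSubgroupOf 2 T⁆ := Subgroup.commutator_mem_commutator hk hj'J
      rw [h.c.comm, commutatorElement_def] at this
      rw [hk₂]; exact this
    have e : t * ⁅k, j⁆ * t⁻¹ = (y * k₂ * y⁻¹ * k₂⁻¹) * k₂ * (y * j' * y⁻¹ * j'⁻¹) := by
      rw [commutatorElement_def, hy, hk₂, hj']; group
    rw [e]
    refine (K ⊔ P).mul_mem ((K ⊔ P).mul_mem ?_ ?_) ?_
    · exact (le_sup_right : P ≤ K ⊔ P) (h.comm_mem_P' hk₂K hyC)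
    · exact (le_sup_left : K ≤ K ⊔ P) hk₂K
    · exact (le_sup_right : P ≤ K ⊔ P) (h.comm_C₁_J hyC hj'J)
  -- then odd order elements
  have hK : K ≤ K.comap (MulAut.conj t).toMonoidHom := by
    conv_lhs => rw [← h.c.odd]
    rw [Subgroup.closure_le]
    rintro g ⟨hgK, hgo⟩
    rw [SetLike.mem_coe, Subgroup.mem_comap]
    have h1 := hKP hgK
    rw [Subgroup.mem_comap] at h1
    apply Cfsg.Agent.S2941.mem_of_coprime_of_mem_sup K P h.P_isPGroup h.hPK _ h1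
    have : orderOf ((MulAut.conj t).toMonoidHom g) = orderOf g :=
      orderOf_injective _ (MulAut.conj t).injective g
    rw [this]
    exact Nat.coprime_two_right.mpr hgo
  intro k hk
  have := hK hk
  rw [Subgroup.mem_comap] at this
  simpa only [MulEquiv.coe_toMonoidHom, MulAut.conj_apply] using this

/-- `T` normalizes `K` when `Z(T) ∩ W ≠ 1` -/
theorem T_le_normalizer_K [Finite G] (h : LK L T P V₁ C₁ M Z K S) {w : G} (hwW : w ∈ wOf K)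
    (hw1 : w ≠ 1) (hwT : ∀ t ∈ T, t * w = w * t) : T ≤ normalizer (K : Set G) := by
  have hJT : thompsonSubgroupOf 2 T ≤ T := Cfsg.Agent.Lib.Helper15.thompsonSubgroupOf_le 2 T
  have hTW := h.T_le_normalizer_W hwW hw1 hwT
  obtain ⟨A, hA, a, ha, hanc⟩ := h.c.exists_A
  have haJ : a ∈ thompsonSubgroupOf 2 T := h.c.le_J_of_mem hA ha
  have haT : a ∈ T := hJT haJ
  have haN : a ∈ normalizer ((wOf K : Subgroup G) : Set G) := hTW haT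
  have haK : a ∈ normalizer (K : Set G) := h.c.J_le_normalizer haJ
  have hanc' : ¬ ∀ w ∈ wOf K, a * w = w * a := by
    intro hh
    exact hanc (mem_centralizer_iff'.mpr hh)
  apply le_normalizer_of_conj_mem
  intro t ht k hk
  by_cases htc : ∀ w ∈ wOf K, t * w = w * t
  · exact h.conj_mem_K ht htc k hk
  · -- `t a` centralizes `W`
    have htN : t ∈ normalizer ((wOf K : Subgroup G) : Set G) := hTW ht
    have hta : ∀ w' ∈ wOf K, (t * a) * w' = w' * (t * a) := by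
      intro w' hw'
      by_cases h1 : w' = 1
      · rw [h1]; group
      by_cases h2 : w' = w
      · rw [h2]
        calc t * a * w = t * (a * w) := by group
          _ = t * (w * a) := by rw [hwT a haT]
          _ = (t * w) * a := by group
          _ = (w * t) * a := by rw [hwT t ht]
          _ = w * (t * a) := by group
      · have e1 : a * w' * a⁻¹ = w * w' :=
          fg_swap h.c.card h.c.exp haN hwW hw1 (hwT a haT) hanc' w' hw' h1 h2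
        have hww' : w * w' ∈ wOf K := (wOf K).mul_mem hwW hw'
        have hww'1 : w * w' ≠ 1 := by
          intro e
          apply h2
          have : w' = w⁻¹ * (w * w') := by group
          rw [this, e, mul_one, fg_inv h.c.exp hwW]
        have hww'w : w * w' ≠ w := by
          intro e
          apply h1
          have : w' = w⁻¹ * (w * w') := by group
          rw [this, e]; group
        have e2 : t * (w * w') * t⁻¹ = w * (w * w') :=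
          fg_swap h.c.card h.c.exp htN hwW hw1 (hwT t ht) htc (w * w') hww' hww'1 hww'w
        have e3 : w * (w * w') = w' := by
          rw [← mul_assoc, h.c.exp w hwW, one_mul]
        calc t * a * w' = t * (a * w' * a⁻¹) * t⁻¹ * (t * a) := by group
          _ = t * (w * w') * t⁻¹ * (t * a) := by rw [e1]
          _ = w' * (t * a) := by rw [e2, e3]
    have h3 := h.conj_mem_K (T.mul_mem ht haT) hta (a⁻¹ * k * a)
      (conj_inv_mem_of_mem_normalizer haK hk)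
    have e : t * a * (a⁻¹ * k * a) * (t * a)⁻¹ = t * k * t⁻¹ := by group
    rwa [e] at h3

end LK

end Cfsg.Agent.Lib.Helper52
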