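import Mathlib
import Cfsg.Agent.Lib.Helper52.JOver4
import Cfsg.Agent.Lib.Helper52.FFCover

/-!
# Covering the normal closure of `J(T)` (elementary abelian version) in the module setting
-/

set_option autoImplicit false
set_option linter.unusedSectionVars false
set_option linter.unusedVariables false
set_option linter.style.haveILetI false

namespace Cfsg.Agent.Lib.Helper52

open Subgroup Matrix
open scoped commutatorElement
open Cfsg.Agent.Lib.Helper15 (maxElemIn)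

section JOver7

variable {X : Type*} [Group X] [Finite X]
variable (V₁ : Subgroup X) [hV₁n : V₁.Normal]

/-- the image of `A ∈ 𝒜(T)` in the model contains a minimal offender not centralizing a given
subgroup which `A` does not centralize -/
theorem glau_min_e (hV₁ : Cfsg.IsElementaryAbelian 2 V₁) (hsep : Cfsg.IsPSolvable 2 X)
    (hOp : FMOp 2 V₁) {T : Subgroup X} (hT : IsPGroup 2 T) (hVT : V₁ ≤ T)
    {A : Subgroup X} (hA : A ∈ maxElemIn 2 T) (W' : Subgroup (FM V₁))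
    (hAW : ¬ A.map (fmπ V₁) ≤ centralizer (W' : Set (FM V₁))) :
    ∃ B : Subgroup (FM V₁), B ≤ A.map (fmπ V₁) ∧
      FFMin 2 (fmι V₁).range
        ((normalClosure (Cfsg.thompsonSubgroupOf 2 T : Set X)).map (fmπ V₁)) B ∧
      ¬ B ≤ centralizer (W' : Set (FM V₁)) := by
  haveI : Fact (Nat.Prime 2) := ⟨Nat.prime_two⟩
  obtain ⟨Y, hY⟩ : ∃ Y : Subgroup X, Y = normalClosure (Cfsg.thompsonSubgroupOf 2 T : Set X) :=
    ⟨_, rfl⟩
  rw [← hY]
  haveI hYn : Y.Normal := hY ▸ normalClosure_normal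
  have hJY : Cfsg.thompsonSubgroupOf 2 T ≤ Y := hY ▸ subset_normalClosure
  have h := fm_hyp V₁ hV₁ hsep hOp Y
  have hAJ : A ≤ Cfsg.thompsonSubgroupOf 2 T := by
    rw [Cfsg.Agent.Lib.Helper15.thompsonSubgroupOf_eq]; exact le_sSup hA
  have hAY : A ≤ Y := hAJ.trans hJY
  have hAH : A.map (fmπ V₁) ≤ Y.map (fmπ V₁) := Subgroup.map_mono hAY
  have hAc : ∀ x ∈ A.map (fmπ V₁), ∀ y ∈ A.map (fmπ V₁), x * y = y * x := by
    rintro _ ⟨a, ha, rfl⟩ _ ⟨b, hb, rfl⟩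
    rw [← map_mul, ← map_mul, JComp.IsElementaryAbelian.comm' hA.2.1 ha hb]
  have hAp : IsPGroup 2 ↥(A.map (fmπ V₁)) := (hT.to_le hA.1).map _
  have hoff := glau_offender_e V₁ hV₁ hVT hA
  have hle := ff_abelian_le h hAH hAc
  have htight := le_antisymm hle hoff
  have hexp := ff_abelian_tight h _ _ rfl hAH hAc hAp htight
  have hbest : Cfsg.IsBestOffenderOn 2 (fmι V₁).range (A.map (fmπ V₁)) := by
    refine ⟨?_, ?_, ?_⟩
    · intro B hB
      rw [htight]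
      exact ff_abelian_le h (hB.trans hAH) (fun x hx y hy => hAc x (hB hx) y (hB hy))
    · rw [commutator_le]
      intro x hx y hy
      have := hAc x hx y hy
      rw [← commutatorElement_eq_one_iff_mul_comm] at this
      rw [this]; exact one_mem _
    · intro a ha
      rw [hexp a ha]; exact one_mem _
  have hS := h.setup
  have hAct := ff_acts_of_best h.hHV h.hf h.hS1 hAH hbest
  obtain ⟨k, B, -, hB, -, hsup⟩ := ff_decomp hS hAct htight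
  by_contra hne
  push Not at hne
  apply hAW
  rw [← hsup]
  refine iSup_le fun i => ?_
  obtain ⟨hBA, hBp, hBt⟩ := hB i
  exact hne (B i) hBA ⟨hBA.trans hAH, hBp, hBt⟩

/-- lifting a minimal offender centralizing `W` -/
theorem glau_lift_e {Y W : Subgroup X} (hWV : W ≤ V₁) {b' : FM V₁}
    (hb'H : b' ∈ Y.map (fmπ V₁)) (hb'2 : b' ^ 2 = 1)
    (hb'W : b' ∈ centralizer (((W.subgroupOf V₁).map (fmι V₁) : Subgroup (FM V₁)) : Set (FM V₁))) :
    ∃ r ∈ Y, r ∈ centralizer (W : Set X) ∧ (∃ n : ℕ, r ^ 2 ^ n = 1) ∧ fmπ V₁ r = b' := by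
  obtain ⟨y', hy'Y, hy'⟩ := hb'H
  have hord : orderOf y' ≠ 0 := (orderOf_pos y').ne'
  obtain ⟨s, m, hm, hsm⟩ := Nat.exists_eq_two_pow_mul_odd hord
  refine ⟨y' ^ m, Y.pow_mem hy'Y m, ?_, ⟨s, ?_⟩, ?_⟩
  · -- centralizes `W`
    have hπ : fmπ V₁ (y' ^ m) = b' := by
      rw [map_pow, hy']
      obtain ⟨t, rfl⟩ := hm
      rw [pow_succ, pow_mul, hb'2, one_pow, one_mul]
    rw [Subgroup.mem_centralizer_iff]
    intro w hw
    have h1 := fm_conj V₁ (y' ^ m) ⟨w, hWV hw⟩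
    have h2 : fmι V₁ ⟨w, hWV hw⟩ ∈
        (((W.subgroupOf V₁).map (fmι V₁) : Subgroup (FM V₁)) : Set (FM V₁)) :=
      ⟨⟨w, hWV hw⟩, Subgroup.mem_subgroupOf.mpr hw, rfl⟩
    have h3 := Subgroup.mem_centralizer_iff.mp hb'W _ h2
    rw [hπ] at h1
    have h4 : b' * fmι V₁ ⟨w, hWV hw⟩ * b'⁻¹ = fmι V₁ ⟨w, hWV hw⟩ := by
      rw [← h3]; group
    rw [h4] at h1
    have h5 := fmι_injective V₁ h1
    have h6 : w = y' ^ m * w * (y' ^ m)⁻¹ := congrArg Subtype.val h5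
    calc w * y' ^ m = (y' ^ m * w * (y' ^ m)⁻¹) * y' ^ m := by rw [← h6]
      _ = y' ^ m * w := by group
  · rw [← pow_mul, mul_comm, ← hsm, pow_orderOf_eq_one]
  · rw [map_pow, hy']
    obtain ⟨t, rfl⟩ := hm
    rw [pow_succ, pow_mul, hb'2, one_pow, one_mul]

/-- **the covering of `Y = ⟨J(T)^X⟩`** -/
theorem jover_cover (hV₁ : Cfsg.IsElementaryAbelian 2 V₁) (hsep : Cfsg.IsPSolvable 2 X)
    (hOp : FMOp 2 V₁) {T : Subgroup X} (hT : IsPGroup 2 T) (hVT : V₁ ≤ T)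
    (W : Subgroup X) [hWn : W.Normal] (hWV : W ≤ V₁) (hW4 : Nat.card W = 4)
    {A : Subgroup X} (hA : A ∈ maxElemIn 2 T) (hAW : ¬ A ≤ centralizer (W : Set X))
    {k : X} (hkY : k ∈ normalClosure (Cfsg.thompsonSubgroupOf 2 T : Set X))
    (hkW : ∀ v ∈ V₁, v * k * v⁻¹ * k⁻¹ ∈ W) (hk3 : k ^ 3 ∈ centralizer (V₁ : Set X))
    (hkC : k ∉ centralizer (V₁ : Set X)) :
    ∀ y ∈ normalClosure (Cfsg.thompsonSubgroupOf 2 T : Set X), ∃ i : ℕ, ∃ a ∈ A,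
      ∃ r ∈ Subgroup.closure {r : X | r ∈ normalClosure (Cfsg.thompsonSubgroupOf 2 T : Set X) ∧
        r ∈ centralizer (W : Set X) ∧ ∃ n : ℕ, r ^ 2 ^ n = 1},
      ∃ c ∈ centralizer (V₁ : Set X), y = k ^ i * a * r * c := by
  haveI : Fact (Nat.Prime 2) := ⟨Nat.prime_two⟩
  obtain ⟨Y, hY⟩ : ∃ Y : Subgroup X, Y = normalClosure (Cfsg.thompsonSubgroupOf 2 T : Set X) :=
    ⟨_, rfl⟩
  haveI hYn : Y.Normal := hY ▸ normalClosure_normal
  have h := fm_hyp V₁ hV₁ hsep hOp Y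
  have hgen := glau_gen_e V₁ hV₁ hsep hOp hT hVT
  rw [← hY] at hgen hkY ⊢
  obtain ⟨W', hW'⟩ : ∃ W' : Subgroup (FM V₁), W' = (W.subgroupOf V₁).map (fmι V₁) := ⟨_, rfl⟩
  have hW'V : W' ≤ (fmι V₁).range := hW' ▸ Subgroup.map_le_range _ _
  have hW'4 : Nat.card W' = 4 := by
    rw [hW', Subgroup.card_map_of_injective (fmι_injective V₁),
      Cfsg.Agent.Lib.Helper15.card_subgroupOf_of_le hWV, hW4]
  have hmemW' : ∀ (w : X) (hw : w ∈ W), fmι V₁ ⟨w, hWV hw⟩ ∈ W' := by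
    intro w hw
    rw [hW']
    exact ⟨⟨w, hWV hw⟩, Subgroup.mem_subgroupOf.mpr hw, rfl⟩
  have hHW' : Y.map (fmπ V₁) ≤ normalizer (W' : Set (FM V₁)) := by
    apply le_normalizer_of_conj_mem
    rintro _ ⟨y, hy, rfl⟩ w' hw'
    rw [hW'] at hw'
    obtain ⟨w, hw, rfl⟩ := hw'
    rw [fm_conj]
    exact hmemW' _ (hWn.conj_mem _ (Subgroup.mem_subgroupOf.mp hw) y)
  -- the minimal offender
  have hAW' : ¬ A.map (fmπ V₁) ≤ centralizer (W' : Set (FM V₁)) := by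
    intro hle
    apply hAW
    intro a ha
    rw [Subgroup.mem_centralizer_iff]
    intro w hw
    have h1 := Subgroup.mem_centralizer_iff.mp (hle (Subgroup.mem_map_of_mem _ ha)) _
      (hmemW' w hw)
    have h2 := fm_conj V₁ a ⟨w, hWV hw⟩
    have h4 : fmπ V₁ a * fmι V₁ ⟨w, hWV hw⟩ * (fmπ V₁ a)⁻¹ = fmι V₁ ⟨w, hWV hw⟩ := by
      rw [← h1]; group
    rw [h4] at h2
    have h6 : w = a * w * a⁻¹ := congrArg Subtype.val (fmι_injective V₁ h2)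
    calc w * a = (a * w * a⁻¹) * a := by rw [← h6]
      _ = a * w := by group
  obtain ⟨B, hBA, hB, hBW'⟩ := glau_min_e V₁ hV₁ hsep hOp hT hVT hA W' hAW'
  rw [← hY] at hB
  -- the element `k`
  have hkbH : fmπ V₁ k ∈ Y.map (fmπ V₁) := Subgroup.mem_map_of_mem _ hkY
  have hkb1 : fmπ V₁ k ≠ 1 := fun e => hkC ((fmπ_eq_one_iff V₁).mp e)
  have hkb3 : fmπ V₁ k ^ 3 = 1 := by
    rw [← map_pow]; exact (fmπ_eq_one_iff V₁).mpr hk3
  have hkbW : ∀ v' ∈ (fmι V₁).range, ⁅v', fmπ V₁ k⁆ ∈ W' := by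
    rintro _ ⟨v, rfl⟩
    have h1 := fm_conj V₁ k v⁻¹
    have e : ⁅fmι V₁ v, fmπ V₁ k⁆ =
        fmι V₁ v * (fmπ V₁ k * fmι V₁ v⁻¹ * (fmπ V₁ k)⁻¹) := by
      rw [commutatorElement_def, map_inv]; group
    rw [e, h1, ← map_mul]
    have h2 := hmemW' _ (hkW v.1 v.2)
    convert h2 using 2
    apply Subtype.ext
    simp [mul_assoc]
  have hcov := ff_cover h hgen hW'V hW'4 hHW' hB hBW' hkbH hkbW hkb1 hkb3
  -- lifting `R`
  obtain ⟨Rg, hRg⟩ : ∃ Rg : Subgroup X, Rg = Subgroup.closure {r : X | r ∈ Y ∧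
      r ∈ centralizer (W : Set X) ∧ ∃ n : ℕ, r ^ 2 ^ n = 1} := ⟨_, rfl⟩
  rw [← hRg]
  have hlift : ffR (fmι V₁).range (Y.map (fmπ V₁)) W' ≤ Rg.map (fmπ V₁) := by
    unfold ffR
    refine iSup_le fun B' => ?_
    intro b' hb'
    have hb'2 : b' ^ 2 = 1 := B'.2.1.pow b' hb'
    have hb'W := B'.2.2 hb'
    rw [hW'] at hb'W
    obtain ⟨r, hrY, hrW, hr2, hrb⟩ := glau_lift_e V₁ hWV (B'.2.1.le hb') hb'2 hb'W
    refine ⟨r, ?_, hrb⟩
    rw [hRg]
    exact Subgroup.subset_closure ⟨hrY, hrW, hr2⟩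
  intro y hy
  obtain ⟨i, b, hb, c, hc, hyeq⟩ := hcov _ (Subgroup.mem_map_of_mem _ hy)
  obtain ⟨a, ha, rfl⟩ := hBA hb
  obtain ⟨r, hr, rfl⟩ := hlift hc
  refine ⟨i, a, ha, r, hr, (k ^ i * a * r)⁻¹ * y, ?_, by group⟩
  rw [← fmπ_eq_one_iff V₁, map_mul, map_inv, hyeq, map_mul, map_mul, map_pow]
  group

/-- Frattini: `X = Y N_X(J(T))` for a normal subgroup `Y` containing `J(T)` -/
theorem jover_frattini (T : Sylow 2 X) (Y : Subgroup X) [hYn : Y.Normal]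
    (hJY : Cfsg.thompsonSubgroupOf 2 (T : Subgroup X) ≤ Y) :
    Y ⊔ normalizer (Cfsg.thompsonSubgroupOf 2 (T : Subgroup X) : Set X) = ⊤ := by
  haveI : Fact (Nat.Prime 2) := ⟨Nat.prime_two⟩
  rw [eq_top_iff]
  intro g _
  obtain ⟨a, ha, c, hc, rfl⟩ := Cfsg.Agent.Lib.Helper16.ZJ.frattini_inf_normal T Y g
  obtain ⟨R, hR⟩ : ∃ R : Subgroup X, R = (T : Subgroup X) ⊓ Y := ⟨_, rfl⟩
  rw [← hR] at ha
  have hRT : R ≤ (T : Subgroup X) := hR ▸ inf_le_left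
  have hJR : Cfsg.thompsonSubgroupOf 2 (T : Subgroup X) ≤ R :=
    hR ▸ le_inf (Cfsg.Agent.Lib.Helper15.thompsonSubgroupOf_le 2 _) hJY
  have hJeq : Cfsg.thompsonSubgroupOf 2 R = Cfsg.thompsonSubgroupOf 2 (T : Subgroup X) :=
    Cfsg.Agent.Lib.Helper15.thompsonSubgroupOf_eq_of_le 2 hRT hJR
  have hN : normalizer (R : Set X) ≤ normalizer (Cfsg.thompsonSubgroupOf 2 R : Set X) :=
    Cfsg.Agent.Lib.Helper15.normalizer_le_normalizer_thompsonSubgroupOf 2 R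
  rw [hJeq] at hN
  exact mul_mem (mem_sup_right (hN ha)) (mem_sup_left hc)

/-- **the data, second version**: with the covering of `X` -/
theorem jover_data2 [Group.IsSolvable X]
    (hchar : centralizer (Cfsg.pCore 2 X : Set X) ≤ Cfsg.pCore 2 X)
    (T : Sylow 2 X) (Z : Subgroup X) (hZT : Z ≤ centralizer ((T : Subgroup X) : Set X))
    (hZN : centralizer (Z : Set X) ≤ normalizer ((T : Subgroup X) : Set X)) :
    ∃ V₁ M : Subgroup X, V₁.Normal ∧ M.Normal ∧ Cfsg.IsElementaryAbelian 2 V₁ ∧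
      (∀ z ∈ Z, z ^ 2 = 1 → z ∈ V₁) ∧ V₁ ≤ Cfsg.pCore 2 X ∧
      V₁ ≤ centralizer (Cfsg.pCore 2 X : Set X) ∧
      centralizer (V₁ : Set X) ≤ M ∧ ⁅M, M⁆ ≤ centralizer (V₁ : Set X) ∧
      centralizer (V₁ : Set X) ≤ normalizer ((T : Subgroup X) : Set X) ∧
      (∀ K : Subgroup X, Subgroup.closure {g : X | g ∈ K ∧ Odd (orderOf g)} = K →
        ⁅K, Cfsg.thompsonSubgroupOf 2 (T : Subgroup X)⁆ = K →
        K ≤ M ∧ ∀ k ∈ K, ∀ c ∈ centralizer (V₁ : Set X),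
          k * c * k⁻¹ * c⁻¹ ∈ Cfsg.pCore 2 X) ∧
      (∀ (W A K' N₀ : Subgroup X) (k : X), W.Normal → W ≤ V₁ → Nat.card W = 4 →
        A ∈ maxElemIn 2 (T : Subgroup X) → ¬ A ≤ centralizer (W : Set X) →
        ⁅K', Cfsg.thompsonSubgroupOf 2 (T : Subgroup X)⁆ = K' → k ∈ K' →
        (∀ v ∈ V₁, v * k * v⁻¹ * k⁻¹ ∈ W) → k ^ 3 ∈ centralizer (V₁ : Set X) →
        k ∉ centralizer (V₁ : Set X) →
        k ∈ N₀ → A ≤ N₀ → centralizer (V₁ : Set X) ≤ N₀ →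
        normalizer (Cfsg.thompsonSubgroupOf 2 (T : Subgroup X) : Set X) ≤ N₀ →
        (∀ r : X, r ∈ centralizer (W : Set X) → (∃ n : ℕ, r ^ 2 ^ n = 1) →
          (∀ c ∈ centralizer (V₁ : Set X), r * c * r⁻¹ * c⁻¹ ∈ Cfsg.pCore 2 X) → r ∈ N₀) →
        N₀ = ⊤) := by
  haveI : Fact (Nat.Prime 2) := ⟨Nat.prime_two⟩
  obtain ⟨Q, hQ⟩ : ∃ Q : Subgroup X, Q = Cfsg.pCore 2 X := ⟨_, rfl⟩
  haveI hQn : Q.Normal := hQ ▸ pCore_normal 2 X
  have hQp : IsPGroup 2 Q := hQ ▸ pCore_isPGroup 2 X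
  have hQT : Q ≤ (T : Subgroup X) := hQ ▸ pCore_le_sylow 2 X T
  rw [← hQ] at hchar ⊢
  have hCQ : centralizer (Q : Set X) ≤ Q := hchar
  have hZcQ : Z ≤ centralizer (Q : Set X) :=
    hZT.trans (centralizer_le (by exact_mod_cast hQT))
  have hZQ : Z ≤ Q := hZcQ.trans hCQ
  haveI hcQn : (centralizer (Q : Set X)).Normal := Subgroup.normal_centralizer
  obtain ⟨V, hV⟩ : ∃ V : Subgroup X, V = normalClosure (Z : Set X) := ⟨_, rfl⟩
  haveI hVn : V.Normal := hV ▸ normalClosure_normal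
  have hZV : Z ≤ V := hV ▸ subset_normalClosure
  have hVQ : V ≤ Q := by
    rw [hV]; exact normalClosure_le_normal (by exact_mod_cast hZQ)
  have hVcQ : V ≤ centralizer (Q : Set X) := by
    rw [hV]; exact normalClosure_le_normal (by exact_mod_cast hZcQ)
  have hVc : ∀ x ∈ V, ∀ y ∈ V, x * y = y * x := by
    intro x hx y hy
    exact (mem_centralizer_iff.mp (hVcQ hx) y (hVQ hy)).symm
  have hVp : IsPGroup 2 V := hQp.to_le hVQ
  have hVT : V ≤ (T : Subgroup X) := hVQ.trans hQT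
  have hOpV : FMOp 2 V := hV ▸ fmOp_normalClosure T Z hZT
  obtain ⟨V₁, hV₁def⟩ : ∃ V₁ : Subgroup X, V₁ = omegaSub 2 V := ⟨_, rfl⟩
  haveI hV₁n : V₁.Normal := hV₁def ▸ omegaSub_normal 2 V
  have hV₁ : Cfsg.IsElementaryAbelian 2 V₁ := hV₁def ▸ omegaSub_isEA hVc
  have hC₁ : centralizer (V₁ : Set X) = centralizer (V : Set X) := by
    rw [hV₁def]; exact centralizer_omegaSub_eq hVc hVp hOpV
  have hOp₁ : FMOp 2 V₁ := by
    intro D hDn hCD hidx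
    rw [hC₁] at hCD hidx ⊢
    exact hOpV D hDn hCD hidx
  have hV₁V : V₁ ≤ V := hV₁def ▸ omegaSub_le 2 V
  have hV₁T : V₁ ≤ (T : Subgroup X) := hV₁V.trans hVT
  have hsep : Cfsg.IsPSolvable 2 X := Cfsg.Agent.Lib.Helper33.isPSolvable_of_isSolvable 2 X
  obtain ⟨M, hMn, hCM, hMM, hser⟩ := jover_abelian_series V₁ hV₁ hsep hOp₁ T.2 hV₁T
  obtain ⟨C, hC⟩ : ∃ C : Subgroup X, C = centralizer (V₁ : Set X) := ⟨_, rfl⟩
  rw [← hC] at hCM hMM
  haveI hCn : C.Normal := hC ▸ Subgroup.normal_centralizer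
  obtain ⟨J, hJ⟩ : ∃ J : Subgroup X, J = Cfsg.thompsonSubgroupOf 2 (T : Subgroup X) := ⟨_, rfl⟩
  rw [← hJ] at hser
  have hCT : C ≤ normalizer ((T : Subgroup X) : Set X) := by
    refine le_trans ?_ hZN
    rw [hC, hC₁]
    exact centralizer_le (by exact_mod_cast hZV)
  have hCJ : C ≤ normalizer (J : Set X) := by
    rw [hJ]
    exact hCT.trans (Cfsg.Agent.Lib.Helper15.normalizer_le_normalizer_thompsonSubgroupOf 2 _)
  have hJT : J ≤ (T : Subgroup X) := hJ ▸ Cfsg.Agent.Lib.Helper15.thompsonSubgroupOf_le 2 _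
  have hP₁ : (T : Subgroup X) ⊓ C ≤ Q := by
    have h1 : (T : Subgroup X) ⊓ C ≤ Cfsg.pCoreOf 2 C := by
      apply Cfsg.Agent.Lib.Helper54.le_pCoreOf inf_le_right
      · apply le_normalizer_of_conj_mem
        intro c hc t ht
        obtain ⟨ht1, ht2⟩ := Subgroup.mem_inf.mp ht
        exact Subgroup.mem_inf.mpr ⟨(mem_normalizer_iff.mp (hCT hc) t).mp ht1,
          hCn.conj_mem t ht2 c⟩
      · exact T.2.to_le inf_le_left
    have h2 : Cfsg.pCoreOf 2 C ≤ Cfsg.pCoreOf 2 (⊤ : Subgroup X) :=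
      pCoreOf_le_pCoreOf_of_normal le_top (by
        rw [normalizer_eq_top_iff.mpr hCn])
    rw [Cfsg.Agent.Lib.Helper54.pCoreOf_top, ← hQ] at h2
    exact h1.trans h2
  have hJD : J ≤ centMod C Q := by
    intro j hj
    rw [mem_centMod]
    intro c hc
    apply hP₁
    refine Subgroup.mem_inf.mpr ⟨?_, ?_⟩
    · have h1 : c * j⁻¹ * c⁻¹ ∈ J := (mem_normalizer_iff.mp (hCJ hc) _).mp (J.inv_mem hj)
      have e : j * c * j⁻¹ * c⁻¹ = j * (c * j⁻¹ * c⁻¹) := by group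
      rw [e]
      exact Subgroup.mul_mem _ (hJT hj) (hJT h1)
    · exact C.mul_mem (hCn.conj_mem c hc j) (C.inv_mem hc)
  haveI hDn : (centMod C Q).Normal := centMod_normal C Q
  obtain ⟨Y, hY⟩ : ∃ Y : Subgroup X, Y = normalClosure (J : Set X) := ⟨_, rfl⟩
  haveI hYn : Y.Normal := hY ▸ normalClosure_normal
  have hJY : J ≤ Y := hY ▸ subset_normalClosure
  have hYD : Y ≤ centMod C Q := by
    rw [hY]; exact normalClosure_le_normal (by exact_mod_cast hJD)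
  rw [← hY] at hser
  have hfr := jover_frattini T Y (hJ ▸ hJY)
  rw [← hJ] at hfr
  subst hC
  subst hJ
  refine ⟨V₁, M, hV₁n, hMn, hV₁, ?_, hV₁V.trans hVQ, hV₁V.trans hVcQ, hCM, hMM, hCT, ?_, ?_⟩
  · intro z hz hz2
    rw [hV₁def]
    exact mem_omegaSub (hZV hz) hz2
  · intro K hodd hKJ
    have hKY : K ≤ Y := by
      rw [← hKJ]
      exact (Subgroup.commutator_mono le_rfl hJY).trans (Subgroup.commutator_le_right K Y)
    refine ⟨hser K hKY hodd, ?_⟩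
    intro k hk c hc
    exact (hKY.trans hYD) hk c hc
  · intro W A K' N₀ k hWn hWV hW4 hA hAW hK'J hkK' hkW hk3 hkC hkN hAN hCN hNJ h2
    have hK'Y : K' ≤ Y := by
      rw [← hK'J]
      exact (Subgroup.commutator_mono le_rfl hJY).trans (Subgroup.commutator_le_right K' Y)
    have hkY : k ∈ Y := hK'Y hkK'
    rw [hY] at hkY
    have hcov := jover_cover V₁ hV₁ hsep hOp₁ T.2 hV₁T W hWV hW4 hA hAW hkY hkW hk3 hkC
    rw [← hY] at hcov
    have hRN : Subgroup.closure {r : X | r ∈ Y ∧ r ∈ centralizer (W : Set X) ∧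
        ∃ n : ℕ, r ^ 2 ^ n = 1} ≤ N₀ := by
      rw [Subgroup.closure_le]
      rintro r ⟨hrY, hrW, hr2⟩
      apply h2 r hrW hr2
      intro c hc
      exact hYD hrY c hc
    have hYN : Y ≤ N₀ := by
      intro y hy
      obtain ⟨i, a, ha, r, hr, c, hc, rfl⟩ := hcov y hy
      exact N₀.mul_mem (N₀.mul_mem (N₀.mul_mem (N₀.pow_mem hkN i) (hAN ha)) (hRN hr)) (hCN hc)
    rw [eq_top_iff, ← hfr]
    exact sup_le hYN hNJ

end JOver7

end Cfsg.Agent.Lib.Helper52
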