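import Mathlib
import Cfsg.Agent.Lib.Helper52.JOver5
import Cfsg.Agent.Lib.Helper52.JOver7

/-!
# The data attached to `L ∈ 𝓛(T)`, second version (with the covering of `L`)
-/

set_option autoImplicit false
set_option linter.unusedSectionVars false
set_option linter.unusedVariables false
set_option linter.style.haveILetI false

namespace Cfsg.Agent.Lib.Helper52

open Cfsg Subgroup
open scoped commutatorElement
open Cfsg.Agent.Lib.Helper15 (maxElemIn)

variable {G : Type*} [Group G]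

/-- transport of `𝒜(T)` to a subgroup `L ≥ T` -/
theorem subgroupOf_mem_maxElemIn {p : ℕ} {L T A : Subgroup G} (hTL : T ≤ L)
    (hA : A ∈ maxElemIn p T) : A.subgroupOf L ∈ maxElemIn p (T.subgroupOf L) := by
  refine ⟨fun x hx => Subgroup.mem_subgroupOf.mpr (hA.1 (Subgroup.mem_subgroupOf.mp hx)),
    Cfsg.Agent.Lib.Helper15.isElementaryAbelian_subgroupOf L hA.2.1, ?_⟩
  intro B' hB'T hB'
  have h1 : Nat.card B' = Nat.card (B'.map L.subtype) :=
    (Subgroup.card_map_of_injective L.subtype_injective).symm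
  have h2 : B'.map L.subtype ≤ T := by
    rintro _ ⟨b, hb, rfl⟩
    exact Subgroup.mem_subgroupOf.mp (hB'T hb)
  have h3 := hA.2.2 _ h2 (Cfsg.Agent.Lib.Helper15.isElementaryAbelian_map L.subtype hB')
  rw [h1, Cfsg.Agent.Lib.Helper15.card_subgroupOf_of_le (hA.1.trans hTL)]
  exact h3

/-- the data attached to `L ∈ 𝓛(T)`, with the covering -/
structure LData2 (L T P V₁ C₁ M Z : Subgroup G) : Prop where
  d : LData L T P V₁ C₁ M Z
  hodd : Odd (T.relIndex L)
  hT2 : IsPGroup 2 ↥T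
  hMain : ∀ (W A K' N₀ : Subgroup G) (k : G), W ≤ V₁ → L ≤ normalizer (W : Set G) →
    Nat.card W = 4 → A ∈ maxElemIn 2 T → ¬ A ≤ centralizer (W : Set G) → K' ≤ L →
    ⁅K', thompsonSubgroupOf 2 T⁆ = K' → k ∈ K' → (∀ v ∈ V₁, v * k * v⁻¹ * k⁻¹ ∈ W) →
    k ^ 3 ∈ C₁ → k ∉ C₁ → k ∈ N₀ → A ≤ N₀ → C₁ ≤ N₀ →
    L ⊓ normalizer (thompsonSubgroupOf 2 T : Set G) ≤ N₀ →
    (∀ r ∈ L, r ∈ centralizer (W : Set G) → (∃ n : ℕ, r ^ 2 ^ n = 1) →
      (∀ c ∈ C₁, r * c * r⁻¹ * c⁻¹ ∈ P) → r ∈ N₀) → L ≤ N₀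

theorem exists_ldata2 [Finite G]
    (hN : ∀ N : Subgroup G, Cfsg.IsTwoLocal N → Group.IsSolvable ↥N)
    (hZ : ∀ S : Sylow 2 G, Subgroup.centralizer (Cfsg.omegaCenterOf (S : Subgroup G) : Set G) ≤
      Subgroup.normalizer ((S : Subgroup G) : Set G))
    {T : Subgroup G} (hT1 : T ≠ ⊥) {L : Subgroup G} (hLT : L ∈ Cfsg.jOvergroups T) :
    ∃ (S : Sylow 2 G) (V₁ C₁ M : Subgroup G), T ≤ S ∧
      LData2 L T (pCoreOf 2 L) V₁ C₁ M (omegaCenterOf (S : Subgroup G)) := by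
  classical
  have : Fact (Nat.Prime 2) := ⟨Nat.prime_two⟩
  obtain ⟨⟨hTL, hT2, hoddidx⟩, hJP, hCP⟩ := hLT
  obtain ⟨P, hP⟩ : ∃ P, P = Cfsg.pCoreOf 2 L := ⟨_, rfl⟩
  rw [← hP] at hJP hCP ⊢
  have hP1 : P ≠ ⊥ := by
    intro h
    rw [h] at hCP
    apply hT1
    rw [eq_bot_iff]
    intro t _
    have : t ∈ Subgroup.centralizer ((⊥ : Subgroup G) : Set G) := by
      rw [Subgroup.mem_centralizer_iff]
      intro x hx
      rw [Subgroup.coe_bot, Set.mem_singleton_iff] at hx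
      rw [hx]; simp
    exact hCP this
  have hP2 : IsPGroup 2 ↥P := hP ▸ Cfsg.Agent.Lib.Helper54.isPGroup_pCoreOf 2 L
  have hPL : P ≤ L := hP ▸ Cfsg.Agent.Lib.Helper54.pCoreOf_le 2 L
  have hLP : L ≤ Subgroup.normalizer (P : Set G) :=
    hP ▸ Cfsg.Agent.Lib.Helper54.le_normalizer_pCoreOf 2 L
  have hsolN : Group.IsSolvable ↥(Subgroup.normalizer (P : Set G)) := hN _ ⟨P, hP2, hP1, rfl⟩
  have hsolL : Group.IsSolvable ↥L :=
    Group.isSolvable_of_isSolvable_injective (Subgroup.inclusion_injective hLP)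
  obtain ⟨S, hTS⟩ := hT2.exists_le_sylow
  obtain ⟨Z, hZdef⟩ : ∃ Z, Z = Cfsg.omegaCenterOf (S : Subgroup G) := ⟨_, rfl⟩
  have hPT : P ≤ T := by
    rw [hP]
    exact Cfsg.Agent.Lib.Helper52.pCoreOf_le_of_coprime_relIndex L T
      (Nat.coprime_two_right.mpr hoddidx)
  have hZS : Z ≤ Subgroup.centralizer ((S : Subgroup G) : Set G) :=
    hZdef ▸ Cfsg.Agent.Lib.Helper52.JComp.omegaCenterOf_le_centralizer _
  have hT2' : IsPGroup 2 ↥(T.subgroupOf L) := hT2.comap_subtype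
  have hidx : ¬ 2 ∣ (T.subgroupOf L).index := by
    intro h
    have h1 : Even (T.relIndex L) := even_iff_two_dvd.mpr h
    exact (Nat.not_even_iff_odd.mpr hoddidx) h1
  obtain ⟨T', hT'⟩ : ∃ T' : Sylow 2 ↥L, (T' : Subgroup ↥L) = T.subgroupOf L :=
    ⟨hT2'.toSylow hidx, rfl⟩
  have hST' : S.1.subgroupOf L = (T' : Subgroup ↥L) := by
    apply T'.is_maximal' (S.2.comap_subtype)
    rw [hT']
    intro x hx
    exact Subgroup.mem_subgroupOf.mpr (hTS (Subgroup.mem_subgroupOf.mp hx))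
  have hSLT : ∀ y ∈ L, y ∈ (S : Subgroup G) → y ∈ T := by
    intro y hyL hyS
    have h1 : (⟨y, hyL⟩ : ↥L) ∈ S.1.subgroupOf L := Subgroup.mem_subgroupOf.mpr hyS
    rw [hST', hT'] at h1
    exact Subgroup.mem_subgroupOf.mp h1
  have hZ'T : Z.subgroupOf L ≤ Subgroup.centralizer ((T' : Subgroup ↥L) : Set ↥L) := by
    intro z hz
    rw [Subgroup.mem_centralizer_iff]
    intro t ht
    rw [SetLike.mem_coe, hT', Subgroup.mem_subgroupOf] at ht
    apply Subtype.ext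
    exact Subgroup.mem_centralizer_iff.mp (hZS (Subgroup.mem_subgroupOf.mp hz)) _ (hTS ht)
  have hZP : Z ≤ P := by
    refine le_trans ?_ hCP
    refine hZS.trans (Subgroup.centralizer_le ?_)
    intro x hx
    exact hTS (hPT hx)
  have hZL : Z ≤ L := hZP.trans hPL
  have hZNG : L ⊓ centralizer (Z : Set G) ≤ normalizer (T : Set G) := by
    apply le_normalizer_of_conj_mem
    intro c hc t ht
    obtain ⟨hcL, hcZ⟩ := Subgroup.mem_inf.mp hc
    rw [hZdef] at hcZ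
    have hcS := hZ S hcZ
    apply hSLT _ (L.mul_mem (L.mul_mem hcL (hTL ht)) (L.inv_mem hcL))
    exact (Subgroup.mem_normalizer_iff.mp hcS t).mp (hTS ht)
  have hZN' : Subgroup.centralizer ((Z.subgroupOf L : Subgroup ↥L) : Set ↥L) ≤
      Subgroup.normalizer ((T' : Subgroup ↥L) : Set ↥L) := by
    intro c hc
    have hcZ : (c : G) ∈ Subgroup.centralizer (Z : Set G) := by
      rw [Subgroup.mem_centralizer_iff]
      intro z hz
      have h1 := Subgroup.mem_centralizer_iff.mp hc ⟨z, hZL hz⟩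
        (Subgroup.mem_subgroupOf.mpr hz)
      exact congrArg Subtype.val h1
    rw [hZdef] at hcZ
    have hcS := hZ S hcZ
    rw [← hST', Subgroup.mem_normalizer_iff]
    intro x
    rw [Subgroup.mem_subgroupOf, Subgroup.mem_subgroupOf]
    exact Subgroup.mem_normalizer_iff.mp hcS x
  have hchar' : Subgroup.centralizer (Cfsg.pCore 2 ↥L : Set ↥L) ≤ Cfsg.pCore 2 ↥L := by
    apply Cfsg.Agent.Lib.Helper55.centralizer_pCore_le_of_pCoreOf
    rw [← hP]
    exact inf_le_right.trans hCP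
  have hJ' : (Cfsg.thompsonSubgroupOf 2 (T' : Subgroup ↥L)).map L.subtype =
      Cfsg.thompsonSubgroupOf 2 T := by
    rw [hT', Cfsg.Agent.Lib.Helper15.thompsonSubgroupOf_map_of_disjoint 2 L.subtype
      (T.subgroupOf L) (by rw [Subgroup.ker_subtype, inf_bot_eq]),
      Subgroup.map_subgroupOf_eq_of_le hTL]
  obtain ⟨V₁', M', hV₁n', hMn', hV₁', hZV', hV₁P', hV₁cP', hCM', hMM', hCT', hK', hMain'⟩ :=
    jover_data2 hchar' T' (Z.subgroupOf L) hZ'T hZN'
  -- the centralizer correspondence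
  have hcent : ∀ c : ↥L, c ∈ centralizer (V₁' : Set ↥L) ↔
      (c : G) ∈ centralizer ((V₁'.map L.subtype : Subgroup G) : Set G) := by
    intro c
    constructor
    · intro hc
      rw [Subgroup.mem_centralizer_iff]
      rintro _ ⟨v, hv, rfl⟩
      exact congrArg Subtype.val (Subgroup.mem_centralizer_iff.mp hc v hv)
    · intro hc
      rw [Subgroup.mem_centralizer_iff]
      intro v hv
      apply Subtype.ext
      exact Subgroup.mem_centralizer_iff.mp hc v.1 ⟨v, hv, rfl⟩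
  have hPmem : ∀ q : ↥L, q ∈ Cfsg.pCore 2 ↥L ↔ (q : G) ∈ P := by
    intro q
    rw [hP]
    constructor
    · intro hq
      exact Subgroup.mem_map_of_mem L.subtype hq
    · rintro ⟨q', hq', hqq⟩
      have : q' = q := Subtype.ext hqq
      rwa [← this]
  refine ⟨S, V₁'.map L.subtype, L ⊓ centralizer ((V₁'.map L.subtype : Subgroup G) : Set G),
    M'.map L.subtype, hTS, ?_⟩
  rw [← hZdef]
  refine ⟨?_, hoddidx, hT2, ?_⟩
  · refine ⟨hPL, hPT, hTL, hLP, ?_, ?_, ?_, ?_, rfl, ?_, ?_, ?_, ?_, ?_, ?_, ?_, hZNG⟩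
    · -- `V₁ ≤ P`
      rintro _ ⟨v, hv, rfl⟩
      exact (hPmem v).mp (hV₁P' hv)
    · -- `L` normalizes `V₁`
      apply le_normalizer_of_conj_mem
      rintro l hl _ ⟨v, hv, rfl⟩
      exact ⟨⟨l, hl⟩ * v * ⟨l, hl⟩⁻¹, hV₁n'.conj_mem v hv ⟨l, hl⟩, rfl⟩
    · exact Cfsg.Agent.Lib.Helper15.isElementaryAbelian_map L.subtype hV₁'
    · -- `V₁` centralizes `P`
      rintro _ ⟨v, hv, rfl⟩
      rw [Subgroup.mem_centralizer_iff]
      intro q hq
      have hq' : (⟨q, hPL hq⟩ : ↥L) ∈ Cfsg.pCore 2 ↥L := (hPmem _).mpr hq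
      exact congrArg Subtype.val (Subgroup.mem_centralizer_iff.mp (hV₁cP' hv) _ hq')
    · -- `C₁ ≤ M`
      intro c hc
      obtain ⟨hcL, hcC⟩ := Subgroup.mem_inf.mp hc
      exact ⟨⟨c, hcL⟩, hCM' ((hcent ⟨c, hcL⟩).mpr hcC), rfl⟩
    · exact Subgroup.map_subtype_le M'
    · -- `L` normalizes `M`
      apply le_normalizer_of_conj_mem
      rintro l hl _ ⟨m, hm, rfl⟩
      exact ⟨⟨l, hl⟩ * m * ⟨l, hl⟩⁻¹, hMn'.conj_mem m hm ⟨l, hl⟩, rfl⟩
    · -- `M / C₁` abelian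
      rintro _ ⟨m, hm, rfl⟩ _ ⟨m', hm', rfl⟩
      have h1 : ⁅m, m'⁆ ∈ centralizer (V₁' : Set ↥L) :=
        hMM' (Subgroup.commutator_mem_commutator hm hm')
      rw [commutatorElement_def] at h1
      refine Subgroup.mem_inf.mpr ⟨(m * m' * m⁻¹ * m'⁻¹).2, ?_⟩
      exact (hcent _).mp h1
    · -- the subgroups `K`
      intro K hKL hKodd hKJ
      have hodd' := closure_odd_subgroupOf hKL hKodd
      have hKJ' : ⁅K.subgroupOf L, Cfsg.thompsonSubgroupOf 2 (T' : Subgroup ↥L)⁆ =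
          K.subgroupOf L := by
        apply Subgroup.map_injective L.subtype_injective
        rw [Subgroup.map_commutator, hJ', Subgroup.map_subgroupOf_eq_of_le hKL, hKJ]
      obtain ⟨h1, h2⟩ := hK' (K.subgroupOf L) hodd' hKJ'
      refine ⟨?_, ?_⟩
      · intro k hk
        exact ⟨⟨k, hKL hk⟩, h1 (Subgroup.mem_subgroupOf.mpr hk), rfl⟩
      · intro k hk c hc
        obtain ⟨hcL, hcC⟩ := Subgroup.mem_inf.mp hc
        have := h2 ⟨k, hKL hk⟩ (Subgroup.mem_subgroupOf.mpr hk) ⟨c, hcL⟩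
          ((hcent ⟨c, hcL⟩).mpr hcC)
        exact (hPmem _).mp this
    · -- `Z ≤ V₁`
      intro z hz
      have hz2 : z ^ 2 = 1 := by
        rw [hZdef] at hz
        exact (JComp.mem_omegaCenterOf_iff.mp hz).2.2
      refine ⟨⟨z, hZL hz⟩, hZV' _ (Subgroup.mem_subgroupOf.mpr hz) ?_, rfl⟩
      apply Subtype.ext
      simpa using hz2
    · -- `C₁` normalizes `T`
      apply le_normalizer_of_conj_mem
      intro c hc t ht
      obtain ⟨hcL, hcC⟩ := Subgroup.mem_inf.mp hc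
      have h1 := hCT' ((hcent ⟨c, hcL⟩).mpr hcC)
      have h2 : (⟨t, hTL ht⟩ : ↥L) ∈ (T' : Subgroup ↥L) := by
        rw [hT']; exact Subgroup.mem_subgroupOf.mpr ht
      have h3 := (Subgroup.mem_normalizer_iff.mp h1 _).mp h2
      rw [hT'] at h3
      exact Subgroup.mem_subgroupOf.mp h3

  · -- the covering
    intro W A K' N₀ k hWV hLW hW4 hA hAW hK'L hK'J hkK' hkW hk3 hkC hkN hAN hCN hNJ h2
    have hV₁L : V₁'.map L.subtype ≤ L := Subgroup.map_subtype_le V₁'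
    have hWL : W ≤ L := hWV.trans hV₁L
    have hAT : A ≤ T := hA.1
    have hAL : A ≤ L := hAT.trans hTL
    haveI hWn : (W.subgroupOf L).Normal := Subgroup.normal_subgroupOf_of_le_normalizer hLW
    have hmemV : ∀ v : ↥L, v ∈ V₁' ↔ (v : G) ∈ V₁'.map L.subtype := by
      intro v
      constructor
      · intro hv; exact ⟨v, hv, rfl⟩
      · rintro ⟨v', hv', hvv⟩
        have : v' = v := Subtype.ext hvv
        rwa [← this]
    have hkL : k ∈ L := hK'L hkK'
    have hKJ'' : ⁅K'.subgroupOf L, Cfsg.thompsonSubgroupOf 2 (T' : Subgroup ↥L)⁆ =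
        K'.subgroupOf L := by
      apply Subgroup.map_injective L.subtype_injective
      rw [Subgroup.map_commutator, hJ', Subgroup.map_subgroupOf_eq_of_le hK'L, hK'J]
    have htop := hMain' (W.subgroupOf L) (A.subgroupOf L) (K'.subgroupOf L) (N₀.subgroupOf L)
      ⟨k, hkL⟩ hWn ?_ ?_ ?_ ?_ hKJ'' ?_ ?_ ?_ ?_ ?_ ?_ ?_ ?_ ?_
    · intro l hl
      have : (⟨l, hl⟩ : ↥L) ∈ N₀.subgroupOf L := by rw [htop]; exact Subgroup.mem_top _
      exact Subgroup.mem_subgroupOf.mp this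
    · -- `W' ≤ V₁'`
      intro w hw
      exact (hmemV w).mpr (hWV (Subgroup.mem_subgroupOf.mp hw))
    · rw [Cfsg.Agent.Lib.Helper15.card_subgroupOf_of_le hWL, hW4]
    · rw [hT']
      exact subgroupOf_mem_maxElemIn hTL hA
    · intro hle
      apply hAW
      intro a ha
      rw [Subgroup.mem_centralizer_iff]
      intro w hw
      have h1 : (⟨a, hAL ha⟩ : ↥L) ∈ A.subgroupOf L := Subgroup.mem_subgroupOf.mpr ha
      have h3 := Subgroup.mem_centralizer_iff.mp (hle h1) ⟨w, hWL hw⟩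
        (Subgroup.mem_subgroupOf.mpr hw)
      exact congrArg Subtype.val h3
    · exact Subgroup.mem_subgroupOf.mpr hkK'
    · intro v hv
      rw [Subgroup.mem_subgroupOf]
      exact hkW v.1 ((hmemV v).mp hv)
    · rw [hcent]
      have : (((⟨k, hkL⟩ : ↥L) ^ 3 : ↥L) : G) = k ^ 3 := by simp
      rw [this]
      exact (Subgroup.mem_inf.mp hk3).2
    · intro hc
      apply hkC
      exact Subgroup.mem_inf.mpr ⟨hkL, (hcent _).mp hc⟩
    · exact Subgroup.mem_subgroupOf.mpr hkN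
    · intro a ha
      exact Subgroup.mem_subgroupOf.mpr (hAN (Subgroup.mem_subgroupOf.mp ha))
    · intro c hc
      exact Subgroup.mem_subgroupOf.mpr (hCN (Subgroup.mem_inf.mpr ⟨c.2, (hcent c).mp hc⟩))
    · -- the normalizer of `J`
      have hle : (normalizer (Cfsg.thompsonSubgroupOf 2 (T' : Subgroup ↥L) : Set ↥L)).map
          L.subtype ≤ normalizer (Cfsg.thompsonSubgroupOf 2 T : Set G) := by
        apply le_normalizer_of_conj_mem
        rintro _ ⟨n, hn, rfl⟩ j hj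
        rw [← hJ'] at hj ⊢
        obtain ⟨j', hj', rfl⟩ := hj
        exact ⟨n * j' * n⁻¹, (Subgroup.mem_normalizer_iff.mp hn j').mp hj', rfl⟩
      intro n hn
      exact Subgroup.mem_subgroupOf.mpr
        (hNJ (Subgroup.mem_inf.mpr ⟨n.2, hle ⟨n, hn, rfl⟩⟩))
    · intro r hrW hr2 hrC
      rw [Subgroup.mem_subgroupOf]
      apply h2 r.1 r.2
      · rw [Subgroup.mem_centralizer_iff]
        intro w hw
        have := Subgroup.mem_centralizer_iff.mp hrW ⟨w, hWL hw⟩ (Subgroup.mem_subgroupOf.mpr hw)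
        exact congrArg Subtype.val this
      · obtain ⟨n, hn⟩ := hr2
        refine ⟨n, ?_⟩
        have := congrArg Subtype.val hn
        simpa using this
      · intro c hc
        obtain ⟨hcL, hcC⟩ := Subgroup.mem_inf.mp hc
        have := hrC ⟨c, hcL⟩ ((hcent ⟨c, hcL⟩).mpr hcC)
        exact (hPmem _).mp this

end Cfsg.Agent.Lib.Helper52
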