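import Mathlib
import Cfsg.Agent.Lib.Helper52.JOver6
import Cfsg.Agent.Lib.Helper52.JOver8

/-!
# `N_G(W_K) ≤ N_G(K)` for a `J(T)`-component `K` of `L = N_G(W_K) ∈ 𝓛(T)`
-/

set_option autoImplicit false
set_option linter.unusedSectionVars false
set_option linter.unusedVariables false
set_option linter.style.haveILetI false

namespace Cfsg.Agent.Lib.Helper52

open Cfsg Subgroup JComp
open scoped commutatorElement
open Cfsg.Agent.Lib.Helper15 (maxElemIn)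

variable {G : Type*} [Group G]

/-- in a finite group, `g K g⁻¹ ≤ K` forces `g ∈ N(K)` -/
theorem mem_normalizer_of_forall_conj_mem [Finite G] {K : Subgroup G} {g : G}
    (h : ∀ k ∈ K, g * k * g⁻¹ ∈ K) : g ∈ normalizer (K : Set G) := by
  apply Cfsg.Agent.Lib.Helper15.mem_normalizer_of_map_conj_eq
  apply Subgroup.eq_of_le_of_card_ge
  · rintro _ ⟨k, hk, rfl⟩
    simp only [MulEquiv.coe_toMonoidHom, MulAut.conj_apply]
    exact h k hk
  · rw [Subgroup.card_map_of_injective (MulAut.conj g).injective]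

/-- a `2`-element normalizing a Sylow `2`-subgroup `T` of `L` lies in `T` -/
theorem mem_of_two_elt_normalizer [Finite G] {T L : Subgroup G} (hTL : T ≤ L)
    (hT2 : IsPGroup 2 ↥T) (hodd : Odd (T.relIndex L)) {c : G} (hcL : c ∈ L)
    (hcN : c ∈ normalizer (T : Set G)) (hc2 : ∃ n : ℕ, c ^ 2 ^ n = 1) : c ∈ T := by
  haveI : Fact (Nat.Prime 2) := ⟨Nat.prime_two⟩
  obtain ⟨n, hn⟩ := hc2
  have hz2 : IsPGroup 2 ↥(zpowers c) := by
    have hdvd : orderOf c ∣ 2 ^ n := orderOf_dvd_of_pow_eq_one hn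
    obtain ⟨j, -, hj⟩ := (Nat.dvd_prime_pow Nat.prime_two).mp hdvd
    apply IsPGroup.of_card (n := j)
    rw [Nat.card_zpowers, hj]
  have hzN : zpowers c ≤ normalizer (T : Set G) := Subgroup.zpowers_le.mpr hcN
  have hT'2 : IsPGroup 2 ↥(zpowers c ⊔ T) := IsPGroup.to_sup_of_normal_right' hz2 hT2 hzN
  have hTT' : T ≤ zpowers c ⊔ T := le_sup_right
  have hT'L : zpowers c ⊔ T ≤ L := sup_le (Subgroup.zpowers_le.mpr hcL) hTL
  have hmul := Subgroup.relIndex_mul_relIndex T (zpowers c ⊔ T) L hTT' hT'L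
  have hodd' : Odd (T.relIndex (zpowers c ⊔ T)) := by
    rw [← hmul] at hodd
    exact (Nat.odd_mul.mp hodd).1
  obtain ⟨j, hj⟩ := hT'2.index (T.subgroupOf (zpowers c ⊔ T))
  have hrel : T.relIndex (zpowers c ⊔ T) = 2 ^ j := hj
  have hj0 : j = 0 := by
    by_contra hne
    rw [hrel] at hodd'
    have : Even (2 ^ j) := (Nat.even_pow' hne).mpr even_two
    exact (Nat.not_even_iff_odd.mpr hodd') this
  rw [hj0, pow_zero] at hrel
  have hle := Subgroup.relIndex_eq_one.mp hrel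
  exact hle (le_sup_left (a := zpowers c) (b := T) (mem_zpowers c))

namespace LK

variable {L T P V₁ C₁ M Z K S : Subgroup G}

/-- the key step, for elements of `L` centralizing `W` -/
theorem key' [Finite G] (h : LK L T P V₁ C₁ M Z K S) {t : G} (htL : t ∈ L)
    (htW : ∀ w ∈ wOf K, t * w = w * t) {x : G} (hx : x ∈ K) :
    t * x * t⁻¹ * x⁻¹ ∈ C₁ := by
  have hxL : x ∈ L := h.hKL hx
  by_cases hxQ : x ∈ pCoreOf 2 K
  · have hxP : x ∈ P := h.Q_le_P hxQ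
    exact C₁.mul_mem (h.P_le_C₁ (h.conj_mem_P htL hxP)) (C₁.inv_mem (h.P_le_C₁ hxP))
  obtain ⟨y, hy⟩ : ∃ y, y = t * x * t⁻¹ * x⁻¹ := ⟨_, rfl⟩
  rw [← hy]
  have hxM : x ∈ M := h.K_le_M hx
  have hx'M : t * x * t⁻¹ ∈ M := h.conj_mem_M htL hxM
  have hyM : y ∈ M := hy ▸ M.mul_mem hx'M (M.inv_mem hxM)
  have hyL : y ∈ L := h.d.hML hyM
  have hxN : x ∈ normalizer ((wOf K : Subgroup G) : Set G) := h.c.K_le_normalizer_W hx
  have htW' : ∀ w ∈ wOf K, t⁻¹ * w = w * t⁻¹ := by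
    intro w hw
    calc t⁻¹ * w = t⁻¹ * (w * t) * t⁻¹ := by group
      _ = t⁻¹ * (t * w) * t⁻¹ := by rw [htW w hw]
      _ = w * t⁻¹ := by group
  have hyW : ∀ w ∈ wOf K, y * w = w * y := by
    intro w hw
    have hw'' : x⁻¹ * w * x ∈ wOf K := conj_inv_mem_of_mem_normalizer hxN hw
    have e1 : t⁻¹ * (x⁻¹ * w * x) = (x⁻¹ * w * x) * t⁻¹ := htW' _ hw''
    have e2 : t * w = w * t := htW w hw
    rw [hy]
    calc t * x * t⁻¹ * x⁻¹ * w = t * x * (t⁻¹ * (x⁻¹ * w * x)) * x⁻¹ := by group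
      _ = t * x * ((x⁻¹ * w * x) * t⁻¹) * x⁻¹ := by rw [e1]
      _ = (t * w) * x * t⁻¹ * x⁻¹ := by group
      _ = (w * t) * x * t⁻¹ * x⁻¹ := by rw [e2]
      _ = w * (t * x * t⁻¹ * x⁻¹) := by group
  have hyV : ∀ v ∈ V₁, y * v * y⁻¹ * v⁻¹ ∈ wOf K := by
    intro v hv
    have hw₁ : x⁻¹ * v * x⁻¹⁻¹ * v⁻¹ ∈ wOf K := h.comm_mem_W (K.inv_mem hx) hv
    have hv' : t⁻¹ * v * t⁻¹⁻¹ ∈ V₁ := h.conj_mem_V₁ (L.inv_mem htL) hv
    have hw₂ : x * (t⁻¹ * v * t⁻¹⁻¹) * x⁻¹ * (t⁻¹ * v * t⁻¹⁻¹)⁻¹ ∈ wOf K := h.comm_mem_W hx hv'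
    have hw₂' : t * (x * (t⁻¹ * v * t⁻¹⁻¹) * x⁻¹ * (t⁻¹ * v * t⁻¹⁻¹)⁻¹) * t⁻¹ ∈ wOf K := by
      have e : t * (x * (t⁻¹ * v * t⁻¹⁻¹) * x⁻¹ * (t⁻¹ * v * t⁻¹⁻¹)⁻¹) * t⁻¹ =
          x * (t⁻¹ * v * t⁻¹⁻¹) * x⁻¹ * (t⁻¹ * v * t⁻¹⁻¹)⁻¹ := by
        rw [htW _ hw₂]; group
      rw [e]; exact hw₂
    have hw₁' : (t * x * t⁻¹) * (x⁻¹ * v * x⁻¹⁻¹ * v⁻¹) * (t * x * t⁻¹)⁻¹ ∈ wOf K :=
      conj_mem_of_mem_normalizer (h.M_le_normalizer_W hx'M) hw₁
    have e : y * v * y⁻¹ * v⁻¹ =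
        ((t * x * t⁻¹) * (x⁻¹ * v * x⁻¹⁻¹ * v⁻¹) * (t * x * t⁻¹)⁻¹) *
        (t * (x * (t⁻¹ * v * t⁻¹⁻¹) * x⁻¹ * (t⁻¹ * v * t⁻¹⁻¹)⁻¹) * t⁻¹) := by
      rw [hy]; group
    rw [e]
    exact (wOf K).mul_mem hw₁' hw₂'
  rw [h.mem_C₁_iff]
  refine ⟨hyL, ?_⟩
  intro v hv
  obtain ⟨d, hd⟩ : ∃ d, d = y * v * y⁻¹ * v⁻¹ := ⟨_, rfl⟩
  have hdW : d ∈ wOf K := hd ▸ hyV v hv
  have hyv : y * v * y⁻¹ = d * v := by rw [hd]; group
  obtain ⟨w₁, hw₁⟩ : ∃ w₁, w₁ = x * v * x⁻¹ * v⁻¹ := ⟨_, rfl⟩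
  have hw₁W : w₁ ∈ wOf K := hw₁ ▸ h.comm_mem_W hx hv
  have hxv : x * v * x⁻¹ = w₁ * v := by rw [hw₁]; group
  have hcomm := h.M_act_comm hxM hyM hv
  have hL : (x * y) * v * (x * y)⁻¹ = (x * d * x⁻¹) * w₁ * v := by
    calc (x * y) * v * (x * y)⁻¹ = x * (y * v * y⁻¹) * x⁻¹ := by group
      _ = x * (d * v) * x⁻¹ := by rw [hyv]
      _ = (x * d * x⁻¹) * (x * v * x⁻¹) := by group
      _ = (x * d * x⁻¹) * w₁ * v := by rw [hxv]; group
  have hR : (y * x) * v * (y * x)⁻¹ = w₁ * d * v := by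
    calc (y * x) * v * (y * x)⁻¹ = y * (x * v * x⁻¹) * y⁻¹ := by group
      _ = y * (w₁ * v) * y⁻¹ := by rw [hxv]
      _ = (y * w₁) * y⁻¹ * (y * v * y⁻¹) := by group
      _ = (w₁ * y) * y⁻¹ * (d * v) := by rw [hyW w₁ hw₁W, hyv]
      _ = w₁ * d * v := by group
  rw [hL, hR] at hcomm
  have hxd : x * d * x⁻¹ ∈ wOf K := conj_mem_of_mem_normalizer hxN hdW
  have h3 : x * d * x⁻¹ * w₁ = w₁ * d := mul_right_cancel hcomm
  have h4 : x * d * x⁻¹ = d := by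
    have e1 : w₁ * d = d * w₁ := fg_comm h.c.exp hw₁W hdW
    rw [e1] at h3
    exact mul_right_cancel h3
  have hd1 : d = 1 := by
    apply h.c.K_fpf hx hxQ d hdW
    calc x * d = (x * d * x⁻¹) * x := by group
      _ = d * x := by rw [h4]
  rw [hd1, one_mul] at hyv
  calc y * v = (y * v * y⁻¹) * y := by group
    _ = v * y := by rw [hyv]

/-- an element mapping `K` into `K O₂(L)` maps `K` into `K` -/
theorem conj_mem_K_of_KP (h : LK L T P V₁ C₁ M Z K S) {g : G}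
    (hg : ∀ k ∈ K, g * k * g⁻¹ ∈ K ⊔ P) : ∀ k ∈ K, g * k * g⁻¹ ∈ K := by
  haveI : Fact (Nat.Prime 2) := ⟨Nat.prime_two⟩
  have hK : K ≤ K.comap (MulAut.conj g).toMonoidHom := by
    conv_lhs => rw [← h.c.odd]
    rw [Subgroup.closure_le]
    rintro x ⟨hxK, hxo⟩
    rw [SetLike.mem_coe, Subgroup.mem_comap]
    have h1 : (MulAut.conj g).toMonoidHom x ∈ K ⊔ P := by
      simp only [MulEquiv.coe_toMonoidHom, MulAut.conj_apply]
      exact hg x hxK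
    apply Cfsg.Agent.S2941.mem_of_coprime_of_mem_sup K P h.P_isPGroup h.hPK _ h1
    have : orderOf ((MulAut.conj g).toMonoidHom x) = orderOf x :=
      orderOf_injective _ (MulAut.conj g).injective x
    rw [this]
    exact Nat.coprime_two_right.mpr hxo
  intro k hk
  have := hK hk
  rw [Subgroup.mem_comap] at this
  simpa only [MulEquiv.coe_toMonoidHom, MulAut.conj_apply] using this

/-- `C₁ ≤ N(K)` -/
theorem C₁_le_normalizer_K (h : LK L T P V₁ C₁ M Z K S) : C₁ ≤ normalizer (K : Set G) := by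
  apply le_normalizer_of_conj_mem
  intro c hc
  apply h.conj_mem_K_of_KP
  intro k hk
  have e : c * k * c⁻¹ = (c * k * c⁻¹ * k⁻¹) * k := by group
  rw [e]
  exact (K ⊔ P).mul_mem ((le_sup_right : P ≤ K ⊔ P) (h.comm_mem_P' hk hc))
    ((le_sup_left : K ≤ K ⊔ P) hk)

/-- an element of `N_L(J)` centralizing `W` normalizes `K` -/
theorem conj_mem_K' [Finite G] (h : LK L T P V₁ C₁ M Z K S) {t : G} (htL : t ∈ L)
    (htNJ : t ∈ normalizer (thompsonSubgroupOf 2 T : Set G))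
    (htW : ∀ w ∈ wOf K, t * w = w * t) : ∀ k ∈ K, t * k * t⁻¹ ∈ K := by
  apply h.conj_mem_K_of_KP
  have hKP : K ≤ (K ⊔ P).comap (MulAut.conj t).toMonoidHom := by
    conv_lhs => rw [← h.c.comm]
    rw [Subgroup.commutator_le]
    intro k hk j hj
    rw [Subgroup.mem_comap]
    simp only [MulEquiv.coe_toMonoidHom, MulAut.conj_apply]
    obtain ⟨y, hy⟩ : ∃ y, y = t * k * t⁻¹ * k⁻¹ := ⟨_, rfl⟩
    have hyC : y ∈ C₁ := hy ▸ h.key' htL htW hk
    obtain ⟨j', hj'⟩ : ∃ j', j' = t * j * t⁻¹ := ⟨_, rfl⟩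
    have hj'J : j' ∈ thompsonSubgroupOf 2 T := hj' ▸ conj_mem_of_mem_normalizer htNJ hj
    obtain ⟨k₂, hk₂⟩ : ∃ k₂, k₂ = k * j' * k⁻¹ * j'⁻¹ := ⟨_, rfl⟩
    have hk₂K : k₂ ∈ K := by
      have : ⁅k, j'⁆ ∈ ⁅K, thompsonSubgroupOf 2 T⁆ := Subgroup.commutator_mem_commutator hk hj'J
      rw [h.c.comm, commutatorElement_def] at this
      rw [hk₂]; exact this
    have e : t * ⁅k, j⁆ * t⁻¹ = (y * k₂ * y⁻¹ * k₂⁻¹) * k₂ * (y * j' * y⁻¹ * j'⁻¹) := by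
      rw [commutatorElement_def, hy, hk₂, hj']; group
    rw [e]
    refine (K ⊔ P).mul_mem ((K ⊔ P).mul_mem ?_ ?_) ?_
    · exact (le_sup_right : P ≤ K ⊔ P) (h.comm_mem_P' hk₂K hyC)
    · exact (le_sup_left : K ≤ K ⊔ P) hk₂K
    · exact (le_sup_right : P ≤ K ⊔ P) (h.comm_C₁_J hyC hj'J)
  intro k hk
  have := hKP hk
  rw [Subgroup.mem_comap] at this
  simpa only [MulEquiv.coe_toMonoidHom, MulAut.conj_apply] using this

/-- a subgroup of `N_L(J) ∩ N(W)` containing `J` and fixing a point of `W` normalizes `K` -/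
theorem le_normalizer_K_of_fix [Finite G] (h : LK L T P V₁ C₁ M Z K S) (D : Subgroup G)
    (hDL : D ≤ L) (hDJ : D ≤ normalizer (thompsonSubgroupOf 2 T : Set G))
    (hDW : D ≤ normalizer ((wOf K : Subgroup G) : Set G)) (hJD : thompsonSubgroupOf 2 T ≤ D)
    {w : G} (hwW : w ∈ wOf K) (hw1 : w ≠ 1) (hwD : ∀ t ∈ D, t * w = w * t) :
    D ≤ normalizer (K : Set G) := by
  obtain ⟨A, hA, a, ha, hanc⟩ := h.c.exists_A
  have haJ : a ∈ thompsonSubgroupOf 2 T := h.c.le_J_of_mem hA ha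
  have haD : a ∈ D := hJD haJ
  have haN : a ∈ normalizer ((wOf K : Subgroup G) : Set G) := hDW haD
  have haK : a ∈ normalizer (K : Set G) := h.c.J_le_normalizer haJ
  have hanc' : ¬ ∀ w ∈ wOf K, a * w = w * a := by
    intro hh
    exact hanc (mem_centralizer_iff'.mpr hh)
  apply le_normalizer_of_conj_mem
  intro t ht k hk
  by_cases htc : ∀ w ∈ wOf K, t * w = w * t
  · exact h.conj_mem_K' (hDL ht) (hDJ ht) htc k hk
  · have htN : t ∈ normalizer ((wOf K : Subgroup G) : Set G) := hDW ht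
    have hta : ∀ w' ∈ wOf K, (t * a) * w' = w' * (t * a) := by
      intro w' hw'
      by_cases h1 : w' = 1
      · rw [h1]; group
      by_cases h2 : w' = w
      · rw [h2]
        calc t * a * w = t * (a * w) := by group
          _ = t * (w * a) := by rw [hwD a haD]
          _ = (t * w) * a := by group
          _ = (w * t) * a := by rw [hwD t ht]
          _ = w * (t * a) := by group
      · have e1 : a * w' * a⁻¹ = w * w' :=
          fg_swap h.c.card h.c.exp haN hwW hw1 (hwD a haD) hanc' w' hw' h1 h2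
        have hww' : w * w' ∈ wOf K := (wOf K).mul_mem hwW hw'
        have hww'1 : w * w' ≠ 1 := by
          intro e
          apply h2
          have : w' = w⁻¹ * (w * w') := by group
          rw [this, e, mul_one, fg_inv h.c.exp hwW]
        have hww'w : w * w' ≠ w := by
          intro e
          apply h1
          have : w' = w⁻¹ * (w * w') := by group
          rw [this, e]; group
        have e2 : t * (w * w') * t⁻¹ = w * (w * w') :=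
          fg_swap h.c.card h.c.exp htN hwW hw1 (hwD t ht) htc (w * w') hww' hww'1 hww'w
        have e3 : w * (w * w') = w' := by
          rw [← mul_assoc, h.c.exp w hwW, one_mul]
        calc t * a * w' = t * (a * w' * a⁻¹) * t⁻¹ * (t * a) := by group
          _ = t * (w * w') * t⁻¹ * (t * a) := by rw [e1]
          _ = w' * (t * a) := by rw [e2, e3]
    have h3 := h.conj_mem_K' (hDL (D.mul_mem ht haD)) (hDJ (D.mul_mem ht haD)) hta
      (a⁻¹ * k * a) (conj_inv_mem_of_mem_normalizer haK hk)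
    have e : t * a * (a⁻¹ * k * a) * (t * a)⁻¹ = t * k * t⁻¹ := by group
    rwa [e] at h3

/-- `N_L(J) ≤ N(K)` when `L` normalizes `W` -/
theorem NJ_le_normalizer_K [Finite G] (h : LK L T P V₁ C₁ M Z K S)
    (hLW : L ≤ normalizer ((wOf K : Subgroup G) : Set G)) :
    L ⊓ normalizer (thompsonSubgroupOf 2 T : Set G) ≤ normalizer (K : Set G) := by
  have hJT : thompsonSubgroupOf 2 T ≤ T := Cfsg.Agent.Lib.Helper15.thompsonSubgroupOf_le 2 T
  obtain ⟨w₀, hw₀W, hw₀1, hw₀J⟩ := h.c.exists_fix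
  obtain ⟨A, hA, a, ha, hanc⟩ := h.c.exists_A
  have haJ : a ∈ thompsonSubgroupOf 2 T := h.c.le_J_of_mem hA ha
  have haN : a ∈ normalizer ((wOf K : Subgroup G) : Set G) := hLW (h.d.hTL (hJT haJ))
  have hanc' : ¬ ∀ w ∈ wOf K, a * w = w * a := by
    intro hh
    exact hanc (mem_centralizer_iff'.mpr hh)
  apply h.le_normalizer_K_of_fix _ inf_le_left inf_le_right (inf_le_left.trans hLW)
    (le_inf (hJT.trans h.d.hTL) Subgroup.le_normalizer) hw₀W hw₀1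
  intro t ht
  obtain ⟨htL, htJ⟩ := Subgroup.mem_inf.mp ht
  have hw₁W : t * w₀ * t⁻¹ ∈ wOf K := conj_mem_of_mem_normalizer (hLW htL) hw₀W
  have hj : t⁻¹ * a * t ∈ thompsonSubgroupOf 2 T := conj_inv_mem_of_mem_normalizer htJ haJ
  have hfix : a * (t * w₀ * t⁻¹) = (t * w₀ * t⁻¹) * a := by
    have e1 := hw₀J _ hj
    calc a * (t * w₀ * t⁻¹) = t * ((t⁻¹ * a * t) * w₀) * t⁻¹ := by group
      _ = t * (w₀ * (t⁻¹ * a * t)) * t⁻¹ := by rw [e1]
      _ = (t * w₀ * t⁻¹) * a := by group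
  rcases fg_fix h.c.card h.c.exp haN hw₀W hw₀1 (hw₀J a haJ) hanc' _ hw₁W hfix with e | e
  · exfalso
    apply hw₀1
    have : w₀ = t⁻¹ * (t * w₀ * t⁻¹) * t := by group
    rw [this, e]; group
  · calc t * w₀ = (t * w₀ * t⁻¹) * t := by group
      _ = w₀ * t := by rw [e]

/-- a `2`-element of `C_L(W)` acting trivially on `C₁ / O₂(L)` normalizes `K` -/
theorem two_elt_mem_normalizer_K [Finite G] (h : LK L T P V₁ C₁ M Z K S)
    (hodd : Odd (T.relIndex L)) {r : G} (hrL : r ∈ L)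
    (hrW : ∀ w ∈ wOf K, r * w = w * r) (hr2 : ∃ n : ℕ, r ^ 2 ^ n = 1)
    (hrC : ∀ c ∈ C₁, r * c * r⁻¹ * c⁻¹ ∈ P) : r ∈ normalizer (K : Set G) := by
  apply mem_normalizer_of_forall_conj_mem
  apply h.conj_mem_K_of_KP
  intro x hx
  obtain ⟨n, hn⟩ := hr2
  -- `φ m = r^m x r^{-m} x⁻¹ ∈ C₁`
  have hφ : ∀ m : ℕ, r ^ m * x * (r ^ m)⁻¹ * x⁻¹ ∈ C₁ := by
    intro m
    apply h.key' (L.pow_mem hrL m) _ hx
    intro w hw
    exact (Commute.pow_left (show Commute r w from hrW w hw) m)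
  obtain ⟨c, hc⟩ : ∃ c, c = r * x * r⁻¹ * x⁻¹ := ⟨_, rfl⟩
  have hcC : c ∈ C₁ := by
    have := hφ 1
    rw [pow_one] at this
    rw [hc]; exact this
  have hψ : ∀ m : ℕ, (r ^ m * x * (r ^ m)⁻¹ * x⁻¹) * (c ^ m)⁻¹ ∈ P := by
    intro m
    induction m with
    | zero => simp
    | succ m ih =>
      have e : (r ^ (m + 1) * x * (r ^ (m + 1))⁻¹ * x⁻¹) * (c ^ (m + 1))⁻¹ =
          (r * (r ^ m * x * (r ^ m)⁻¹ * x⁻¹) * r⁻¹ * (r ^ m * x * (r ^ m)⁻¹ * x⁻¹)⁻¹) *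
          ((r ^ m * x * (r ^ m)⁻¹ * x⁻¹) * (c ^ m)⁻¹) := by
        rw [pow_succ' r m, pow_succ c m, hc]; group
      rw [e]
      exact P.mul_mem (hrC _ (hφ m)) ih
  have hcP : c ^ 2 ^ n ∈ P := by
    have := hψ (2 ^ n)
    rw [hn] at this
    have e : (1 * x * (1 : G)⁻¹ * x⁻¹) * (c ^ 2 ^ n)⁻¹ = (c ^ 2 ^ n)⁻¹ := by group
    rw [e] at this
    have := P.inv_mem this
    rwa [inv_inv] at this
  obtain ⟨j, hj⟩ := h.P_isPGroup ⟨c ^ 2 ^ n, hcP⟩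
  have hj' : (c ^ 2 ^ n) ^ 2 ^ j = 1 := by
    have := congrArg Subtype.val hj
    simpa using this
  have hc2 : ∃ n' : ℕ, c ^ 2 ^ n' = 1 := ⟨n + j, by rw [pow_add, pow_mul]; exact hj'⟩
  have hcT : c ∈ T := mem_of_two_elt_normalizer h.d.hTL h.hT2 hodd (h.C₁_le_L hcC)
    (h.d.hCT hcC) hc2
  have hcP' : c ∈ P := h.T_inf_C₁_le_P (Subgroup.mem_inf.mpr ⟨hcT, hcC⟩)
  have e : r * x * r⁻¹ = c * x := by rw [hc]; group
  rw [e]
  exact (K ⊔ P).mul_mem ((le_sup_right : P ≤ K ⊔ P) hcP') ((le_sup_left : K ≤ K ⊔ P) hx)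

/-- **`L ≤ N(K)` when `L` normalizes `W_K`** -/
theorem L_le_normalizer_K [Finite G] (h : LK L T P V₁ C₁ M Z K S)
    (d2 : LData2 L T P V₁ C₁ M Z) (hLW : L ≤ normalizer ((wOf K : Subgroup G) : Set G)) :
    L ≤ normalizer (K : Set G) := by
  obtain ⟨x₀, hx₀, hx₀Q⟩ := h.exists_x₀
  -- a member of `𝒜(T)` not centralizing `W`
  have hexA : ∃ A ∈ maxElemIn 2 T, ¬ A ≤ centralizer ((wOf K : Subgroup G) : Set G) := by
    by_contra hne
    push Not at hne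
    apply h.c.not_J_cent
    rw [Cfsg.Agent.Lib.Helper15.thompsonSubgroupOf_eq]
    exact sSup_le hne
  obtain ⟨A, hA, hAW⟩ := hexA
  have hAJ : A ≤ thompsonSubgroupOf 2 T := by
    rw [Cfsg.Agent.Lib.Helper15.thompsonSubgroupOf_eq]; exact le_sSup hA
  apply d2.hMain (wOf K) A K (normalizer (K : Set G)) x₀ h.W_le_V₁ hLW h.c.card hA hAW h.hKL
    h.c.comm hx₀
  · intro v hv
    have h1 := (wOf K).inv_mem (h.comm_mem_W hx₀ hv)
    have e : (x₀ * v * x₀⁻¹ * v⁻¹)⁻¹ = v * x₀ * v⁻¹ * x₀⁻¹ := by group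
    rwa [e] at h1
  · exact h.P_le_C₁ (h.Q_le_P (h.c.pow_three_mem hx₀))
  · intro hc
    apply hx₀Q
    rw [h.c.mem_Q_iff hx₀, mem_centralizer_iff']
    intro w hw
    exact (h.mem_C₁_iff.mp hc).2 w (h.W_le_V₁ hw)
  · exact Subgroup.le_normalizer hx₀
  · exact hAJ.trans h.c.J_le_normalizer
  · exact h.C₁_le_normalizer_K
  · exact h.NJ_le_normalizer_K hLW
  · intro r hrL hrW hr2 hrC
    exact h.two_elt_mem_normalizer_K d2.hodd hrL
      (fun w hw => (mem_centralizer_iff'.mp hrW) w hw) hr2 hrC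

end LK

end Cfsg.Agent.Lib.Helper52
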