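import Mathlib
import Cfsg.Agent.Lib.Helper52.FFCover
import Cfsg.Agent.Lib.Helper52.CopModel
import Cfsg.Agent.Lib.Helper52.JOver9

/-!
# KS §9.3 for `p = 2`: a four-group `[V, m]` of an operator `m` of order `3` is `H`-invariant
-/

set_option autoImplicit false
set_option linter.unusedSectionVars false
set_option linter.unusedVariables false
set_option linter.style.haveILetI false

namespace Cfsg.Agent.Lib.Helper52

open Subgroup
open scoped commutatorElement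
open Cfsg.Agent.Lib.Helper55 (cj mem_cj conj_mem_cj cj_one cj_mul cj_inv_cj cj_cj_inv cj_mono
  cj_eq_self_iff cj_inf cj_centralizer card_cj isPGroup_cj cj_eq_self_of_mem)

section FFNorm

variable {G : Type*} [Group G] [Finite G]

/-- an `m`-invariant subgroup meeting the four-group `W`, on which `m` acts fixed-point-freely,
contains `W` -/
theorem fpf_le {W X : Subgroup G} (hW4 : Nat.card W = 4) {m : G}
    (hmW : ∀ w ∈ W, m * w * m⁻¹ ∈ W) (hfpf : ∀ w ∈ W, m * w = w * m → w = 1)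
    (hX : ∀ x ∈ X, x ∈ W → m * x * m⁻¹ ∈ X) {x : G} (hxX : x ∈ X) (hxW : x ∈ W) (hx1 : x ≠ 1) :
    W ≤ X := by
  obtain ⟨U, hUdef⟩ : ∃ U : Subgroup G, U = W ⊓ X := ⟨_, rfl⟩
  have hxU : x ∈ U := hUdef ▸ Subgroup.mem_inf.mpr ⟨hxW, hxX⟩
  have hyU : m * x * m⁻¹ ∈ U := hUdef ▸ Subgroup.mem_inf.mpr ⟨hmW x hxW, hX x hxX hxW⟩
  have hy1 : m * x * m⁻¹ ≠ 1 := by
    intro e
    apply hx1
    have : x = m⁻¹ * (m * x * m⁻¹) * m := by group
    rw [this, e]; group
  have hyx : m * x * m⁻¹ ≠ x := by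
    intro e
    apply hx1
    apply hfpf x hxW
    calc m * x = (m * x * m⁻¹) * m := by group
      _ = x * m := by rw [e]
  have hUW : U ≤ W := hUdef ▸ inf_le_left
  have hdvd : Nat.card U ∣ 4 := hW4 ▸ Subgroup.card_dvd_of_le hUW
  have hU1 : Nat.card U ≠ 1 := by
    intro e
    rw [Subgroup.card_eq_one] at e
    rw [e, Subgroup.mem_bot] at hxU
    exact hx1 hxU
  have hU2 : Nat.card U ≠ 2 := by
    intro e
    rcases card_two_cases e hxU hx1 _ hyU with h2 | h2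
    · exact hy1 h2
    · exact hyx h2
  have hU4 : Nat.card U = 4 := by
    have hle4 : Nat.card U ≤ 4 := Nat.le_of_dvd (by norm_num) hdvd
    have hpos : 0 < Nat.card U := Nat.card_pos
    interval_cases hc : Nat.card U
    · exact absurd rfl hU1
    · exact absurd rfl hU2
    · norm_num at hdvd
    · rfl
  have : U = W := Subgroup.eq_of_le_of_card_ge hUW (by rw [hU4, hW4])
  rw [← this, hUdef]
  exact inf_le_right

variable {V H : Subgroup G} [hp : Fact (Nat.Prime 2)]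

/-- **invariance of `[V, m]`**: a four-group `W ≤ V` containing `[V, m]` on which the operator
`m` (normalizing `V` and `H`, with `m³` trivial on `V`) acts fixed-point-freely is normalized
by `H` -/
theorem ff_le_normalizer_of_fpf (h : FFHyp 2 V H) (hgen : FFGen 2 V H) {W : Subgroup G}
    (hWV : W ≤ V) (hW4 : Nat.card W = 4) {m : G} (hmV : m ∈ normalizer (V : Set G))
    (hmH : m ∈ normalizer (H : Set G)) (hmW : m ∈ normalizer (W : Set G))
    (hcomm : ∀ v ∈ V, ⁅v, m⁆ ∈ W) (hfpf : ∀ w ∈ W, m * w = w * m → w = 1)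
    (hm3 : m ^ 3 ∈ centralizer (V : Set G)) : H ≤ normalizer (W : Set G) := by
  refine hgen.trans (iSup_le fun B' => ?_)
  obtain ⟨B, hB⟩ := B'
  show B ≤ normalizer (W : Set G)
  have hB₁ := hB.conj' hmV hmH
  have hB₂ := hB₁.conj' hmV hmH
  have hVm : cj m V = V := cj_eq_self_iff.mpr hmV
  have e₁ : ⁅V, ffE 2 H (cj m B)⁆ = cj m ⁅V, ffE 2 H B⁆ := by
    rw [cj_commutator, hVm, cj_ffE' hmH]
  have e₂ : ⁅V, ffE 2 H (cj m (cj m B))⁆ = cj m ⁅V, ffE 2 H (cj m B)⁆ := by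
    rw [cj_commutator, hVm, cj_ffE' hmH]
  obtain ⟨E, hE⟩ : ∃ E : Subgroup G, E = ffE 2 H B := ⟨_, rfl⟩
  obtain ⟨WB, hWB⟩ : ∃ WB : Subgroup G, WB = ⁅V, ffE 2 H B⁆ := ⟨_, rfl⟩
  obtain ⟨W₁, hW₁⟩ : ∃ W₁ : Subgroup G, W₁ = ⁅V, ffE 2 H (cj m B)⁆ := ⟨_, rfl⟩
  obtain ⟨W₂, hW₂⟩ : ∃ W₂ : Subgroup G, W₂ = ⁅V, ffE 2 H (cj m (cj m B))⁆ := ⟨_, rfl⟩
  rw [← hWB, ← hW₁] at e₁
  rw [← hW₁, ← hW₂] at e₂
  have hWBV : WB ≤ V := hWB ▸ ffE_W_le h hB
  have hWB4 : Nat.card WB = 4 := by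
    rw [hWB, ffE_card_W h hB]; norm_num
  have hmWm : ∀ w ∈ W, m * w * m⁻¹ ∈ W := fun w hw =>
    (Subgroup.mem_normalizer_iff.mp hmW w).mp hw
  have hmVm : ∀ v ∈ V, m * v * m⁻¹ ∈ V := fun v hv =>
    (Subgroup.mem_normalizer_iff.mp hmV v).mp hv
  have hm1 : ∀ v ∈ WB, m * v * m⁻¹ ∈ W₁ := fun v hv => e₁ ▸ conj_mem_cj hv
  have hm2 : ∀ v ∈ W₁, m * v * m⁻¹ ∈ W₂ := fun v hv => e₂ ▸ conj_mem_cj hv
  have hcommEq : ∀ v : G, ⁅v, m⁆ = v * (m * v * m⁻¹)⁻¹ := by
    intro v; rw [commutatorElement_def]; group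
  have hWBne : ∃ v ∈ WB, v ≠ 1 := by
    by_contra hne
    push Not at hne
    have : WB = ⊥ := by
      rw [eq_bot_iff]
      intro v hv
      rw [Subgroup.mem_bot]
      exact hne v hv
    rw [this, Subgroup.card_bot] at hWB4
    norm_num at hWB4
  rcases W_inf_or_eq h hB hB₁ with h0 | h1
  · -- the three conjugates of `W_B` are different: contradiction
    exfalso
    rw [← hWB, ← hW₁] at h0
    have hdisj : ∀ x ∈ WB, x ∈ W₁ → x = 1 := by
      intro x hx hx1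
      have : x ∈ WB ⊓ W₁ := Subgroup.mem_inf.mpr ⟨hx, hx1⟩
      rw [h0, Subgroup.mem_bot] at this
      exact this
    have hE1 : ffE 2 H B ≠ ffE 2 H (cj m B) := by
      intro e
      obtain ⟨v, hv, hv1⟩ := hWBne
      apply hv1
      apply hdisj v hv
      rw [hW₁, ← e, ← hWB]
      exact hv
    have hE2 : ffE 2 H B ≠ ffE 2 H (cj m (cj m B)) := by
      intro e
      obtain ⟨v, hv, hv1⟩ := hWBne
      apply hv1
      apply hdisj v hv
      have h2 : m * (m * v * m⁻¹) * m⁻¹ ∈ WB := by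
        have := hm2 _ (hm1 v hv)
        rw [hW₂, ← e, ← hWB] at this
        exact this
      have h3 := hm1 _ h2
      have h4 : m * (m * (m * v * m⁻¹) * m⁻¹) * m⁻¹ = v := by
        have h5 := (Subgroup.mem_centralizer_iff.mp hm3) v (hWBV hv)
        calc m * (m * (m * v * m⁻¹) * m⁻¹) * m⁻¹ = (m ^ 3 * v) * (m ^ 3)⁻¹ := by
              rw [pow_succ, pow_succ, pow_one]; group
          _ = (v * m ^ 3) * (m ^ 3)⁻¹ := by rw [h5]
          _ = v := by group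
      rw [h4] at h3
      exact h3
    have hC1 : W₁ ≤ centralizer ((ffE 2 H B : Subgroup G) : Set G) := by
      have := (ffE_le_centralizer_W_of_ne h hB₁ hB hE1).trans inf_le_right
      rw [← hW₁] at this
      exact le_centralizer_iff.mp this
    have hC2 : W₂ ≤ centralizer ((ffE 2 H B : Subgroup G) : Set G) := by
      have := (ffE_le_centralizer_W_of_ne h hB₂ hB hE2).trans inf_le_right
      rw [← hW₂] at this
      exact le_centralizer_iff.mp this
    -- the map `v ↦ [v, m]` from `W_B` to `W`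
    let f : ↥WB → ↥W := fun v => ⟨⁅v.1, m⁆, hcomm v.1 (hWBV v.2)⟩
    have hfinj : Function.Injective f := by
      intro v v' hvv
      have hvv' : ⁅v.1, m⁆ = ⁅v'.1, m⁆ := congrArg Subtype.val hvv
      rw [hcommEq, hcommEq] at hvv'
      have hx : v'.1⁻¹ * v.1 = m * (v'.1⁻¹ * v.1) * m⁻¹ := by
        calc v'.1⁻¹ * v.1 = v'.1⁻¹ * (v.1 * (m * v.1 * m⁻¹)⁻¹) * (m * v.1 * m⁻¹) := by group
          _ = v'.1⁻¹ * (v'.1 * (m * v'.1 * m⁻¹)⁻¹) * (m * v.1 * m⁻¹) := by rw [hvv']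
          _ = m * (v'.1⁻¹ * v.1) * m⁻¹ := by group
      have hxWB : v'.1⁻¹ * v.1 ∈ WB := WB.mul_mem (WB.inv_mem v'.2) v.2
      have hxW₁ : v'.1⁻¹ * v.1 ∈ W₁ := by
        rw [hx]; exact hm1 _ hxWB
      have := hdisj _ hxWB hxW₁
      apply Subtype.ext
      calc v.1 = v'.1 * (v'.1⁻¹ * v.1) := by group
        _ = v'.1 := by rw [this, mul_one]
    have hfbij : Function.Bijective f := by
      apply Function.Injective.bijective_of_nat_card_le hfinj
      rw [hW4, hWB4]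
    obtain ⟨v, hv, hv1⟩ := hWBne
    obtain ⟨⟨v', hv'⟩, hfv'⟩ := hfbij.2 ⟨m * ⁅v, m⁆ * m⁻¹, hmWm _ (hcomm v (hWBV hv))⟩
    have hfv'' : ⁅v', m⁆ = m * ⁅v, m⁆ * m⁻¹ := congrArg Subtype.val hfv'
    rw [hcommEq, hcommEq] at hfv''
    -- `v' ∈ C_V(E)`
    have hv'eq : v' = m * v * m⁻¹ * (m * (m * v * m⁻¹) * m⁻¹)⁻¹ * (m * v' * m⁻¹) := by
      calc v' = (v' * (m * v' * m⁻¹)⁻¹) * (m * v' * m⁻¹) := by group
        _ = (m * (v * (m * v * m⁻¹)⁻¹) * m⁻¹) * (m * v' * m⁻¹) := by rw [hfv'']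
        _ = _ := by group
    have hv'C : v' ∈ centralizer ((ffE 2 H B : Subgroup G) : Set G) := by
      rw [hv'eq]
      exact Subgroup.mul_mem _ (Subgroup.mul_mem _ (hC1 (hm1 v hv))
        (Subgroup.inv_mem _ (hC2 (hm2 _ (hm1 v hv))))) (hC1 (hm1 v' hv'))
    have hv'1 : v' = 1 := by
      have : v' ∈ ⁅V, ffE 2 H B⁆ ⊓ (V ⊓ centralizer ((ffE 2 H B : Subgroup G) : Set G)) :=
        Subgroup.mem_inf.mpr ⟨hWB ▸ hv', Subgroup.mem_inf.mpr ⟨hWBV hv', hv'C⟩⟩
      rw [ffE_W_inf h hB, Subgroup.mem_bot] at this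
      exact this
    rw [hv'1] at hfv''
    have h6 : m * v * m⁻¹ = m * (m * v * m⁻¹) * m⁻¹ := by
      have h7 : m * (v * (m * v * m⁻¹)⁻¹) * m⁻¹ = 1 := by
        rw [← hfv'']; group
      calc m * v * m⁻¹ = (m * (v * (m * v * m⁻¹)⁻¹) * m⁻¹) * (m * (m * v * m⁻¹) * m⁻¹) := by
            group
        _ = m * (m * v * m⁻¹) * m⁻¹ := by rw [h7, one_mul]
    have h8 : v = m * v * m⁻¹ := by
      calc v = m⁻¹ * (m * v * m⁻¹) * m := by group
        _ = m⁻¹ * (m * (m * v * m⁻¹) * m⁻¹) * m := by rw [← h6]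
        _ = m * v * m⁻¹ := by group
    apply hv1
    apply hdisj v hv
    rw [h8]
    exact hm1 v hv
  · -- `m` normalizes `W_B`
    rw [← hWB, ← hW₁] at h1
    have hmWB : ∀ v ∈ WB, m * v * m⁻¹ ∈ WB := fun v hv => h1 ▸ hm1 v hv
    have hEeq : ffE 2 H (cj m B) = ffE 2 H B := by
      apply ffE_eq_of_W_eq h hB hB₁
      rw [← hWB, ← hW₁]
      exact h1.symm
    have hmE : cj m (ffE 2 H B) = ffE 2 H B := by
      rw [cj_ffE' hmH, hEeq]
    obtain ⟨C, hC⟩ : ∃ C : Subgroup G, C = V ⊓ centralizer ((ffE 2 H B : Subgroup G) : Set G) :=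
      ⟨_, rfl⟩
    have hmC : ∀ c ∈ C, m * c * m⁻¹ ∈ C := by
      intro c hc
      rw [hC] at hc ⊢
      refine Subgroup.mem_inf.mpr ⟨hmVm c hc.1, ?_⟩
      have := conj_mem_cj (g := m) hc.2
      rwa [cj_centralizer, hmE] at this
    have hBE : B ≤ ffE 2 H B := le_ffE
    by_cases hcase : WB ⊓ W = ⊥
    · -- `W ≤ C_V(E)`
      have hdisj : ∀ x ∈ WB, x ∈ W → x = 1 := by
        intro x hx hxW
        have : x ∈ WB ⊓ W := Subgroup.mem_inf.mpr ⟨hx, hxW⟩
        rw [hcase, Subgroup.mem_bot] at this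
        exact this
      let f : ↥W → ↥W := fun w => ⟨⁅w.1, m⁆, hcomm w.1 (hWV w.2)⟩
      have hfinj : Function.Injective f := by
        intro v v' hvv
        have hvv' : ⁅v.1, m⁆ = ⁅v'.1, m⁆ := congrArg Subtype.val hvv
        rw [hcommEq, hcommEq] at hvv'
        have hx : v'.1⁻¹ * v.1 = m * (v'.1⁻¹ * v.1) * m⁻¹ := by
          calc v'.1⁻¹ * v.1 = v'.1⁻¹ * (v.1 * (m * v.1 * m⁻¹)⁻¹) * (m * v.1 * m⁻¹) := by group
            _ = v'.1⁻¹ * (v'.1 * (m * v'.1 * m⁻¹)⁻¹) * (m * v.1 * m⁻¹) := by rw [hvv']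
            _ = m * (v'.1⁻¹ * v.1) * m⁻¹ := by group
        have hxW : v'.1⁻¹ * v.1 ∈ W := W.mul_mem (W.inv_mem v'.2) v.2
        have := hfpf _ hxW (by
          calc m * (v'.1⁻¹ * v.1) = (m * (v'.1⁻¹ * v.1) * m⁻¹) * m := by group
            _ = (v'.1⁻¹ * v.1) * m := by rw [← hx])
        apply Subtype.ext
        calc v.1 = v'.1 * (v'.1⁻¹ * v.1) := by group
          _ = v'.1 := by rw [this, mul_one]
      have hfbij : Function.Bijective f :=
        Function.Injective.bijective_of_nat_card_le hfinj le_rfl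
      have hWC : W ≤ C := by
        intro w hw
        obtain ⟨⟨w', hw'⟩, hfw'⟩ := hfbij.2 ⟨w, hw⟩
        have hfw'' : ⁅w', m⁆ = w := congrArg Subtype.val hfw'
        have hw'V : w' ∈ ⁅V, ffE 2 H B⁆ ⊔
            (V ⊓ centralizer ((ffE 2 H B : Subgroup G) : Set G)) := by
          rw [ffE_W_sup h hB]; exact hWV hw'
        rw [← hWB, ← hC] at hw'V
        have hnorm : WB ≤ normalizer (C : Set G) :=
          le_normalizer_of_le_comm h.comm hWBV (hC ▸ inf_le_left)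
        obtain ⟨a, ha, c, hc, rfl⟩ := Cfsg.Agent.Lib.Helper01.exists_mul_of_mem_sup hnorm hw'V
        have hcV : c ∈ V := by rw [hC] at hc; exact hc.1
        have haV : a ∈ V := hWBV ha
        have ha1 : ⁅a, m⁆ = 1 := by
          apply hdisj _ _ (hcomm a haV)
          rw [hcommEq]
          exact WB.mul_mem ha (WB.inv_mem (hmWB a ha))
        have hsplit : ⁅a * c, m⁆ = ⁅a, m⁆ * ⁅c, m⁆ := by
          rw [hcommEq, hcommEq, hcommEq]
          have e1 : (m * (a * c) * m⁻¹)⁻¹ = (m * c * m⁻¹)⁻¹ * (m * a * m⁻¹)⁻¹ := by group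
          have e2 := h.comm _ (V.inv_mem (hmVm a haV)) _
            (V.mul_mem hcV (V.inv_mem (hmVm c hcV)))
          rw [e1]
          calc a * c * ((m * c * m⁻¹)⁻¹ * (m * a * m⁻¹)⁻¹)
              = a * ((c * (m * c * m⁻¹)⁻¹) * (m * a * m⁻¹)⁻¹) := by group
            _ = a * ((m * a * m⁻¹)⁻¹ * (c * (m * c * m⁻¹)⁻¹)) := by rw [e2]
            _ = a * (m * a * m⁻¹)⁻¹ * (c * (m * c * m⁻¹)⁻¹) := by group
        rw [← hfw'', hsplit, ha1, one_mul, hcommEq]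
        exact C.mul_mem hc (C.inv_mem (hmC c hc))
      intro b hb
      apply mem_normalizer_of_forall_conj_mem
      intro w hw
      have hwC := hWC hw
      rw [hC] at hwC
      have := (Subgroup.mem_centralizer_iff.mp hwC.2) b (hBE hb)
      have e : b * w * b⁻¹ = w := by rw [this]; group
      rw [e]; exact hw
    · -- `W = W_B`
      obtain ⟨⟨x, hx⟩, hx1⟩ := (Subgroup.ne_bot_iff_exists_ne_one).mp hcase
      have hx1' : x ≠ 1 := fun hh => hx1 (Subtype.ext hh)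
      have hle : W ≤ WB := fpf_le hW4 hmWm hfpf (fun y hy _ => hmWB y hy) hx.1 hx.2 hx1'
      have heq : W = WB := Subgroup.eq_of_le_of_card_ge hle (by rw [hW4, hWB4])
      rw [heq, hWB]
      exact ffmin_le_normalizer_W h hB hB

end FFNorm

end Cfsg.Agent.Lib.Helper52
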