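import Mathlib

set_option autoImplicit false

/-!
# K-G42 leaf L8b (S2553, keystone 255310): Jordan for a 5-cycle in degree 8

A primitive `G ≤ A_8` of order divisible by `5` is `A_8`.
-/

namespace Cfsg.Agent.Lib.Helper52.G42

open Equiv Equiv.Perm MulAction

/-- the concrete 5-cycle `(0 1 2 3 4)` -/
def c5 : Perm (Fin 8) := swap 0 1 * swap 1 2 * swap 2 3 * swap 3 4

theorem c5_cycleType : c5.cycleType = {5} := by
  have h : c5 = ([0, 1, 2, 3, 4] : List (Fin 8)).formPerm := by decide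
  have hc : ([0, 1, 2, 3, 4] : List (Fin 8)).formPerm.IsCycle :=
    List.isCycle_formPerm (by decide) (by decide)
  rw [h, hc.cycleType, List.support_formPerm_of_nodup _ (by decide) (by intro x h; simp at h)]
  rfl

/-- from a double transposition `(2 3)(4 x)` to a 3-cycle, by 4-transitivity -/
theorem dbl_case (M : Perm (Fin 8) → Prop) (hmul : ∀ a b, M a → M b → M (a * b))
    (hinv : ∀ a, M a → M a⁻¹)
    (htr : ∀ x y : Fin 4 ↪ Fin 8, ∃ k, M k ∧ ∀ i, k (x i) = y i)
    (x : Fin 8) (hinj : Function.Injective ![2, 3, 4, x])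
    (hx0 : x ≠ 0) (h4x : (4 : Fin 8) ≠ x)
    (hM : M (swap 2 3 * swap 4 x))
    (heq : (swap (2 : Fin 8) 3 * swap 4 x) * (swap 2 3 * swap 4 0) = swap 4 x * swap 4 0) :
    ∃ k, M k ∧ k.IsThreeCycle := by
  obtain ⟨h, hMh, hk⟩ := htr ⟨![2, 3, 4, x], hinj⟩ ⟨![2, 3, 4, 0], by decide⟩
  have h2 : h 2 = 2 := hk 0
  have h3 : h 3 = 3 := hk 1
  have h4 : h 4 = 4 := hk 2
  have hx : h x = 0 := hk 3
  have hconj : h * (swap 2 3 * swap 4 x) * h⁻¹ = swap (h 2) (h 3) * swap (h 4) (h x) := by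
    simp only [swap_apply_apply]
    group
  rw [h2, h3, h4, hx] at hconj
  have hM2 : M (h * (swap 2 3 * swap 4 x) * h⁻¹) := hmul _ _ (hmul _ _ hMh hM) (hinv _ hMh)
  rw [hconj] at hM2
  refine ⟨_, hmul _ _ hM hM2, ?_⟩
  rw [heq]
  exact isThreeCycle_swap_mul_swap_same h4x (by decide) hx0

/-- a 4-transitive family closed under products and inverses that contains `c5` contains a 3-cycle -/
theorem exists_threeCycle (M : Perm (Fin 8) → Prop) (hmul : ∀ a b, M a → M b → M (a * b))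
    (hinv : ∀ a, M a → M a⁻¹) (hc : M c5)
    (htr : ∀ x y : Fin 4 ↪ Fin 8, ∃ k, M k ∧ ∀ i, k (x i) = y i) :
    ∃ k, M k ∧ k.IsThreeCycle := by
  obtain ⟨h, hMh, hk⟩ := htr ⟨![0, 1, 2, 3], by decide⟩ ⟨![0, 1, 2, 4], by decide⟩
  have h0 : h 0 = 0 := hk 0
  have h1 : h 1 = 1 := hk 1
  have h2 : h 2 = 2 := hk 2
  have h3 : h 3 = 4 := hk 3
  have hconj : h * c5 * h⁻¹ =
      swap (h 0) (h 1) * swap (h 1) (h 2) * swap (h 2) (h 3) * swap (h 3) (h 4) := by
    simp only [swap_apply_apply]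
    unfold c5
    group
  rw [h0, h1, h2, h3] at hconj
  have hMd : M (c5⁻¹ * (h * c5 * h⁻¹)) :=
    hmul _ _ (hinv _ hc) (hmul _ _ (hmul _ _ hMh hc) (hinv _ hMh))
  rw [hconj] at hMd
  have hx0 : h 4 ≠ 0 := fun e => absurd (h.injective (e.trans h0.symm)) (by decide)
  have hx1 : h 4 ≠ 1 := fun e => absurd (h.injective (e.trans h1.symm)) (by decide)
  have hx2 : h 4 ≠ 2 := fun e => absurd (h.injective (e.trans h2.symm)) (by decide)
  have hx4 : h 4 ≠ 4 := fun e => absurd (h.injective (e.trans h3.symm)) (by decide)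
  generalize h 4 = x at hMd hx0 hx1 hx2 hx4
  have hall : ∀ z : Fin 8, z ≠ 0 → z ≠ 1 → z ≠ 2 → z ≠ 4 → z = 3 ∨ z = 5 ∨ z = 6 ∨ z = 7 := by
    decide
  have hcases : x = 3 ∨ x = 5 ∨ x = 6 ∨ x = 7 := hall x hx0 hx1 hx2 hx4
  rcases hcases with rfl | rfl | rfl | rfl
  · refine ⟨_, hMd, ?_⟩
    have e : c5⁻¹ * (swap 0 1 * swap 1 2 * swap 2 4 * swap 4 3) = swap (2 : Fin 8) 4 * swap 2 3 := by
      decide
    rw [e]
    exact isThreeCycle_swap_mul_swap_same (by decide) (by decide) (by decide)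
  · have e : c5⁻¹ * (swap 0 1 * swap 1 2 * swap 2 4 * swap 4 5) = swap (2 : Fin 8) 3 * swap 4 5 := by
      decide
    rw [e] at hMd
    exact dbl_case M hmul hinv htr 5 (by decide) (by decide) (by decide) hMd (by decide)
  · have e : c5⁻¹ * (swap 0 1 * swap 1 2 * swap 2 4 * swap 4 6) = swap (2 : Fin 8) 3 * swap 4 6 := by
      decide
    rw [e] at hMd
    exact dbl_case M hmul hinv htr 6 (by decide) (by decide) (by decide) hMd (by decide)
  · have e : c5⁻¹ * (swap 0 1 * swap 1 2 * swap 2 4 * swap 4 7) = swap (2 : Fin 8) 3 * swap 4 7 := by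
      decide
    rw [e] at hMd
    exact dbl_case M hmul hinv htr 7 (by decide) (by decide) (by decide) hMd (by decide)

theorem jordan5 (G : Subgroup (Equiv.Perm (Fin 8))) (hGA : G ≤ alternatingGroup (Fin 8))
    (hprim : MulAction.IsPreprimitive ↥G (Fin 8)) (h5 : 5 ∣ Nat.card ↥G) : G = alternatingGroup (Fin 8) := by
  classical
  have hp5 : Fact (Nat.Prime 5) := ⟨by norm_num⟩
  obtain ⟨g0, hg0⟩ := exists_prime_orderOf_dvd_card' (G := ↥G) 5 h5
  set g : Perm (Fin 8) := (g0 : Perm (Fin 8)) with hgdef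
  have hgG : g ∈ G := g0.2
  have hord : orderOf g = 5 := by rw [hgdef, Subgroup.orderOf_coe, hg0]
  -- the cycle type of `g`
  have hct : g.cycleType = {5} := by
    obtain ⟨n, hn⟩ := cycleType_prime_order (σ := g) (by rw [hord]; norm_num)
    rw [hord] at hn
    have hsum := sum_cycleType g
    rw [hn, Multiset.sum_replicate, smul_eq_mul] at hsum
    have hle : g.support.card ≤ 8 := by
      calc g.support.card ≤ Fintype.card (Fin 8) := Finset.card_le_univ _
        _ = 8 := by simp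
    have hn0 : n = 0 := by omega
    rw [hn, hn0]
    rfl
  have hcyc : g.IsCycle := card_cycleType_eq_one.mp (by rw [hct]; rfl)
  have hsupp : g.support.card = 5 := by
    have := sum_cycleType g
    rw [hct] at this
    simpa using this.symm
  -- 4-fold transitivity (Jordan)
  have h4 : IsMultiplyPreprimitive G (Fin 8) (2 + 2) := by
    apply hprim.isMultiplyPreprimitive (s := ((g.support : Set (Fin 8))ᶜ))
    · apply Nat.add_left_cancel
      rw [Set.ncard_add_ncard_compl, Set.ncard_coe_finset, hsupp]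
      simp
    · simp
    have := isPretransitive_of_isCycle_mem hcyc hgG
    apply IsPreprimitive.of_prime_card
    have hcard : Nat.card (SubMulAction.ofFixingSubgroup G ((g.support : Set (Fin 8))ᶜ)) = 5 := by
      rw [Nat.card_eq_fintype_card, Fintype.card_subtype, ← hsupp]
      apply congr_arg
      ext x
      simp [SubMulAction.mem_ofFixingSubgroup_iff]
    rw [hcard]
    norm_num
  have h4t : IsMultiplyPretransitive G (Fin 8) 4 :=
    IsMultiplyPreprimitive.isMultiplyPretransitive G (Fin 8) 4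
  -- conjugate `g` to the concrete cycle
  obtain ⟨σ, hσ⟩ := isConj_iff.mp (isConj_iff_cycleType_eq.mpr (hct.trans c5_cycleType.symm))
  let M : Perm (Fin 8) → Prop := fun k => σ⁻¹ * k * σ ∈ G
  have hmul : ∀ a b, M a → M b → M (a * b) := by
    intro a b ha hb
    show σ⁻¹ * (a * b) * σ ∈ G
    have : σ⁻¹ * (a * b) * σ = (σ⁻¹ * a * σ) * (σ⁻¹ * b * σ) := by group
    rw [this]
    exact G.mul_mem ha hb
  have hinv : ∀ a, M a → M a⁻¹ := by
    intro a ha
    show σ⁻¹ * a⁻¹ * σ ∈ G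
    have : σ⁻¹ * a⁻¹ * σ = (σ⁻¹ * a * σ)⁻¹ := by group
    rw [this]
    exact G.inv_mem ha
  have hc : M c5 := by
    show σ⁻¹ * c5 * σ ∈ G
    rw [← hσ]
    have : σ⁻¹ * (σ * g * σ⁻¹) * σ = g := by group
    rw [this]
    exact hgG
  have htr : ∀ x y : Fin 4 ↪ Fin 8, ∃ k, M k ∧ ∀ i, k (x i) = y i := by
    intro x y
    obtain ⟨k0, hk0⟩ := MulAction.exists_smul_eq ↥G (x.trans (σ⁻¹).toEmbedding) (y.trans (σ⁻¹).toEmbedding)
    refine ⟨σ * (k0 : Perm (Fin 8)) * σ⁻¹, ?_, ?_⟩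
    · show σ⁻¹ * (σ * (k0 : Perm (Fin 8)) * σ⁻¹) * σ ∈ G
      have : σ⁻¹ * (σ * (k0 : Perm (Fin 8)) * σ⁻¹) * σ = (k0 : Perm (Fin 8)) := by group
      rw [this]
      exact k0.2
    · intro i
      have h1 := congrArg (fun f : Fin 4 ↪ Fin 8 => f i) hk0
      simp only [Function.Embedding.smul_apply, Function.Embedding.trans_apply,
        Equiv.coe_toEmbedding] at h1
      have h2 : (k0 : Perm (Fin 8)) (σ⁻¹ (x i)) = σ⁻¹ (y i) := h1
      show σ ((k0 : Perm (Fin 8)) (σ⁻¹ (x i))) = y i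
      rw [h2]
      simp
  obtain ⟨k, hMk, h3⟩ := exists_threeCycle M hmul hinv hc htr
  have h3' : (σ⁻¹ * k * σ).IsThreeCycle := by
    have := cycleType_conj (σ := k) (τ := σ⁻¹)
    rw [inv_inv] at this
    unfold IsThreeCycle
    rw [this]
    exact h3
  exact le_antisymm hGA (alternatingGroup_le_of_isPreprimitive_of_isThreeCycle_mem hprim h3' hMk)

end Cfsg.Agent.Lib.Helper52.G42
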