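import Mathlib
import Cfsg.Prelude.Def_HallClasses

/-!
# K-HB-L1 (keystone 253812): a Hall subgroup meets a normal subgroup in a Hall subgroup
-/

set_option autoImplicit false
open Cfsg

namespace Cfsg.Agent.Lib.Helper52.HallAlt

/-- for `N` normal, `[N : M₀ ∩ N] = [M₀ N : M₀]` -/
theorem relIndex_eq_relIndex_sup_of_normal {G : Type*} [Group G] [Finite G] (N : Subgroup G) [N.Normal]
    (M₀ : Subgroup G) : M₀.relIndex N = M₀.relIndex (M₀ ⊔ N) := by
  have h1 : (M₀ ⊓ N).relIndex N * N.relIndex (M₀ ⊔ N) = (M₀ ⊓ N).relIndex (M₀ ⊔ N) :=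
    Subgroup.relIndex_mul_relIndex _ _ _ inf_le_right le_sup_right
  have h2 : (M₀ ⊓ N).relIndex M₀ * M₀.relIndex (M₀ ⊔ N) = (M₀ ⊓ N).relIndex (M₀ ⊔ N) :=
    Subgroup.relIndex_mul_relIndex _ _ _ inf_le_left le_sup_left
  rw [Subgroup.inf_relIndex_right, Subgroup.relIndex_sup_right] at h1
  rw [Subgroup.inf_relIndex_left] at h2
  have hj : N.relIndex M₀ ≠ 0 := by
    have : (N.subgroupOf M₀).index ≠ 0 := Subgroup.index_ne_zero_of_finite
    exact this
  have h3 : N.relIndex M₀ * M₀.relIndex N = N.relIndex M₀ * M₀.relIndex (M₀ ⊔ N) := by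
    rw [h2, mul_comm, h1]
  exact Nat.eq_of_mul_eq_mul_left (Nat.pos_of_ne_zero hj) h3

/-- **K-HB-L1** (253812). -/
theorem hall_subgroupOf_normal {G : Type*} [Group G] [Finite G] (N : Subgroup G) [N.Normal] (π : Set ℕ)
    (M₀ : Subgroup G) (h : IsPiHall π M₀) : IsPiHall π (M₀.subgroupOf N) := by
  refine ⟨?_, ?_⟩
  · intro p hp hpd
    apply h.1 p hp
    have h1 : Nat.card (M₀.subgroupOf N) ∣ Nat.card M₀ := by
      have : Nat.card (M₀.subgroupOf N) = Nat.card ↥(M₀ ⊓ N) := by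
        rw [← Subgroup.inf_subgroupOf_right]
        exact Nat.card_congr (Subgroup.subgroupOfEquivOfLe inf_le_right).toEquiv
      rw [this]
      exact Subgroup.card_dvd_of_le inf_le_left
    exact hpd.trans h1
  · intro p hp hpπ hpd
    apply h.2 p hp hpπ
    have h1 : (M₀.subgroupOf N).index = M₀.relIndex N := rfl
    rw [h1, relIndex_eq_relIndex_sup_of_normal] at hpd
    exact hpd.trans (Subgroup.relIndex_dvd_index_of_le le_sup_left)

end Cfsg.Agent.Lib.Helper52.HallAlt
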