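import Cfsg.Agent.Lib.Helper52.JComp1
import Cfsg.Agent.Lib.Helper01.Coprime

/-!
# The structure of a J(T)-component `K` inside `X = K J(T)`

`Ctx K J S` packages a `J(T)`-component `K`, `J = J(T)` and a Sylow 2-subgroup `S` of `K J`
containing `J`, so that `J = J(S)`.
-/

set_option autoImplicit false
set_option linter.unusedSectionVars false
set_option linter.unusedVariables false
set_option linter.style.haveILetI false

namespace Cfsg.Agent.Lib.Helper52.JComp

open Cfsg Subgroup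
open scoped commutatorElement
open Cfsg.Agent.Lib.Helper15 (maxElemIn)

variable {G : Type*} [Group G]

theorem conj_mem_centralizer {W : Subgroup G} {g c : G} (hg : g ∈ normalizer (W : Set G))
    (hc : c ∈ centralizer (W : Set G)) : g * c * g⁻¹ ∈ centralizer (W : Set G) := by
  rw [Subgroup.mem_centralizer_iff]
  intro w hw
  have hw' : g⁻¹ * w * g ∈ W := conj_inv_mem_of_mem_normalizer hg hw
  have h := Subgroup.mem_centralizer_iff.mp hc _ hw'
  calc w * (g * c * g⁻¹) = g * ((g⁻¹ * w * g) * c) * g⁻¹ := by group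
    _ = g * (c * (g⁻¹ * w * g)) * g⁻¹ := by rw [h]
    _ = g * c * g⁻¹ * w := by group

theorem mem_centralizer_iff' {W : Subgroup G} {g : G} :
    g ∈ centralizer (W : Set G) ↔ ∀ w ∈ W, g * w = w * g := by
  rw [Subgroup.mem_centralizer_iff]
  constructor
  · intro h w hw; exact (h w hw).symm
  · intro h w hw; exact (h w hw).symm

/-- the standing hypotheses -/
structure Ctx (K J S : Subgroup G) : Prop where
  odd : Subgroup.closure {g : G | g ∈ K ∧ Odd (orderOf g)} = K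
  comm : ⁅K, J⁆ = K
  idx : (pCoreOf 2 K).relIndex K = 3
  card : Nat.card ↥(wOf K) = 4
  exp : ∀ w ∈ wOf K, w * w = 1
  hJ2 : IsPGroup 2 ↥J
  hJS : J = thompsonSubgroupOf 2 S
  hQS : pCoreOf 2 K ≤ S
  hS2 : IsPGroup 2 ↥S
  hSX : S ≤ K ⊔ J

namespace Ctx

variable {K J S : Subgroup G}

theorem J_le_normalizer (c : Ctx K J S) : J ≤ normalizer (K : Set G) := by
  have key : ∀ a ∈ J, ∀ k ∈ K, a * k * a⁻¹ ∈ K := by
    intro a ha k hk
    have h1 : ⁅k⁻¹, a⁆ ∈ ⁅K, J⁆ := Subgroup.commutator_mem_commutator (K.inv_mem hk) ha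
    rw [c.comm, commutatorElement_def] at h1
    have h2 : k * (k⁻¹ * a * k⁻¹⁻¹ * a⁻¹) ∈ K := K.mul_mem hk h1
    have : k * (k⁻¹ * a * k⁻¹⁻¹ * a⁻¹) = a * k * a⁻¹ := by group
    rwa [this] at h2
  intro a ha
  rw [Subgroup.mem_normalizer_iff]
  intro k
  constructor
  · exact key a ha k
  · intro h
    have := key a⁻¹ (J.inv_mem ha) _ h
    have h3 : a⁻¹ * (a * k * a⁻¹) * a⁻¹⁻¹ = k := by group
    rwa [h3] at this

theorem X_le_normalizer (c : Ctx K J S) : K ⊔ J ≤ normalizer (K : Set G) :=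
  sup_le Subgroup.le_normalizer c.J_le_normalizer

theorem X_le_normalizer_Q [Finite G] (c : Ctx K J S) :
    K ⊔ J ≤ normalizer ((pCoreOf 2 K : Subgroup G) : Set G) :=
  c.X_le_normalizer.trans (Cfsg.Agent.Lib.Helper54.normalizer_le_normalizer_pCoreOf 2 K)

theorem X_le_normalizer_W [Finite G] (c : Ctx K J S) :
    K ⊔ J ≤ normalizer ((wOf K : Subgroup G) : Set G) :=
  c.X_le_normalizer.trans (le_normalizer_wOf K)

theorem J_le_S (c : Ctx K J S) : J ≤ S := by
  rw [c.hJS]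
  exact Cfsg.Agent.Lib.Helper15.thompsonSubgroupOf_le 2 S

theorem W_le_S (c : Ctx K J S) : wOf K ≤ S := (wOf_le_pCoreOf K).trans c.hQS

theorem J_eq_sSup (c : Ctx K J S) : J = sSup (maxElemIn 2 S) := by
  rw [c.hJS, Cfsg.Agent.Lib.Helper15.thompsonSubgroupOf_eq]

theorem le_J_of_mem (c : Ctx K J S) {A : Subgroup G} (hA : A ∈ maxElemIn 2 S) : A ≤ J := by
  rw [c.J_eq_sSup]
  exact le_sSup hA

theorem S_le_normalizer_J (c : Ctx K J S) : S ≤ normalizer (J : Set G) := by
  have h := Cfsg.Agent.Lib.Helper15.normalizer_le_normalizer_thompsonSubgroupOf 2 S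
  rw [← c.hJS] at h
  exact Subgroup.le_normalizer.trans h

theorem Q_cent_W (c : Ctx K J S) : pCoreOf 2 K ≤ centralizer ((wOf K : Subgroup G) : Set G) := by
  intro q hq
  rw [mem_centralizer_iff']
  intro w hw
  have := wOf_le_centralizer_pCoreOf K hw
  exact Subgroup.mem_centralizer_iff.mp this q hq

/-- `K` does not centralize `W_K` -/
theorem not_K_cent [Finite G] (c : Ctx K J S) :
    ¬ K ≤ centralizer ((wOf K : Subgroup G) : Set G) := by
  intro hcon
  -- every odd-order element of `K` centralizes `V`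
  have hodd : ∀ g ∈ K, Odd (orderOf g) → ∀ v ∈ omegaCenterOf (pCoreOf 2 K), g * v = v * g := by
    intro g hg hgo v hv
    have hwW : ⁅v, g⁆ ∈ wOf K := Subgroup.commutator_mem_commutator hv hg
    obtain ⟨w, hw⟩ : ∃ w, w = ⁅v, g⁆ := ⟨_, rfl⟩
    rw [← hw] at hwW
    have hgw : g * w = w * g := mem_centralizer_iff'.mp (hcon hg) w hwW
    have hu : g * v⁻¹ = v⁻¹ * w * g := by
      rw [hw, commutatorElement_def]; group
    have hpow : ∀ n : ℕ, g ^ n * v⁻¹ = v⁻¹ * w ^ n * g ^ n := by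
      intro n
      induction n with
      | zero => simp
      | succ n ih =>
        have hgwn : g * w ^ n = w ^ n * g := (Commute.pow_right (show Commute g w from hgw) n)
        calc g ^ (n + 1) * v⁻¹ = g * (g ^ n * v⁻¹) := by rw [pow_succ']; group
          _ = g * (v⁻¹ * w ^ n * g ^ n) := by rw [ih]
          _ = (g * v⁻¹) * w ^ n * g ^ n := by group
          _ = (v⁻¹ * w * g) * w ^ n * g ^ n := by rw [hu]
          _ = v⁻¹ * w * (g * w ^ n) * g ^ n := by group
          _ = v⁻¹ * w * (w ^ n * g) * g ^ n := by rw [hgwn]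
          _ = v⁻¹ * (w * w ^ n) * (g * g ^ n) := by group
          _ = v⁻¹ * w ^ (n + 1) * g ^ (n + 1) := by rw [← pow_succ', ← pow_succ']
    have h1 := hpow (orderOf g)
    rw [pow_orderOf_eq_one, one_mul, mul_one] at h1
    have hwn : w ^ orderOf g = 1 := by
      have : v⁻¹ * 1 = v⁻¹ * w ^ orderOf g := by rw [mul_one]; exact h1
      exact (mul_left_cancel this).symm
    obtain ⟨m, hm⟩ := hgo
    have hw2 : w ^ 2 = 1 := by rw [pow_two]; exact c.exp w hwW
    have hw1 : w = 1 := by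
      rw [hm, pow_succ, pow_mul, hw2, one_pow, one_mul] at hwn
      exact hwn
    rw [hw1] at hw
    have h2 : v * g * v⁻¹ * g⁻¹ = 1 := by rw [← commutatorElement_def]; exact hw.symm
    calc g * v = (v * g * v⁻¹ * g⁻¹)⁻¹ * (v * g) := by group
      _ = v * g := by rw [h2]; group
  have hK : K ≤ centralizer ((omegaCenterOf (pCoreOf 2 K) : Subgroup G) : Set G) := by
    conv_lhs => rw [← c.odd]
    rw [Subgroup.closure_le]
    rintro g ⟨hg, hgo⟩
    rw [SetLike.mem_coe, mem_centralizer_iff']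
    exact hodd g hg hgo
  have hbot : wOf K = ⊥ := by
    unfold wOf
    rw [Subgroup.commutator_comm, Subgroup.commutator_eq_bot_iff_le_centralizer]
    exact hK
  have := c.card
  rw [hbot] at this
  simp at this

theorem mem_Q_iff [Finite G] (c : Ctx K J S) {k : G} (hk : k ∈ K) :
    k ∈ pCoreOf 2 K ↔ k ∈ centralizer ((wOf K : Subgroup G) : Set G) := by
  constructor
  · intro h; exact c.Q_cent_W h
  · intro h
    have hQC : pCoreOf 2 K ≤ K ⊓ centralizer ((wOf K : Subgroup G) : Set G) :=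
      le_inf (Cfsg.Agent.Lib.Helper54.pCoreOf_le 2 K) c.Q_cent_W
    have hCK : K ⊓ centralizer ((wOf K : Subgroup G) : Set G) ≤ K := inf_le_left
    have hmul := Subgroup.relIndex_mul_relIndex _ _ _ hQC hCK
    rw [c.idx] at hmul
    have hdvd : (K ⊓ centralizer ((wOf K : Subgroup G) : Set G)).relIndex K ∣ 3 :=
      Dvd.intro_left _ hmul
    rcases (Nat.dvd_prime Nat.prime_three).mp hdvd with h1 | h3
    · exfalso
      apply c.not_K_cent
      exact (Subgroup.relIndex_eq_one.mp h1).trans inf_le_right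
    · rw [h3] at hmul
      have h1 : (pCoreOf 2 K).relIndex (K ⊓ centralizer ((wOf K : Subgroup G) : Set G)) = 1 := by
        omega
      exact Subgroup.relIndex_eq_one.mp h1 (Subgroup.mem_inf.mpr ⟨hk, h⟩)

theorem pow_three_mem (c : Ctx K J S) {k : G} (hk : k ∈ K) : k ^ 3 ∈ pCoreOf 2 K := by
  haveI : ((pCoreOf 2 K).subgroupOf K).Normal :=
    Subgroup.normal_subgroupOf_of_le_normalizer (Cfsg.Agent.Lib.Helper54.le_normalizer_pCoreOf 2 K)
  have h := Subgroup.pow_index_mem ((pCoreOf 2 K).subgroupOf K) (⟨k, hk⟩ : K)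
  have hidx : ((pCoreOf 2 K).subgroupOf K).index = 3 := c.idx
  rw [hidx, Subgroup.mem_subgroupOf] at h
  simpa using h

theorem K_le_normalizer_W [Finite G] (c : Ctx K J S) :
    K ≤ normalizer ((wOf K : Subgroup G) : Set G) :=
  le_sup_left.trans c.X_le_normalizer_W

theorem J_le_normalizer_W [Finite G] (c : Ctx K J S) :
    J ≤ normalizer ((wOf K : Subgroup G) : Set G) :=
  le_sup_right.trans c.X_le_normalizer_W

/-- elements of `K` outside `O₂(K)` act fixed-point-freely on `W_K` -/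
theorem K_fpf [Finite G] (c : Ctx K J S) {k : G} (hk : k ∈ K) (hkQ : k ∉ pCoreOf 2 K) :
    ∀ w ∈ wOf K, k * w = w * k → w = 1 := by
  apply fg_fpf c.card c.exp (c.K_le_normalizer_W hk)
  · exact mem_centralizer_iff'.mp (c.Q_cent_W (c.pow_three_mem hk))
  · intro h
    exact hkQ ((c.mem_Q_iff hk).mpr (mem_centralizer_iff'.mpr h))

theorem wOf_ne_bot (c : Ctx K J S) : wOf K ≠ ⊥ := by
  intro h
  have := c.card
  rw [h] at this
  simp at this

/-- `J` fixes a nonidentity element of `W_K` -/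
theorem exists_fix [Finite G] (c : Ctx K J S) :
    ∃ w₀ ∈ wOf K, w₀ ≠ 1 ∧ ∀ j ∈ J, j * w₀ = w₀ * j := by
  haveI : Fact (Nat.Prime 2) := ⟨Nat.prime_two⟩
  have hW2 : IsPGroup 2 ↥(wOf K) :=
    (Cfsg.Agent.Lib.Helper54.isPGroup_pCoreOf 2 K).to_le (wOf_le_pCoreOf K)
  have hP : IsPGroup 2 ↥(wOf K ⊔ J) := hW2.to_sup_of_normal_left' c.hJ2 c.J_le_normalizer_W
  have hn : wOf K ⊔ J ≤ normalizer ((wOf K : Subgroup G) : Set G) :=
    sup_le Subgroup.le_normalizer c.J_le_normalizer_W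
  haveI : ((wOf K).subgroupOf (wOf K ⊔ J)).Normal :=
    Subgroup.normal_subgroupOf_of_le_normalizer hn
  have hne : (wOf K).subgroupOf (wOf K ⊔ J) ≠ ⊥ := by
    intro h
    rw [Subgroup.subgroupOf_eq_bot] at h
    apply c.wOf_ne_bot
    have : wOf K ⊓ (wOf K ⊔ J) = wOf K := inf_eq_left.mpr le_sup_left
    rw [← this]
    exact disjoint_iff.mp h
  obtain ⟨x, hxN, hxc, hx1⟩ :=
    Cfsg.Agent.Lib.Helper38.normal_inf_center_ne_bot 2 hP _ hne
  refine ⟨x.1, Subgroup.mem_subgroupOf.mp hxN, ?_, ?_⟩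
  · intro h
    apply hx1
    exact Subtype.ext h
  · intro j hj
    have hjX : j ∈ wOf K ⊔ J := (le_sup_right : J ≤ wOf K ⊔ J) hj
    have := Subgroup.mem_center_iff.mp hxc ⟨j, hjX⟩
    exact congrArg Subtype.val this

/-- `J` does not centralize `W_K` -/
theorem not_J_cent [Finite G] (c : Ctx K J S) :
    ¬ J ≤ centralizer ((wOf K : Subgroup G) : Set G) := by
  intro hcon
  apply c.not_K_cent
  conv_lhs => rw [← c.comm]
  rw [Subgroup.commutator_le]
  intro k hk j hj
  rw [commutatorElement_def]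
  have h1 : k * j * k⁻¹ ∈ centralizer ((wOf K : Subgroup G) : Set G) :=
    conj_mem_centralizer (c.K_le_normalizer_W hk) (hcon hj)
  exact Subgroup.mul_mem _ h1 (Subgroup.inv_mem _ (hcon hj))

theorem exists_A [Finite G] (c : Ctx K J S) :
    ∃ A ∈ maxElemIn 2 S, ∃ a ∈ A, a ∉ centralizer ((wOf K : Subgroup G) : Set G) := by
  by_contra hcon
  push Not at hcon
  apply c.not_J_cent
  rw [c.J_eq_sSup]
  apply sSup_le
  intro A hA a ha
  exact hcon A hA a ha

/-- `C_X(W_K) ≤ S` -/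
theorem R_le_S [Finite G] (c : Ctx K J S) :
    (K ⊔ J) ⊓ centralizer ((wOf K : Subgroup G) : Set G) ≤ S := by
  intro r hr
  obtain ⟨hrX, hrC⟩ := Subgroup.mem_inf.mp hr
  rw [sup_comm] at hrX
  obtain ⟨j, hj, k, hk, rfl⟩ := Cfsg.Agent.Lib.Helper01.exists_mul_of_mem_sup c.J_le_normalizer hrX
  obtain ⟨w₀, h0, h01, hfix⟩ := c.exists_fix
  have hjn := c.J_le_normalizer_W hj
  have hjj : j * j ∈ centralizer ((wOf K : Subgroup G) : Set G) :=
    mem_centralizer_iff'.mpr (fg_sq_cent c.card c.exp hjn h0 h01 (hfix j hj))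
  have hkk : k * k ∈ centralizer ((wOf K : Subgroup G) : Set G) := by
    have e : k * k = (j⁻¹ * (j * k) * j⁻¹⁻¹) * (j * j)⁻¹ * (j * k) := by group
    rw [e]
    exact Subgroup.mul_mem _ (Subgroup.mul_mem _
      (conj_mem_centralizer (Subgroup.inv_mem _ hjn) hrC) (Subgroup.inv_mem _ hjj)) hrC
  have hkkQ : k * k ∈ pCoreOf 2 K := (c.mem_Q_iff (K.mul_mem hk hk)).mpr hkk
  have hk3 := c.pow_three_mem hk
  have hkQ : k ∈ pCoreOf 2 K := by
    have e : k = k ^ 3 * (k * k)⁻¹ := by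
      rw [pow_succ, pow_two]; group
    rw [e]
    exact Subgroup.mul_mem _ hk3 (Subgroup.inv_mem _ hkkQ)
  exact S.mul_mem (c.J_le_S hj) (c.hQS hkQ)

theorem isElementaryAbelian_W (c : Ctx K J S) : IsElementaryAbelian 2 (wOf K) := by
  refine ⟨⟨⟨fun a b => ?_⟩⟩, fun w hw => ?_⟩
  · apply Subtype.ext
    exact fg_comm c.exp a.2 b.2
  · rw [pow_two]; exact c.exp w hw

theorem mem_all_of_mem_Z0 [Finite G] (c : Ctx K J S) {z : G} (hz : z ∈ omegaCenterOf J)
    {A : Subgroup G} (hA : A ∈ maxElemIn 2 S) : z ∈ A := by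
  obtain ⟨h1, h2, h3⟩ := mem_omegaCenterOf_iff.mp hz
  apply mem_of_mem_maxElemIn hA (c.J_le_S h1) h3
  intro a ha
  exact (Subgroup.mem_centralizer_iff.mp h2 a (c.le_J_of_mem hA ha)).symm

theorem mem_Z0_of_fix [Finite G] (c : Ctx K J S) {w : G} (hw : w ∈ wOf K)
    (hfix : ∀ j ∈ J, j * w = w * j) : w ∈ omegaCenterOf J := by
  obtain ⟨A, hA⟩ := Cfsg.Agent.Lib.Helper15.maxElemIn_nonempty 2 S
  have hw2 : w ^ 2 = 1 := by rw [pow_two]; exact c.exp w hw
  have hwA : w ∈ A := by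
    apply mem_of_mem_maxElemIn hA (c.W_le_S hw) hw2
    intro a ha
    exact (hfix a (c.le_J_of_mem hA ha)).symm
  refine mem_omegaCenterOf_iff.mpr ⟨c.le_J_of_mem hA hwA, ?_, hw2⟩
  rw [Subgroup.mem_centralizer_iff]
  exact hfix

/-- an element of `K` outside `O₂(K)` generates `X = K J` together with `J` -/
theorem gen [Finite G] (c : Ctx K J S) {g : G} (hg : g ∈ K) (hgQ : g ∉ pCoreOf 2 K) {z : G}
    (hzJ : ∀ j ∈ J, z * j = j * z) (hzg : z * g = g * z) :
    z ∈ centralizer ((K ⊔ J : Subgroup G) : Set G) := by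
  -- `Y` : the centralizer of `z`
  have hJY : J ≤ centralizer ({z} : Set G) := by
    intro j hj
    rw [Subgroup.mem_centralizer_iff]
    intro y hy
    rw [Set.mem_singleton_iff] at hy
    rw [hy]; exact hzJ j hj
  have hgY : Subgroup.zpowers g ≤ centralizer ({z} : Set G) := by
    rw [Subgroup.zpowers_le]
    rw [Subgroup.mem_centralizer_iff]
    intro y hy
    rw [Set.mem_singleton_iff] at hy
    rw [hy]; exact hzg
  -- `K = ⟨g⟩ Q`
  have hQM : pCoreOf 2 K ≤ Subgroup.zpowers g ⊔ pCoreOf 2 K := le_sup_right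
  have hMK : Subgroup.zpowers g ⊔ pCoreOf 2 K ≤ K :=
    sup_le (by rw [Subgroup.zpowers_le]; exact hg) (Cfsg.Agent.Lib.Helper54.pCoreOf_le 2 K)
  have hmul := Subgroup.relIndex_mul_relIndex _ _ _ hQM hMK
  rw [c.idx] at hmul
  have hdvd : (pCoreOf 2 K).relIndex (Subgroup.zpowers g ⊔ pCoreOf 2 K) ∣ 3 :=
    Dvd.intro _ hmul
  have hKM : K ≤ Subgroup.zpowers g ⊔ pCoreOf 2 K := by
    rcases (Nat.dvd_prime Nat.prime_three).mp hdvd with h1 | h3
    · exfalso
      apply hgQ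
      exact Subgroup.relIndex_eq_one.mp h1
        ((le_sup_left : Subgroup.zpowers g ≤ _) (Subgroup.mem_zpowers g))
    · rw [h3] at hmul
      have h1 : (Subgroup.zpowers g ⊔ pCoreOf 2 K).relIndex K = 1 := by omega
      exact Subgroup.relIndex_eq_one.mp h1
  have hgn : Subgroup.zpowers g ≤ normalizer ((pCoreOf 2 K : Subgroup G) : Set G) := by
    rw [Subgroup.zpowers_le]
    exact Cfsg.Agent.Lib.Helper54.le_normalizer_pCoreOf 2 K hg
  have hKY : K ≤ centralizer ({z} : Set G) := by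
    conv_lhs => rw [← c.comm]
    rw [Subgroup.commutator_le]
    intro k hk j hj
    obtain ⟨t, ht, q, hq, rfl⟩ := Cfsg.Agent.Lib.Helper01.exists_mul_of_mem_sup hgn (hKM hk)
    have hj' : q * j * q⁻¹ ∈ J :=
      conj_mem_of_mem_normalizer (c.S_le_normalizer_J (c.hQS hq)) hj
    have e : ⁅t * q, j⁆ = t * (q * j * q⁻¹) * t⁻¹ * j⁻¹ := by
      rw [commutatorElement_def]; group
    rw [e]
    exact Subgroup.mul_mem _ (Subgroup.mul_mem _ (Subgroup.mul_mem _ (hgY ht) (hJY hj'))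
      (Subgroup.inv_mem _ (hgY ht))) (Subgroup.inv_mem _ (hJY hj))
  have hXY : K ⊔ J ≤ centralizer ({z} : Set G) := sup_le hKY hJY
  rw [Subgroup.mem_centralizer_iff]
  intro x hx
  have := Subgroup.mem_centralizer_iff.mp (hXY hx) z (Set.mem_singleton z)
  exact this.symm

end Ctx

end Cfsg.Agent.Lib.Helper52.JComp
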