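import Mathlib
import Cfsg.Agent.Lib.Helper52.JOver9

/-!
# `J(T)`-components: Sylow bookkeeping, conjugation, and the package `exists_lk2`
-/

set_option autoImplicit false
set_option linter.unusedSectionVars false
set_option linter.unusedVariables false
set_option linter.style.haveILetI false

namespace Cfsg.Agent.Lib.Helper52

open Cfsg Subgroup JComp
open scoped commutatorElement
open Cfsg.Agent.Lib.Helper15 (maxElemIn)

variable {G : Type*} [Group G]

/-- a `2`-subgroup of `N` lies in a Sylow `2`-subgroup of `N` -/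
theorem exists_isSylowTwoIn_ge [Finite G] {D N : Subgroup G} (hD2 : IsPGroup 2 ↥D)
    (hDN : D ≤ N) : ∃ S : Subgroup G, D ≤ S ∧ IsSylowTwoIn S N := by
  haveI : Fact (Nat.Prime 2) := ⟨Nat.prime_two⟩
  obtain ⟨P, hP⟩ := (hD2.comap_subtype (K := N)).exists_le_sylow
  refine ⟨(P : Subgroup ↥N).map N.subtype, ?_, Subgroup.map_subtype_le _, P.isPGroup'.map _, ?_⟩
  · intro d hd
    exact ⟨⟨d, hDN hd⟩, hP (Subgroup.mem_comap.mpr hd), rfl⟩
  · have h1 : ((P : Subgroup ↥N).map N.subtype).relIndex N = (P : Subgroup ↥N).index := by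
      unfold Subgroup.relIndex Subgroup.subgroupOf
      rw [Subgroup.comap_map_eq_self_of_injective N.subtype_injective]
    rw [h1, ← Nat.not_even_iff_odd, even_iff_two_dvd]
    exact P.not_dvd_index

/-- transport of Sylow `2`-subgroups along an isomorphism -/
theorem isSylowTwoIn_map {G' : Type*} [Group G'] (φ : G ≃* G') {S L : Subgroup G}
    (h : IsSylowTwoIn S L) : IsSylowTwoIn (S.map φ.toMonoidHom) (L.map φ.toMonoidHom) := by
  refine ⟨Subgroup.map_mono h.1, h.2.1.map _, ?_⟩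
  rw [Subgroup.relIndex_map_map_of_injective _ _ φ.injective]
  exact h.2.2

/-- Sylow `2`-subgroups of `N` are conjugate in `N` -/
theorem exists_conj_of_isSylowTwoIn [Finite G] {S S' N : Subgroup G} (h : IsSylowTwoIn S N)
    (h' : IsSylowTwoIn S' N) : ∃ n ∈ N, S' = S.map (MulAut.conj n).toMonoidHom := by
  haveI : Fact (Nat.Prime 2) := ⟨Nat.prime_two⟩
  have key : ∀ {S₁ : Subgroup G}, IsSylowTwoIn S₁ N →
      ∃ P : Sylow 2 ↥N, (P : Subgroup ↥N) = S₁.subgroupOf N := by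
    intro S₁ h₁
    have h2 : IsPGroup 2 ↥(S₁.subgroupOf N) := h₁.2.1.comap_subtype
    have hidx : ¬ 2 ∣ (S₁.subgroupOf N).index := by
      intro hd
      have : Even (S₁.relIndex N) := even_iff_two_dvd.mpr hd
      exact (Nat.not_even_iff_odd.mpr h₁.2.2) this
    exact ⟨h2.toSylow hidx, rfl⟩
  obtain ⟨P, hP⟩ := key h
  obtain ⟨P', hP'⟩ := key h'
  obtain ⟨n, hn⟩ := MulAction.exists_smul_eq ↥N P P'
  have hmem : ∀ x : ↥N, x ∈ (P' : Subgroup ↥N) ↔ n⁻¹ * x * n ∈ (P : Subgroup ↥N) := by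
    intro x
    rw [← hn, Sylow.coe_subgroup_smul, Subgroup.mem_pointwise_smul_iff_inv_smul_mem]
    simp [MulAut.smul_def]
  refine ⟨n.1, n.2, ?_⟩
  ext x
  constructor
  · intro hx
    have hxN : x ∈ N := h'.1 hx
    have h1 : (⟨x, hxN⟩ : ↥N) ∈ (P' : Subgroup ↥N) := by
      rw [hP']; exact Subgroup.mem_subgroupOf.mpr hx
    rw [hmem, hP, Subgroup.mem_subgroupOf] at h1
    refine ⟨n.1⁻¹ * x * n.1, ?_, ?_⟩
    · simpa using h1
    · simp only [MulEquiv.coe_toMonoidHom, MulAut.conj_apply]; group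
  · rintro ⟨s, hs, rfl⟩
    have hsN : s ∈ N := h.1 hs
    simp only [MulEquiv.coe_toMonoidHom, MulAut.conj_apply]
    have h1 : n * (⟨s, hsN⟩ : ↥N) * n⁻¹ ∈ (P' : Subgroup ↥N) := by
      rw [hmem, hP, Subgroup.mem_subgroupOf]
      have : ((n⁻¹ * (n * (⟨s, hsN⟩ : ↥N) * n⁻¹) * n : ↥N) : G) = s := by
        simp only [Subgroup.coe_mul, Subgroup.coe_inv]; group
      rw [this]; exact hs
    rw [hP', Subgroup.mem_subgroupOf] at h1
    simpa using h1

namespace JComp.Ctx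

variable {K J S : Subgroup G}

theorem exists_x₀ [Finite G] (c : Ctx K J S) : ∃ x₀ ∈ K, x₀ ∉ pCoreOf 2 K := by
  by_contra hne
  push Not at hne
  exact c.not_K_cent (fun k hk => c.Q_cent_W (hne k hk))

/-- irreducibility of `W` under `K` -/
theorem W_le_of_invariant [Finite G] (c : Ctx K J S) {x₀ : G} (hx₀ : x₀ ∈ K)
    (hx₀Q : x₀ ∉ pCoreOf 2 K) (U : Subgroup G)
    (hU : ∀ u ∈ U, u ∈ wOf K → x₀ * u * x₀⁻¹ ∈ U) {u : G} (hu : u ∈ U) (huW : u ∈ wOf K)
    (hu1 : u ≠ 1) : wOf K ≤ U := by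
  have hxN : x₀ ∈ normalizer ((wOf K : Subgroup G) : Set G) := c.K_le_normalizer_W hx₀
  have hu2W : x₀ * u * x₀⁻¹ ∈ wOf K := conj_mem_of_mem_normalizer hxN huW
  have hu2U : x₀ * u * x₀⁻¹ ∈ U := hU u hu huW
  have hu21 : x₀ * u * x₀⁻¹ ≠ 1 := by
    intro e
    apply hu1
    have : u = x₀⁻¹ * (x₀ * u * x₀⁻¹) * x₀ := by group
    rw [this, e]; group
  have hne : u ≠ x₀ * u * x₀⁻¹ := by
    intro e
    apply hu1
    apply c.K_fpf hx₀ hx₀Q u huW
    calc x₀ * u = (x₀ * u * x₀⁻¹) * x₀ := by group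
      _ = u * x₀ := by rw [← e]
  intro w hw
  rcases fg_cases c.card c.exp huW hu2W hu1 hu21 hne w hw with rfl | rfl | rfl | rfl
  · exact U.one_mem
  · exact hu
  · exact hu2U
  · exact U.mul_mem hu hu2U

/-- `O₂(N_G(W))` centralizes `W` -/
theorem pCoreOf_normalizer_W_le [Finite G] (c : Ctx K J S) :
    pCoreOf 2 (normalizer ((wOf K : Subgroup G) : Set G)) ≤
      centralizer ((wOf K : Subgroup G) : Set G) := by
  haveI : Fact (Nat.Prime 2) := ⟨Nat.prime_two⟩
  obtain ⟨N, hN⟩ : ∃ N : Subgroup G, N = normalizer ((wOf K : Subgroup G) : Set G) := ⟨_, rfl⟩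
  rw [← hN]
  obtain ⟨QN, hQN⟩ : ∃ QN : Subgroup G, QN = pCoreOf 2 N := ⟨_, rfl⟩
  rw [← hQN]
  have hW2 : IsPGroup 2 ↥(wOf K) := IsPGroup.of_card (n := 2) (by rw [c.card]; norm_num)
  have hWN : wOf K ≤ N := hN ▸ Subgroup.le_normalizer
  have hNW : N ≤ normalizer ((wOf K : Subgroup G) : Set G) := hN ▸ le_rfl
  have hWQ : wOf K ≤ QN := hQN ▸ Cfsg.Agent.Lib.Helper54.le_pCoreOf hWN hNW hW2
  have hQNN : QN ≤ N := hQN ▸ Cfsg.Agent.Lib.Helper54.pCoreOf_le 2 N
  have hNQ : N ≤ normalizer (QN : Set G) := hQN ▸ Cfsg.Agent.Lib.Helper54.le_normalizer_pCoreOf 2 N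
  have hQ2 : IsPGroup 2 ↥QN := hQN ▸ Cfsg.Agent.Lib.Helper54.isPGroup_pCoreOf 2 N
  haveI hn : ((wOf K).subgroupOf QN).Normal :=
    Subgroup.normal_subgroupOf_of_le_normalizer (hQNN.trans hNW)
  have hne : (wOf K).subgroupOf QN ≠ ⊥ := by
    intro e
    apply c.wOf_ne_bot
    rw [eq_bot_iff]
    intro w hw
    have : (⟨w, hWQ hw⟩ : ↥QN) ∈ (wOf K).subgroupOf QN := Subgroup.mem_subgroupOf.mpr hw
    rw [e, Subgroup.mem_bot] at this
    rw [Subgroup.mem_bot]
    exact congrArg Subtype.val this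
  obtain ⟨x, hxW, hxZ, hx1⟩ :=
    Cfsg.Agent.Lib.Helper38.normal_inf_center_ne_bot 2 hQ2 ((wOf K).subgroupOf QN) hne
  have huW : (x : G) ∈ wOf K := Subgroup.mem_subgroupOf.mp hxW
  have hu1 : (x : G) ≠ 1 := fun e => hx1 (Subtype.ext e)
  have huC : (x : G) ∈ centralizer (QN : Set G) := by
    rw [Subgroup.mem_centralizer_iff]
    intro q hq
    have := Subgroup.mem_center_iff.mp hxZ ⟨q, hq⟩
    exact congrArg Subtype.val this
  obtain ⟨x₀, hx₀, hx₀Q⟩ := c.exists_x₀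
  have hx₀N : x₀ ∈ N := by
    rw [hN]
    exact c.K_le_normalizer_W hx₀
  have hle : wOf K ≤ centralizer (QN : Set G) :=
    c.W_le_of_invariant hx₀ hx₀Q (centralizer (QN : Set G))
      (fun u hu _ => conj_mem_centralizer (hNQ hx₀N) hu) huC huW hu1
  intro q hq
  rw [Subgroup.mem_centralizer_iff]
  intro w hw
  exact (Subgroup.mem_centralizer_iff.mp (hle hw) q hq).symm

end JComp.Ctx

/-- the package attached to a `J(T)`-component `K ≤ L ∈ 𝓛(T)` -/
theorem exists_lk2 [Finite G] (hL : Cfsg.IsCharacteristicTwoType G)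
    (hN : ∀ N : Subgroup G, Cfsg.IsTwoLocal N → Group.IsSolvable ↥N)
    (hZ : ∀ S : Sylow 2 G, Subgroup.centralizer (Cfsg.omegaCenterOf (S : Subgroup G) : Set G) ≤
      Subgroup.normalizer ((S : Subgroup G) : Set G))
    {T : Subgroup G} (hT : IsPGroup 2 ↥T) (hT1 : T ≠ ⊥) {L : Subgroup G}
    (hLT : L ∈ Cfsg.jOvergroups T) {K : Subgroup G} (hK : Cfsg.IsJComponent T K) (hKL : K ≤ L) :
    ∃ (SG : Sylow 2 G) (V₁ C₁ M S : Subgroup G),
      LK L T (pCoreOf 2 L) V₁ C₁ M (omegaCenterOf (SG : Subgroup G)) K S ∧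
      LData2 L T (pCoreOf 2 L) V₁ C₁ M (omegaCenterOf (SG : Subgroup G)) := by
  classical
  have : Fact (Nat.Prime 2) := ⟨Nat.prime_two⟩
  obtain ⟨SG, V₁, C₁, M, hTS, d2⟩ := exists_ldata2 hN hZ hT1 hLT
  have d := d2.d
  obtain ⟨S, c⟩ := JComp.exists_ctx hT hK
  have hJT : Cfsg.thompsonSubgroupOf 2 T ≤ T := Cfsg.Agent.Lib.Helper15.thompsonSubgroupOf_le 2 T
  have hPK : Cfsg.pCoreOf 2 L ≤ Subgroup.normalizer (K : Set G) := by
    apply Cfsg.Agent.S2941.result hL hN hZ T hT hT1 K hK (Cfsg.pCoreOf 2 L)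
    · refine le_trans ?_ d.hPn
      exact sup_le hKL (hJT.trans d.hTL)
    · exact (d.hPT.trans Subgroup.le_normalizer).trans
        (Cfsg.Agent.Lib.Helper15.normalizer_le_normalizer_thompsonSubgroupOf 2 T)
  have hZJ : Cfsg.omegaCenterOf (SG : Subgroup G) ≤
      Cfsg.omegaCenterOf (Cfsg.thompsonSubgroupOf 2 T) := by
    intro z hz
    obtain ⟨hzS, hzC, hz2⟩ := JComp.mem_omegaCenterOf_iff.mp hz
    have hzT : z ∈ T := d.hPT (d.hV₁P (d.hZV hz))
    have hzc : ∀ s ∈ (SG : Subgroup G), z * s = s * z := fun s hs =>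
      (Subgroup.mem_centralizer_iff.mp hzC s hs).symm
    obtain ⟨A, hA⟩ := Cfsg.Agent.Lib.Helper15.maxElemIn_nonempty 2 T
    have hzA : z ∈ A := JComp.mem_of_mem_maxElemIn hA hzT hz2
      (fun a ha => hzc a (hTS (hA.1 ha)))
    rw [JComp.mem_omegaCenterOf_iff]
    refine ⟨?_, ?_, hz2⟩
    · rw [Cfsg.Agent.Lib.Helper15.thompsonSubgroupOf_eq]
      exact (le_sSup hA : A ≤ sSup (Cfsg.Agent.Lib.Helper15.maxElemIn 2 T)) hzA
    · rw [Subgroup.mem_centralizer_iff]
      intro j hj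
      exact (hzc j (hTS (hJT hj))).symm
  exact ⟨SG, V₁, C₁, M, S, ⟨d, c, hKL, hPK, rfl, hT, hZJ⟩, d2⟩

/-- `J(T^g) = J(T)^n` when `J(T^g) ≤ S^n` and `J(S) = J(T)` -/
theorem thompson_conj_eq_of_le [Finite G] {T S : Subgroup G}
    (hJS : thompsonSubgroupOf 2 S = thompsonSubgroupOf 2 T) (g n : G)
    (hle : thompsonSubgroupOf 2 (T.map (MulAut.conj g).toMonoidHom) ≤
      S.map (MulAut.conj n).toMonoidHom) :
    thompsonSubgroupOf 2 (T.map (MulAut.conj g).toMonoidHom) =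
      (thompsonSubgroupOf 2 T).map (MulAut.conj n).toMonoidHom := by
  have hJT : thompsonSubgroupOf 2 T ≤ T := Cfsg.Agent.Lib.Helper15.thompsonSubgroupOf_le 2 T
  have hJS' : thompsonSubgroupOf 2 S ≤ S := Cfsg.Agent.Lib.Helper15.thompsonSubgroupOf_le 2 S
  obtain ⟨AT, hAT⟩ := Cfsg.Agent.Lib.Helper15.maxElemIn_nonempty 2 T
  obtain ⟨AS, hAS⟩ := Cfsg.Agent.Lib.Helper15.maxElemIn_nonempty 2 S
  have hATJ : AT ≤ thompsonSubgroupOf 2 T := by
    rw [Cfsg.Agent.Lib.Helper15.thompsonSubgroupOf_eq]; exact le_sSup hAT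
  have hASJ : AS ≤ thompsonSubgroupOf 2 S := by
    rw [Cfsg.Agent.Lib.Helper15.thompsonSubgroupOf_eq]; exact le_sSup hAS
  have hcard1 : Nat.card AS ≤ Nat.card AT :=
    hAT.2.2 AS (hASJ.trans (hJS ▸ hJT)) hAS.2.1
  have hcard2 : Nat.card AT ≤ Nat.card AS :=
    hAS.2.2 AT (hATJ.trans (hJS ▸ hJS')) hAT.2.1
  have hATg := Cfsg.Agent.Lib.Helper15.map_mem_maxElemIn (MulAut.conj g) hAT
  have hASn := Cfsg.Agent.Lib.Helper15.map_mem_maxElemIn (MulAut.conj n) hAS
  have hJn : thompsonSubgroupOf 2 (S.map (MulAut.conj n).toMonoidHom) =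
      (thompsonSubgroupOf 2 T).map (MulAut.conj n).toMonoidHom := by
    rw [← Cfsg.Agent.Lib.Helper15.thompsonSubgroupOf_map, hJS]
  have hJg : thompsonSubgroupOf 2 (T.map (MulAut.conj g).toMonoidHom) =
      (thompsonSubgroupOf 2 T).map (MulAut.conj g).toMonoidHom := by
    rw [← Cfsg.Agent.Lib.Helper15.thompsonSubgroupOf_map]
  rw [← hJn]
  apply Subgroup.eq_of_le_of_card_ge
  · conv_lhs => rw [Cfsg.Agent.Lib.Helper15.thompsonSubgroupOf_eq]
    refine sSup_le fun A' hA' => ?_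
    have hA'J : A' ≤ thompsonSubgroupOf 2 (T.map (MulAut.conj g).toMonoidHom) := by
      rw [Cfsg.Agent.Lib.Helper15.thompsonSubgroupOf_eq]; exact le_sSup hA'
    have hmem : A' ∈ maxElemIn 2 (S.map (MulAut.conj n).toMonoidHom) := by
      apply mem_maxElemIn_of_card_ge hASn (hA'J.trans hle) hA'.2.1
      have h1 : Nat.card (AT.map (MulAut.conj g).toMonoidHom) ≤ Nat.card A' :=
        hA'.2.2 _ hATg.1 hATg.2.1
      rw [Subgroup.card_map_of_injective (MulAut.conj g).injective] at h1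
      rw [Subgroup.card_map_of_injective (MulAut.conj n).injective]
      exact hcard1.trans h1
    rw [Cfsg.Agent.Lib.Helper15.thompsonSubgroupOf_eq]
    exact le_sSup hmem
  · rw [hJn, hJg, Subgroup.card_map_of_injective (MulAut.conj n).injective,
      Subgroup.card_map_of_injective (MulAut.conj g).injective]

/-- `K` is a `J(T')`-component when `J(T') = J(T)^n` with `n ∈ N(K)` -/
theorem isJComponent_of_conj [Finite G] {T K : Subgroup G} (hK : IsJComponent T K)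
    {T' : Subgroup G} {n : G} (hn : n ∈ normalizer (K : Set G))
    (hJ : thompsonSubgroupOf 2 T' =
      (thompsonSubgroupOf 2 T).map (MulAut.conj n).toMonoidHom) : IsJComponent T' K := by
  obtain ⟨hodd, hcomm, hidx, hsyl, hcard, hexp⟩ := hK
  have hKn : K.map (MulAut.conj n).toMonoidHom = K :=
    Cfsg.Agent.Lib.Helper15.map_conj_eq_of_mem_normalizer hn
  refine ⟨hodd, ?_, hidx, ?_, hcard, hexp⟩
  · rw [hJ]
    conv_lhs => rw [← hKn]
    rw [← Subgroup.map_commutator, hcomm, hKn]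
  · intro S' hS' hJS'
    rw [hJ] at hS' hJS' ⊢
    -- pull back by `conj n⁻¹`
    have h1 := isSylowTwoIn_map (MulAut.conj n⁻¹) hS'
    have hback : ∀ X : Subgroup G, (X.map (MulAut.conj n).toMonoidHom).map
        (MulAut.conj n⁻¹).toMonoidHom = X := by
      intro X
      rw [Subgroup.map_map]
      have : (MulAut.conj n⁻¹).toMonoidHom.comp (MulAut.conj n).toMonoidHom = MonoidHom.id G := by
        ext x
        simp
        group
      rw [this, Subgroup.map_id]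
    have hforth : ∀ X : Subgroup G, (X.map (MulAut.conj n⁻¹).toMonoidHom).map
        (MulAut.conj n).toMonoidHom = X := by
      intro X
      rw [Subgroup.map_map]
      have : (MulAut.conj n).toMonoidHom.comp (MulAut.conj n⁻¹).toMonoidHom = MonoidHom.id G := by
        ext x
        simp
        group
      rw [this, Subgroup.map_id]
    have h2 : (K ⊔ (thompsonSubgroupOf 2 T).map (MulAut.conj n).toMonoidHom).map
        (MulAut.conj n⁻¹).toMonoidHom = K ⊔ thompsonSubgroupOf 2 T := by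
      conv_lhs => rw [← hKn]
      rw [← Subgroup.map_sup, hback]
    rw [h2] at h1
    have h3 : thompsonSubgroupOf 2 T ≤ S'.map (MulAut.conj n⁻¹).toMonoidHom := by
      have := Subgroup.map_mono (f := (MulAut.conj n⁻¹).toMonoidHom) hJS'
      rwa [hback] at this
    have h4 := hsyl _ h1 h3
    have h5 := congrArg (Subgroup.map (MulAut.conj n).toMonoidHom) h4
    rw [Cfsg.Agent.Lib.Helper15.thompsonSubgroupOf_map, hforth] at h5
    exact h5

end Cfsg.Agent.Lib.Helper52
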