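import Mathlib
import Cfsg.Agent.Lib.Helper52.JOver7
import Cfsg.Agent.Lib.Helper52.FFNorm

/-!
# The normal closure of `J(T)` normalizes the four-group `[V₁, k]` of an element `k` of order `3`
modulo `C(V₁)` (module setting)
-/

set_option autoImplicit false
set_option linter.unusedSectionVars false
set_option linter.unusedVariables false
set_option linter.style.haveILetI false

namespace Cfsg.Agent.Lib.Helper52

open Subgroup Matrix
open scoped commutatorElement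
open Cfsg.Agent.Lib.Helper15 (maxElemIn)

section JSub1

variable {X : Type*} [Group X] [Finite X]
variable (V₁ : Subgroup X) [hV₁n : V₁.Normal]

/-- **invariance of `W = [V₁, k]`** under the normal closure of `J(T)` -/
theorem jsub_normalizes (hV₁ : Cfsg.IsElementaryAbelian 2 V₁) (hsep : Cfsg.IsPSolvable 2 X)
    (hOp : FMOp 2 V₁) {T : Subgroup X} (hT : IsPGroup 2 T) (hVT : V₁ ≤ T)
    (W : Subgroup X) (hWV : W ≤ V₁) (hW4 : Nat.card W = 4) {k : X}
    (hkN : k ∈ normalizer (W : Set X))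
    (hkW : ∀ v ∈ V₁, v * k * v⁻¹ * k⁻¹ ∈ W) (hfpf : ∀ w ∈ W, k * w = w * k → w = 1)
    (hk3 : k ^ 3 ∈ centralizer (V₁ : Set X)) :
    normalClosure (Cfsg.thompsonSubgroupOf 2 T : Set X) ≤ normalizer (W : Set X) := by
  haveI : Fact (Nat.Prime 2) := ⟨Nat.prime_two⟩
  obtain ⟨Y, hY⟩ : ∃ Y : Subgroup X, Y = normalClosure (Cfsg.thompsonSubgroupOf 2 T : Set X) :=
    ⟨_, rfl⟩
  haveI hYn : Y.Normal := hY ▸ normalClosure_normal
  have h := fm_hyp V₁ hV₁ hsep hOp Y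
  have hgen := glau_gen_e V₁ hV₁ hsep hOp hT hVT
  rw [← hY] at hgen ⊢
  obtain ⟨W', hW'⟩ : ∃ W' : Subgroup (FM V₁), W' = (W.subgroupOf V₁).map (fmι V₁) := ⟨_, rfl⟩
  have hW'V : W' ≤ (fmι V₁).range := hW' ▸ Subgroup.map_le_range _ _
  have hW'4 : Nat.card W' = 4 := by
    rw [hW', Subgroup.card_map_of_injective (fmι_injective V₁),
      Cfsg.Agent.Lib.Helper15.card_subgroupOf_of_le hWV, hW4]
  have hmemW' : ∀ (w : X) (hw : w ∈ W), fmι V₁ ⟨w, hWV hw⟩ ∈ W' := by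
    intro w hw
    rw [hW']
    exact ⟨⟨w, hWV hw⟩, Subgroup.mem_subgroupOf.mpr hw, rfl⟩
  have hmemW'' : ∀ (v : V₁), fmι V₁ v ∈ W' → (v : X) ∈ W := by
    intro v hv
    rw [hW'] at hv
    obtain ⟨w, hw, hwv⟩ := hv
    have := fmι_injective V₁ hwv
    rw [← this]
    exact Subgroup.mem_subgroupOf.mp hw
  have hkconj : ∀ w ∈ W, k * w * k⁻¹ ∈ W := fun w hw =>
    (Subgroup.mem_normalizer_iff.mp hkN w).mp hw
  -- the element `m`
  have hmV : fmπ V₁ k ∈ normalizer ((fmι V₁).range : Set (FM V₁)) :=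
    fm_range_le_normalizer V₁ ⟨k, rfl⟩
  have hmH : fmπ V₁ k ∈ normalizer ((Y.map (fmπ V₁) : Subgroup (FM V₁)) : Set (FM V₁)) :=
    fm_range_le_normalizer_map V₁ Y ⟨k, rfl⟩
  have hmW : fmπ V₁ k ∈ normalizer (W' : Set (FM V₁)) := by
    apply mem_normalizer_of_forall_conj_mem
    intro w' hw'
    rw [hW'] at hw'
    obtain ⟨w, hw, rfl⟩ := hw'
    rw [fm_conj]
    exact hmemW' _ (hkconj _ (Subgroup.mem_subgroupOf.mp hw))
  have hkbW : ∀ v' ∈ (fmι V₁).range, ⁅v', fmπ V₁ k⁆ ∈ W' := by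
    rintro _ ⟨v, rfl⟩
    have h1 := fm_conj V₁ k v⁻¹
    have e : ⁅fmι V₁ v, fmπ V₁ k⁆ =
        fmι V₁ v * (fmπ V₁ k * fmι V₁ v⁻¹ * (fmπ V₁ k)⁻¹) := by
      rw [commutatorElement_def, map_inv]; group
    rw [e, h1, ← map_mul]
    have h2 := hmemW' _ (hkW v.1 v.2)
    convert h2 using 2
    apply Subtype.ext
    simp [mul_assoc]
  have hfpf' : ∀ w' ∈ W', fmπ V₁ k * w' = w' * fmπ V₁ k → w' = 1 := by
    intro w' hw' hc
    rw [hW'] at hw'
    obtain ⟨w, hw, rfl⟩ := hw'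
    have h1 := fm_conj V₁ k w
    have h2 : fmπ V₁ k * fmι V₁ w * (fmπ V₁ k)⁻¹ = fmι V₁ w := by
      rw [hc]; group
    rw [h2] at h1
    have h3 := fmι_injective V₁ h1
    have h4 : (w : X) = k * w * k⁻¹ := congrArg Subtype.val h3
    have h5 : (w : X) = 1 := by
      apply hfpf _ (Subgroup.mem_subgroupOf.mp hw)
      calc k * (w : X) = (k * w * k⁻¹) * k := by group
        _ = w * k := by rw [← h4]
    have : w = 1 := Subtype.ext h5
    rw [this, map_one]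
  have hm3 : fmπ V₁ k ^ 3 ∈ centralizer ((fmι V₁).range : Set (FM V₁)) := by
    rw [← map_pow, (fmπ_eq_one_iff V₁).mpr hk3]
    exact Subgroup.one_mem _
  have hmain := ff_le_normalizer_of_fpf h hgen hW'V hW'4 hmV hmH hmW hkbW hfpf' hm3
  intro y hy
  apply mem_normalizer_of_forall_conj_mem
  intro w hw
  have h1 := hmain (Subgroup.mem_map_of_mem (fmπ V₁) hy)
  have h2 := (Subgroup.mem_normalizer_iff.mp h1 _).mp (hmemW' w hw)
  rw [fm_conj] at h2
  exact hmemW'' _ h2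

end JSub1

end Cfsg.Agent.Lib.Helper52
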