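import Mathlib
import Cfsg.Agent.Lib.Helper52.JSub1
import Cfsg.Agent.Lib.Helper52.JOver10
import Cfsg.Agent.Lib.Helper54.PRedSubnormal2

/-!
# A subnormal subgroup `K = O²(K)` with `|K : O₂(K)| = 3` and four-group `W_K`:
`J(T)` normalizes `W_K` for every `2`-subgroup `T ≥ O₂(X)` of the ambient group `X`
-/

set_option autoImplicit false
set_option linter.unusedSectionVars false
set_option linter.unusedVariables false
set_option linter.style.haveILetI false

namespace Cfsg.Agent.Lib.Helper52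

open Subgroup
open scoped commutatorElement
open Cfsg.Agent.Lib.Helper15 (maxElemIn)

section JSub2

variable {X : Type*} [Group X] [Finite X]

/-- a fixed-point-free operator on a finite subgroup: `w ↦ w (m w m⁻¹)⁻¹` is onto -/
theorem fpf_surj {W : Subgroup X} {m : X} (hmW : ∀ w ∈ W, m * w * m⁻¹ ∈ W)
    (hfpf : ∀ w ∈ W, m * w = w * m → w = 1) :
    ∀ w ∈ W, ∃ w' ∈ W, w = w' * (m * w' * m⁻¹)⁻¹ := by
  let f : ↥W → ↥W := fun w => ⟨w.1 * (m * w.1 * m⁻¹)⁻¹, W.mul_mem w.2 (W.inv_mem (hmW w.1 w.2))⟩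
  have hfinj : Function.Injective f := by
    intro v v' hvv
    have hvv' : v.1 * (m * v.1 * m⁻¹)⁻¹ = v'.1 * (m * v'.1 * m⁻¹)⁻¹ := congrArg Subtype.val hvv
    have hx : v'.1⁻¹ * v.1 = m * (v'.1⁻¹ * v.1) * m⁻¹ := by
      calc v'.1⁻¹ * v.1 = v'.1⁻¹ * (v.1 * (m * v.1 * m⁻¹)⁻¹) * (m * v.1 * m⁻¹) := by group
        _ = v'.1⁻¹ * (v'.1 * (m * v'.1 * m⁻¹)⁻¹) * (m * v.1 * m⁻¹) := by rw [hvv']
        _ = m * (v'.1⁻¹ * v.1) * m⁻¹ := by group
    have hxW : v'.1⁻¹ * v.1 ∈ W := W.mul_mem (W.inv_mem v'.2) v.2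
    have := hfpf _ hxW (by
      calc m * (v'.1⁻¹ * v.1) = (m * (v'.1⁻¹ * v.1) * m⁻¹) * m := by group
        _ = (v'.1⁻¹ * v.1) * m := by rw [← hx])
    apply Subtype.ext
    calc v.1 = v'.1 * (v'.1⁻¹ * v.1) := by group
      _ = v'.1 := by rw [this, mul_one]
  have hfbij : Function.Bijective f :=
    Function.Injective.bijective_of_nat_card_le hfinj le_rfl
  intro w hw
  obtain ⟨⟨w', hw'⟩, hfw'⟩ := hfbij.2 ⟨w, hw⟩
  exact ⟨w', hw', (congrArg Subtype.val hfw').symm⟩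

/-- a `2`-element whose cube lies in `Q` lies in `Q` -/
theorem mem_of_pow_three_of_two_pow {Q : Subgroup X} {x : X} (h3 : x ^ 3 ∈ Q) {n : ℕ}
    (h2 : x ^ 2 ^ n = 1) : x ∈ Q := by
  have hcop : Nat.Coprime 3 (2 ^ n) := Nat.Coprime.pow_right n (by norm_num)
  by_cases hn : 2 ^ n = 1
  · rw [hn, pow_one] at h2
    rw [h2]; exact Q.one_mem
  · have h1 : 1 < 2 ^ n := by
      have : 0 < 2 ^ n := by positivity
      omega
    obtain ⟨j, -, hj⟩ := Nat.exists_mul_mod_eq_one_of_coprime hcop h1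
    have : x = (x ^ 3) ^ j := by
      rw [← pow_mul, pow_eq_pow_mod (3 * j) h2, hj, pow_one]
    rw [this]
    exact Q.pow_mem h3 j

/-- **main theorem in the ambient group** -/
theorem jsub_main (hsep : Cfsg.IsPSolvable 2 X) {K Q W : Subgroup X}
    (hKsn : K.IsSubnormal)
    (hodd : Subgroup.closure {g : X | g ∈ K ∧ Odd (orderOf g)} = K)
    (hQK : Q ≤ K) (hQ2 : IsPGroup 2 ↥Q)
    (hNQ : normalizer (K : Set X) ≤ normalizer (Q : Set X))
    (hNW : normalizer (K : Set X) ≤ normalizer (W : Set X))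
    (hk3 : ∀ k ∈ K, k ^ 3 ∈ Q)
    (hWQ : W ≤ Q) (hQW : Q ≤ centralizer (W : Set X)) (hW4 : Nat.card W = 4)
    (hW2 : ∀ w ∈ W, w * w = 1)
    {x₀ : X} (hx₀ : x₀ ∈ K) (hfpf : ∀ w ∈ W, x₀ * w = w * x₀ → w = 1)
    (hZQ : ∀ z ∈ Q, z ∈ centralizer (Q : Set X) → z ^ 2 = 1 →
      ∀ k ∈ K, k * z * k⁻¹ * z⁻¹ ∈ W)
    {T : Subgroup X} (hT : IsPGroup 2 ↥T) (hRT : Cfsg.pCore 2 X ≤ T) :
    Cfsg.thompsonSubgroupOf 2 T ≤ normalizer (W : Set X) := by
  haveI : Fact (Nat.Prime 2) := ⟨Nat.prime_two⟩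
  obtain ⟨R, hR⟩ : ∃ R : Subgroup X, R = Cfsg.pCore 2 X := ⟨_, rfl⟩
  haveI hRn : R.Normal := hR ▸ pCore_normal 2 X
  have hR2 : IsPGroup 2 ↥R := hR ▸ pCore_isPGroup 2 X
  rw [← hR] at hRT
  have hKN : K ≤ normalizer (K : Set X) := Subgroup.le_normalizer
  have hQR : Q ≤ R := by
    have h1 : Q ≤ Cfsg.pCoreOf 2 K := Cfsg.Agent.Lib.Helper54.le_pCoreOf hQK (hKN.trans hNQ) hQ2
    rw [hR]
    exact h1.trans (Cfsg.Agent.Lib.Helper54.pCoreOf_le_pCore_of_isSubnormal hKsn)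
  have hKB : (Cfsg.pResidual 2 ↥K).map K.subtype = K := by
    rw [Cfsg.Agent.Lib.Helper54.map_pResidual_subtype]
    conv_rhs => rw [← hodd]
    congr 1
    ext g
    constructor
    · rintro ⟨h1, h2⟩
      exact ⟨h1, Nat.coprime_two_right.mp h2⟩
    · rintro ⟨h1, h2⟩
      exact ⟨h1, Nat.coprime_two_right.mpr h2⟩
  have hRK : R ≤ normalizer (K : Set X) := by
    rw [hR]
    exact Cfsg.Agent.Lib.Helper54.pCore_le_normalizer_of_isSubnormal hKsn hKB
  have hKR : ∀ x ∈ K, x ∈ R → x ∈ Q := by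
    intro x hxK hxR
    obtain ⟨n, hn⟩ := hR2 ⟨x, hxR⟩
    have hn' : x ^ 2 ^ n = 1 := by
      have := congrArg Subtype.val hn
      simpa using this
    exact mem_of_pow_three_of_two_pow (hk3 x hxK) hn'
  have hRW : R ≤ normalizer (W : Set X) := hRK.trans hNW
  have hWR : W ≤ R := hWQ.trans hQR
  have hx₀W : x₀ ∈ normalizer (W : Set X) := hNW (hKN hx₀)
  have hx₀conj : ∀ w ∈ W, x₀ * w * x₀⁻¹ ∈ W := fun w hw =>
    (Subgroup.mem_normalizer_iff.mp hx₀W w).mp hw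
  have hKconj : ∀ k ∈ K, ∀ w ∈ W, k * w * k⁻¹ ∈ W := fun k hk w hw =>
    (Subgroup.mem_normalizer_iff.mp (hNW (hKN hk)) w).mp hw
  have hW1 : W ≠ ⊥ := by
    intro e
    rw [e, Subgroup.card_bot] at hW4
    norm_num at hW4
  have hWp : IsPGroup 2 ↥W := hR2.to_le hWR
  -- `R` centralizes `W`
  have hWcR : W ≤ centralizer (R : Set X) := by
    haveI hn : (W.subgroupOf R).Normal := Subgroup.normal_subgroupOf_of_le_normalizer hRW
    have hne : W.subgroupOf R ≠ ⊥ := by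
      intro e
      apply hW1
      rw [eq_bot_iff]
      intro w hw
      have : (⟨w, hWR hw⟩ : ↥R) ∈ W.subgroupOf R := Subgroup.mem_subgroupOf.mpr hw
      rw [e, Subgroup.mem_bot] at this
      rw [Subgroup.mem_bot]
      exact congrArg Subtype.val this
    obtain ⟨x, hxW, hxZ, hx1⟩ :=
      Cfsg.Agent.Lib.Helper38.normal_inf_center_ne_bot 2 hR2 (W.subgroupOf R) hne
    have huW : (x : X) ∈ W := Subgroup.mem_subgroupOf.mp hxW
    have hu1 : (x : X) ≠ 1 := fun e => hx1 (Subtype.ext e)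
    have huC : (x : X) ∈ centralizer (R : Set X) := by
      rw [Subgroup.mem_centralizer_iff]
      intro q hq
      have := Subgroup.mem_center_iff.mp hxZ ⟨q, hq⟩
      exact congrArg Subtype.val this
    haveI : (centralizer (R : Set X)).Normal := Subgroup.normal_centralizer
    exact fpf_le hW4 hx₀conj hfpf
      (fun u hu _ => (inferInstance : (centralizer (R : Set X)).Normal).conj_mem u hu x₀)
      huC huW hu1
  -- the normal closure of `W`
  obtain ⟨U, hU⟩ : ∃ U : Subgroup X, U = normalClosure (W : Set X) := ⟨_, rfl⟩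
  haveI hUn : U.Normal := hU ▸ normalClosure_normal
  have hWU : W ≤ U := hU ▸ subset_normalClosure
  have hUR : U ≤ R := by
    rw [hU]; exact normalClosure_le_normal (by exact_mod_cast hWR)
  haveI hcRn : (centralizer (R : Set X)).Normal := Subgroup.normal_centralizer
  have hUcR : U ≤ centralizer (R : Set X) := by
    rw [hU]; exact normalClosure_le_normal (by exact_mod_cast hWcR)
  have hZc : ∀ x ∈ R ⊓ centralizer (R : Set X), ∀ y ∈ R ⊓ centralizer (R : Set X),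
      x * y = y * x := by
    intro x hx y hy
    exact (Subgroup.mem_centralizer_iff.mp hx.2 y hy.1).symm
  haveI hZn : (R ⊓ centralizer (R : Set X)).Normal := Subgroup.normal_inf_normal _ _
  have hUO : U ≤ omegaSub 2 (R ⊓ centralizer (R : Set X)) := by
    rw [hU]
    apply normalClosure_le_normal
    intro w hw
    apply mem_omegaSub (Subgroup.mem_inf.mpr ⟨hWR hw, hWcR hw⟩)
    rw [pow_two]; exact hW2 w hw
  have hUea : Cfsg.IsElementaryAbelian 2 U :=
    JComp.isElementaryAbelian_of_le (omegaSub_isEA hZc) hUO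
  have hUcomm : ∀ a ∈ U, ∀ b ∈ U, a * b = b * a := fun a ha b hb =>
    JComp.IsElementaryAbelian.comm' hUea ha hb
  have hUsq : ∀ u ∈ U, u * u = 1 := by
    intro u hu
    have := hUea.2 u hu
    rwa [pow_two] at this
  have hUinv : ∀ u ∈ U, u⁻¹ = u := by
    intro u hu
    exact inv_eq_of_mul_eq_one_left (hUsq u hu)
  obtain ⟨C, hC⟩ : ∃ C : Subgroup X, C = centralizer (U : Set X) := ⟨_, rfl⟩
  haveI hCn : C.Normal := hC ▸ Subgroup.normal_centralizer
  have hRC : R ≤ C := by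
    rw [hC]
    exact le_centralizer_iff.mp hUcR
  have hQC : Q ≤ C := hQR.trans hRC
  -- `[U, K] ≤ W`
  have hUK : ∀ u ∈ U, ∀ k ∈ K, k * u * k⁻¹ * u⁻¹ ∈ W := by
    intro u hu k hk
    obtain ⟨a, ha⟩ : ∃ a, a = k * u * k⁻¹ := ⟨_, rfl⟩
    obtain ⟨b, hb⟩ : ∃ b, b = k * a * k⁻¹ := ⟨_, rfl⟩
    have haU : a ∈ U := ha ▸ hUn.conj_mem u hu k
    have hbU : b ∈ U := hb ▸ hUn.conj_mem a haU k
    have hcu : k * b * k⁻¹ = u := by
      have h5 := (Subgroup.mem_centralizer_iff.mp (hC ▸ hQC (hk3 k hk))) u hu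
      calc k * b * k⁻¹ = (k ^ 3 * u) * (k ^ 3)⁻¹ := by
            rw [hb, ha, pow_succ, pow_succ, pow_one]; group
        _ = (u * k ^ 3) * (k ^ 3)⁻¹ := by rw [h5]
        _ = u := by group
    obtain ⟨v, hv⟩ : ∃ v, v = a * u⁻¹ := ⟨_, rfl⟩
    have hvU : v ∈ U := hv ▸ U.mul_mem haU (U.inv_mem hu)
    have hvK : v ∈ K := by
      have h1 : u * k⁻¹ * u⁻¹ ∈ K :=
        (Subgroup.mem_normalizer_iff.mp (hRK (hUR hu)) _).mp (K.inv_mem hk)
      have e : v = k * (u * k⁻¹ * u⁻¹) := by rw [hv, ha]; group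
      rw [e]; exact K.mul_mem hk h1
    have hvQ : v ∈ Q := hKR v hvK (hUR hvU)
    have hvcQ : v ∈ centralizer (Q : Set X) :=
      centralizer_le (by exact_mod_cast hQR) (hUcR hvU)
    have hv2 : v ^ 2 = 1 := by rw [pow_two]; exact hUsq v hvU
    have ht := hZQ v hvQ hvcQ hv2 k hk
    have hkt := hKconj k hk _ ht
    have e : k * (k * v * k⁻¹ * v⁻¹) * k⁻¹ = v := by
      have e1 : k * (k * v * k⁻¹ * v⁻¹) * k⁻¹ = u * b⁻¹ * a * b⁻¹ := by
        have e2 : k * (k * v * k⁻¹ * v⁻¹) * k⁻¹ = (k * b * k⁻¹) * b⁻¹ * a * b⁻¹ := by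
          rw [hv, hb, ha]; group
        rw [e2, hcu]
      rw [e1, hUinv b hbU, hv, hUinv u hu]
      calc u * b * a * b = u * (b * a) * b := by group
        _ = u * (a * b) * b := by rw [hUcomm b hbU a haU]
        _ = u * a * (b * b) := by group
        _ = u * a := by rw [hUsq b hbU, mul_one]
        _ = a * u := hUcomm u hu a haU
    rw [e] at hkt
    have e3 : k * u * k⁻¹ * u⁻¹ = v := by rw [hv, ha]
    rw [e3]; exact hkt
  -- `O₂(X / C_X(U)) = 1`
  have hOp : FMOp 2 U := by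
    intro D hDn hCD hidx
    rw [← hC] at hCD hidx ⊢
    apply le_antisymm ?_ hCD
    -- (a) `[D, K] ≤ C`
    have hpowD : IsPGroup 2 ↥(D.map (QuotientGroup.mk' C)) := by
      obtain ⟨j, hj⟩ := hidx
      apply IsPGroup.of_card (n := j)
      have h1 := Subgroup.relIndex_ker (K := D) (QuotientGroup.mk' C)
      rw [QuotientGroup.ker_mk'] at h1
      rw [← h1, hj]
    have hstep : ∀ d ∈ D, ∀ k ∈ K, d * k * d⁻¹ * k⁻¹ ∈ C := by
      intro d hd k hk
      have hπs : Function.Surjective (QuotientGroup.mk' C) := QuotientGroup.mk'_surjective C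
      have hDq : (D.map (QuotientGroup.mk' C)).Normal := Subgroup.Normal.map hDn _ hπs
      have hDqO : D.map (QuotientGroup.mk' C) ≤ Cfsg.pCore 2 (X ⧸ C) := le_pCore hDq hpowD
      have hKq : (K.map (QuotientGroup.mk' C)).IsSubnormal := hKsn.map hπs
      have hKqB : (Cfsg.pResidual 2 ↥(K.map (QuotientGroup.mk' C))).map
          (K.map (QuotientGroup.mk' C)).subtype = K.map (QuotientGroup.mk' C) := by
        rw [Cfsg.Agent.Lib.Helper54.map_pResidual_subtype]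
        apply le_antisymm
        · rw [Subgroup.closure_le]
          intro g hg
          exact hg.1
        · conv_lhs => rw [← hodd]
          rw [MonoidHom.map_closure, Subgroup.closure_le]
          rintro _ ⟨g, ⟨hgK, hgo⟩, rfl⟩
          apply Subgroup.subset_closure
          refine ⟨Subgroup.mem_map_of_mem _ hgK, ?_⟩
          have h1 := orderOf_map_dvd (QuotientGroup.mk' C) g
          exact Nat.Coprime.coprime_dvd_left h1 (Nat.coprime_two_right.mpr hgo)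
      have hnorm := Cfsg.Agent.Lib.Helper54.pCore_le_normalizer_of_isSubnormal hKq hKqB
      have hx1 : QuotientGroup.mk' C (d * k * d⁻¹ * k⁻¹) ∈ K.map (QuotientGroup.mk' C) := by
        rw [map_mul, map_mul, map_mul, map_inv, map_inv]
        have hdN := hnorm (hDqO (Subgroup.mem_map_of_mem _ hd))
        exact Subgroup.mul_mem _ ((Subgroup.mem_normalizer_iff.mp hdN _).mp
          (Subgroup.mem_map_of_mem _ hk)) (Subgroup.inv_mem _ (Subgroup.mem_map_of_mem _ hk))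
      have hx2 : QuotientGroup.mk' C (d * k * d⁻¹ * k⁻¹) ∈ D.map (QuotientGroup.mk' C) := by
        apply Subgroup.mem_map_of_mem
        have : d * k * d⁻¹ * k⁻¹ = d * (k * d⁻¹ * k⁻¹) := by group
        rw [this]
        exact D.mul_mem hd (hDn.conj_mem _ (D.inv_mem hd) k)
      obtain ⟨k', hk', hk'eq⟩ := hx1
      have hcube : (QuotientGroup.mk' C (d * k * d⁻¹ * k⁻¹)) ^ 3 = 1 := by
        rw [← hk'eq, ← map_pow]
        exact (QuotientGroup.eq_one_iff _).mpr (hQC (hk3 k' hk'))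
      obtain ⟨n, hn⟩ := hpowD ⟨_, hx2⟩
      have hn' : (QuotientGroup.mk' C (d * k * d⁻¹ * k⁻¹)) ^ 2 ^ n = 1 := by
        have := congrArg Subtype.val hn
        simpa using this
      have h3 := orderOf_dvd_of_pow_eq_one hcube
      have h2 := orderOf_dvd_of_pow_eq_one hn'
      have hg : Nat.gcd 3 (2 ^ n) = 1 := Nat.Coprime.pow_right n (by norm_num)
      have h1 : orderOf (QuotientGroup.mk' C (d * k * d⁻¹ * k⁻¹)) ∣ 1 := by
        rw [← hg]; exact Nat.dvd_gcd h3 h2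
      rw [Nat.dvd_one, orderOf_eq_one_iff] at h1
      exact (QuotientGroup.eq_one_iff _).mp h1
    -- (b) `D` normalizes `W`
    have hDW : D ≤ normalizer (W : Set X) := by
      intro d hd
      apply mem_normalizer_of_forall_conj_mem
      intro w hw
      obtain ⟨w', hw', rfl⟩ := fpf_surj hx₀conj hfpf w hw
      obtain ⟨u, hu⟩ : ∃ u, u = d * w' * d⁻¹ := ⟨_, rfl⟩
      have huU : u ∈ U := hu ▸ hUn.conj_mem w' (hWU hw') d
      obtain ⟨c, hc⟩ : ∃ c, c = d⁻¹ * x₀⁻¹ * d⁻¹⁻¹ * x₀⁻¹⁻¹ := ⟨_, rfl⟩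
      have hcC : c ∈ C := hc ▸ hstep d⁻¹ (D.inv_mem hd) x₀⁻¹ (K.inv_mem hx₀)
      have hcw : c * w' * c⁻¹ = w' := by
        have := (Subgroup.mem_centralizer_iff.mp (hC ▸ hcC)) w' (hWU hw')
        rw [← this]; group
      have e1 : d * (x₀ * w' * x₀⁻¹) * d⁻¹ = x₀ * u * x₀⁻¹ := by
        have e2 : d * (x₀ * w' * x₀⁻¹) * d⁻¹ = x₀ * (d * (c * w' * c⁻¹) * d⁻¹) * x₀⁻¹ := by
          rw [hc]; group
        rw [e2, hcw, ← hu]
      have e3 : d * (w' * (x₀ * w' * x₀⁻¹)⁻¹) * d⁻¹ = u * (x₀ * u * x₀⁻¹)⁻¹ := by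
        rw [← e1, hu]; group
      rw [e3]
      have h1 := W.inv_mem (hUK u huU x₀ hx₀)
      have e4 : (x₀ * u * x₀⁻¹ * u⁻¹)⁻¹ = u * (x₀ * u * x₀⁻¹)⁻¹ := by group
      rw [e4] at h1
      exact h1
    -- (c) powers
    have hpow : ∀ d ∈ D, ∃ j : ℕ, d ^ 2 ^ j ∈ centralizer (W : Set X) := by
      intro d hd
      obtain ⟨n, hn⟩ := hpowD ⟨_, Subgroup.mem_map_of_mem (QuotientGroup.mk' C) hd⟩
      have hn' : (QuotientGroup.mk' C d) ^ 2 ^ n = 1 := by
        have := congrArg Subtype.val hn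
        simpa using this
      rw [← map_pow] at hn'
      have h1 : d ^ 2 ^ n ∈ C := (QuotientGroup.eq_one_iff _).mp hn'
      rw [hC] at h1
      exact ⟨n, centralizer_le (by exact_mod_cast hWU) h1⟩
    -- (d) `D` centralizes `W`
    have hne := Cfsg.Agent.Lib.Helper54.inf_centralizer_ne_bot_of_pow_mem hDW hWp hW1 hpow
    obtain ⟨⟨x, hx⟩, hx1⟩ := (Subgroup.ne_bot_iff_exists_ne_one).mp hne
    have hx1' : x ≠ 1 := fun hh => hx1 (Subtype.ext hh)
    haveI hcDn : (centralizer (D : Set X)).Normal := Subgroup.normal_centralizer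
    have hWcD : W ≤ centralizer (D : Set X) :=
      fpf_le hW4 hx₀conj hfpf (fun u hu _ => hcDn.conj_mem u hu x₀) hx.2 hx.1 hx1'
    have hUcD : U ≤ centralizer (D : Set X) := by
      rw [hU]; exact normalClosure_le_normal (by exact_mod_cast hWcD)
    rw [hC]
    exact le_centralizer_iff.mp hUcD
  -- conclusion
  have hUT : U ≤ T := hUR.trans hRT
  have hkW : ∀ v ∈ U, v * x₀ * v⁻¹ * x₀⁻¹ ∈ W := by
    intro v hv
    have h1 := W.inv_mem (hUK v hv x₀ hx₀)
    have e4 : (x₀ * v * x₀⁻¹ * v⁻¹)⁻¹ = v * x₀ * v⁻¹ * x₀⁻¹ := by group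
    rw [e4] at h1
    exact h1
  have hk3' : x₀ ^ 3 ∈ centralizer (U : Set X) := hC ▸ hQC (hk3 x₀ hx₀)
  have hmain := jsub_normalizes U hUea hsep hOp hT hUT W hWU hW4 hx₀W hkW hfpf hk3'
  exact le_trans subset_normalClosure hmain

end JSub2

end Cfsg.Agent.Lib.Helper52
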