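import Mathlib
import Cfsg.Agent.Lib.Helper52.JSub2
import Cfsg.Agent.Lib.Helper01.Commutator

/-!
# Existence of `J(T)`-components, part 1: three elementary tools

* `replacement_card`: Thompson replacement for an elementary abelian subgroup `U ≤ T`;
* `card_fix_sq_le`: an involution inverting a fixed-point-free element of order `3` fixes at
  most `√|U|` points;
* `exists_second_layer`: the second layer of fixed points of a `2`-group.
-/

set_option autoImplicit false
set_option linter.unusedSectionVars false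
set_option linter.unusedVariables false
set_option linter.style.haveILetI false

namespace Cfsg.Agent.Lib.Helper52

open Cfsg Subgroup JComp
open scoped commutatorElement
open Cfsg.Agent.Lib.Helper15 (maxElemIn)

section JExist1

variable {G : Type*} [Group G] [Finite G]

/-- **Thompson replacement**, counting form: for `A ∈ 𝒜(T)`, an elementary abelian `U ≤ T` and
`A₁ ≤ C_A(U)`: `|U| |A₁| ≤ |A| |U ∩ A|`. -/
theorem replacement_card {T A U A₁ : Subgroup G} (hA : A ∈ maxElemIn 2 T) (hUT : U ≤ T)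
    (hU : IsElementaryAbelian 2 U) (hA₁A : A₁ ≤ A) (hA₁U : A₁ ≤ centralizer (U : Set G)) :
    Nat.card U * Nat.card A₁ ≤ Nat.card A * Nat.card (U ⊓ A : Subgroup G) := by
  have hE : IsElementaryAbelian 2 (A₁ ⊔ U) := by
    apply isElementaryAbelian_sup (isElementaryAbelian_of_le hA.2.1 hA₁A) hU
    intro x hx u hu
    exact (Subgroup.mem_centralizer_iff.mp (hA₁U hx) u hu).symm
  have hET : A₁ ⊔ U ≤ T := sup_le (hA₁A.trans hA.1) hUT
  have h1 : Nat.card ↥(A₁ ⊔ U) ≤ Nat.card A := hA.2.2 _ hET hE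
  have hn : A₁ ≤ normalizer (U : Set G) := hA₁U.trans (centralizer_le_normalizer _)
  have h2 := Cfsg.Agent.Lib.Helper01.card_sup_mul_card_inf_of_le_normalizer U A₁ hn
  have h3 : Nat.card (U ⊓ A₁ : Subgroup G) ≤ Nat.card (U ⊓ A : Subgroup G) :=
    Subgroup.card_le_of_le (inf_le_inf_left _ hA₁A)
  calc Nat.card U * Nat.card A₁ = Nat.card ↥(A₁ ⊔ U) * Nat.card (U ⊓ A₁ : Subgroup G) := h2.symm
    _ ≤ Nat.card A * Nat.card (U ⊓ A : Subgroup G) := Nat.mul_le_mul h1 h3

/-- an involution-like element `a` inverting `k` (`k³ = 1`, fixed-point-free on the abelian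
`k`-invariant subgroup `U`) fixes at most `√|U|` elements of `U` -/
theorem card_fix_sq_le {U : Subgroup G} {a k : G} (hUc : ∀ x ∈ U, ∀ y ∈ U, x * y = y * x)
    (hkU : ∀ u ∈ U, k * u * k⁻¹ ∈ U) (hk3 : k ^ 3 = 1)
    (hfpf : ∀ u ∈ U, k * u = u * k → u = 1) (hak : a * k * a⁻¹ = k⁻¹) :
    Nat.card (U ⊓ centralizer ({a} : Set G) : Subgroup G) ^ 2 ≤ Nat.card U := by
  obtain ⟨C, hC⟩ : ∃ C : Subgroup G, C = U ⊓ centralizer ({a} : Set G) := ⟨_, rfl⟩
  rw [← hC]
  have hCU : C ≤ U := hC ▸ inf_le_left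
  obtain ⟨C', hC'⟩ : ∃ C' : Subgroup G, C' = C.map (MulAut.conj k).toMonoidHom := ⟨_, rfl⟩
  have hC'U : C' ≤ U := by
    rw [hC']
    rintro _ ⟨c, hc, rfl⟩
    simp only [MulEquiv.coe_toMonoidHom, MulAut.conj_apply]
    exact hkU c (hCU hc)
  have hcard : Nat.card C' = Nat.card C := by
    rw [hC', Subgroup.card_map_of_injective (MulAut.conj k).injective]
  have hdisj : C ⊓ C' = ⊥ := by
    rw [eq_bot_iff]
    intro x hx
    rw [Subgroup.mem_bot]
    obtain ⟨hxC, hxC'⟩ := Subgroup.mem_inf.mp hx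
    rw [hC'] at hxC'
    obtain ⟨y, hy, rfl⟩ := hxC'
    simp only [MulEquiv.coe_toMonoidHom, MulAut.conj_apply] at hxC ⊢
    rw [hC] at hxC hy
    have hya : a * y = y * a := (Subgroup.mem_centralizer_singleton_iff.mp hy.2).symm
    have hxa : a * (k * y * k⁻¹) = (k * y * k⁻¹) * a :=
      (Subgroup.mem_centralizer_singleton_iff.mp hxC.2).symm
    -- `k y k⁻¹ = k⁻¹ y k`
    have hak' : a * k = k⁻¹ * a := by
      calc a * k = (a * k * a⁻¹) * a := by group
        _ = k⁻¹ * a := by rw [hak]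
    have hak'' : a * k⁻¹ = k * a := by
      have : a * k⁻¹ * a⁻¹ = k := by
        have e0 : a * k⁻¹ * a⁻¹ = (a * k * a⁻¹)⁻¹ := by group
        rw [e0, hak, inv_inv]
      calc a * k⁻¹ = (a * k⁻¹ * a⁻¹) * a := by group
        _ = k * a := by rw [this]
    have h1 : k * y * k⁻¹ = k⁻¹ * y * k := by
      have e1 : a * (k * y * k⁻¹) = (k⁻¹ * y * k) * a := by
        calc a * (k * y * k⁻¹) = (a * k) * y * k⁻¹ := by group
          _ = (k⁻¹ * a) * y * k⁻¹ := by rw [hak']
          _ = k⁻¹ * (a * y) * k⁻¹ := by group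
          _ = k⁻¹ * (y * a) * k⁻¹ := by rw [hya]
          _ = k⁻¹ * y * (a * k⁻¹) := by group
          _ = k⁻¹ * y * (k * a) := by rw [hak'']
          _ = (k⁻¹ * y * k) * a := by group
      have e2 : (k * y * k⁻¹) * a = (k⁻¹ * y * k) * a := by rw [← hxa, e1]
      exact mul_right_cancel e2
    have hk2 : k * k = k⁻¹ := by
      have : k * k * k = 1 := by rw [← hk3, pow_succ, pow_succ, pow_one]
      calc k * k = (k * k * k) * k⁻¹ := by group
        _ = k⁻¹ := by rw [this, one_mul]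
    have h2 : k * y = y * k := by
      have e3 : k * (k * y * k⁻¹) * k⁻¹ = y := by
        rw [h1]; group
      have e4 : k * (k * y * k⁻¹) * k⁻¹ = k⁻¹ * y * k := by
        calc k * (k * y * k⁻¹) * k⁻¹ = (k * k) * y * (k * k)⁻¹ := by group
          _ = k⁻¹ * y * k := by rw [hk2]; group
      have e5 : k⁻¹ * y * k = y := by rw [← e4, e3]
      calc k * y = k * (k⁻¹ * y * k) := by rw [e5]
        _ = y * k := by group
    have hy1 : y = 1 := hfpf y hy.1 h2
    rw [hy1]; group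
  have hn : C' ≤ normalizer (C : Set G) := le_normalizer_of_le_comm hUc hC'U hCU
  have h2 := Cfsg.Agent.Lib.Helper01.card_sup_mul_card_inf_of_le_normalizer C C' hn
  rw [hdisj, Subgroup.card_bot, mul_one, hcard] at h2
  have h3 : Nat.card ↥(C' ⊔ C) ≤ Nat.card U := Subgroup.card_le_of_le (sup_le hC'U hCU)
  rw [pow_two, ← h2]
  exact h3

/-- **second layer**: if the `2`-group `R` normalizes `Z₀ ≤ R` and `Z₀` is not centralized by
`R`, there is `w ∈ Z₀` outside `U = C_{Z₀}(R)` with `[w, R] ≤ U` -/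
theorem exists_second_layer {R Z₀ U : Subgroup G} (hR : IsPGroup 2 ↥R) (hZR : Z₀ ≤ R)
    (hRZ : R ≤ normalizer (Z₀ : Set G)) (hU : U = Z₀ ⊓ centralizer (R : Set G))
    (hne : ¬ Z₀ ≤ U) :
    ∃ w ∈ Z₀, w ∉ U ∧ ∀ r ∈ R, r * w * r⁻¹ * w⁻¹ ∈ U := by
  haveI : Fact (Nat.Prime 2) := ⟨Nat.prime_two⟩
  have hUZ : U ≤ Z₀ := hU ▸ inf_le_left
  have hUR : U ≤ R := hUZ.trans hZR
  have hUc : U ≤ centralizer (R : Set G) := hU ▸ inf_le_right
  haveI hUn : (U.subgroupOf R).Normal := by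
    apply Subgroup.normal_subgroupOf_of_le_normalizer
    intro r hr
    apply mem_normalizer_of_forall_conj_mem
    intro u hu
    have := Subgroup.mem_centralizer_iff.mp (hUc hu) r hr
    have e : r * u * r⁻¹ = u := by rw [this]; group
    rw [e]; exact hu
  haveI hZn : (Z₀.subgroupOf R).Normal := Subgroup.normal_subgroupOf_of_le_normalizer hRZ
  obtain ⟨N, hN⟩ : ∃ N : Subgroup (↥R ⧸ U.subgroupOf R),
      N = (Z₀.subgroupOf R).map (QuotientGroup.mk' (U.subgroupOf R)) := ⟨_, rfl⟩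
  haveI hNn : N.Normal :=
    hN ▸ Subgroup.Normal.map hZn _ (QuotientGroup.mk'_surjective _)
  have hNne : N ≠ ⊥ := by
    intro e
    apply hne
    intro z hz
    have h1 : QuotientGroup.mk' (U.subgroupOf R) ⟨z, hZR hz⟩ ∈ N := by
      rw [hN]
      exact Subgroup.mem_map_of_mem _ (Subgroup.mem_subgroupOf.mpr hz)
    rw [e, Subgroup.mem_bot] at h1
    have h2 := (QuotientGroup.eq_one_iff _).mp h1
    exact Subgroup.mem_subgroupOf.mp h2
  have hq2 : IsPGroup 2 (↥R ⧸ U.subgroupOf R) := hR.to_quotient _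
  obtain ⟨x, hxN, hxZ, hx1⟩ :=
    Cfsg.Agent.Lib.Helper38.normal_inf_center_ne_bot 2 hq2 N hNne
  rw [hN] at hxN
  obtain ⟨z, hz, rfl⟩ := hxN
  refine ⟨(z : G), Subgroup.mem_subgroupOf.mp hz, ?_, ?_⟩
  · intro hzU
    apply hx1
    exact (QuotientGroup.eq_one_iff _).mpr (Subgroup.mem_subgroupOf.mpr hzU)
  · intro r hr
    have h1 := Subgroup.mem_center_iff.mp hxZ (QuotientGroup.mk' (U.subgroupOf R) ⟨r, hr⟩)
    have h2 : QuotientGroup.mk' (U.subgroupOf R) (⟨r, hr⟩ * z * ⟨r, hr⟩⁻¹ * z⁻¹) = 1 := by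
      rw [map_mul, map_mul, map_mul, map_inv, map_inv, h1]
      group
    have h3 := (QuotientGroup.eq_one_iff _).mp h2
    have h4 := Subgroup.mem_subgroupOf.mp h3
    simpa using h4

end JExist1

end Cfsg.Agent.Lib.Helper52
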