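import Mathlib
import Cfsg.Agent.Lib.Helper52.JExist1

/-!
# Existence of `J(T)`-components, part 2: the subgroup `K = O²(P⟨k⟩)` and its first properties
-/

set_option autoImplicit false
set_option linter.unusedSectionVars false
set_option linter.unusedVariables false
set_option linter.style.haveILetI false

namespace Cfsg.Agent.Lib.Helper52

open Cfsg Subgroup JComp
open scoped commutatorElement
open Cfsg.Agent.Lib.Helper15 (maxElemIn)

section JExist2

variable {G : Type*} [Group G]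

/-- hypotheses of the construction: a normal `2`-subgroup `P` of the `2`-group `T`, an element `k`
of order `3` normalizing `P`, inverted by an element `a` of some `A ∈ 𝒜(T)`, such that `⟨k⟩P` is
`J(T)`-invariant -/
structure EHyp (P T A : Subgroup G) (a k : G) : Prop where
  hPT : P ≤ T
  hT2 : IsPGroup 2 ↥T
  hTP : T ≤ normalizer (P : Set G)
  hkP : k ∈ normalizer (P : Set G)
  hk3 : k ^ 3 = 1
  hk1 : k ≠ 1
  hA : A ∈ maxElemIn 2 T
  haA : a ∈ A
  hak : a * k * a⁻¹ = k⁻¹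
  hJk : ∀ j ∈ thompsonSubgroupOf 2 T, j * k * j⁻¹ * k⁻¹ ∈ P ∨ j * k * j⁻¹ * k ∈ P

/-- `P⟨k⟩` -/
def eK₂ (P : Subgroup G) (k : G) : Subgroup G := P ⊔ zpowers k

/-- `O²(P⟨k⟩)` -/
def eK (P : Subgroup G) (k : G) : Subgroup G :=
  Subgroup.closure {g : G | g ∈ eK₂ P k ∧ Odd (orderOf g)}

namespace EHyp

variable {P T A : Subgroup G} {a k : G}

theorem a_sq (h : EHyp P T A a k) : a * a = 1 := by
  have := h.hA.2.1.2 a h.haA
  rwa [pow_two] at this

theorem a_inv (h : EHyp P T A a k) : a⁻¹ = a := inv_eq_of_mul_eq_one_left h.a_sq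

theorem orderOf_k (h : EHyp P T A a k) : orderOf k = 3 :=
  haveI : Fact (Nat.Prime 3) := ⟨Nat.prime_three⟩
  orderOf_eq_prime h.hk3 h.hk1

theorem k_sq (h : EHyp P T A a k) : k * k = k⁻¹ := by
  have : k * k * k = 1 := by rw [← h.hk3, pow_succ, pow_succ, pow_one]
  calc k * k = (k * k * k) * k⁻¹ := by group
    _ = k⁻¹ := by rw [this, one_mul]

theorem P_isPGroup (h : EHyp P T A a k) : IsPGroup 2 ↥P := h.hT2.to_le h.hPT

theorem zpowers_le_normalizer (h : EHyp P T A a k) : zpowers k ≤ normalizer (P : Set G) :=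
  zpowers_le.mpr h.hkP

theorem pow_three_of_mem_zpowers (h : EHyp P T A a k) {z : G} (hz : z ∈ zpowers k) :
    z ^ 3 = 1 := by
  obtain ⟨n, rfl⟩ := mem_zpowers_iff.mp hz
  rw [← zpow_natCast, ← zpow_mul, mul_comm, zpow_mul, zpow_natCast, h.hk3, one_zpow]

theorem P_le_K₂ (h : EHyp P T A a k) : P ≤ eK₂ P k := le_sup_left

theorem k_mem_K₂ (h : EHyp P T A a k) : k ∈ eK₂ P k :=
  (le_sup_right : zpowers k ≤ P ⊔ zpowers k) (mem_zpowers k)

theorem K₂_le_normalizer (h : EHyp P T A a k) : eK₂ P k ≤ normalizer (P : Set G) :=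
  sup_le le_normalizer h.zpowers_le_normalizer

theorem conj_mem_P (h : EHyp P T A a k) {g p : G} (hg : g ∈ normalizer (P : Set G))
    (hp : p ∈ P) : g * p * g⁻¹ ∈ P := conj_mem_of_mem_normalizer hg hp

/-- elements of `P⟨k⟩` -/
theorem mem_K₂ (h : EHyp P T A a k) {g : G} (hg : g ∈ eK₂ P k) :
    ∃ z ∈ zpowers k, ∃ p ∈ P, g = z * p := by
  have hg' : g ∈ zpowers k ⊔ P := by
    rw [sup_comm]; exact hg
  exact Cfsg.Agent.Lib.Helper01.exists_mul_of_mem_sup h.zpowers_le_normalizer hg'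

/-- cubes of elements of `P⟨k⟩` lie in `P` -/
theorem pow_three_mem_P (h : EHyp P T A a k) {g : G} (hg : g ∈ eK₂ P k) : g ^ 3 ∈ P := by
  obtain ⟨z, hz, p, hp, rfl⟩ := h.mem_K₂ hg
  have hzN : z ∈ normalizer (P : Set G) := h.zpowers_le_normalizer hz
  have hz3 := h.pow_three_of_mem_zpowers hz
  have e : (z * p) ^ 3 = z ^ 3 * ((z⁻¹ * z⁻¹) * p * (z⁻¹ * z⁻¹)⁻¹) * (z⁻¹ * p * z⁻¹⁻¹) * p := by
    rw [pow_succ, pow_succ, pow_one, pow_succ, pow_succ, pow_one]; group
  rw [e, hz3, one_mul]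
  have hz1 : z⁻¹ ∈ normalizer (P : Set G) := inv_mem hzN
  exact P.mul_mem (P.mul_mem (h.conj_mem_P (mul_mem hz1 hz1) hp) (h.conj_mem_P hz1 hp)) hp

theorem K_le (h : EHyp P T A a k) : eK P k ≤ eK₂ P k := by
  unfold eK
  rw [closure_le]
  intro g hg
  exact hg.1

theorem k_mem_K (h : EHyp P T A a k) : k ∈ eK P k := by
  apply Subgroup.subset_closure
  refine ⟨h.k_mem_K₂, ?_⟩
  rw [h.orderOf_k]
  decide

theorem zpowers_le_K (h : EHyp P T A a k) : zpowers k ≤ eK P k := zpowers_le.mpr h.k_mem_K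

theorem closure_odd_K (h : EHyp P T A a k) :
    Subgroup.closure {g : G | g ∈ eK P k ∧ Odd (orderOf g)} = eK P k := by
  apply le_antisymm
  · rw [closure_le]
    intro g hg
    exact hg.1
  · conv_lhs => unfold eK
    rw [closure_le]
    intro g hg
    apply Subgroup.subset_closure
    exact ⟨Subgroup.subset_closure hg, hg.2⟩

/-- everything normalizing `P⟨k⟩` normalizes `K` -/
theorem normalizer_K₂_le [Finite G] (h : EHyp P T A a k) :
    normalizer ((eK₂ P k : Subgroup G) : Set G) ≤ normalizer ((eK P k : Subgroup G) : Set G) := by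
  intro g hg
  apply mem_normalizer_of_forall_conj_mem
  intro x hx
  unfold eK at hx ⊢
  induction hx using closure_induction with
  | mem y hy =>
    apply Subgroup.subset_closure
    refine ⟨(mem_normalizer_iff.mp hg y).mp hy.1, ?_⟩
    have := orderOf_injective (MulAut.conj g).toMonoidHom (MulAut.conj g).injective y
    simp only [MulEquiv.coe_toMonoidHom, MulAut.conj_apply] at this
    rw [this]
    exact hy.2
  | one => simp
  | mul y z _ _ hy hz =>
    have : g * (y * z) * g⁻¹ = (g * y * g⁻¹) * (g * z * g⁻¹) := by group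
    rw [this]; exact mul_mem hy hz
  | inv y _ hy =>
    have : g * y⁻¹ * g⁻¹ = (g * y * g⁻¹)⁻¹ := by group
    rw [this]; exact inv_mem hy

theorem K₂_le_normalizer_K [Finite G] (h : EHyp P T A a k) :
    eK₂ P k ≤ normalizer ((eK P k : Subgroup G) : Set G) :=
  le_normalizer.trans h.normalizer_K₂_le

theorem J_le_T (h : EHyp P T A a k) : thompsonSubgroupOf 2 T ≤ T :=
  Cfsg.Agent.Lib.Helper15.thompsonSubgroupOf_le 2 T

/-- `J(T)` normalizes `P⟨k⟩` -/
theorem J_le_normalizer_K₂ [Finite G] (h : EHyp P T A a k) :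
    thompsonSubgroupOf 2 T ≤ normalizer ((eK₂ P k : Subgroup G) : Set G) := by
  intro j hj
  have hjP : j ∈ normalizer (P : Set G) := h.hTP (h.J_le_T hj)
  have hjk : j * k * j⁻¹ ∈ eK₂ P k := by
    rcases h.hJk j hj with h1 | h1
    · have e : j * k * j⁻¹ = (j * k * j⁻¹ * k⁻¹) * k := by group
      rw [e]
      exact mul_mem (h.P_le_K₂ h1) h.k_mem_K₂
    · have e : j * k * j⁻¹ = (j * k * j⁻¹ * k) * k⁻¹ := by group
      rw [e]
      exact mul_mem (h.P_le_K₂ h1) (inv_mem h.k_mem_K₂)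
  apply mem_normalizer_of_forall_conj_mem
  intro x hx
  obtain ⟨z, hz, p, hp, rfl⟩ := h.mem_K₂ hx
  have e : j * (z * p) * j⁻¹ = (j * z * j⁻¹) * (j * p * j⁻¹) := by group
  rw [e]
  refine mul_mem ?_ (h.P_le_K₂ (h.conj_mem_P hjP hp))
  obtain ⟨n, rfl⟩ := mem_zpowers_iff.mp hz
  have e2 : j * k ^ n * j⁻¹ = (j * k * j⁻¹) ^ n := by
    rw [conj_zpow]
  rw [e2]
  exact zpow_mem hjk n

theorem J_le_normalizer_K [Finite G] (h : EHyp P T A a k) :
    thompsonSubgroupOf 2 T ≤ normalizer ((eK P k : Subgroup G) : Set G) :=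
  h.J_le_normalizer_K₂.trans h.normalizer_K₂_le

theorem P_le_normalizer_K [Finite G] (h : EHyp P T A a k) :
    P ≤ normalizer ((eK P k : Subgroup G) : Set G) :=
  h.P_le_K₂.trans h.K₂_le_normalizer_K

theorem Q_isPGroup (h : EHyp P T A a k) : IsPGroup 2 ↥(eK P k ⊓ P) :=
  h.P_isPGroup.to_le inf_le_right

/-- elements of `K` -/
theorem mem_K (h : EHyp P T A a k) {g : G} (hg : g ∈ eK P k) :
    ∃ z ∈ zpowers k, ∃ q ∈ eK P k ⊓ P, g = z * q := by
  obtain ⟨z, hz, p, hp, rfl⟩ := h.mem_K₂ (h.K_le hg)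
  refine ⟨z, hz, p, ?_, rfl⟩
  refine mem_inf.mpr ⟨?_, hp⟩
  have : p = z⁻¹ * (z * p) := by group
  rw [this]
  exact mul_mem (inv_mem (h.zpowers_le_K hz)) hg

theorem pow_three_mem_Q (h : EHyp P T A a k) {g : G} (hg : g ∈ eK P k) :
    g ^ 3 ∈ eK P k ⊓ P :=
  mem_inf.mpr ⟨pow_mem hg 3, h.pow_three_mem_P (h.K_le hg)⟩

theorem K_le_normalizer_Q (h : EHyp P T A a k) :
    eK P k ≤ normalizer ((eK P k ⊓ P : Subgroup G) : Set G) := by
  intro g hg
  rw [mem_normalizer_iff]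
  intro x
  have hgP := h.K₂_le_normalizer (h.K_le hg)
  rw [mem_inf, mem_inf]
  constructor
  · rintro ⟨h1, h2⟩
    exact ⟨mul_mem (mul_mem hg h1) (inv_mem hg), (mem_normalizer_iff.mp hgP x).mp h2⟩
  · rintro ⟨h1, h2⟩
    refine ⟨?_, (mem_normalizer_iff.mp hgP x).mpr h2⟩
    have : x = g⁻¹ * (g * x * g⁻¹) * g := by group
    rw [this]
    exact mul_mem (mul_mem (inv_mem hg) h1) hg

/-- `O₂(K) = K ∩ P` -/
theorem pCoreOf_K [Finite G] (h : EHyp P T A a k) : pCoreOf 2 (eK P k) = eK P k ⊓ P := by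
  haveI : Fact (Nat.Prime 2) := ⟨Nat.prime_two⟩
  apply le_antisymm
  · intro x hx
    have hxK : x ∈ eK P k := Cfsg.Agent.Lib.Helper54.pCoreOf_le 2 _ hx
    obtain ⟨n, hn⟩ := Cfsg.Agent.Lib.Helper54.isPGroup_pCoreOf 2 (eK P k) ⟨x, hx⟩
    have hn' : x ^ 2 ^ n = 1 := by
      have := congrArg Subtype.val hn
      simpa using this
    exact mem_of_pow_three_of_two_pow (h.pow_three_mem_Q hxK) hn'
  · exact Cfsg.Agent.Lib.Helper54.le_pCoreOf inf_le_left h.K_le_normalizer_Q h.Q_isPGroup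

theorem Q_inf_zpowers [Finite G] (h : EHyp P T A a k) : (eK P k ⊓ P) ⊓ zpowers k = ⊥ := by
  rw [eq_bot_iff]
  intro x hx
  obtain ⟨hxQ, hxz⟩ := mem_inf.mp hx
  obtain ⟨n, hn⟩ := h.Q_isPGroup ⟨x, hxQ⟩
  have hn' : x ^ 2 ^ n = 1 := by
    have := congrArg Subtype.val hn
    simpa using this
  have h3 : x ^ 3 ∈ (⊥ : Subgroup G) := by
    rw [mem_bot]; exact h.pow_three_of_mem_zpowers hxz
  exact mem_of_pow_three_of_two_pow h3 hn'

theorem K_eq_sup (h : EHyp P T A a k) : eK P k = zpowers k ⊔ (eK P k ⊓ P) := by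
  apply le_antisymm
  · intro g hg
    obtain ⟨z, hz, q, hq, rfl⟩ := h.mem_K hg
    exact mul_mem (mem_sup_left hz) (mem_sup_right hq)
  · exact sup_le h.zpowers_le_K inf_le_left

/-- `|K| = 3 |O₂(K)|` -/
theorem card_K [Finite G] (h : EHyp P T A a k) :
    Nat.card ↥(eK P k) = Nat.card ↥(eK P k ⊓ P) * 3 := by
  have hn : zpowers k ≤ normalizer ((eK P k ⊓ P : Subgroup G) : Set G) :=
    h.zpowers_le_K.trans h.K_le_normalizer_Q
  have h2 := Cfsg.Agent.Lib.Helper01.card_sup_mul_card_inf_of_le_normalizer _ _ hn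
  rw [h.Q_inf_zpowers, Subgroup.card_bot, mul_one, ← h.K_eq_sup, Nat.card_zpowers,
    h.orderOf_k] at h2
  exact h2

/-- `|K : O₂(K)| = 3` -/
theorem relIndex_K [Finite G] (h : EHyp P T A a k) :
    (pCoreOf 2 (eK P k)).relIndex (eK P k) = 3 := by
  rw [h.pCoreOf_K]
  have h1 := Subgroup.relIndex_mul_relIndex (H := (⊥ : Subgroup G)) (K := eK P k ⊓ P)
    (L := eK P k) bot_le inf_le_left
  rw [Subgroup.relIndex_bot_left, Subgroup.relIndex_bot_left, h.card_K] at h1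
  have hpos : 0 < Nat.card ↥(eK P k ⊓ P) := Nat.card_pos
  exact Nat.eq_of_mul_eq_mul_left hpos h1

/-- `K = O²(K)` in residual form -/
theorem pResidual_K (h : EHyp P T A a k) :
    (Cfsg.pResidual 2 ↥(eK P k)).map (eK P k).subtype = eK P k := by
  rw [Cfsg.Agent.Lib.Helper54.map_pResidual_subtype]
  conv_rhs => rw [← h.closure_odd_K]
  congr 1
  ext g
  constructor
  · rintro ⟨h1, h2⟩
    exact ⟨h1, Nat.coprime_two_right.mp h2⟩
  · rintro ⟨h1, h2⟩
    exact ⟨h1, Nat.coprime_two_right.mpr h2⟩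

/-- a normal subgroup of `K` containing `k` is `K` -/
theorem eq_K_of_normal [Finite G] (h : EHyp P T A a k) {N : Subgroup G} (hNK : N ≤ eK P k)
    (hKN : eK P k ≤ normalizer (N : Set G)) (hkN : k ∈ N) : N = eK P k := by
  haveI : Fact (Nat.Prime 2) := ⟨Nat.prime_two⟩
  apply le_antisymm hNK
  have hzN : zpowers k ≤ N := zpowers_le.mpr hkN
  -- every element of `K` has a `2`-power in `N`
  have hpow : ∀ x ∈ eK P k, ∃ n : ℕ, x ^ 2 ^ n ∈ N := by
    intro x hx
    obtain ⟨z, hz, q, hq, rfl⟩ := h.mem_K hx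
    have hqK : q ∈ eK P k := hq.1
    have key : ∀ m : ℕ, (q ^ m)⁻¹ * (z * q) ^ m ∈ N := by
      intro m
      induction m with
      | zero => simp
      | succ m ih =>
        have e : (q ^ (m + 1))⁻¹ * (z * q) ^ (m + 1) =
            q⁻¹ * (((q ^ m)⁻¹ * (z * q) ^ m) * z) * q⁻¹⁻¹ := by
          rw [pow_succ, pow_succ]; group
        rw [e]
        exact conj_mem_of_mem_normalizer (hKN (inv_mem hqK)) (mul_mem ih (hzN hz))
    obtain ⟨n, hn⟩ := h.Q_isPGroup ⟨q, hq⟩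
    have hn' : q ^ 2 ^ n = 1 := by
      have := congrArg Subtype.val hn
      simpa using this
    refine ⟨n, ?_⟩
    have := key (2 ^ n)
    rwa [hn', inv_one, one_mul] at this
  haveI hNn : (N.subgroupOf (eK P k)).Normal := Subgroup.normal_subgroupOf_of_le_normalizer hKN
  have h1 : Cfsg.pResidual 2 ↥(eK P k) ≤ N.subgroupOf (eK P k) := by
    apply Cfsg.Agent.Lib.Helper54.pResidual_le_of_forall_pow_mem
    intro g
    obtain ⟨n, hn⟩ := hpow g.1 g.2
    refine ⟨n, ?_⟩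
    rw [mem_subgroupOf, Subgroup.coe_pow]
    exact hn
  have h2 := Subgroup.map_mono (f := (eK P k).subtype) h1
  rw [h.pResidual_K] at h2
  refine h2.trans ?_
  rintro _ ⟨x, hx, rfl⟩
  exact mem_subgroupOf.mp hx

/-- `[K, J(T)] = K` -/
theorem commutator_K_J [Finite G] (h : EHyp P T A a k) :
    ⁅eK P k, thompsonSubgroupOf 2 T⁆ = eK P k := by
  have hle : ⁅eK P k, thompsonSubgroupOf 2 T⁆ ≤ eK P k := by
    rw [commutator_le]
    intro x hx j hj
    rw [commutatorElement_def]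
    have h1 : j * x⁻¹ * j⁻¹ ∈ eK P k :=
      conj_mem_of_mem_normalizer (h.J_le_normalizer_K hj) (inv_mem hx)
    have e : x * j * x⁻¹ * j⁻¹ = x * (j * x⁻¹ * j⁻¹) := by group
    rw [e]
    exact mul_mem hx h1
  apply h.eq_K_of_normal hle
    (Cfsg.Agent.Lib.Helper01.le_normalizer_commutator_left _ _)
  have haJ : a ∈ thompsonSubgroupOf 2 T := by
    rw [Cfsg.Agent.Lib.Helper15.thompsonSubgroupOf_eq]
    exact (le_sSup h.hA) h.haA
  have h1 : ⁅k, a⁆ ∈ ⁅eK P k, thompsonSubgroupOf 2 T⁆ := commutator_mem_commutator h.k_mem_K haJ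
  have e : ⁅k, a⁆ = k * k := by
    rw [commutatorElement_def]
    have : k * a * k⁻¹ * a⁻¹ = k * (a * k * a⁻¹)⁻¹ := by group
    rw [this, h.hak, inv_inv]
  rw [e] at h1
  have h2 := mul_mem h1 h1
  have e2 : k * k * (k * k) = k := by
    have : k * k * (k * k) = k ^ 3 * k := by
      rw [pow_succ, pow_succ, pow_one]; group
    rw [this, h.hk3, one_mul]
  rwa [e2] at h2

end EHyp

end JExist2

end Cfsg.Agent.Lib.Helper52
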