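import Mathlib
import Cfsg.Agent.Lib.Helper52.JExist2

/-!
# Existence of `J(T)`-components, part 3: the module lemma

An elementary abelian `2`-group `Z₀` on which an element `k` of order `3` acts fixed-point-freely,
normalized by a `2`-group `R` commuting with the action of `k`, where `R` contains a subgroup of
index at most `2` of some `A ∈ 𝒜(T)` containing an element inverting `k`: then `|Z₀| = 4`.
-/

set_option autoImplicit false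
set_option linter.unusedSectionVars false
set_option linter.unusedVariables false
set_option linter.style.haveILetI false

namespace Cfsg.Agent.Lib.Helper52

open Cfsg Subgroup JComp
open scoped commutatorElement
open Cfsg.Agent.Lib.Helper15 (maxElemIn)

section JExist3

variable {G : Type*} [Group G] [Finite G]

/-- index at most two, counting form -/
theorem card_le_two_mul_of_coset {H K : Subgroup G} (hHK : H ≤ K)
    (h : ∃ a ∈ K, ∀ b ∈ K, b * a ∈ H ∨ b ∈ H) : Nat.card K ≤ 2 * Nat.card H := by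
  have h1 : H.relIndex K ∣ 2 := Subgroup.relIndex_dvd_two_iff.mpr h
  have h2 : H.relIndex K ≤ 2 := Nat.le_of_dvd (by norm_num) h1
  have h3 := Subgroup.relIndex_mul_relIndex (H := (⊥ : Subgroup G)) (K := H) (L := K) bot_le hHK
  rw [Subgroup.relIndex_bot_left, Subgroup.relIndex_bot_left] at h3
  calc Nat.card K = Nat.card H * H.relIndex K := h3.symm
    _ ≤ Nat.card H * 2 := Nat.mul_le_mul_left _ h2
    _ = 2 * Nat.card H := mul_comm _ _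

/-- a proper subgroup has at most half the order -/
theorem two_mul_card_le_of_lt {H K : Subgroup G} (hHK : H ≤ K) (hne : ∃ x ∈ K, x ∉ H) :
    2 * Nat.card H ≤ Nat.card K := by
  have h3 := Subgroup.relIndex_mul_relIndex (H := (⊥ : Subgroup G)) (K := H) (L := K) bot_le hHK
  rw [Subgroup.relIndex_bot_left, Subgroup.relIndex_bot_left] at h3
  have h1 : H.relIndex K ≠ 1 := by
    intro e
    rw [Subgroup.relIndex_eq_one] at e
    obtain ⟨x, hxK, hxH⟩ := hne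
    exact hxH (e hxK)
  have h0 : H.relIndex K ≠ 0 := by
    intro e
    rw [e, mul_zero] at h3
    exact (Nat.card_pos (α := K)).ne' h3.symm
  have h2 : 2 ≤ H.relIndex K := by omega
  calc 2 * Nat.card H = Nat.card H * 2 := mul_comm _ _
    _ ≤ Nat.card H * H.relIndex K := Nat.mul_le_mul_left _ h2
    _ = Nat.card K := h3

/-- hypotheses of the module lemma -/
structure MHyp (T A A₀ R Z₀ : Subgroup G) (a k : G) : Prop where
  hA : A ∈ maxElemIn 2 T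
  haA : a ∈ A
  hak : a * k * a⁻¹ = k⁻¹
  hk3 : k ^ 3 = 1
  hT2 : IsPGroup 2 ↥T
  hRT : R ≤ T
  hA₀A : A₀ ≤ A
  hA₀R : A₀ ≤ R
  hAA₀ : Nat.card A ≤ 2 * Nat.card A₀
  hZR : Z₀ ≤ R
  hZc : ∀ x ∈ Z₀, ∀ y ∈ Z₀, x * y = y * x
  hZ2 : ∀ x ∈ Z₀, x * x = 1
  hRZ : R ≤ normalizer (Z₀ : Set G)
  hkZ : ∀ z ∈ Z₀, k * z * k⁻¹ ∈ Z₀
  haZ : ∀ z ∈ Z₀, a * z * a⁻¹ ∈ Z₀
  haR : ∀ r ∈ R, a * r * a⁻¹ ∈ R
  hcomm : ∀ r ∈ R, ∀ z ∈ Z₀, r * (k * z * k⁻¹) * r⁻¹ = k * (r * z * r⁻¹) * k⁻¹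
  hfpf : ∀ z ∈ Z₀, k * z = z * k → z = 1
  hZne : Z₀ ≠ ⊥

namespace MHyp

variable {T A A₀ R Z₀ : Subgroup G} {a k : G}

theorem a_sq (h : MHyp T A A₀ R Z₀ a k) : a * a = 1 := by
  have := h.hA.2.1.2 a h.haA
  rwa [pow_two] at this

theorem a_inv (h : MHyp T A A₀ R Z₀ a k) : a⁻¹ = a := inv_eq_of_mul_eq_one_left h.a_sq

theorem k_sq (h : MHyp T A A₀ R Z₀ a k) : k * k = k⁻¹ := by
  have : k * k * k = 1 := by rw [← h.hk3, pow_succ, pow_succ, pow_one]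
  calc k * k = (k * k * k) * k⁻¹ := by group
    _ = k⁻¹ := by rw [this, one_mul]

theorem z_inv (h : MHyp T A A₀ R Z₀ a k) {z : G} (hz : z ∈ Z₀) : z⁻¹ = z :=
  inv_eq_of_mul_eq_one_left (h.hZ2 z hz)

theorem ak (h : MHyp T A A₀ R Z₀ a k) : a * k = k⁻¹ * a := by
  calc a * k = (a * k * a⁻¹) * a := by group
    _ = k⁻¹ * a := by rw [h.hak]

theorem ak' (h : MHyp T A A₀ R Z₀ a k) : a * k⁻¹ = k * a := by
  have : a * k⁻¹ * a⁻¹ = k := by
    have e0 : a * k⁻¹ * a⁻¹ = (a * k * a⁻¹)⁻¹ := by group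
    rw [e0, h.hak, inv_inv]
  calc a * k⁻¹ = (a * k⁻¹ * a⁻¹) * a := by group
    _ = k * a := by rw [this]

theorem kinv_mem (h : MHyp T A A₀ R Z₀ a k) {z : G} (hz : z ∈ Z₀) : k⁻¹ * z * k ∈ Z₀ := by
  have h1 := h.hkZ _ (h.hkZ z hz)
  have e : k * (k * z * k⁻¹) * k⁻¹ = k⁻¹ * z * k := by
    calc k * (k * z * k⁻¹) * k⁻¹ = (k * k) * z * (k * k)⁻¹ := by group
      _ = k⁻¹ * z * k := by rw [h.k_sq]; group
  rwa [e] at h1

/-- the norm map is trivial on `Z₀` -/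
theorem sigma_eq_one (h : MHyp T A A₀ R Z₀ a k) {z : G} (hz : z ∈ Z₀) :
    z * (k * z * k⁻¹) * (k⁻¹ * z * k) = 1 := by
  have h1 := h.hkZ z hz
  have h2 := h.kinv_mem hz
  apply h.hfpf _ (Z₀.mul_mem (Z₀.mul_mem hz h1) h2)
  have e1 : k * (z * (k * z * k⁻¹) * (k⁻¹ * z * k)) =
      ((k * z * k⁻¹) * ((k * k) * z * (k * k)⁻¹) * z) * k := by group
  have e2 : (k * k) * z * (k * k)⁻¹ = k⁻¹ * z * k := by rw [h.k_sq]; group
  have e3 : (k * z * k⁻¹) * (k⁻¹ * z * k) * z = z * (k * z * k⁻¹) * (k⁻¹ * z * k) := by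
    rw [h.hZc _ (Z₀.mul_mem h1 h2) z hz]
    simp only [mul_assoc]
  rw [e1, e2, e3]

theorem isEA_of_le (h : MHyp T A A₀ R Z₀ a k) {E : Subgroup G} (hE : E ≤ Z₀) :
    IsElementaryAbelian 2 E := by
  refine ⟨⟨⟨fun x y => ?_⟩⟩, fun u hu => ?_⟩
  · apply Subtype.ext
    exact h.hZc x.1 (hE x.2) y.1 (hE y.2)
  · rw [pow_two]; exact h.hZ2 u (hE hu)

theorem Z_le_T (h : MHyp T A A₀ R Z₀ a k) : Z₀ ≤ T := h.hZR.trans h.hRT

theorem card_fix_sq (h : MHyp T A A₀ R Z₀ a k) {E : Subgroup G} (hEZ : E ≤ Z₀)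
    (hkE : ∀ e ∈ E, k * e * k⁻¹ ∈ E) :
    Nat.card (E ⊓ centralizer ({a} : Set G) : Subgroup G) ^ 2 ≤ Nat.card E :=
  card_fix_sq_le (fun x hx y hy => h.hZc x (hEZ hx) y (hEZ hy)) hkE h.hk3
    (fun u hu => h.hfpf u (hEZ hu)) h.hak

theorem inf_A_le (h : MHyp T A A₀ R Z₀ a k) (E : Subgroup G) :
    E ⊓ A ≤ E ⊓ centralizer ({a} : Set G) := by
  apply inf_le_inf_left
  intro x hx
  rw [mem_centralizer_singleton_iff]
  exact IsElementaryAbelian.comm' h.hA.2.1 hx h.haA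

/-! ### the fixed points `U = C_{Z₀}(R)` -/

theorem conj_mem_U_of_k (h : MHyp T A A₀ R Z₀ a k) {u : G}
    (hu : u ∈ Z₀ ⊓ centralizer (R : Set G)) :
    k * u * k⁻¹ ∈ Z₀ ⊓ centralizer (R : Set G) := by
  obtain ⟨hu1, hu2⟩ := mem_inf.mp hu
  refine mem_inf.mpr ⟨h.hkZ u hu1, ?_⟩
  rw [mem_centralizer_iff]
  intro r hr
  have h1 := h.hcomm r hr u hu1
  have h2 : r * u * r⁻¹ = u := by
    have := mem_centralizer_iff.mp hu2 r hr
    rw [this]; group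
  rw [h2] at h1
  calc r * (k * u * k⁻¹) = (r * (k * u * k⁻¹) * r⁻¹) * r := by group
    _ = k * u * k⁻¹ * r := by rw [h1]

theorem conj_mem_U_of_kinv (h : MHyp T A A₀ R Z₀ a k) {u : G}
    (hu : u ∈ Z₀ ⊓ centralizer (R : Set G)) :
    k⁻¹ * u * k ∈ Z₀ ⊓ centralizer (R : Set G) := by
  have h1 := h.conj_mem_U_of_k (h.conj_mem_U_of_k hu)
  have e : k * (k * u * k⁻¹) * k⁻¹ = k⁻¹ * u * k := by
    calc k * (k * u * k⁻¹) * k⁻¹ = (k * k) * u * (k * k)⁻¹ := by group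
      _ = k⁻¹ * u * k := by rw [h.k_sq]; group
  rwa [e] at h1

theorem conj_mem_U_of_a (h : MHyp T A A₀ R Z₀ a k) {u : G}
    (hu : u ∈ Z₀ ⊓ centralizer (R : Set G)) :
    a * u * a⁻¹ ∈ Z₀ ⊓ centralizer (R : Set G) := by
  obtain ⟨hu1, hu2⟩ := mem_inf.mp hu
  refine mem_inf.mpr ⟨h.haZ u hu1, ?_⟩
  rw [mem_centralizer_iff]
  intro r hr
  have hr'' : a⁻¹ * r * a ∈ R := by
    have := h.haR r hr
    rw [h.a_inv] at this ⊢
    exact this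
  have hc := mem_centralizer_iff.mp hu2 _ hr''
  calc r * (a * u * a⁻¹) = a * ((a⁻¹ * r * a) * u) * a⁻¹ := by group
    _ = a * (u * (a⁻¹ * r * a)) * a⁻¹ := by rw [hc]
    _ = a * u * a⁻¹ * r := by group

theorem U_le_Z (h : MHyp T A A₀ R Z₀ a k) : Z₀ ⊓ centralizer (R : Set G) ≤ Z₀ := inf_le_left

theorem card_U_le (h : MHyp T A A₀ R Z₀ a k) :
    Nat.card (Z₀ ⊓ centralizer (R : Set G) : Subgroup G) ≤
      2 * Nat.card ((Z₀ ⊓ centralizer (R : Set G)) ⊓ centralizer ({a} : Set G) : Subgroup G) := by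
  obtain ⟨U, hU⟩ : ∃ U : Subgroup G, U = Z₀ ⊓ centralizer (R : Set G) := ⟨_, rfl⟩
  rw [← hU]
  have hUZ : U ≤ Z₀ := hU ▸ inf_le_left
  have hUT : U ≤ T := hUZ.trans h.Z_le_T
  have hA₀U : A₀ ≤ centralizer (U : Set G) := by
    intro x hx
    rw [mem_centralizer_iff]
    intro u hu
    rw [hU] at hu
    exact (mem_centralizer_iff.mp (mem_inf.mp hu).2 x (h.hA₀R hx)).symm
  have h1 := replacement_card h.hA hUT (h.isEA_of_le hUZ) h.hA₀A hA₀U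
  have h2 : Nat.card (U ⊓ A : Subgroup G) ≤
      Nat.card (U ⊓ centralizer ({a} : Set G) : Subgroup G) :=
    Subgroup.card_le_of_le (h.inf_A_le U)
  have hpos : 0 < Nat.card A₀ := Nat.card_pos
  have h3 : Nat.card U * Nat.card A₀ ≤
      (2 * Nat.card (U ⊓ centralizer ({a} : Set G) : Subgroup G)) * Nat.card A₀ := by
    calc Nat.card U * Nat.card A₀ ≤ Nat.card A * Nat.card (U ⊓ A : Subgroup G) := h1
      _ ≤ (2 * Nat.card A₀) * Nat.card (U ⊓ centralizer ({a} : Set G) : Subgroup G) :=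
        Nat.mul_le_mul h.hAA₀ h2
      _ = _ := by ring
  exact Nat.le_of_mul_le_mul_right h3 hpos

theorem U_ne_bot (h : MHyp T A A₀ R Z₀ a k) : Z₀ ⊓ centralizer (R : Set G) ≠ ⊥ := by
  haveI : Fact (Nat.Prime 2) := ⟨Nat.prime_two⟩
  have hR2 : IsPGroup 2 ↥R := h.hT2.to_le h.hRT
  exact Cfsg.Agent.Lib.Helper55.inf_centralizer_ne_bot_of_le_normalizer hR2
    (hR2.to_le h.hZR) h.hZne h.hRZ

theorem card_U (h : MHyp T A A₀ R Z₀ a k) :
    Nat.card (Z₀ ⊓ centralizer (R : Set G) : Subgroup G) = 4 ∧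
      Nat.card ((Z₀ ⊓ centralizer (R : Set G)) ⊓ centralizer ({a} : Set G) : Subgroup G) = 2 := by
  haveI : Fact (Nat.Prime 2) := ⟨Nat.prime_two⟩
  obtain ⟨U, hU⟩ : ∃ U : Subgroup G, U = Z₀ ⊓ centralizer (R : Set G) := ⟨_, rfl⟩
  have h1 := h.card_U_le
  have h2 := h.card_fix_sq h.U_le_Z (fun e he => h.conj_mem_U_of_k he)
  have hne := h.U_ne_bot
  rw [← hU] at h1 h2 hne ⊢
  have hUZ : U ≤ Z₀ := hU ▸ inf_le_left
  have hU2 : IsPGroup 2 ↥U := (h.hT2.to_le h.Z_le_T).to_le hUZ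
  obtain ⟨n, hn⟩ := hU2.exists_card_eq
  obtain ⟨c, hc⟩ : ∃ c : ℕ, c = Nat.card (U ⊓ centralizer ({a} : Set G) : Subgroup G) :=
    ⟨_, rfl⟩
  rw [← hc] at h1 h2 ⊢
  have hc2 : c ≤ 2 := by nlinarith
  have hU4 : Nat.card U ≤ 4 := by omega
  have hn2 : n ≤ 2 := by
    by_contra hlt
    push Not at hlt
    have : 2 ^ 3 ≤ 2 ^ n := Nat.pow_le_pow_right (by norm_num) hlt
    omega
  have hcard1 : Nat.card U ≠ 1 := by
    intro e
    exact hne (Subgroup.card_eq_one.mp e)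
  have hcard2 : Nat.card U ≠ 2 := by
    intro e
    obtain ⟨u, huU, hu1⟩ := (Subgroup.bot_or_exists_ne_one U).resolve_left hne
    have hku : k * u * k⁻¹ ∈ U := by
      rw [hU]; exact h.conj_mem_U_of_k (hU ▸ huU)
    rcases card_two_cases e huU hu1 _ hku with h3 | h3
    · apply hu1
      have : u = k⁻¹ * (k * u * k⁻¹) * k := by group
      rw [this, h3]; group
    · apply hu1
      apply h.hfpf u (hUZ huU)
      calc k * u = (k * u * k⁻¹) * k := by group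
        _ = u * k := by rw [h3]
  have hU4' : Nat.card U = 4 := by
    interval_cases n
    · rw [pow_zero] at hn; exact absurd hn hcard1
    · rw [pow_one] at hn; exact absurd hn hcard2
    · rw [hn]; norm_num
  refine ⟨hU4', ?_⟩
  have : 2 ≤ c := by omega
  omega

/-! ### the second layer -/

/-- the second layer of fixed points -/
def W₂ (h : MHyp T A A₀ R Z₀ a k) : Subgroup G where
  carrier := {w | w ∈ Z₀ ∧ ∀ r ∈ R, r * w * r⁻¹ * w⁻¹ ∈ Z₀ ⊓ centralizer (R : Set G)}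
  mul_mem' := by
    rintro w w' ⟨hw, hwr⟩ ⟨hw', hwr'⟩
    refine ⟨Z₀.mul_mem hw hw', fun r hr => ?_⟩
    have h1 := hwr r hr
    have h2 := hwr' r hr
    have hc : w * (r * w' * r⁻¹ * w'⁻¹) = (r * w' * r⁻¹ * w'⁻¹) * w :=
      h.hZc w hw _ (mem_inf.mp h2).1
    have e : r * (w * w') * r⁻¹ * (w * w')⁻¹ =
        (r * w * r⁻¹ * w⁻¹) * (w * (r * w' * r⁻¹ * w'⁻¹)) * w⁻¹ := by group
    rw [e, hc]
    have e2 : (r * w * r⁻¹ * w⁻¹) * ((r * w' * r⁻¹ * w'⁻¹) * w) * w⁻¹ =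
        (r * w * r⁻¹ * w⁻¹) * (r * w' * r⁻¹ * w'⁻¹) := by group
    rw [e2]
    exact mul_mem h1 h2
  one_mem' := by
    refine ⟨Z₀.one_mem, fun r hr => ?_⟩
    have : r * 1 * r⁻¹ * 1⁻¹ = 1 := by group
    rw [this]; exact one_mem _
  inv_mem' := by
    rintro w ⟨hw, hwr⟩
    rw [h.z_inv hw]
    exact ⟨hw, hwr⟩

theorem mem_W₂ (h : MHyp T A A₀ R Z₀ a k) {w : G} :
    w ∈ h.W₂ ↔ w ∈ Z₀ ∧ ∀ r ∈ R, r * w * r⁻¹ * w⁻¹ ∈ Z₀ ⊓ centralizer (R : Set G) := Iff.rfl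

theorem W₂_le_Z (h : MHyp T A A₀ R Z₀ a k) : h.W₂ ≤ Z₀ := fun w hw => hw.1

theorem U_le_W₂ (h : MHyp T A A₀ R Z₀ a k) : Z₀ ⊓ centralizer (R : Set G) ≤ h.W₂ := by
  intro u hu
  obtain ⟨hu1, hu2⟩ := mem_inf.mp hu
  refine ⟨hu1, fun r hr => ?_⟩
  have := mem_centralizer_iff.mp hu2 r hr
  have e : r * u * r⁻¹ * u⁻¹ = 1 := by rw [this]; group
  rw [e]; exact one_mem _

theorem conj_mem_W₂_of_k (h : MHyp T A A₀ R Z₀ a k) {w : G} (hw : w ∈ h.W₂) :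
    k * w * k⁻¹ ∈ h.W₂ := by
  refine ⟨h.hkZ w hw.1, fun r hr => ?_⟩
  have h1 := h.hcomm r hr w hw.1
  have e : r * (k * w * k⁻¹) * r⁻¹ * (k * w * k⁻¹)⁻¹ = k * (r * w * r⁻¹ * w⁻¹) * k⁻¹ := by
    rw [h1]; group
  rw [e]
  exact h.conj_mem_U_of_k (hw.2 r hr)

theorem conj_mem_W₂_of_a (h : MHyp T A A₀ R Z₀ a k) {w : G} (hw : w ∈ h.W₂) :
    a * w * a⁻¹ ∈ h.W₂ := by
  refine ⟨h.haZ w hw.1, fun r hr => ?_⟩
  have hr'' : a⁻¹ * r * a ∈ R := by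
    have := h.haR r hr
    rw [h.a_inv] at this ⊢
    exact this
  have e : r * (a * w * a⁻¹) * r⁻¹ * (a * w * a⁻¹)⁻¹ =
      a * ((a⁻¹ * r * a) * w * (a⁻¹ * r * a)⁻¹ * w⁻¹) * a⁻¹ := by group
  rw [e]
  exact h.conj_mem_U_of_a (hw.2 _ hr'')

/-- an `a`-fixed element of the second layer outside the first -/
theorem exists_fixed (h : MHyp T A A₀ R Z₀ a k) (hne : ¬ Z₀ ≤ Z₀ ⊓ centralizer (R : Set G)) :
    ∃ w ∈ h.W₂, w ∉ Z₀ ⊓ centralizer (R : Set G) ∧ a * w * a⁻¹ = w := by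
  have hR2 : IsPGroup 2 ↥R := h.hT2.to_le h.hRT
  obtain ⟨w₂, hw₂Z, hw₂U, hw₂R⟩ := exists_second_layer hR2 h.hZR h.hRZ rfl hne
  have hw₂ : w₂ ∈ h.W₂ := ⟨hw₂Z, hw₂R⟩
  by_contra hcon
  push Not at hcon
  have F : ∀ y ∈ h.W₂, y * (a * y * a⁻¹) ∈ Z₀ ⊓ centralizer (R : Set G) := by
    intro y hy
    by_contra hyU
    apply hcon _ (mul_mem hy (h.conj_mem_W₂_of_a hy)) hyU
    have e : a * (y * (a * y * a⁻¹)) * a⁻¹ = (a * y * a⁻¹) * ((a * a) * y * (a * a)⁻¹) := by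
      group
    rw [e, h.a_sq]
    simp only [one_mul, inv_one, mul_one]
    exact h.hZc _ (h.haZ y hy.1) y hy.1
  obtain ⟨u, hu⟩ : ∃ u, u = w₂ * (a * w₂ * a⁻¹) := ⟨_, rfl⟩
  have huU : u ∈ Z₀ ⊓ centralizer (R : Set G) := hu ▸ F w₂ hw₂
  have hax : a * w₂ * a⁻¹ = w₂ * u := by
    rw [hu, ← mul_assoc, h.hZ2 w₂ hw₂Z, one_mul]
  have hy := F _ (h.conj_mem_W₂_of_k hw₂)
  have e1 : a * (k * w₂ * k⁻¹) * a⁻¹ = k⁻¹ * (a * w₂ * a⁻¹) * k := by
    calc a * (k * w₂ * k⁻¹) * a⁻¹ = (a * k) * w₂ * (a * k)⁻¹ := by group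
      _ = (k⁻¹ * a) * w₂ * (k⁻¹ * a)⁻¹ := by rw [h.ak]
      _ = k⁻¹ * (a * w₂ * a⁻¹) * k := by group
  rw [e1, hax] at hy
  have e2 : k * w₂ * k⁻¹ * (k⁻¹ * (w₂ * u) * k) =
      ((k * w₂ * k⁻¹) * (k⁻¹ * w₂ * k)) * (k⁻¹ * u * k) := by group
  rw [e2] at hy
  have h3 : (k * w₂ * k⁻¹) * (k⁻¹ * w₂ * k) ∈ Z₀ ⊓ centralizer (R : Set G) := by
    have := mul_mem hy (inv_mem (h.conj_mem_U_of_kinv huU))
    rwa [mul_inv_cancel_right] at this
  have h4 := h.sigma_eq_one hw₂Z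
  have h5 : (k * w₂ * k⁻¹) * (k⁻¹ * w₂ * k) = w₂⁻¹ := by
    rw [mul_assoc] at h4
    exact eq_inv_of_mul_eq_one_right h4
  rw [h5] at h3
  apply hw₂U
  have := inv_mem h3
  rwa [inv_inv] at this

/-- the centralizer of an `a`-fixed second-layer element has index at most `2` in `A₀` -/
theorem card_A₀_le (h : MHyp T A A₀ R Z₀ a k) {w : G} (hwW : w ∈ h.W₂)
    (haw : a * w * a⁻¹ = w) :
    Nat.card A₀ ≤ 2 * Nat.card (A₀ ⊓ centralizer ({w} : Set G) : Subgroup G) := by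
  obtain ⟨-, hc2⟩ := h.card_U
  -- the commutator map
  have hcw : ∀ x ∈ A₀, x * w * x⁻¹ * w⁻¹ ∈
      (Z₀ ⊓ centralizer (R : Set G)) ⊓ centralizer ({a} : Set G) := by
    intro x hx
    refine mem_inf.mpr ⟨hwW.2 x (h.hA₀R hx), ?_⟩
    rw [mem_centralizer_singleton_iff]
    have hxa : a * x * a⁻¹ = x := by
      have := IsElementaryAbelian.comm' h.hA.2.1 h.haA (h.hA₀A hx)
      rw [this]; group
    have e : a * (x * w * x⁻¹ * w⁻¹) * a⁻¹ = x * w * x⁻¹ * w⁻¹ := by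
      have e0 : a * (x * w * x⁻¹ * w⁻¹) * a⁻¹ =
          (a * x * a⁻¹) * (a * w * a⁻¹) * (a * x * a⁻¹)⁻¹ * (a * w * a⁻¹)⁻¹ := by group
      rw [e0, hxa, haw]
    calc x * w * x⁻¹ * w⁻¹ * a = (a * (x * w * x⁻¹ * w⁻¹) * a⁻¹) * a := by rw [e]
      _ = a * (x * w * x⁻¹ * w⁻¹) := by group
  have hmem : ∀ x ∈ A₀, x * w * x⁻¹ * w⁻¹ = 1 → x ∈ A₀ ⊓ centralizer ({w} : Set G) := by
    intro x hx e
    refine mem_inf.mpr ⟨hx, ?_⟩
    rw [mem_centralizer_singleton_iff]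
    calc x * w = (x * w * x⁻¹ * w⁻¹) * w * x := by group
      _ = w * x := by rw [e, one_mul]
  apply card_le_two_mul_of_coset inf_le_left
  by_cases hall : ∀ x ∈ A₀, x * w * x⁻¹ * w⁻¹ = 1
  · refine ⟨1, A₀.one_mem, fun b hb => Or.inr (hmem b hb (hall b hb))⟩
  · push Not at hall
    obtain ⟨x₀, hx₀, hx₀1⟩ := hall
    refine ⟨x₀, hx₀, fun b hb => ?_⟩
    by_cases hb1 : b * w * b⁻¹ * w⁻¹ = 1
    · exact Or.inr (hmem b hb hb1)
    · left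
      apply hmem _ (A₀.mul_mem hb hx₀)
      have h1 := card_two_cases hc2 (hcw x₀ hx₀) hx₀1 _ (hcw b hb)
      have h2 : b * w * b⁻¹ * w⁻¹ = x₀ * w * x₀⁻¹ * w⁻¹ := h1.resolve_left hb1
      -- `b` centralizes `[x₀, w]`
      have hU0 := hwW.2 x₀ (h.hA₀R hx₀)
      have hbc := mem_centralizer_iff.mp (mem_inf.mp hU0).2 b (h.hA₀R hb)
      have e : b * x₀ * w * (b * x₀)⁻¹ * w⁻¹ =
          (b * (x₀ * w * x₀⁻¹ * w⁻¹)) * b⁻¹ * (b * w * b⁻¹ * w⁻¹) := by group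
      rw [e, hbc, h2]
      have e2 : (x₀ * w * x₀⁻¹ * w⁻¹) * b * b⁻¹ * (x₀ * w * x₀⁻¹ * w⁻¹) =
          (x₀ * w * x₀⁻¹ * w⁻¹) * (x₀ * w * x₀⁻¹ * w⁻¹) := by group
      rw [e2]
      exact h.hZ2 _ (mem_inf.mp hU0).1

/-- **the module lemma, part 1**: `R` centralizes `Z₀` -/
theorem Z_le_U (h : MHyp T A A₀ R Z₀ a k) : Z₀ ≤ Z₀ ⊓ centralizer (R : Set G) := by
  by_contra hne
  obtain ⟨w, hwW, hwU, haw⟩ := h.exists_fixed hne
  obtain ⟨hU4, hc2⟩ := h.card_U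
  have hwa : w ∈ centralizer ({a} : Set G) := by
    rw [mem_centralizer_singleton_iff]
    calc w * a = (a * w * a⁻¹) * a := by rw [haw]
      _ = a * w := by group
  obtain ⟨A₁, hA₁⟩ : ∃ A₁ : Subgroup G, A₁ = A₀ ⊓ centralizer ({w} : Set G) := ⟨_, rfl⟩
  obtain ⟨E, hE⟩ : ∃ E : Subgroup G, E = h.W₂ ⊓ centralizer (A₁ : Set G) := ⟨_, rfl⟩
  have hEW : E ≤ h.W₂ := hE ▸ inf_le_left
  have hEZ : E ≤ Z₀ := hEW.trans h.W₂_le_Z
  have hA₁A₀ : A₁ ≤ A₀ := hA₁ ▸ inf_le_left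
  have hA₁R : A₁ ≤ R := hA₁A₀.trans h.hA₀R
  have hUE : Z₀ ⊓ centralizer (R : Set G) ≤ E := by
    rw [hE]
    refine le_inf h.U_le_W₂ ?_
    intro u hu
    rw [mem_centralizer_iff]
    intro x hx
    exact mem_centralizer_iff.mp (mem_inf.mp hu).2 x (hA₁R hx)
  have hwE : w ∈ E := by
    rw [hE]
    refine mem_inf.mpr ⟨hwW, ?_⟩
    rw [mem_centralizer_iff]
    intro x hx
    rw [hA₁] at hx
    exact mem_centralizer_singleton_iff.mp (mem_inf.mp hx).2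
  have hkE : ∀ e ∈ E, k * e * k⁻¹ ∈ E := by
    intro e he
    rw [hE] at he ⊢
    obtain ⟨he1, he2⟩ := mem_inf.mp he
    refine mem_inf.mpr ⟨h.conj_mem_W₂_of_k he1, ?_⟩
    rw [mem_centralizer_iff]
    intro x hx
    have h1 := h.hcomm x (hA₁R hx) e he1.1
    have h2 : x * e * x⁻¹ = e := by
      have := mem_centralizer_iff.mp he2 x hx
      rw [this]; group
    rw [h2] at h1
    calc x * (k * e * k⁻¹) = (x * (k * e * k⁻¹) * x⁻¹) * x := by group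
      _ = k * e * k⁻¹ * x := by rw [h1]
  have hsq := h.card_fix_sq hEZ hkE
  obtain ⟨c, hc⟩ : ∃ c : ℕ, c = Nat.card (E ⊓ centralizer ({a} : Set G) : Subgroup G) :=
    ⟨_, rfl⟩
  rw [← hc] at hsq
  have hc4 : 4 ≤ c := by
    have := two_mul_card_le_of_lt
      (H := (Z₀ ⊓ centralizer (R : Set G)) ⊓ centralizer ({a} : Set G))
      (K := E ⊓ centralizer ({a} : Set G)) (inf_le_inf_right _ hUE)
      ⟨w, mem_inf.mpr ⟨hwE, hwa⟩, fun hw' => hwU (mem_inf.mp hw').1⟩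
    rw [hc2, ← hc] at this
    omega
  have hA₁C : A₁ ≤ centralizer (E : Set G) := by
    intro x hx
    rw [mem_centralizer_iff]
    intro e he
    rw [hE] at he
    exact (mem_centralizer_iff.mp (mem_inf.mp he).2 x hx).symm
  have hrep := replacement_card h.hA (hEZ.trans h.Z_le_T) (h.isEA_of_le hEZ)
    (hA₁A₀.trans h.hA₀A) hA₁C
  have hEA : E ⊓ A ≤ E ⊓ centralizer ({a} : Set G) := h.inf_A_le E
  have key : Nat.card A * Nat.card (E ⊓ A : Subgroup G) ≤ (2 * c) * Nat.card A₁ := by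
    by_cases hwA : w ∈ A
    · have hle : A₀ ≤ A₁ := by
        intro x hx
        rw [hA₁]
        refine mem_inf.mpr ⟨hx, ?_⟩
        rw [mem_centralizer_singleton_iff]
        exact IsElementaryAbelian.comm' h.hA.2.1 (h.hA₀A hx) hwA
      have h1 : Nat.card A₀ ≤ Nat.card A₁ := Subgroup.card_le_of_le hle
      have h2 : Nat.card (E ⊓ A : Subgroup G) ≤ c := hc ▸ Subgroup.card_le_of_le hEA
      calc Nat.card A * Nat.card (E ⊓ A : Subgroup G) ≤ (2 * Nat.card A₀) * c :=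
            Nat.mul_le_mul h.hAA₀ h2
        _ ≤ (2 * Nat.card A₁) * c := by gcongr
        _ = (2 * c) * Nat.card A₁ := by ring
    · have h1 : Nat.card A₀ ≤ 2 * Nat.card A₁ := hA₁ ▸ h.card_A₀_le hwW haw
      have h2 : 2 * Nat.card (E ⊓ A : Subgroup G) ≤ c := by
        rw [hc]
        exact two_mul_card_le_of_lt hEA
          ⟨w, mem_inf.mpr ⟨hwE, hwa⟩, fun hw' => hwA (mem_inf.mp hw').2⟩
      calc Nat.card A * Nat.card (E ⊓ A : Subgroup G)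
          ≤ (2 * Nat.card A₀) * Nat.card (E ⊓ A : Subgroup G) :=
            Nat.mul_le_mul_right _ h.hAA₀
        _ ≤ (2 * (2 * Nat.card A₁)) * Nat.card (E ⊓ A : Subgroup G) := by gcongr
        _ = (2 * Nat.card A₁) * (2 * Nat.card (E ⊓ A : Subgroup G)) := by ring
        _ ≤ (2 * Nat.card A₁) * c := Nat.mul_le_mul_left _ h2
        _ = (2 * c) * Nat.card A₁ := by ring
  have hpos : 0 < Nat.card A₁ := Nat.card_pos
  have hE2c : Nat.card E ≤ 2 * c := Nat.le_of_mul_le_mul_right (hrep.trans key) hpos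
  nlinarith

/-- **the module lemma**: `|Z₀| = 4` -/
theorem card_Z (h : MHyp T A A₀ R Z₀ a k) : Nat.card Z₀ = 4 := by
  have h1 : Z₀ ⊓ centralizer (R : Set G) = Z₀ := le_antisymm inf_le_left h.Z_le_U
  have h2 := h.card_U.1
  rwa [h1] at h2

end MHyp

end JExist3

end Cfsg.Agent.Lib.Helper52
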