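import Mathlib
import Cfsg.Agent.Lib.Helper52.JExist3

/-!
# Existence of `J(T)`-components, part 4: `W_K` is a four-group
-/

set_option autoImplicit false
set_option linter.unusedSectionVars false
set_option linter.unusedVariables false
set_option linter.style.haveILetI false

namespace Cfsg.Agent.Lib.Helper52

open Cfsg Subgroup JComp
open scoped commutatorElement
open Cfsg.Agent.Lib.Helper15 (maxElemIn)

section JExist4

variable {G : Type*} [Group G]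

/-- the elements normalizing `P` and centralizing `P⟨k⟩/P` -/
def eC (P : Subgroup G) (k : G) : Subgroup G where
  carrier := {g | g ∈ normalizer (P : Set G) ∧ g * k * g⁻¹ * k⁻¹ ∈ P}
  mul_mem' := by
    rintro g g' ⟨hg, hgk⟩ ⟨hg', hgk'⟩
    refine ⟨mul_mem hg hg', ?_⟩
    have e : (g * g') * k * (g * g')⁻¹ * k⁻¹ =
        (g * (g' * k * g'⁻¹ * k⁻¹) * g⁻¹) * (g * k * g⁻¹ * k⁻¹) := by group
    rw [e]
    exact mul_mem (conj_mem_of_mem_normalizer hg hgk') hgk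
  one_mem' := by
    refine ⟨one_mem _, ?_⟩
    have : (1 : G) * k * 1⁻¹ * k⁻¹ = 1 := by group
    rw [this]; exact one_mem _
  inv_mem' := by
    rintro g ⟨hg, hgk⟩
    refine ⟨inv_mem hg, ?_⟩
    have e : g⁻¹ * k * g⁻¹⁻¹ * k⁻¹ = g⁻¹ * (g * k * g⁻¹ * k⁻¹)⁻¹ * g⁻¹⁻¹ := by group
    rw [e]
    exact conj_mem_of_mem_normalizer (inv_mem hg) (inv_mem hgk)

theorem mem_eC {P : Subgroup G} {k g : G} :
    g ∈ eC P k ↔ g ∈ normalizer (P : Set G) ∧ g * k * g⁻¹ * k⁻¹ ∈ P := Iff.rfl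

/-- the norm map of `⟨k⟩` -/
def eσ (k z : G) : G := z * (k * z * k⁻¹) * (k⁻¹ * z * k)

namespace EHyp

variable {P T A : Subgroup G} {a k : G}

theorem ak (h : EHyp P T A a k) : a * k = k⁻¹ * a := by
  calc a * k = (a * k * a⁻¹) * a := by group
    _ = k⁻¹ * a := by rw [h.hak]

theorem ak' (h : EHyp P T A a k) : a * k⁻¹ = k * a := by
  have : a * k⁻¹ * a⁻¹ = k := by
    have e0 : a * k⁻¹ * a⁻¹ = (a * k * a⁻¹)⁻¹ := by group
    rw [e0, h.hak, inv_inv]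
  calc a * k⁻¹ = (a * k⁻¹ * a⁻¹) * a := by group
    _ = k * a := by rw [this]

theorem a_mem_T (h : EHyp P T A a k) : a ∈ T := h.hA.1 h.haA

theorem a_mem_J (h : EHyp P T A a k) : a ∈ thompsonSubgroupOf 2 T := by
  rw [Cfsg.Agent.Lib.Helper15.thompsonSubgroupOf_eq]
  exact (le_sSup h.hA) h.haA

theorem A_le_J (h : EHyp P T A a k) : A ≤ thompsonSubgroupOf 2 T := by
  rw [Cfsg.Agent.Lib.Helper15.thompsonSubgroupOf_eq]
  exact le_sSup h.hA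

theorem P_le_eC (h : EHyp P T A a k) : P ≤ eC P k := by
  intro p hp
  refine ⟨le_normalizer hp, ?_⟩
  have e : p * k * p⁻¹ * k⁻¹ = p * (k * p⁻¹ * k⁻¹) := by group
  rw [e]
  exact mul_mem hp (h.conj_mem_P h.hkP (inv_mem hp))

/-- normalizing `P` and moving `k` inside `P⟨k⟩` means normalizing `P⟨k⟩` -/
theorem mem_normalizer_K₂ [Finite G] (h : EHyp P T A a k) {g : G}
    (hgP : g ∈ normalizer (P : Set G)) (hgk : g * k * g⁻¹ ∈ eK₂ P k) :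
    g ∈ normalizer ((eK₂ P k : Subgroup G) : Set G) := by
  apply mem_normalizer_of_forall_conj_mem
  intro x hx
  obtain ⟨z, hz, p, hp, rfl⟩ := h.mem_K₂ hx
  have e : g * (z * p) * g⁻¹ = (g * z * g⁻¹) * (g * p * g⁻¹) := by group
  rw [e]
  refine mul_mem ?_ (h.P_le_K₂ (h.conj_mem_P hgP hp))
  obtain ⟨n, rfl⟩ := mem_zpowers_iff.mp hz
  have e2 : g * k ^ n * g⁻¹ = (g * k * g⁻¹) ^ n := by
    rw [conj_zpow]
  rw [e2]
  exact zpow_mem hgk n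

theorem eC_le_normalizer_K₂ [Finite G] (h : EHyp P T A a k) :
    eC P k ≤ normalizer ((eK₂ P k : Subgroup G) : Set G) := by
  intro g hg
  apply h.mem_normalizer_K₂ hg.1
  have e : g * k * g⁻¹ = (g * k * g⁻¹ * k⁻¹) * k := by group
  rw [e]
  exact mul_mem (h.P_le_K₂ hg.2) h.k_mem_K₂

theorem eC_le_normalizer_K [Finite G] (h : EHyp P T A a k) :
    eC P k ≤ normalizer ((eK P k : Subgroup G) : Set G) :=
  h.eC_le_normalizer_K₂.trans h.normalizer_K₂_le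

theorem a_mem_normalizer_K [Finite G] (h : EHyp P T A a k) :
    a ∈ normalizer ((eK P k : Subgroup G) : Set G) :=
  h.J_le_normalizer_K h.a_mem_J

theorem a_mem_normalizer_P (h : EHyp P T A a k) : a ∈ normalizer (P : Set G) :=
  h.hTP h.a_mem_T

theorem k_mem_normalizer_K (h : EHyp P T A a k) :
    k ∈ normalizer ((eK P k : Subgroup G) : Set G) := le_normalizer h.k_mem_K

/-- normalizing `K` and `P` means normalizing `Q = K ∩ P` -/
theorem mem_normalizer_Q (h : EHyp P T A a k) {g : G}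
    (hgK : g ∈ normalizer ((eK P k : Subgroup G) : Set G)) (hgP : g ∈ normalizer (P : Set G)) :
    g ∈ normalizer ((eK P k ⊓ P : Subgroup G) : Set G) := by
  rw [mem_normalizer_iff]
  intro x
  rw [mem_inf, mem_inf, ← mem_normalizer_iff.mp hgK x, ← mem_normalizer_iff.mp hgP x]

theorem mem_normalizer_Z (h : EHyp P T A a k) {g : G}
    (hgK : g ∈ normalizer ((eK P k : Subgroup G) : Set G)) (hgP : g ∈ normalizer (P : Set G))
    {z : G} (hz : z ∈ omegaCenterOf (eK P k ⊓ P)) :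
    g * z * g⁻¹ ∈ omegaCenterOf (eK P k ⊓ P) :=
  conj_mem_omegaCenterOf (h.mem_normalizer_Q hgK hgP) hz

theorem Z_le_Q (h : EHyp P T A a k) : omegaCenterOf (eK P k ⊓ P) ≤ eK P k ⊓ P :=
  omegaCenterOf_le _

theorem Z_comm (h : EHyp P T A a k) {x y : G} (hx : x ∈ omegaCenterOf (eK P k ⊓ P))
    (hy : y ∈ omegaCenterOf (eK P k ⊓ P)) : x * y = y * x :=
  (mem_centralizer_iff.mp (omegaCenterOf_le_centralizer _ hy) x (h.Z_le_Q hx))

theorem Z_sq (h : EHyp P T A a k) {x : G} (hx : x ∈ omegaCenterOf (eK P k ⊓ P)) :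
    x * x = 1 := by
  have := (mem_omegaCenterOf_iff.mp hx).2.2
  rwa [pow_two] at this

theorem Z_inv (h : EHyp P T A a k) {x : G} (hx : x ∈ omegaCenterOf (eK P k ⊓ P)) :
    x⁻¹ = x := inv_eq_of_mul_eq_one_left (h.Z_sq hx)

theorem k_conj_Z (h : EHyp P T A a k) {z : G} (hz : z ∈ omegaCenterOf (eK P k ⊓ P)) :
    k * z * k⁻¹ ∈ omegaCenterOf (eK P k ⊓ P) :=
  h.mem_normalizer_Z h.k_mem_normalizer_K h.hkP hz

theorem kinv_conj_Z (h : EHyp P T A a k) {z : G} (hz : z ∈ omegaCenterOf (eK P k ⊓ P)) :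
    k⁻¹ * z * k ∈ omegaCenterOf (eK P k ⊓ P) := by
  have := h.mem_normalizer_Z (inv_mem h.k_mem_normalizer_K) (inv_mem h.hkP) hz
  rwa [inv_inv] at this

theorem a_conj_Z [Finite G] (h : EHyp P T A a k) {z : G}
    (hz : z ∈ omegaCenterOf (eK P k ⊓ P)) :
    a * z * a⁻¹ ∈ omegaCenterOf (eK P k ⊓ P) :=
  h.mem_normalizer_Z h.a_mem_normalizer_K h.a_mem_normalizer_P hz

theorem eC_conj_Z [Finite G] (h : EHyp P T A a k) {g : G} (hg : g ∈ eC P k) {z : G}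
    (hz : z ∈ omegaCenterOf (eK P k ⊓ P)) :
    g * z * g⁻¹ ∈ omegaCenterOf (eK P k ⊓ P) :=
  h.mem_normalizer_Z (h.eC_le_normalizer_K hg) hg.1 hz

/-- the commuting lemma: `eC` acts `⟨k⟩`-linearly on `Z` -/
theorem comm_of_eC [Finite G] (h : EHyp P T A a k) {g : G} (hg : g ∈ eC P k) {z : G}
    (hz : z ∈ omegaCenterOf (eK P k ⊓ P)) :
    g * (k * z * k⁻¹) * g⁻¹ = k * (g * z * g⁻¹) * k⁻¹ := by
  obtain ⟨p, hp⟩ : ∃ p, p = g * k * g⁻¹ * k⁻¹ := ⟨_, rfl⟩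
  have hpP : p ∈ P := hp ▸ hg.2
  have hpK : p ∈ eK P k := by
    rw [hp]
    exact mul_mem (conj_mem_of_mem_normalizer (h.eC_le_normalizer_K hg) h.k_mem_K)
      (inv_mem h.k_mem_K)
  have hpQ : p ∈ eK P k ⊓ P := mem_inf.mpr ⟨hpK, hpP⟩
  have hz' : k * (g * z * g⁻¹) * k⁻¹ ∈ omegaCenterOf (eK P k ⊓ P) :=
    h.k_conj_Z (h.eC_conj_Z hg hz)
  have hc := mem_centralizer_iff.mp (omegaCenterOf_le_centralizer _ hz') p hpQ
  have e : g * (k * z * k⁻¹) * g⁻¹ = (p * (k * (g * z * g⁻¹) * k⁻¹)) * p⁻¹ := by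
    rw [hp]; group
  rw [e, hc]; group

theorem comm_of_eC' [Finite G] (h : EHyp P T A a k) {g : G} (hg : g ∈ eC P k) {z : G}
    (hz : z ∈ omegaCenterOf (eK P k ⊓ P)) :
    g * (k⁻¹ * z * k) * g⁻¹ = k⁻¹ * (g * z * g⁻¹) * k := by
  have h1 := h.comm_of_eC hg (h.kinv_conj_Z hz)
  have e : k * (k⁻¹ * z * k) * k⁻¹ = z := by group
  rw [e] at h1
  rw [h1]; group

/-! ### the norm map -/

theorem eσ_mem (h : EHyp P T A a k) {z : G} (hz : z ∈ omegaCenterOf (eK P k ⊓ P)) :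
    eσ k z ∈ omegaCenterOf (eK P k ⊓ P) :=
  mul_mem (mul_mem hz (h.k_conj_Z hz)) (h.kinv_conj_Z hz)

theorem eσ_mul (h : EHyp P T A a k) {z z' : G} (hz : z ∈ omegaCenterOf (eK P k ⊓ P))
    (hz' : z' ∈ omegaCenterOf (eK P k ⊓ P)) : eσ k (z * z') = eσ k z * eσ k z' := by
  unfold eσ
  have h1 := h.k_conj_Z hz
  have h2 := h.kinv_conj_Z hz
  have h1' := h.k_conj_Z hz'
  have h2' := h.kinv_conj_Z hz'
  have c1 : z' * (k * z * k⁻¹) = (k * z * k⁻¹) * z' := h.Z_comm hz' h1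
  have c2 : (z' * (k * z' * k⁻¹)) * (k⁻¹ * z * k) = (k⁻¹ * z * k) * (z' * (k * z' * k⁻¹)) :=
    h.Z_comm (mul_mem hz' h1') h2
  calc z * z' * (k * (z * z') * k⁻¹) * (k⁻¹ * (z * z') * k)
      = z * (z' * (k * z * k⁻¹)) * (k * z' * k⁻¹) * (k⁻¹ * z * k) * (k⁻¹ * z' * k) := by group
    _ = z * ((k * z * k⁻¹) * z') * (k * z' * k⁻¹) * (k⁻¹ * z * k) * (k⁻¹ * z' * k) := by
        rw [c1]
    _ = z * (k * z * k⁻¹) * ((z' * (k * z' * k⁻¹)) * (k⁻¹ * z * k)) * (k⁻¹ * z' * k) := by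
        group
    _ = z * (k * z * k⁻¹) * ((k⁻¹ * z * k) * (z' * (k * z' * k⁻¹))) * (k⁻¹ * z' * k) := by
        rw [c2]
    _ = z * (k * z * k⁻¹) * (k⁻¹ * z * k) * (z' * (k * z' * k⁻¹) * (k⁻¹ * z' * k)) := by
        group

/-- `σ(k z k⁻¹) = σ(z)` -/
theorem eσ_conj (h : EHyp P T A a k) {z : G} (hz : z ∈ omegaCenterOf (eK P k ⊓ P)) :
    eσ k (k * z * k⁻¹) = eσ k z := by
  unfold eσ
  have h1 := h.k_conj_Z hz
  have h2 := h.kinv_conj_Z hz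
  have e1 : k * (k * z * k⁻¹) * k⁻¹ = k⁻¹ * z * k := by
    calc k * (k * z * k⁻¹) * k⁻¹ = (k * k) * z * (k * k)⁻¹ := by group
      _ = k⁻¹ * z * k := by rw [h.k_sq]; group
  have e2 : k⁻¹ * (k * z * k⁻¹) * k = z := by group
  rw [e1, e2, h.Z_comm (mul_mem h1 h2) hz]
  simp only [mul_assoc]

/-- `k σ(z) k⁻¹ = σ(z)` -/
theorem conj_eσ (h : EHyp P T A a k) {z : G} (hz : z ∈ omegaCenterOf (eK P k ⊓ P)) :
    k * eσ k z * k⁻¹ = eσ k z := by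
  have e : k * eσ k z * k⁻¹ = eσ k (k * z * k⁻¹) := by
    unfold eσ; group
  rw [e, h.eσ_conj hz]

theorem eσ_sq (h : EHyp P T A a k) {z : G} (hz : z ∈ omegaCenterOf (eK P k ⊓ P)) :
    eσ k z * eσ k z = 1 := h.Z_sq (h.eσ_mem hz)

/-- the kernel of the norm map -/
def eZ₀ (h : EHyp P T A a k) : Subgroup G where
  carrier := {z | z ∈ omegaCenterOf (eK P k ⊓ P) ∧ eσ k z = 1}
  mul_mem' := by
    rintro z z' ⟨hz, hz1⟩ ⟨hz', hz1'⟩
    refine ⟨mul_mem hz hz', ?_⟩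
    rw [h.eσ_mul hz hz', hz1, hz1', one_mul]
  one_mem' := by
    refine ⟨one_mem _, ?_⟩
    unfold eσ; group
  inv_mem' := by
    rintro z ⟨hz, hz1⟩
    rw [h.Z_inv hz]
    exact ⟨hz, hz1⟩

theorem mem_eZ₀ (h : EHyp P T A a k) {z : G} :
    z ∈ h.eZ₀ ↔ z ∈ omegaCenterOf (eK P k ⊓ P) ∧ eσ k z = 1 := Iff.rfl

theorem eZ₀_le (h : EHyp P T A a k) : h.eZ₀ ≤ omegaCenterOf (eK P k ⊓ P) := fun z hz => hz.1

theorem k_conj_eZ₀ (h : EHyp P T A a k) {z : G} (hz : z ∈ h.eZ₀) : k * z * k⁻¹ ∈ h.eZ₀ :=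
  ⟨h.k_conj_Z hz.1, by rw [h.eσ_conj hz.1, hz.2]⟩

theorem eZ₀_fpf (h : EHyp P T A a k) {z : G} (hz : z ∈ h.eZ₀) (hkz : k * z = z * k) : z = 1 := by
  have h1 : k * z * k⁻¹ = z := by rw [hkz]; group
  have h2 : k⁻¹ * z * k = z := by
    calc k⁻¹ * z * k = k⁻¹ * (z * k) := by group
      _ = k⁻¹ * (k * z) := by rw [hkz]
      _ = z := by group
  have h3 := hz.2
  unfold eσ at h3
  rw [h1, h2, h.Z_sq hz.1, one_mul] at h3
  exact h3

theorem eC_conj_eZ₀ [Finite G] (h : EHyp P T A a k) {g : G} (hg : g ∈ eC P k) {z : G}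
    (hz : z ∈ h.eZ₀) : g * z * g⁻¹ ∈ h.eZ₀ := by
  refine ⟨h.eC_conj_Z hg hz.1, ?_⟩
  have e : eσ k (g * z * g⁻¹) = g * eσ k z * g⁻¹ := by
    unfold eσ
    rw [← h.comm_of_eC hg hz.1, ← h.comm_of_eC' hg hz.1]
    group
  rw [e, hz.2]; group

theorem a_conj_eZ₀ [Finite G] (h : EHyp P T A a k) {z : G}
    (hz : z ∈ h.eZ₀) : a * z * a⁻¹ ∈ h.eZ₀ := by
  refine ⟨h.a_conj_Z hz.1, ?_⟩
  have h1 := h.k_conj_Z hz.1
  have h2 := h.kinv_conj_Z hz.1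
  have e1 : k * (a * z * a⁻¹) * k⁻¹ = a * (k⁻¹ * z * k) * a⁻¹ := by
    calc k * (a * z * a⁻¹) * k⁻¹ = (k * a) * z * (k * a)⁻¹ := by group
      _ = (a * k⁻¹) * z * (a * k⁻¹)⁻¹ := by rw [h.ak']
      _ = a * (k⁻¹ * z * k) * a⁻¹ := by group
  have e2 : k⁻¹ * (a * z * a⁻¹) * k = a * (k * z * k⁻¹) * a⁻¹ := by
    calc k⁻¹ * (a * z * a⁻¹) * k = (k⁻¹ * a) * z * (k⁻¹ * a)⁻¹ := by group
      _ = (a * k) * z * (a * k)⁻¹ := by rw [h.ak]
      _ = a * (k * z * k⁻¹) * a⁻¹ := by group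
  have e : eσ k (a * z * a⁻¹) = a * eσ k z * a⁻¹ := by
    unfold eσ
    rw [e1, e2]
    have e3 : a * z * a⁻¹ * (a * (k⁻¹ * z * k) * a⁻¹) * (a * (k * z * k⁻¹) * a⁻¹) =
        a * (z * ((k⁻¹ * z * k) * (k * z * k⁻¹))) * a⁻¹ := by group
    rw [e3, h.Z_comm h2 h1]
    group
  rw [e, hz.2]; group

/-- `z (k z k⁻¹)⁻¹` lies in the kernel of the norm -/
theorem delta_mem (h : EHyp P T A a k) {z : G} (hz : z ∈ omegaCenterOf (eK P k ⊓ P)) :
    z * (k * z * k⁻¹)⁻¹ ∈ h.eZ₀ := by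
  have h1 := h.k_conj_Z hz
  rw [h.Z_inv h1]
  refine ⟨mul_mem hz h1, ?_⟩
  rw [h.eσ_mul hz h1, h.eσ_conj hz, h.eσ_sq hz]

theorem delta_mem' (h : EHyp P T A a k) {z : G} (hz : z ∈ omegaCenterOf (eK P k ⊓ P)) :
    z * (k⁻¹ * z * k)⁻¹ ∈ h.eZ₀ := by
  have h2 := h.kinv_conj_Z hz
  have h3 := h.delta_mem h2
  have e : k * (k⁻¹ * z * k) * k⁻¹ = z := by group
  rw [e] at h3
  have h4 := inv_mem h3
  have e2 : (k⁻¹ * z * k * z⁻¹)⁻¹ = z * (k⁻¹ * z * k)⁻¹ := by group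
  rwa [e2] at h4

theorem mem_zpowers_cases (h : EHyp P T A a k) {z : G} (hz : z ∈ zpowers k) :
    z = 1 ∨ z = k ∨ z = k⁻¹ := by
  obtain ⟨n, rfl⟩ := mem_zpowers_iff.mp hz
  have h1 : k ^ n = k ^ (n % (orderOf k : ℤ)) := (zpow_mod_orderOf k n).symm
  rw [h.orderOf_k] at h1
  have h2 : 0 ≤ n % 3 := Int.emod_nonneg _ (by norm_num)
  have h3 : n % 3 < 3 := Int.emod_lt_of_pos _ (by norm_num)
  obtain ⟨m, hm⟩ : ∃ m : ℤ, m = n % 3 := ⟨_, rfl⟩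
  rw [h1]
  have hcases : n % 3 = 0 ∨ n % 3 = 1 ∨ n % 3 = 2 := by omega
  rcases hcases with e | e | e
  · left; rw [show ((n % (3 : ℕ) : ℤ)) = 0 from by exact_mod_cast e, zpow_zero]
  · right; left; rw [show ((n % (3 : ℕ) : ℤ)) = 1 from by exact_mod_cast e, zpow_one]
  · right; right
    rw [show ((n % (3 : ℕ) : ℤ)) = 2 from by exact_mod_cast e]
    have : k ^ (2 : ℤ) = k * k := by
      rw [show (2 : ℤ) = ((2 : ℕ) : ℤ) from rfl, zpow_natCast, pow_two]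
    rw [this, h.k_sq]

/-- `W_K` lies in the kernel of the norm -/
theorem wOf_le_eZ₀ [Finite G] (h : EHyp P T A a k) : wOf (eK P k) ≤ h.eZ₀ := by
  unfold wOf
  rw [h.pCoreOf_K, commutator_le]
  intro z hz g hg
  obtain ⟨z', hz', q, hq, rfl⟩ := h.mem_K hg
  have hqc : q * z⁻¹ = z⁻¹ * q :=
    mem_centralizer_iff.mp (omegaCenterOf_le_centralizer _ (inv_mem hz)) q hq
  have e : ⁅z, z' * q⁆ = z * (z' * z * z'⁻¹)⁻¹ := by
    rw [commutatorElement_def]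
    calc z * (z' * q) * z⁻¹ * (z' * q)⁻¹ = z * z' * (q * z⁻¹) * q⁻¹ * z'⁻¹ := by group
      _ = z * z' * (z⁻¹ * q) * q⁻¹ * z'⁻¹ := by rw [hqc]
      _ = z * (z' * z * z'⁻¹)⁻¹ := by group
  rw [e]
  rcases h.mem_zpowers_cases hz' with rfl | rfl | rfl
  · have : z * (1 * z * 1⁻¹)⁻¹ = 1 := by group
    rw [this]; exact one_mem _
  · exact h.delta_mem hz
  · have := h.delta_mem' hz
    rwa [inv_inv]

end EHyp

/-- the hypotheses for the four-group `W` -/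
structure EHyp3 (P T A W : Subgroup G) (a k : G) : Prop where
  toE : EHyp P T A a k
  hWP : W ≤ P
  hWc : W ≤ centralizer (P : Set G)
  hW4 : Nat.card W = 4
  hW2 : ∀ w ∈ W, w * w = 1
  hkW : ∀ w ∈ W, k * w * k⁻¹ ∈ W
  hfW : ∀ w ∈ W, k * w = w * k → w = 1

namespace EHyp3

variable {P T A W : Subgroup G} {a k : G}

theorem W_le_K [Finite G] (h : EHyp3 P T A W a k) : W ≤ eK P k := by
  intro w hw
  obtain ⟨w', hw', rfl⟩ := fpf_surj h.hkW h.hfW w hw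
  have h1 : w' * k * w'⁻¹ ∈ eK P k :=
    conj_mem_of_mem_normalizer (h.toE.P_le_normalizer_K (h.hWP hw')) h.toE.k_mem_K
  have e : w' * (k * w' * k⁻¹)⁻¹ = (w' * k * w'⁻¹) * k⁻¹ := by group
  rw [e]
  exact mul_mem h1 (inv_mem h.toE.k_mem_K)

theorem W_le_Z [Finite G] (h : EHyp3 P T A W a k) : W ≤ omegaCenterOf (eK P k ⊓ P) := by
  intro w hw
  refine mem_omegaCenterOf_iff.mpr ⟨mem_inf.mpr ⟨h.W_le_K hw, h.hWP hw⟩, ?_, ?_⟩
  · exact centralizer_le (by exact_mod_cast (inf_le_right : eK P k ⊓ P ≤ P)) (h.hWc hw)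
  · rw [pow_two]; exact h.hW2 w hw

theorem kinv_W (h : EHyp3 P T A W a k) {w : G} (hw : w ∈ W) : k⁻¹ * w * k ∈ W := by
  have h1 := h.hkW _ (h.hkW w hw)
  have e : k * (k * w * k⁻¹) * k⁻¹ = k⁻¹ * w * k := by
    calc k * (k * w * k⁻¹) * k⁻¹ = (k * k) * w * (k * k)⁻¹ := by group
      _ = k⁻¹ * w * k := by rw [h.toE.k_sq]; group
  rwa [e] at h1

theorem W_le_eZ₀ [Finite G] (h : EHyp3 P T A W a k) : W ≤ h.toE.eZ₀ := by
  intro w hw
  have hwZ := h.W_le_Z hw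
  refine ⟨hwZ, ?_⟩
  have h1 : eσ k w ∈ W := by
    unfold eσ
    exact mul_mem (mul_mem hw (h.hkW w hw)) (h.kinv_W hw)
  apply h.hfW _ h1
  have := h.toE.conj_eσ hwZ
  calc k * eσ k w = (k * eσ k w * k⁻¹) * k := by group
    _ = eσ k w * k := by rw [this]

theorem W_le_wOf [Finite G] (h : EHyp3 P T A W a k) : W ≤ wOf (eK P k) := by
  intro w hw
  obtain ⟨w', hw', rfl⟩ := fpf_surj h.hkW h.hfW w hw
  unfold wOf
  rw [h.toE.pCoreOf_K]
  have e : w' * (k * w' * k⁻¹)⁻¹ = ⁅w', k⁆ := by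
    rw [commutatorElement_def]; group
  rw [e]
  exact commutator_mem_commutator (h.W_le_Z hw') h.toE.k_mem_K

/-- the module hypotheses hold -/
theorem mhyp [Finite G] (h : EHyp3 P T A W a k) :
    MHyp T A (A ⊓ eC P k) (P ⊔ (A ⊓ eC P k)) h.toE.eZ₀ a k := by
  have hE := h.toE
  have hReC : P ⊔ (A ⊓ eC P k) ≤ eC P k := sup_le hE.P_le_eC inf_le_right
  have haA₀ : ∀ x ∈ A ⊓ eC P k, a * x * a⁻¹ = x := by
    intro x hx
    have := IsElementaryAbelian.comm' hE.hA.2.1 hE.haA (mem_inf.mp hx).1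
    rw [this]; group
  refine
    { hA := hE.hA
      haA := hE.haA
      hak := hE.hak
      hk3 := hE.hk3
      hT2 := hE.hT2
      hRT := sup_le hE.hPT (inf_le_left.trans hE.hA.1)
      hA₀A := inf_le_left
      hA₀R := le_sup_right
      hAA₀ := ?_
      hZR := ?_
      hZc := fun x hx y hy => hE.Z_comm hx.1 hy.1
      hZ2 := fun x hx => hE.Z_sq hx.1
      hRZ := ?_
      hkZ := fun z hz => hE.k_conj_eZ₀ hz
      haZ := fun z hz => hE.a_conj_eZ₀ hz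
      haR := ?_
      hcomm := fun r hr z hz => hE.comm_of_eC (hReC hr) hz.1
      hfpf := fun z hz hkz => hE.eZ₀_fpf hz hkz
      hZne := ?_ }
  · -- `|A : A ∩ eC| ≤ 2`
    apply card_le_two_mul_of_coset inf_le_left
    refine ⟨a, hE.haA, fun b hb => ?_⟩
    have hbT : b ∈ T := hE.hA.1 hb
    have hbP : b ∈ normalizer (P : Set G) := hE.hTP hbT
    rcases hE.hJk b (hE.A_le_J hb) with h1 | h1
    · exact Or.inr (mem_inf.mpr ⟨hb, hbP, h1⟩)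
    · left
      refine mem_inf.mpr ⟨mul_mem hb hE.haA, mul_mem hbP hE.a_mem_normalizer_P, ?_⟩
      have e : b * a * k * (b * a)⁻¹ * k⁻¹ = k * (b * k * b⁻¹ * k)⁻¹ * k⁻¹ := by
        calc b * a * k * (b * a)⁻¹ * k⁻¹ = b * (a * k * a⁻¹) * b⁻¹ * k⁻¹ := by group
          _ = b * k⁻¹ * b⁻¹ * k⁻¹ := by rw [hE.hak]
          _ = k * (b * k * b⁻¹ * k)⁻¹ * k⁻¹ := by group
      rw [e]
      exact hE.conj_mem_P hE.hkP (inv_mem h1)
  · exact hE.eZ₀_le.trans (hE.Z_le_Q.trans (inf_le_right.trans le_sup_left))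
  · intro r hr
    apply mem_normalizer_of_forall_conj_mem
    intro z hz
    exact hE.eC_conj_eZ₀ (hReC hr) hz
  · intro r hr
    have h1 : (P ⊔ (A ⊓ eC P k)).map (MulAut.conj a).toMonoidHom ≤ P ⊔ (A ⊓ eC P k) := by
      rw [Subgroup.map_sup]
      apply sup_le_sup
      · rintro _ ⟨p, hp, rfl⟩
        simp only [MulEquiv.coe_toMonoidHom, MulAut.conj_apply]
        exact hE.conj_mem_P hE.a_mem_normalizer_P hp
      · rintro _ ⟨x, hx, rfl⟩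
        simp only [MulEquiv.coe_toMonoidHom, MulAut.conj_apply]
        rw [haA₀ x hx]; exact hx
    have h2 : (MulAut.conj a).toMonoidHom r ∈
        (P ⊔ (A ⊓ eC P k)).map (MulAut.conj a).toMonoidHom := Subgroup.mem_map_of_mem _ hr
    have h3 := h1 h2
    simpa only [MulEquiv.coe_toMonoidHom, MulAut.conj_apply] using h3
  · intro e
    have h1 : W ≤ (⊥ : Subgroup G) := e ▸ h.W_le_eZ₀
    have h2 : Nat.card W ≤ 1 := by
      have := Subgroup.card_le_of_le h1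
      rwa [Subgroup.card_bot] at this
    rw [h.hW4] at h2
    omega

/-- **`W_K = W`** -/
theorem wOf_K [Finite G] (h : EHyp3 P T A W a k) : wOf (eK P k) = W := by
  have h1 := h.mhyp.card_Z
  have h2 : W = h.toE.eZ₀ :=
    Subgroup.eq_of_le_of_card_ge h.W_le_eZ₀ (by rw [h1, h.hW4])
  apply le_antisymm
  · rw [h2]; exact h.toE.wOf_le_eZ₀
  · exact h.W_le_wOf

end EHyp3

end JExist4

end Cfsg.Agent.Lib.Helper52
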