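import Mathlib
import Cfsg.Agent.Lib.Helper52.JExist4

/-!
# Existence of `J(T)`-components, part 5: tools in the failure-of-factorization model
-/

set_option autoImplicit false
set_option linter.unusedSectionVars false
set_option linter.unusedVariables false
set_option linter.style.haveILetI false

namespace Cfsg.Agent.Lib.Helper52

open Cfsg Subgroup JComp
open scoped commutatorElement
open Cfsg.Agent.Lib.Helper15 (maxElemIn)

section Tools5

variable {Γ : Type*} [Group Γ]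

/-- an element killed by two coprime exponents is trivial -/
theorem eq_one_of_pow_of_coprime {x : Γ} {m n : ℕ} (hm : x ^ m = 1) (hn : x ^ n = 1)
    (hc : Nat.Coprime m n) : x = 1 := by
  have h1 : orderOf x ∣ m := orderOf_dvd_of_pow_eq_one hm
  have h2 : orderOf x ∣ n := orderOf_dvd_of_pow_eq_one hn
  exact orderOf_eq_one_iff.mp (Nat.eq_one_of_dvd_coprimes hc h1 h2)

/-- a commutator of elements of coprime orders commuting with both is trivial -/
theorem comm_eq_one_of_coprime {j k : Γ} {m n : ℕ} (hk : k ^ m = 1) (hj : j ^ n = 1)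
    (hmn : Nat.Coprime m n) (hcj : Commute (j * k * j⁻¹ * k⁻¹) j)
    (hck : Commute (j * k * j⁻¹ * k⁻¹) k) : j * k * j⁻¹ * k⁻¹ = 1 := by
  obtain ⟨c, hc⟩ : ∃ c, c = j * k * j⁻¹ * k⁻¹ := ⟨_, rfl⟩
  rw [← hc] at hcj hck ⊢
  have e1 : c * k = j * k * j⁻¹ := by rw [hc]; group
  have h1 : c ^ m = 1 := by
    have h2 : (c * k) ^ m = c ^ m := by rw [hck.mul_pow, hk, mul_one]
    have h3 : (j * k * j⁻¹) ^ m = 1 := by rw [conj_pow, hk]; group
    rw [← h2, e1, h3]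
  have e2 : j⁻¹ * c = k * j⁻¹ * k⁻¹ := by rw [hc]; group
  have hcj' : Commute j⁻¹ c := (hcj.inv_right).symm
  have h4 : c ^ n = 1 := by
    have h5 : (j⁻¹ * c) ^ n = c ^ n := by rw [hcj'.mul_pow, inv_pow, hj, inv_one, one_mul]
    have h6 : (k * j⁻¹ * k⁻¹) ^ n = 1 := by rw [conj_pow, inv_pow, hj]; group
    rw [← h5, e2, h6]
  exact eq_one_of_pow_of_coprime h1 h4 hmn

/-- the elements of a cyclic group of order dividing `3` -/
theorem mem_zpowers_cases3 {k z : Γ} (hk3 : k ^ 3 = 1) (hz : z ∈ zpowers k) :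
    z = 1 ∨ z = k ∨ z = k⁻¹ := by
  obtain ⟨n, rfl⟩ := mem_zpowers_iff.mp hz
  have hk2 : k * k = k⁻¹ := by
    have : k * k * k = 1 := by rw [← hk3, pow_succ, pow_succ, pow_one]
    calc k * k = (k * k * k) * k⁻¹ := by group
      _ = k⁻¹ := by rw [this, one_mul]
  have h1 : k ^ n = k ^ (n % 3) := by
    conv_lhs => rw [← Int.emod_add_mul_ediv n 3]
    rw [zpow_add, zpow_mul]
    have : k ^ (3 : ℤ) = 1 := by
      rw [show (3 : ℤ) = ((3 : ℕ) : ℤ) from rfl, zpow_natCast, hk3]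
    rw [this, one_zpow, mul_one]
  rw [h1]
  have hcases : n % 3 = 0 ∨ n % 3 = 1 ∨ n % 3 = 2 := by omega
  rcases hcases with e | e | e
  · left; rw [e, zpow_zero]
  · right; left; rw [e, zpow_one]
  · right; right
    rw [e]
    have : k ^ (2 : ℤ) = k * k := by
      rw [show (2 : ℤ) = ((2 : ℕ) : ℤ) from rfl, zpow_natCast, pow_two]
    rw [this, hk2]

end Tools5

section FFLevel

variable {G : Type*} [Group G] [Finite G] [hp : Fact (Nat.Prime 2)]
variable {V H B : Subgroup G}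

theorem ffD_card (h : FFHyp 2 V H) (hB : FFMin 2 V H B) : Nat.card ↥⁅ffK 2 H, B⁆ = 3 := by
  rw [card_commutator_K' h hB]; norm_num

theorem ffD_pow_three (h : FFHyp 2 V H) (hB : FFMin 2 V H B) {κ : G} (hκ : κ ∈ ⁅ffK 2 H, B⁆) :
    κ ^ 3 = 1 := by
  have h1 : (⟨κ, hκ⟩ : ↥⁅ffK 2 H, B⁆) ^ Nat.card ↥⁅ffK 2 H, B⁆ = 1 := pow_card_eq_one'
  rw [ffD_card h hB] at h1
  exact congrArg Subtype.val h1

theorem ffD_eq_zpowers (h : FFHyp 2 V H) (hB : FFMin 2 V H B) {κ : G} (hκ : κ ∈ ⁅ffK 2 H, B⁆)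
    (hκ1 : κ ≠ 1) : zpowers κ = ⁅ffK 2 H, B⁆ :=
  zpowers_eq_of_card_prime Nat.prime_three (ffD_card h hB) hκ hκ1

/-- `H` acts on `D = [O_{2'}(H), B]` by `±1` -/
theorem ffD_conj (h : FFHyp 2 V H) (hgen : FFGen 2 V H) (hB : FFMin 2 V H B) {g : G} (hg : g ∈ H)
    {κ : G} (hκ : κ ∈ ⁅ffK 2 H, B⁆) (hκ1 : κ ≠ 1) :
    g * κ * g⁻¹ = κ ∨ g * κ * g⁻¹ = κ⁻¹ := by
  have hgE : g ∈ normalizer ((ffE 2 H B : Subgroup G) : Set G) := H_le_normalizer_ffE h hgen hB hg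
  have hgK : g ∈ normalizer ((ffK 2 H : Subgroup G) : Set G) := ffK_normal H hg
  have hgD : g ∈ normalizer ((⁅ffK 2 H, B⁆ : Subgroup G) : Set G) := by
    rw [← ffE_inf_K hB]
    exact mem_normalizer_inf hgE hgK
  have h1 : g * κ * g⁻¹ ∈ ⁅ffK 2 H, B⁆ := conj_mem_of_mem_normalizer hgD hκ
  rw [← ffD_eq_zpowers h hB hκ hκ1] at h1
  rcases mem_zpowers_cases3 (ffD_pow_three h hB hκ) h1 with e | e | e
  · exfalso
    apply hκ1
    have : κ = g⁻¹ * (g * κ * g⁻¹) * g := by group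
    rw [this, e]; group
  · exact Or.inl e
  · exact Or.inr e

/-- nontrivial elements of `D` act fixed-point-freely on `W = [V, E_B]` -/
theorem ffW_fpf (h : FFHyp 2 V H) (hB : FFMin 2 V H B) {κ : G} (hκ : κ ∈ ⁅ffK 2 H, B⁆)
    (hκ1 : κ ≠ 1) : ∀ w ∈ ⁅V, ffE 2 H B⁆, κ * w = w * κ → w = 1 := by
  have hκE : κ ∈ ffE 2 H B := (le_sup_left : ⁅ffK 2 H, B⁆ ≤ ffE 2 H B) hκ
  have hW4 : Nat.card ↥⁅V, ffE 2 H B⁆ = 4 := by
    rw [ffE_card_W h hB]; norm_num
  have hW2 : ∀ w ∈ ⁅V, ffE 2 H B⁆, w * w = 1 := by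
    intro w hw
    have := h.hV.2 w (ffE_W_le h hB hw)
    rwa [pow_two] at this
  have hN : κ ∈ normalizer ((⁅V, ffE 2 H B⁆ : Subgroup G) : Set G) :=
    (mem_stabSub.mp (ffE_le_stabSub h hB hκE)).2.1
  apply fg_fpf hW4 hW2 hN
  · intro w hw
    rw [ffD_pow_three h hB hκ, one_mul, mul_one]
  · intro hc
    apply hκ1
    have : κ ∈ ffE 2 H B ⊓ centralizer ((⁅V, ffE 2 H B⁆ : Subgroup G) : Set G) := by
      refine mem_inf.mpr ⟨hκE, ?_⟩
      rw [mem_centralizer_iff]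
      intro w hw
      exact (hc w hw).symm
    rw [ffE_faithful h hB, mem_bot] at this
    exact this

end FFLevel

end Cfsg.Agent.Lib.Helper52
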