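import Mathlib
import Cfsg.Agent.Lib.Helper52.JExist5

/-!
# Existence of `J(T)`-components, part 6: good elements in the model
-/

set_option autoImplicit false
set_option linter.unusedSectionVars false
set_option linter.unusedVariables false
set_option linter.style.haveILetI false

namespace Cfsg.Agent.Lib.Helper52

open Cfsg Subgroup JComp
open scoped commutatorElement
open Cfsg.Agent.Lib.Helper15 (maxElemIn)

section Model6

variable {X : Type*} [Group X] [Finite X]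
variable (V₁ : Subgroup X) [hV₁n : V₁.Normal]

/-- the context of the model -/
structure MCtx (T Q Y : Subgroup X) [hQn : Q.Normal] : Prop where
  hV₁ : Cfsg.IsElementaryAbelian 2 V₁
  hsep : Cfsg.IsPSolvable 2 X
  hOp : FMOp 2 V₁
  hT : IsPGroup 2 ↥T
  hVT : V₁ ≤ T
  hY : Y = normalClosure (Cfsg.thompsonSubgroupOf 2 T : Set X)
  hQ2 : IsPGroup 2 ↥Q
  hV₁Q : V₁ ≤ Q
  hV₁cQ : V₁ ≤ centralizer (Q : Set X)
  hYD : Y ≤ centMod (centralizer (V₁ : Set X)) Q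
  hCJ : centralizer (V₁ : Set X) ≤ normalizer (Cfsg.thompsonSubgroupOf 2 T : Set X)
  hfr : Y ⊔ normalizer (Cfsg.thompsonSubgroupOf 2 T : Set X) = ⊤

/-- good elements: lifts of order `3` of generators of some `[O_{2'}(H), B]`, inverted by an
element of some `A ∈ 𝒜(T)` -/
def MGood (T Y : Subgroup X) (k : X) : Prop :=
  k ∈ Y ∧ k ^ 3 = 1 ∧ ∃ A ∈ maxElemIn 2 T, ∃ a ∈ A, a * k * a⁻¹ = k⁻¹ ∧
    ∃ B : Subgroup (FM V₁), FFMin 2 (fmι V₁).range (Y.map (fmπ V₁)) B ∧ fmπ V₁ a ∈ B ∧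
      fmπ V₁ k ∈ ⁅ffK 2 (Y.map (fmπ V₁)), B⁆ ∧ fmπ V₁ k ≠ 1

namespace MCtx

variable {V₁}
variable {T Q Y : Subgroup X} [hQn : Q.Normal]

theorem Y_normal (c : MCtx V₁ T Q Y) : Y.Normal := c.hY ▸ normalClosure_normal

theorem J_le_Y (c : MCtx V₁ T Q Y) : Cfsg.thompsonSubgroupOf 2 T ≤ Y := by
  rw [c.hY]
  exact fun x hx => subset_normalClosure hx

theorem J_le_T (c : MCtx V₁ T Q Y) : Cfsg.thompsonSubgroupOf 2 T ≤ T :=
  Cfsg.Agent.Lib.Helper15.thompsonSubgroupOf_le 2 T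

theorem A_le_J (c : MCtx V₁ T Q Y) {A : Subgroup X} (hA : A ∈ maxElemIn 2 T) :
    A ≤ Cfsg.thompsonSubgroupOf 2 T := by
  rw [Cfsg.Agent.Lib.Helper15.thompsonSubgroupOf_eq]
  exact le_sSup hA

theorem hyp (c : MCtx V₁ T Q Y) : FFHyp 2 (fmι V₁).range (Y.map (fmπ V₁)) := by
  haveI : Fact (Nat.Prime 2) := ⟨Nat.prime_two⟩
  haveI := c.Y_normal
  exact fm_hyp V₁ c.hV₁ c.hsep c.hOp Y

theorem gen (c : MCtx V₁ T Q Y) : FFGen 2 (fmι V₁).range (Y.map (fmπ V₁)) := by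
  haveI : Fact (Nat.Prime 2) := ⟨Nat.prime_two⟩
  rw [c.hY]
  exact glau_gen_e V₁ c.hV₁ c.hsep c.hOp c.hT c.hVT

/-- a good element attached to a minimal offender inside the image of some `A ∈ 𝒜(T)` -/
theorem exists_good_of_ffmin (c : MCtx V₁ T Q Y) {A : Subgroup X} (hA : A ∈ maxElemIn 2 T)
    {B : Subgroup (FM V₁)} (hBA : B ≤ A.map (fmπ V₁))
    (hB : FFMin 2 (fmι V₁).range (Y.map (fmπ V₁)) B) :
    ∃ k, MGood V₁ T Y k ∧ zpowers (fmπ V₁ k) = ⁅ffK 2 (Y.map (fmπ V₁)), B⁆ := by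
  haveI : Fact (Nat.Prime 2) := ⟨Nat.prime_two⟩
  have h := c.hyp
  obtain ⟨b, hbB, hb1⟩ := exists_ne_one_of_card_prime Nat.prime_two hB.card
  obtain ⟨a, haA, hab⟩ := hBA hbB
  obtain ⟨x, hxK, hxB⟩ := exists_not_centralizing h hB
  have hxb : x * b ≠ b * x := by
    intro e
    apply hxB
    rw [mem_centralizer_iff]
    intro b' hb'
    rcases card_two_cases hB.card hbB hb1 b' hb' with e' | e'
    · rw [e']; simp
    · rw [e']; exact e.symm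
  obtain ⟨y, hyY, hyx⟩ := ffK_le _ hxK
  have haY : a ∈ Y := c.J_le_Y (c.A_le_J hA haA)
  have ha2 : a * a = 1 := by
    have := hA.2.1.2 a haA
    rwa [pow_two] at this
  have hainv : a⁻¹ = a := inv_eq_of_mul_eq_one_left ha2
  obtain ⟨k₀, hk₀⟩ : ∃ k₀, k₀ = y * a * y⁻¹ * a⁻¹ := ⟨_, rfl⟩
  have hk₀Y : k₀ ∈ Y := by
    rw [hk₀]
    exact mul_mem (mul_mem (mul_mem hyY haY) (inv_mem hyY)) (inv_mem haY)
  have hπk₀ : fmπ V₁ k₀ = ⁅x, b⁆ := by
    rw [hk₀, commutatorElement_def, map_mul, map_mul, map_mul, map_inv, map_inv, hyx, hab]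
  have hκ₀D : fmπ V₁ k₀ ∈ ⁅ffK 2 (Y.map (fmπ V₁)), B⁆ := by
    rw [hπk₀]; exact commutator_mem_commutator hxK hbB
  have hκ₀1 : fmπ V₁ k₀ ≠ 1 := by
    rw [hπk₀]
    intro e
    apply hxb
    rw [commutatorElement_eq_one_iff_mul_comm] at e
    exact e
  have hinv₀ : a * k₀ * a⁻¹ = k₀⁻¹ := by
    rw [hk₀, hainv]
    have e1 : a * (y * a * y⁻¹ * a) * a = a * y * a * y⁻¹ * (a * a) := by group
    have e2 : (y * a * y⁻¹ * a)⁻¹ = a⁻¹ * y * a⁻¹ * y⁻¹ := by group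
    rw [e1, e2, ha2, hainv, mul_one]
  -- the `3`-part
  have hord : orderOf k₀ ≠ 0 := (orderOf_pos k₀).ne'
  obtain ⟨s, m, hm3, hsm⟩ := Nat.exists_eq_pow_mul_and_not_dvd hord 3 (by norm_num)
  obtain ⟨k, hk⟩ : ∃ k, k = k₀ ^ m := ⟨_, rfl⟩
  have hkY : k ∈ Y := hk ▸ pow_mem hk₀Y m
  have hinv : a * k * a⁻¹ = k⁻¹ := by
    rw [hk, ← conj_pow, hinv₀, inv_pow]
  have hκ₀3 : fmπ V₁ k₀ ^ 3 = 1 := ffD_pow_three h hB hκ₀D
  have hκ₀ord : orderOf (fmπ V₁ k₀) = 3 :=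
    haveI : Fact (Nat.Prime 3) := ⟨Nat.prime_three⟩
    orderOf_eq_prime hκ₀3 hκ₀1
  have hπk : fmπ V₁ k = fmπ V₁ k₀ ^ m := by rw [hk, map_pow]
  have hκD : fmπ V₁ k ∈ ⁅ffK 2 (Y.map (fmπ V₁)), B⁆ := by
    rw [hπk]; exact pow_mem hκ₀D m
  have hκ1 : fmπ V₁ k ≠ 1 := by
    rw [hπk]
    intro e
    apply hm3
    rw [← hκ₀ord]
    exact orderOf_dvd_of_pow_eq_one e
  have hk3s : k ^ 3 ^ s = 1 := by
    rw [hk, ← pow_mul, mul_comm, ← hsm, pow_orderOf_eq_one]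
  -- `k³ = 1`
  obtain ⟨d, hd⟩ : ∃ d, d = k ^ 3 := ⟨_, rfl⟩
  have hdC : d ∈ centralizer (V₁ : Set X) := by
    rw [← fmπ_eq_one_iff V₁, hd, map_pow]
    exact ffD_pow_three h hB hκD
  have hdinv : a * d * a⁻¹ = d⁻¹ := by
    rw [hd, ← conj_pow, hinv, inv_pow]
  have hd2Q : d ^ 2 ∈ Q := by
    have h1 := c.hYD haY d hdC
    rw [hdinv] at h1
    have e : d⁻¹ * d⁻¹ = (d ^ 2)⁻¹ := by rw [pow_two]; group
    rw [e] at h1
    have := inv_mem h1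
    rwa [inv_inv] at this
  have hd3s : d ^ 3 ^ s = 1 := by
    rw [hd, ← pow_mul, mul_comm, pow_mul, hk3s, one_pow]
  obtain ⟨t, ht⟩ := c.hQ2 ⟨d ^ 2, hd2Q⟩
  have ht' : (d ^ 2) ^ 2 ^ t = 1 := by
    have := congrArg Subtype.val ht
    simpa using this
  have hcop : Nat.Coprime (3 ^ s) (2 ^ t) := Nat.Coprime.pow s t (by norm_num)
  have hd2 : d ^ 2 = 1 := by
    apply eq_one_of_pow_of_coprime (m := 3 ^ s) (n := 2 ^ t) _ ht' hcop
    rw [← pow_mul, mul_comm, pow_mul, hd3s, one_pow]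
  have hd1 : d = 1 :=
    eq_one_of_pow_of_coprime hd3s hd2 (Nat.Coprime.pow_left s (by norm_num))
  have hk3 : k ^ 3 = 1 := by rw [← hd, hd1]
  refine ⟨k, ⟨hkY, hk3, A, hA, a, haA, hinv, B, hB, ?_, hκD, hκ1⟩,
    ffD_eq_zpowers h hB hκD hκ1⟩
  rw [hab]; exact hbB

/-- every component `E_B` of `H` comes from a minimal offender inside the image of some
`A ∈ 𝒜(T)` -/
theorem exists_ffmin_in_A (c : MCtx V₁ T Q Y) {B : Subgroup (FM V₁)}
    (hB : FFMin 2 (fmι V₁).range (Y.map (fmπ V₁)) B) :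
    ∃ A ∈ maxElemIn 2 T, ∃ B' : Subgroup (FM V₁), B' ≤ A.map (fmπ V₁) ∧
      FFMin 2 (fmι V₁).range (Y.map (fmπ V₁)) B' ∧
      ffE 2 (Y.map (fmπ V₁)) B' = ffE 2 (Y.map (fmπ V₁)) B := by
  haveI : Fact (Nat.Prime 2) := ⟨Nat.prime_two⟩
  have h := c.hyp
  have hgen := c.gen
  haveI hYn := c.Y_normal
  by_contra hcon
  push Not at hcon
  obtain ⟨WB, hWB⟩ : ∃ WB : Subgroup (FM V₁),
      WB = ⁅(fmι V₁).range, ffE 2 (Y.map (fmπ V₁)) B⁆ := ⟨_, rfl⟩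
  -- every `π(A)` centralizes `W_B`
  have hAc : ∀ A ∈ maxElemIn 2 T, A.map (fmπ V₁) ≤ centralizer (WB : Set (FM V₁)) := by
    intro A hA
    by_contra hAW
    obtain ⟨B', hB'A, hB', hB'W⟩ := glau_min_e V₁ c.hV₁ c.hsep c.hOp c.hT c.hVT hA WB hAW
    rw [← c.hY] at hB'
    apply hB'W
    have hne := hcon A hA B' hB'A hB'
    have h1 := ffE_le_centralizer_W_of_ne h hB hB' hne
    rw [← hWB] at h1
    exact (le_ffE.trans h1).trans inf_le_right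
  -- the subgroup `Y'`
  obtain ⟨Y', hY'⟩ : ∃ Y' : Subgroup X,
      Y' = Y ⊓ (centralizer (WB : Set (FM V₁))).comap (fmπ V₁) := ⟨_, rfl⟩
  have hJY' : Cfsg.thompsonSubgroupOf 2 T ≤ Y' := by
    rw [hY']
    refine le_inf c.J_le_Y ?_
    rw [Cfsg.Agent.Lib.Helper15.thompsonSubgroupOf_eq]
    apply sSup_le
    intro A hA
    rw [← Subgroup.map_le_iff_le_comap]
    exact hAc A hA
  have hHW : Y.map (fmπ V₁) ≤ normalizer (WB : Set (FM V₁)) := by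
    rw [hWB]; exact H_le_normalizer_W h hgen hB
  have hYY' : ∀ y ∈ Y, ∀ y' ∈ Y', y * y' * y⁻¹ ∈ Y' := by
    intro y hy y' hy'
    rw [hY'] at hy' ⊢
    obtain ⟨h1, h2⟩ := mem_inf.mp hy'
    refine mem_inf.mpr ⟨mul_mem (mul_mem hy h1) (inv_mem hy), ?_⟩
    rw [mem_comap, map_mul, map_mul, map_inv]
    exact conj_mem_centralizer (hHW (mem_map_of_mem _ hy)) (mem_comap.mp h2)
  have hYle : Y ≤ Y' := by
    conv_lhs => rw [c.hY]
    unfold normalClosure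
    rw [closure_le]
    intro x hx
    rw [Group.mem_conjugatesOfSet_iff] at hx
    obtain ⟨j, hj, hjx⟩ := hx
    rw [isConj_iff] at hjx
    obtain ⟨g, rfl⟩ := hjx
    -- `g⁻¹ = n y`
    have hg : g⁻¹ ∈ normalizer (Cfsg.thompsonSubgroupOf 2 T : Set X) ⊔ Y := by
      rw [sup_comm, c.hfr]; exact mem_top _
    have hNY : normalizer (Cfsg.thompsonSubgroupOf 2 T : Set X) ≤ normalizer (Y : Set X) := by
      rw [normalizer_eq_top_iff.mpr hYn]; exact le_top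
    obtain ⟨n, hn, y, hy, hgny⟩ := Cfsg.Agent.Lib.Helper01.exists_mul_of_mem_sup hNY hg
    have hg' : g = y⁻¹ * n⁻¹ := by
      have : g = (g⁻¹)⁻¹ := by group
      rw [this, hgny]; group
    have e : g * j * g⁻¹ = y⁻¹ * (n⁻¹ * j * n⁻¹⁻¹) * y⁻¹⁻¹ := by
      rw [hg']; group
    rw [SetLike.mem_coe, e]
    apply hYY' _ (inv_mem hy)
    apply hJY'
    exact conj_mem_of_mem_normalizer (inv_mem hn) hj
  -- contradiction: `B` centralizes `W_B`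
  have hHc : Y.map (fmπ V₁) ≤ centralizer (WB : Set (FM V₁)) := by
    rw [Subgroup.map_le_iff_le_comap]
    exact hYle.trans (hY' ▸ inf_le_right)
  have hBbot : B ≤ (⊥ : Subgroup (FM V₁)) := by
    rw [← ffE_faithful h hB]
    refine le_inf le_ffE ?_
    rw [← hWB]
    exact hB.le.trans hHc
  exact hB.ne_bot (le_bot_iff.mp hBbot)

/-- **generation**: a subgroup containing `N_X(J(T))` and all good elements is `X` -/
theorem eq_top_of_good (c : MCtx V₁ T Q Y) {N₀ : Subgroup X}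
    (hNJ : normalizer (Cfsg.thompsonSubgroupOf 2 T : Set X) ≤ N₀)
    (hgood : ∀ k, MGood V₁ T Y k → k ∈ N₀) : N₀ = ⊤ := by
  haveI : Fact (Nat.Prime 2) := ⟨Nat.prime_two⟩
  have h := c.hyp
  have hgen := c.gen
  have hJN : Cfsg.thompsonSubgroupOf 2 T ≤ N₀ := le_normalizer.trans hNJ
  have hCN : centralizer (V₁ : Set X) ≤ N₀ := c.hCJ.trans hNJ
  have hHle : Y.map (fmπ V₁) ≤ (Y ⊓ N₀).map (fmπ V₁) := by
    refine hgen.trans (iSup_le fun B => ?_)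
    obtain ⟨A, hA, B', hB'A, hB', hE⟩ := c.exists_ffmin_in_A B.2
    obtain ⟨k, hk, hkD⟩ := c.exists_good_of_ffmin hA hB'A hB'
    refine (le_ffE (p := 2) (H := Y.map (fmπ V₁))).trans ?_
    rw [← hE]
    unfold ffE
    refine sup_le ?_ ?_
    · rw [← hkD, zpowers_le]
      exact mem_map_of_mem _ (mem_inf.mpr ⟨hk.1, hgood k hk⟩)
    · refine hB'A.trans (Subgroup.map_mono ?_)
      exact le_inf ((c.A_le_J hA).trans c.J_le_Y) ((c.A_le_J hA).trans hJN)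
  have hYN : Y ≤ N₀ := by
    intro y hy
    obtain ⟨n, hn, hny⟩ := hHle (mem_map_of_mem _ hy)
    have h1 : n⁻¹ * y ∈ centralizer (V₁ : Set X) := by
      rw [← fmπ_eq_one_iff V₁, map_mul, map_inv, hny]; group
    have : y = n * (n⁻¹ * y) := by group
    rw [this]
    exact mul_mem (mem_inf.mp hn).2 (hCN h1)
  rw [eq_top_iff, ← c.hfr]
  exact sup_le hYN hNJ

end MCtx

end Model6

end Cfsg.Agent.Lib.Helper52
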