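import Mathlib
import Cfsg.Agent.Lib.Helper52.JExist6

/-!
# Existence of `J(T)`-components, part 7: the data of a good element, and the model theorem
-/

set_option autoImplicit false
set_option linter.unusedSectionVars false
set_option linter.unusedVariables false
set_option linter.style.haveILetI false

namespace Cfsg.Agent.Lib.Helper52

open Cfsg Subgroup JComp
open scoped commutatorElement
open Cfsg.Agent.Lib.Helper15 (maxElemIn)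

section Model7

variable {X : Type*} [Group X] [Finite X]
variable {V₁ : Subgroup X} [hV₁n : V₁.Normal]
variable {T Q Y : Subgroup X} [hQn : Q.Normal]

namespace MCtx

/-- elements of `J(T)` acting trivially on `⟨π k⟩` centralize `k` modulo `Q` -/
theorem good_comm_mem (c : MCtx V₁ T Q Y) {k : X} (hkY : k ∈ Y) (hk3 : k ^ 3 = 1) {j : X}
    (hj : j ∈ Cfsg.thompsonSubgroupOf 2 T)
    (hπ : fmπ V₁ (j * k * j⁻¹) = fmπ V₁ k) : j * k * j⁻¹ * k⁻¹ ∈ Q := by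
  have hjY : j ∈ Y := c.J_le_Y hj
  have hjT : j ∈ T := c.J_le_T hj
  obtain ⟨c', hc'⟩ : ∃ c', c' = j * k * j⁻¹ * k⁻¹ := ⟨_, rfl⟩
  rw [← hc']
  have hc'C : c' ∈ centralizer (V₁ : Set X) := by
    rw [← fmπ_eq_one_iff V₁, hc', map_mul, hπ, map_inv]; group
  have h1 := c.hYD hjY c' hc'C
  have h2 := c.hYD hkY c' hc'C
  obtain ⟨t, ht⟩ := c.hT ⟨j, hjT⟩
  have ht' : j ^ 2 ^ t = 1 := by
    have := congrArg Subtype.val ht
    simpa using this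
  rw [← QuotientGroup.eq_one_iff] at h1 h2 ⊢
  have hq : ((c' : X) : X ⧸ Q) = (j : X ⧸ Q) * (k : X ⧸ Q) * (j : X ⧸ Q)⁻¹ * (k : X ⧸ Q)⁻¹ := by
    rw [hc']; rfl
  have hcj : Commute ((c' : X) : X ⧸ Q) (j : X ⧸ Q) := by
    have e : ((j * c' * j⁻¹ * c'⁻¹ : X) : X ⧸ Q) =
        (j : X ⧸ Q) * (c' : X ⧸ Q) * (j : X ⧸ Q)⁻¹ * (c' : X ⧸ Q)⁻¹ := rfl
    rw [e] at h1
    have : (j : X ⧸ Q) * (c' : X ⧸ Q) = (c' : X ⧸ Q) * (j : X ⧸ Q) := by
      calc (j : X ⧸ Q) * (c' : X ⧸ Q)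
          = ((j : X ⧸ Q) * (c' : X ⧸ Q) * (j : X ⧸ Q)⁻¹ * (c' : X ⧸ Q)⁻¹) *
              ((c' : X ⧸ Q) * (j : X ⧸ Q)) := by group
        _ = (c' : X ⧸ Q) * (j : X ⧸ Q) := by rw [h1, one_mul]
    exact this.symm
  have hck : Commute ((c' : X) : X ⧸ Q) (k : X ⧸ Q) := by
    have e : ((k * c' * k⁻¹ * c'⁻¹ : X) : X ⧸ Q) =
        (k : X ⧸ Q) * (c' : X ⧸ Q) * (k : X ⧸ Q)⁻¹ * (c' : X ⧸ Q)⁻¹ := rfl
    rw [e] at h2
    have : (k : X ⧸ Q) * (c' : X ⧸ Q) = (c' : X ⧸ Q) * (k : X ⧸ Q) := by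
      calc (k : X ⧸ Q) * (c' : X ⧸ Q)
          = ((k : X ⧸ Q) * (c' : X ⧸ Q) * (k : X ⧸ Q)⁻¹ * (c' : X ⧸ Q)⁻¹) *
              ((c' : X ⧸ Q) * (k : X ⧸ Q)) := by group
        _ = (c' : X ⧸ Q) * (k : X ⧸ Q) := by rw [h2, one_mul]
    exact this.symm
  rw [hq] at hcj hck ⊢
  have hk3' : (k : X ⧸ Q) ^ 3 = 1 := by
    rw [← QuotientGroup.mk_pow, hk3]; rfl
  have hj2' : (j : X ⧸ Q) ^ 2 ^ t = 1 := by
    rw [← QuotientGroup.mk_pow, ht']; rfl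
  exact comm_eq_one_of_coprime hk3' hj2' (Nat.Coprime.pow_right t (by norm_num)) hcj hck

/-- **the data of a good element** -/
theorem good_data (c : MCtx V₁ T Q Y) {k : X} (hk : MGood V₁ T Y k) :
    ∃ (A W : Subgroup X) (a : X), A ∈ maxElemIn 2 T ∧ a ∈ A ∧ a * k * a⁻¹ = k⁻¹ ∧ k ^ 3 = 1 ∧
      k ≠ 1 ∧
      (∀ j ∈ Cfsg.thompsonSubgroupOf 2 T, j * k * j⁻¹ * k⁻¹ ∈ Q ∨ j * k * j⁻¹ * k ∈ Q) ∧
      W ≤ Q ∧ W ≤ centralizer (Q : Set X) ∧ Nat.card W = 4 ∧ (∀ w ∈ W, w * w = 1) ∧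
      (∀ w ∈ W, k * w * k⁻¹ ∈ W) ∧ (∀ w ∈ W, k * w = w * k → w = 1) := by
  haveI : Fact (Nat.Prime 2) := ⟨Nat.prime_two⟩
  have h := c.hyp
  have hgen := c.gen
  obtain ⟨hkY, hk3, A, hA, a, haA, hinv, B, hB, haB, hκD, hκ1⟩ := hk
  have hk1 : k ≠ 1 := by
    intro e
    apply hκ1
    rw [e, map_one]
  have haJ : a ∈ Cfsg.thompsonSubgroupOf 2 T := c.A_le_J hA haA
  have hkinv : a * k⁻¹ * a⁻¹ = k := by
    have e0 : a * k⁻¹ * a⁻¹ = (a * k * a⁻¹)⁻¹ := by group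
    rw [e0, hinv, inv_inv]
  obtain ⟨W', hW'⟩ : ∃ W' : Subgroup (FM V₁),
      W' = ⁅(fmι V₁).range, ffE 2 (Y.map (fmπ V₁)) B⁆ := ⟨_, rfl⟩
  have hW'V : W' ≤ (fmι V₁).range := hW' ▸ ffE_W_le h hB
  have hκE : fmπ V₁ k ∈ ffE 2 (Y.map (fmπ V₁)) B :=
    (le_sup_left : ⁅ffK 2 (Y.map (fmπ V₁)), B⁆ ≤ ffE 2 (Y.map (fmπ V₁)) B) hκD
  have hκN : fmπ V₁ k ∈ normalizer (W' : Set (FM V₁)) := by
    rw [hW']
    exact (mem_stabSub.mp (ffE_le_stabSub h hB hκE)).2.1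
  obtain ⟨W, hW⟩ : ∃ W : Subgroup X, W = (W'.comap (fmι V₁)).map V₁.subtype := ⟨_, rfl⟩
  have hWV : W ≤ V₁ := hW ▸ Subgroup.map_subtype_le _
  have hmemW : ∀ (w : X), w ∈ W → ∃ hw : w ∈ V₁, fmι V₁ ⟨w, hw⟩ ∈ W' := by
    intro w hw
    rw [hW] at hw
    obtain ⟨v, hv, rfl⟩ := hw
    exact ⟨v.2, mem_comap.mp hv⟩
  have hmemW' : ∀ (w : X) (hw : w ∈ V₁), fmι V₁ ⟨w, hw⟩ ∈ W' → w ∈ W := by
    intro w hw hι
    rw [hW]
    exact ⟨⟨w, hw⟩, mem_comap.mpr hι, rfl⟩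
  refine ⟨A, W, a, hA, haA, hinv, hk3, hk1, ?_, hWV.trans c.hV₁Q, hWV.trans c.hV₁cQ, ?_, ?_, ?_, ?_⟩
  · -- the action of `J(T)`
    intro j hj
    have hjH : fmπ V₁ j ∈ Y.map (fmπ V₁) := mem_map_of_mem _ (c.J_le_Y hj)
    rcases ffD_conj h hgen hB hjH hκD hκ1 with e | e
    · left
      apply c.good_comm_mem hkY hk3 hj
      rw [map_mul, map_mul, map_inv, e]
    · right
      have hj' : a * j ∈ Cfsg.thompsonSubgroupOf 2 T := mul_mem haJ hj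
      have h1 : a * j * k * (a * j)⁻¹ * k⁻¹ ∈ Q := by
        apply c.good_comm_mem hkY hk3 hj'
        have e1 : fmπ V₁ (a * j * k * (a * j)⁻¹) =
            fmπ V₁ a * (fmπ V₁ j * fmπ V₁ k * (fmπ V₁ j)⁻¹) * (fmπ V₁ a)⁻¹ := by
          simp only [map_mul, map_inv, mul_inv_rev]; group
        rw [e1, e]
        have e2 : fmπ V₁ a * (fmπ V₁ k)⁻¹ * (fmπ V₁ a)⁻¹ = fmπ V₁ (a * k⁻¹ * a⁻¹) := by
          simp only [map_mul, map_inv]
        rw [e2, hkinv]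
      have e0 : a * j * k * (a * j)⁻¹ * k⁻¹ = a * (j * k * j⁻¹ * k) * a⁻¹ := by
        rw [← hinv]; group
      have e3 : j * k * j⁻¹ * k = a⁻¹ * (a * j * k * (a * j)⁻¹ * k⁻¹) * a⁻¹⁻¹ := by
        rw [e0]; group
      rw [e3]
      exact hQn.conj_mem _ h1 _
  · -- `|W| = 4`
    rw [hW, Subgroup.card_map_of_injective V₁.subtype_injective,
      ← Subgroup.card_map_of_injective (fmι_injective V₁), Subgroup.map_comap_eq,
      inf_eq_right.mpr hW'V, hW', ffE_card_W h hB]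
    norm_num
  · intro w hw
    have := c.hV₁.2 w (hWV hw)
    rwa [pow_two] at this
  · intro w hw
    obtain ⟨hwV, hι⟩ := hmemW w hw
    have h1 := fm_conj V₁ k ⟨w, hwV⟩
    apply hmemW' _ (hV₁n.conj_mem _ hwV k)
    rw [← h1]
    exact conj_mem_of_mem_normalizer hκN hι
  · intro w hw hkw
    obtain ⟨hwV, hι⟩ := hmemW w hw
    have h1 := fm_conj V₁ k ⟨w, hwV⟩
    have e : (⟨k * w * k⁻¹, hV₁n.conj_mem _ hwV k⟩ : V₁) = ⟨w, hwV⟩ := by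
      apply Subtype.ext
      show k * w * k⁻¹ = w
      rw [hkw]; group
    rw [e] at h1
    have h2 : fmπ V₁ k * fmι V₁ ⟨w, hwV⟩ = fmι V₁ ⟨w, hwV⟩ * fmπ V₁ k := by
      calc fmπ V₁ k * fmι V₁ ⟨w, hwV⟩
          = (fmπ V₁ k * fmι V₁ ⟨w, hwV⟩ * (fmπ V₁ k)⁻¹) * fmπ V₁ k := by group
        _ = fmι V₁ ⟨w, hwV⟩ * fmπ V₁ k := by rw [h1]
    rw [hW'] at hι
    have h3 := ffW_fpf h hB hκD hκ1 _ hι h2
    have h4 : (⟨w, hwV⟩ : V₁) = 1 := by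
      apply fmι_injective V₁
      rw [h3, map_one]
    exact congrArg Subtype.val h4

end MCtx

end Model7

section Model7b

variable {X : Type*} [Group X] [Finite X]

/-- **the model theorem**: good elements, their data, and generation -/
theorem jexist_model [Group.IsSolvable X]
    (hchar : centralizer (Cfsg.pCore 2 X : Set X) ≤ Cfsg.pCore 2 X)
    (T : Sylow 2 X) (Z : Subgroup X) (hZT : Z ≤ centralizer ((T : Subgroup X) : Set X))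
    (hZN : centralizer (Z : Set X) ≤ normalizer ((T : Subgroup X) : Set X)) :
    ∃ 𝒢 : Set X,
      (∀ k ∈ 𝒢, ∃ (A W : Subgroup X) (a : X), A ∈ maxElemIn 2 (T : Subgroup X) ∧ a ∈ A ∧
        a * k * a⁻¹ = k⁻¹ ∧ k ^ 3 = 1 ∧ k ≠ 1 ∧
        (∀ j ∈ Cfsg.thompsonSubgroupOf 2 (T : Subgroup X),
          j * k * j⁻¹ * k⁻¹ ∈ Cfsg.pCore 2 X ∨ j * k * j⁻¹ * k ∈ Cfsg.pCore 2 X) ∧
        W ≤ Cfsg.pCore 2 X ∧ W ≤ centralizer (Cfsg.pCore 2 X : Set X) ∧ Nat.card W = 4 ∧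
        (∀ w ∈ W, w * w = 1) ∧ (∀ w ∈ W, k * w * k⁻¹ ∈ W) ∧
        (∀ w ∈ W, k * w = w * k → w = 1)) ∧
      (∀ N₀ : Subgroup X,
        normalizer (Cfsg.thompsonSubgroupOf 2 (T : Subgroup X) : Set X) ≤ N₀ →
        (∀ k ∈ 𝒢, k ∈ N₀) → N₀ = ⊤) := by
  haveI : Fact (Nat.Prime 2) := ⟨Nat.prime_two⟩
  obtain ⟨Q, hQ⟩ : ∃ Q : Subgroup X, Q = Cfsg.pCore 2 X := ⟨_, rfl⟩
  haveI hQn : Q.Normal := hQ ▸ pCore_normal 2 X
  have hQp : IsPGroup 2 Q := hQ ▸ pCore_isPGroup 2 X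
  have hQT : Q ≤ (T : Subgroup X) := hQ ▸ pCore_le_sylow 2 X T
  rw [← hQ] at hchar ⊢
  have hCQ : centralizer (Q : Set X) ≤ Q := hchar
  have hZcQ : Z ≤ centralizer (Q : Set X) :=
    hZT.trans (centralizer_le (by exact_mod_cast hQT))
  have hZQ : Z ≤ Q := hZcQ.trans hCQ
  haveI hcQn : (centralizer (Q : Set X)).Normal := Subgroup.normal_centralizer
  obtain ⟨V, hV⟩ : ∃ V : Subgroup X, V = normalClosure (Z : Set X) := ⟨_, rfl⟩
  haveI hVn : V.Normal := hV ▸ normalClosure_normal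
  have hZV : Z ≤ V := hV ▸ subset_normalClosure
  have hVQ : V ≤ Q := by
    rw [hV]; exact normalClosure_le_normal (by exact_mod_cast hZQ)
  have hVcQ : V ≤ centralizer (Q : Set X) := by
    rw [hV]; exact normalClosure_le_normal (by exact_mod_cast hZcQ)
  have hVc : ∀ x ∈ V, ∀ y ∈ V, x * y = y * x := by
    intro x hx y hy
    exact (mem_centralizer_iff.mp (hVcQ hx) y (hVQ hy)).symm
  have hVp : IsPGroup 2 V := hQp.to_le hVQ
  have hVT : V ≤ (T : Subgroup X) := hVQ.trans hQT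
  have hOpV : FMOp 2 V := hV ▸ fmOp_normalClosure T Z hZT
  obtain ⟨V₁, hV₁def⟩ : ∃ V₁ : Subgroup X, V₁ = omegaSub 2 V := ⟨_, rfl⟩
  haveI hV₁n : V₁.Normal := hV₁def ▸ omegaSub_normal 2 V
  have hV₁ : Cfsg.IsElementaryAbelian 2 V₁ := hV₁def ▸ omegaSub_isEA hVc
  have hC₁ : centralizer (V₁ : Set X) = centralizer (V : Set X) := by
    rw [hV₁def]; exact centralizer_omegaSub_eq hVc hVp hOpV
  have hOp₁ : FMOp 2 V₁ := by
    intro D hDn hCD hidx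
    rw [hC₁] at hCD hidx ⊢
    exact hOpV D hDn hCD hidx
  have hV₁V : V₁ ≤ V := hV₁def ▸ omegaSub_le 2 V
  have hV₁T : V₁ ≤ (T : Subgroup X) := hV₁V.trans hVT
  have hsep : Cfsg.IsPSolvable 2 X := Cfsg.Agent.Lib.Helper33.isPSolvable_of_isSolvable 2 X
  obtain ⟨C, hC⟩ : ∃ C : Subgroup X, C = centralizer (V₁ : Set X) := ⟨_, rfl⟩
  haveI hCn : C.Normal := hC ▸ Subgroup.normal_centralizer
  obtain ⟨J, hJ⟩ : ∃ J : Subgroup X, J = Cfsg.thompsonSubgroupOf 2 (T : Subgroup X) := ⟨_, rfl⟩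
  have hCT : C ≤ normalizer ((T : Subgroup X) : Set X) := by
    refine le_trans ?_ hZN
    rw [hC, hC₁]
    exact centralizer_le (by exact_mod_cast hZV)
  have hCJ : C ≤ normalizer (J : Set X) := by
    rw [hJ]
    exact hCT.trans (Cfsg.Agent.Lib.Helper15.normalizer_le_normalizer_thompsonSubgroupOf 2 _)
  have hJT : J ≤ (T : Subgroup X) := hJ ▸ Cfsg.Agent.Lib.Helper15.thompsonSubgroupOf_le 2 _
  have hP₁ : (T : Subgroup X) ⊓ C ≤ Q := by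
    have h1 : (T : Subgroup X) ⊓ C ≤ Cfsg.pCoreOf 2 C := by
      apply Cfsg.Agent.Lib.Helper54.le_pCoreOf inf_le_right
      · apply le_normalizer_of_conj_mem
        intro c hc t ht
        obtain ⟨ht1, ht2⟩ := Subgroup.mem_inf.mp ht
        exact Subgroup.mem_inf.mpr ⟨(mem_normalizer_iff.mp (hCT hc) t).mp ht1,
          hCn.conj_mem t ht2 c⟩
      · exact T.2.to_le inf_le_left
    have h2 : Cfsg.pCoreOf 2 C ≤ Cfsg.pCoreOf 2 (⊤ : Subgroup X) :=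
      pCoreOf_le_pCoreOf_of_normal le_top (by
        rw [normalizer_eq_top_iff.mpr hCn])
    rw [Cfsg.Agent.Lib.Helper54.pCoreOf_top, ← hQ] at h2
    exact h1.trans h2
  have hJD : J ≤ centMod C Q := by
    intro j hj
    rw [mem_centMod]
    intro c hc
    apply hP₁
    refine Subgroup.mem_inf.mpr ⟨?_, ?_⟩
    · have h1 : c * j⁻¹ * c⁻¹ ∈ J := (mem_normalizer_iff.mp (hCJ hc) _).mp (J.inv_mem hj)
      have e : j * c * j⁻¹ * c⁻¹ = j * (c * j⁻¹ * c⁻¹) := by group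
      rw [e]
      exact Subgroup.mul_mem _ (hJT hj) (hJT h1)
    · exact C.mul_mem (hCn.conj_mem c hc j) (C.inv_mem hc)
  haveI hDn : (centMod C Q).Normal := centMod_normal C Q
  obtain ⟨Y, hY⟩ : ∃ Y : Subgroup X, Y = normalClosure (J : Set X) := ⟨_, rfl⟩
  haveI hYn : Y.Normal := hY ▸ normalClosure_normal
  have hJY : J ≤ Y := hY ▸ subset_normalClosure
  have hYD : Y ≤ centMod C Q := by
    rw [hY]; exact normalClosure_le_normal (by exact_mod_cast hJD)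
  have hfr := jover_frattini T Y (hJ ▸ hJY)
  rw [← hJ] at hfr
  subst hC
  subst hJ
  have c : MCtx V₁ (T : Subgroup X) Q Y :=
    { hV₁ := hV₁
      hsep := hsep
      hOp := hOp₁
      hT := T.2
      hVT := hV₁T
      hY := hY
      hQ2 := hQp
      hV₁Q := hV₁V.trans hVQ
      hV₁cQ := hV₁V.trans hVcQ
      hYD := hYD
      hCJ := hCJ
      hfr := hfr }
  refine ⟨{k | MGood V₁ (T : Subgroup X) Y k}, ?_, ?_⟩
  · intro k hk
    exact c.good_data hk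
  · intro N₀ hNJ hgood
    exact c.eq_top_of_good hNJ hgood

end Model7b

end Cfsg.Agent.Lib.Helper52
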