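import Mathlib
import Cfsg.Agent.Lib.Helper52.JSub2
import Cfsg.Agent.Lib.Helper15.TransportInj

/-!
# `J(T)` normalizes `W_K` for a `J(T^g)`-component `K ≤ L ∈ 𝓛(T)` subnormal in `⟨K, J(T)⟩`
-/

set_option autoImplicit false
set_option linter.unusedSectionVars false
set_option linter.unusedVariables false
set_option linter.style.haveILetI false

namespace Cfsg.Agent.Lib.Helper52

open Cfsg Subgroup JComp
open scoped commutatorElement
open Cfsg.Agent.Lib.Helper15 (maxElemIn)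

variable {G : Type*} [Group G]

/-- membership in the normalizer of a `subgroupOf`, downwards -/
theorem subgroupOf_mem_normalizer {A X : Subgroup G} {x : ↥X}
    (hx : (x : G) ∈ normalizer (A : Set G)) : x ∈ normalizer ((A.subgroupOf X : Subgroup ↥X) : Set ↥X) := by
  rw [Subgroup.mem_normalizer_iff]
  intro y
  rw [Subgroup.mem_subgroupOf, Subgroup.mem_subgroupOf]
  have := Subgroup.mem_normalizer_iff.mp hx (y : G)
  simpa using this

/-- membership in the normalizer of a `subgroupOf`, upwards -/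
theorem coe_mem_normalizer_of_subgroupOf [Finite G] {A X : Subgroup G} (hAX : A ≤ X) {x : ↥X}
    (hx : x ∈ normalizer ((A.subgroupOf X : Subgroup ↥X) : Set ↥X)) :
    (x : G) ∈ normalizer (A : Set G) := by
  apply mem_normalizer_of_forall_conj_mem
  intro a ha
  have h1 : (⟨a, hAX ha⟩ : ↥X) ∈ A.subgroupOf X := Subgroup.mem_subgroupOf.mpr ha
  have h2 := (Subgroup.mem_normalizer_iff.mp hx _).mp h1
  rw [Subgroup.mem_subgroupOf] at h2
  simpa using h2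

/-- `J(T^l) = J(T)` when `J(T) ≤ T^l` -/
theorem thompson_eq_of_le_conj [Finite G] {T : Subgroup G} (l : G)
    (hle : thompsonSubgroupOf 2 T ≤ T.map (MulAut.conj l).toMonoidHom) :
    thompsonSubgroupOf 2 (T.map (MulAut.conj l).toMonoidHom) = thompsonSubgroupOf 2 T := by
  have h1 : T.map (MulAut.conj (1 : G)).toMonoidHom = T := by
    ext x
    simp
  have h2 := thompson_conj_eq_of_le (T := T) (S := T) rfl 1 l (by rw [h1]; exact hle)
  rw [h1] at h2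
  rw [← Cfsg.Agent.Lib.Helper15.thompsonSubgroupOf_map, ← h2]

/-- **`J(T)` normalizes `W_K`** -/
theorem jsub_normalizer_W [Finite G]
    (hN : ∀ N : Subgroup G, Cfsg.IsTwoLocal N → Group.IsSolvable ↥N)
    {T : Subgroup G} (hT : IsPGroup 2 ↥T) (hT1 : T ≠ ⊥) {L : Subgroup G}
    (hLT : L ∈ Cfsg.jOvergroups T) {K : Subgroup G} (hKL : K ≤ L)
    (hKsn : (K.subgroupOf (K ⊔ Cfsg.thompsonSubgroupOf 2 T)).IsSubnormal)
    {J' S : Subgroup G} (c : Ctx K J' S) :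
    Cfsg.thompsonSubgroupOf 2 T ≤ normalizer ((wOf K : Subgroup G) : Set G) := by
  classical
  haveI : Fact (Nat.Prime 2) := ⟨Nat.prime_two⟩
  obtain ⟨⟨hTL, -, hoddidx⟩, hJP, hCP⟩ := hLT
  obtain ⟨J, hJ⟩ : ∃ J : Subgroup G, J = Cfsg.thompsonSubgroupOf 2 T := ⟨_, rfl⟩
  rw [← hJ] at hKsn ⊢
  have hJT : J ≤ T := hJ ▸ Cfsg.Agent.Lib.Helper15.thompsonSubgroupOf_le 2 T
  have hJ2 : IsPGroup 2 ↥J := hT.to_le hJT
  obtain ⟨X, hX⟩ : ∃ X : Subgroup G, X = K ⊔ J := ⟨_, rfl⟩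
  rw [← hX] at hKsn
  have hKX : K ≤ X := hX ▸ le_sup_left
  have hJX : J ≤ X := hX ▸ le_sup_right
  have hXL : X ≤ L := hX ▸ sup_le hKL (hJT.trans hTL)
  -- solvability
  obtain ⟨P, hP⟩ : ∃ P, P = Cfsg.pCoreOf 2 L := ⟨_, rfl⟩
  rw [← hP] at hCP
  have hP1 : P ≠ ⊥ := by
    intro h
    rw [h] at hCP
    apply hT1
    rw [eq_bot_iff]
    intro t _
    have : t ∈ Subgroup.centralizer ((⊥ : Subgroup G) : Set G) := by
      rw [Subgroup.mem_centralizer_iff]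
      intro x hx
      rw [Subgroup.coe_bot, Set.mem_singleton_iff] at hx
      rw [hx]; simp
    exact hCP this
  have hP2 : IsPGroup 2 ↥P := hP ▸ Cfsg.Agent.Lib.Helper54.isPGroup_pCoreOf 2 L
  have hLP : L ≤ Subgroup.normalizer (P : Set G) :=
    hP ▸ Cfsg.Agent.Lib.Helper54.le_normalizer_pCoreOf 2 L
  have hsolN : Group.IsSolvable ↥(Subgroup.normalizer (P : Set G)) := hN _ ⟨P, hP2, hP1, rfl⟩
  haveI hsolX : Group.IsSolvable ↥X :=
    Group.isSolvable_of_isSolvable_injective (Subgroup.inclusion_injective (hXL.trans hLP))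
  have hsep : Cfsg.IsPSolvable 2 ↥X := Cfsg.Agent.Lib.Helper33.isPSolvable_of_isSolvable 2 ↥X
  -- the objects in `↥X`
  obtain ⟨Q, hQ⟩ : ∃ Q, Q = Cfsg.pCoreOf 2 K := ⟨_, rfl⟩
  obtain ⟨W, hW⟩ : ∃ W, W = wOf K := ⟨_, rfl⟩
  have hQK : Q ≤ K := hQ ▸ Cfsg.Agent.Lib.Helper54.pCoreOf_le 2 K
  have hWQ : W ≤ Q := by rw [hW, hQ]; exact wOf_le_pCoreOf K
  have hWX : W ≤ X := hWQ.trans (hQK.trans hKX)
  have hodd' := closure_odd_subgroupOf hKX c.odd
  have hQK' : Q.subgroupOf X ≤ K.subgroupOf X := by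
    intro x hx
    exact Subgroup.mem_subgroupOf.mpr (hQK (Subgroup.mem_subgroupOf.mp hx))
  have hQ2' : IsPGroup 2 ↥(Q.subgroupOf X) :=
    (hQ ▸ Cfsg.Agent.Lib.Helper54.isPGroup_pCoreOf 2 K : IsPGroup 2 ↥Q).comap_subtype
  have hNQ' : normalizer ((K.subgroupOf X : Subgroup ↥X) : Set ↥X) ≤
      normalizer ((Q.subgroupOf X : Subgroup ↥X) : Set ↥X) := by
    intro x hx
    apply subgroupOf_mem_normalizer
    rw [hQ]
    exact Cfsg.Agent.Lib.Helper54.normalizer_le_normalizer_pCoreOf 2 K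
      (coe_mem_normalizer_of_subgroupOf hKX hx)
  have hNW' : normalizer ((K.subgroupOf X : Subgroup ↥X) : Set ↥X) ≤
      normalizer ((W.subgroupOf X : Subgroup ↥X) : Set ↥X) := by
    intro x hx
    apply subgroupOf_mem_normalizer
    rw [hW]
    exact le_normalizer_wOf K (coe_mem_normalizer_of_subgroupOf hKX hx)
  have hk3' : ∀ k ∈ K.subgroupOf X, k ^ 3 ∈ Q.subgroupOf X := by
    intro k hk
    rw [Subgroup.mem_subgroupOf, Subgroup.coe_pow, hQ]
    exact c.pow_three_mem (Subgroup.mem_subgroupOf.mp hk)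
  have hWQ' : W.subgroupOf X ≤ Q.subgroupOf X := by
    intro x hx
    exact Subgroup.mem_subgroupOf.mpr (hWQ (Subgroup.mem_subgroupOf.mp hx))
  have hQW' : Q.subgroupOf X ≤ centralizer ((W.subgroupOf X : Subgroup ↥X) : Set ↥X) := by
    intro q hq
    rw [Subgroup.mem_centralizer_iff]
    intro w hw
    have h1 : (q : G) ∈ centralizer ((wOf K : Subgroup G) : Set G) :=
      c.Q_cent_W (hQ ▸ Subgroup.mem_subgroupOf.mp hq)
    have h2 := Subgroup.mem_centralizer_iff.mp h1 (w : G) (hW ▸ Subgroup.mem_subgroupOf.mp hw)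
    exact Subtype.ext h2
  have hW4' : Nat.card ↥(W.subgroupOf X) = 4 := by
    rw [Cfsg.Agent.Lib.Helper15.card_subgroupOf_of_le hWX, hW, c.card]
  have hW2' : ∀ w ∈ W.subgroupOf X, w * w = 1 := by
    intro w hw
    apply Subtype.ext
    exact c.exp w (hW ▸ Subgroup.mem_subgroupOf.mp hw)
  obtain ⟨x₀, hx₀, hx₀Q⟩ := c.exists_x₀
  have hx₀' : (⟨x₀, hKX hx₀⟩ : ↥X) ∈ K.subgroupOf X := Subgroup.mem_subgroupOf.mpr hx₀
  have hfpf' : ∀ w ∈ W.subgroupOf X, (⟨x₀, hKX hx₀⟩ : ↥X) * w = w * ⟨x₀, hKX hx₀⟩ → w = 1 := by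
    intro w hw hc
    apply Subtype.ext
    apply c.K_fpf hx₀ hx₀Q (w : G) (hW ▸ Subgroup.mem_subgroupOf.mp hw)
    exact congrArg Subtype.val hc
  have hZQ' : ∀ z ∈ Q.subgroupOf X, z ∈ centralizer ((Q.subgroupOf X : Subgroup ↥X) : Set ↥X) →
      z ^ 2 = 1 → ∀ k ∈ K.subgroupOf X, k * z * k⁻¹ * z⁻¹ ∈ W.subgroupOf X := by
    intro z hz hzc hz2 k hk
    have hzQ : (z : G) ∈ Q := Subgroup.mem_subgroupOf.mp hz
    have hkK : (k : G) ∈ K := Subgroup.mem_subgroupOf.mp hk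
    have hzΩ : (z : G) ∈ omegaCenterOf (pCoreOf 2 K) := by
      rw [mem_omegaCenterOf_iff, ← hQ]
      refine ⟨hzQ, ?_, ?_⟩
      · rw [Subgroup.mem_centralizer_iff]
        intro q hq
        have hq' : (⟨q, hKX (hQK hq)⟩ : ↥X) ∈ Q.subgroupOf X := Subgroup.mem_subgroupOf.mpr hq
        have := Subgroup.mem_centralizer_iff.mp hzc _ hq'
        exact congrArg Subtype.val this
      · have := congrArg Subtype.val hz2
        simpa using this
    have h1 : ⁅(z : G), (k : G)⁆ ∈ wOf K := Subgroup.commutator_mem_commutator hzΩ hkK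
    have h2 := (wOf K).inv_mem h1
    rw [commutatorElement_inv, commutatorElement_def] at h2
    rw [Subgroup.mem_subgroupOf, hW]
    simpa using h2
  -- the `2`-group `T'`
  obtain ⟨T', hT'⟩ : ∃ T' : Subgroup ↥X, T' = Cfsg.pCore 2 ↥X ⊔ J.subgroupOf X := ⟨_, rfl⟩
  haveI hRn : (Cfsg.pCore 2 ↥X).Normal := pCore_normal 2 ↥X
  have hT'2 : IsPGroup 2 ↥T' := by
    rw [hT']
    exact IsPGroup.to_sup_of_normal_left (pCore_isPGroup 2 ↥X) hJ2.comap_subtype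
  have hRT' : Cfsg.pCore 2 ↥X ≤ T' := hT' ▸ le_sup_left
  have hJT' : J.subgroupOf X ≤ T' := hT' ▸ le_sup_right
  -- `J(T') = J`
  obtain ⟨T₁, hT₁⟩ : ∃ T₁ : Subgroup G, T₁ = T'.map X.subtype := ⟨_, rfl⟩
  have hT₁2 : IsPGroup 2 ↥T₁ := hT₁ ▸ hT'2.map _
  have hT₁X : T₁ ≤ X := hT₁ ▸ Subgroup.map_subtype_le _
  have hJT₁ : J ≤ T₁ := by
    intro j hj
    rw [hT₁]
    exact ⟨⟨j, hJX hj⟩, hJT' (Subgroup.mem_subgroupOf.mpr hj), rfl⟩
  have hJeq : Cfsg.thompsonSubgroupOf 2 T₁ = J := by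
    obtain ⟨S', hT₁S', hSyl'⟩ := exists_isSylowTwoIn_ge hT₁2 (hT₁X.trans hXL)
    obtain ⟨l, hlL, hS'⟩ := exists_conj_of_isSylowTwoIn (⟨hTL, hT, hoddidx⟩ : IsSylowTwoIn T L) hSyl'
    rw [hS'] at hT₁S'
    have h1 : Cfsg.thompsonSubgroupOf 2 (T.map (MulAut.conj l).toMonoidHom) =
        Cfsg.thompsonSubgroupOf 2 T :=
      thompson_eq_of_le_conj l (hJ ▸ hJT₁.trans hT₁S')
    have h2 := Cfsg.Agent.Lib.Helper15.thompsonSubgroupOf_eq_of_le 2 hT₁S'
      (by rw [h1, ← hJ]; exact hJT₁)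
    rw [h2, h1, hJ]
  have hJmap : (Cfsg.thompsonSubgroupOf 2 T').map X.subtype = J := by
    rw [Cfsg.Agent.Lib.Helper15.thompsonSubgroupOf_map_of_disjoint 2 X.subtype T'
      (by rw [Subgroup.ker_subtype, inf_bot_eq]), ← hT₁, hJeq]
  have hmain := jsub_main hsep hKsn hodd' hQK' hQ2' hNQ' hNW' hk3' hWQ' hQW' hW4' hW2' hx₀' hfpf'
    hZQ' hT'2 hRT'
  intro j hj
  rw [← hJmap] at hj
  obtain ⟨j', hj', rfl⟩ := hj
  have h1 := coe_mem_normalizer_of_subgroupOf hWX (hmain hj')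
  rw [hW] at h1
  exact h1

end Cfsg.Agent.Lib.Helper52
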