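import Mathlib
import Cfsg.Agent.Lib.Helper52.JExist7
import Cfsg.Agent.Lib.Helper52.JSub3

/-!
# Existence of `J(T)`-components, part 8: `J(T)`-components in `L ∈ 𝓛(T)`
-/

set_option autoImplicit false
set_option linter.unusedSectionVars false
set_option linter.unusedVariables false
set_option linter.style.haveILetI false

namespace Cfsg.Agent.Lib.Helper52

open Cfsg Subgroup JComp
open scoped commutatorElement
open Cfsg.Agent.Lib.Helper15 (maxElemIn)

section JExist8

variable {G : Type*} [Group G]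

/-- transport of `𝒜(T ∩ L)` from a subgroup `L ≥ T` up to `G` -/
theorem map_subtype_mem_maxElemIn {p : ℕ} {L T : Subgroup G} (hTL : T ≤ L) {A' : Subgroup ↥L}
    (hA' : A' ∈ maxElemIn p (T.subgroupOf L)) : A'.map L.subtype ∈ maxElemIn p T := by
  refine ⟨?_, Cfsg.Agent.Lib.Helper15.isElementaryAbelian_map L.subtype hA'.2.1, ?_⟩
  · rintro _ ⟨a, ha, rfl⟩
    exact Subgroup.mem_subgroupOf.mp (hA'.1 ha)
  · intro B hBT hB
    have h1 : B.subgroupOf L ≤ T.subgroupOf L := by
      intro x hx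
      exact Subgroup.mem_subgroupOf.mpr (hBT (Subgroup.mem_subgroupOf.mp hx))
    have h2 := hA'.2.2 _ h1 (Cfsg.Agent.Lib.Helper15.isElementaryAbelian_subgroupOf L hB)
    rw [Cfsg.Agent.Lib.Helper15.card_subgroupOf_of_le (hBT.trans hTL)] at h2
    rw [Subgroup.card_map_of_injective L.subtype_injective]
    exact h2

/-- the `J(T)`-component built from the data of a good element -/
theorem isJComponent_eK [Finite G] {L T P A W : Subgroup G} {a k : G}
    (hLT : IsSylowTwoIn T L) (hPL : P ≤ L) (hkL : k ∈ L) (h : EHyp3 P T A W a k) :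
    IsJComponent T (eK P k) ∧ eK P k ≤ L := by
  have hKL : eK P k ≤ L := by
    refine h.toE.K_le.trans ?_
    unfold eK₂
    exact sup_le hPL (zpowers_le.mpr hkL)
  refine ⟨⟨h.toE.closure_odd_K, h.toE.commutator_K_J, h.toE.relIndex_K, ?_, ?_, ?_⟩, hKL⟩
  · intro S' hS' hJS'
    have hJT : thompsonSubgroupOf 2 T ≤ T := Cfsg.Agent.Lib.Helper15.thompsonSubgroupOf_le 2 T
    have hS'L : S' ≤ L := hS'.1.trans (sup_le hKL (hJT.trans hLT.1))
    obtain ⟨S'', hS'S'', hS''⟩ := exists_isSylowTwoIn_ge hS'.2.1 hS'L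
    obtain ⟨l, hl, rfl⟩ := exists_conj_of_isSylowTwoIn hLT hS''
    have h1 := thompson_eq_of_le_conj l (hJS'.trans hS'S'')
    have h2 := Cfsg.Agent.Lib.Helper15.thompsonSubgroupOf_eq_of_le 2 hS'S''
      (by rw [h1]; exact hJS')
    rw [h2, h1]
  · rw [h.wOf_K]; exact h.hW4
  · rw [h.wOf_K]; exact h.hW2

/-- **existence of `J(T)`-components** in `L ∈ 𝓛(T)`, with generation -/
theorem exists_jcomp [Finite G]
    (hN : ∀ N : Subgroup G, Cfsg.IsTwoLocal N → Group.IsSolvable ↥N)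
    (hZ : ∀ S : Sylow 2 G, Subgroup.centralizer (Cfsg.omegaCenterOf (S : Subgroup G) : Set G) ≤
      Subgroup.normalizer ((S : Subgroup G) : Set G))
    {T : Subgroup G} (hT1 : T ≠ ⊥) {L : Subgroup G} (hLT : L ∈ Cfsg.jOvergroups T) :
    ∃ 𝒦 : Set G,
      (∀ k ∈ 𝒦, k ∈ L ∧ k ∈ eK (pCoreOf 2 L) k ∧ IsJComponent T (eK (pCoreOf 2 L) k) ∧
        eK (pCoreOf 2 L) k ≤ L) ∧
      (∀ N₀ : Subgroup G, L ⊓ normalizer (thompsonSubgroupOf 2 T : Set G) ≤ N₀ →
        (∀ k ∈ 𝒦, k ∈ N₀) → L ≤ N₀) := by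
  classical
  have : Fact (Nat.Prime 2) := ⟨Nat.prime_two⟩
  have hLT0 := hLT
  obtain ⟨⟨hTL, hT2, hoddidx⟩, hJP, hCP⟩ := hLT
  obtain ⟨P, hP⟩ : ∃ P, P = Cfsg.pCoreOf 2 L := ⟨_, rfl⟩
  rw [← hP] at hJP hCP ⊢
  have hP1 : P ≠ ⊥ := by
    intro h
    rw [h] at hCP
    apply hT1
    rw [eq_bot_iff]
    intro t _
    have : t ∈ Subgroup.centralizer ((⊥ : Subgroup G) : Set G) := by
      rw [Subgroup.mem_centralizer_iff]
      intro x hx
      rw [Subgroup.coe_bot, Set.mem_singleton_iff] at hx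
      rw [hx]; simp
    exact hCP this
  have hP2 : IsPGroup 2 ↥P := hP ▸ Cfsg.Agent.Lib.Helper54.isPGroup_pCoreOf 2 L
  have hPL : P ≤ L := hP ▸ Cfsg.Agent.Lib.Helper54.pCoreOf_le 2 L
  have hLP : L ≤ Subgroup.normalizer (P : Set G) :=
    hP ▸ Cfsg.Agent.Lib.Helper54.le_normalizer_pCoreOf 2 L
  have hsolN : Group.IsSolvable ↥(Subgroup.normalizer (P : Set G)) := hN _ ⟨P, hP2, hP1, rfl⟩
  have hsolL : Group.IsSolvable ↥L :=
    Group.isSolvable_of_isSolvable_injective (Subgroup.inclusion_injective hLP)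
  obtain ⟨S, hTS⟩ := hT2.exists_le_sylow
  obtain ⟨Z, hZdef⟩ : ∃ Z, Z = Cfsg.omegaCenterOf (S : Subgroup G) := ⟨_, rfl⟩
  have hPT : P ≤ T := by
    rw [hP]
    exact Cfsg.Agent.Lib.Helper52.pCoreOf_le_of_coprime_relIndex L T
      (Nat.coprime_two_right.mpr hoddidx)
  have hZS : Z ≤ Subgroup.centralizer ((S : Subgroup G) : Set G) :=
    hZdef ▸ Cfsg.Agent.Lib.Helper52.JComp.omegaCenterOf_le_centralizer _
  have hT2' : IsPGroup 2 ↥(T.subgroupOf L) := hT2.comap_subtype
  have hidx : ¬ 2 ∣ (T.subgroupOf L).index := by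
    intro h
    have h1 : Even (T.relIndex L) := even_iff_two_dvd.mpr h
    exact (Nat.not_even_iff_odd.mpr hoddidx) h1
  obtain ⟨T', hT'⟩ : ∃ T' : Sylow 2 ↥L, (T' : Subgroup ↥L) = T.subgroupOf L :=
    ⟨hT2'.toSylow hidx, rfl⟩
  have hST' : S.1.subgroupOf L = (T' : Subgroup ↥L) := by
    apply T'.is_maximal' (S.2.comap_subtype)
    rw [hT']
    intro x hx
    exact Subgroup.mem_subgroupOf.mpr (hTS (Subgroup.mem_subgroupOf.mp hx))
  have hZ'T : Z.subgroupOf L ≤ Subgroup.centralizer ((T' : Subgroup ↥L) : Set ↥L) := by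
    intro z hz
    rw [Subgroup.mem_centralizer_iff]
    intro t ht
    rw [SetLike.mem_coe, hT', Subgroup.mem_subgroupOf] at ht
    apply Subtype.ext
    exact Subgroup.mem_centralizer_iff.mp (hZS (Subgroup.mem_subgroupOf.mp hz)) _ (hTS ht)
  have hZP : Z ≤ P := by
    refine le_trans ?_ hCP
    refine hZS.trans (Subgroup.centralizer_le ?_)
    intro x hx
    exact hTS (hPT hx)
  have hZL : Z ≤ L := hZP.trans hPL
  have hZN' : Subgroup.centralizer ((Z.subgroupOf L : Subgroup ↥L) : Set ↥L) ≤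
      Subgroup.normalizer ((T' : Subgroup ↥L) : Set ↥L) := by
    intro c hc
    have hcZ : (c : G) ∈ Subgroup.centralizer (Z : Set G) := by
      rw [Subgroup.mem_centralizer_iff]
      intro z hz
      have h1 := Subgroup.mem_centralizer_iff.mp hc ⟨z, hZL hz⟩
        (Subgroup.mem_subgroupOf.mpr hz)
      exact congrArg Subtype.val h1
    rw [hZdef] at hcZ
    have hcS := hZ S hcZ
    rw [← hST', Subgroup.mem_normalizer_iff]
    intro x
    rw [Subgroup.mem_subgroupOf, Subgroup.mem_subgroupOf]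
    exact Subgroup.mem_normalizer_iff.mp hcS x
  have hchar' : Subgroup.centralizer (Cfsg.pCore 2 ↥L : Set ↥L) ≤ Cfsg.pCore 2 ↥L := by
    apply Cfsg.Agent.Lib.Helper55.centralizer_pCore_le_of_pCoreOf
    rw [← hP]
    exact inf_le_right.trans hCP
  have hJ' : (Cfsg.thompsonSubgroupOf 2 (T' : Subgroup ↥L)).map L.subtype =
      Cfsg.thompsonSubgroupOf 2 T := by
    rw [hT', Cfsg.Agent.Lib.Helper15.thompsonSubgroupOf_map_of_disjoint 2 L.subtype
      (T.subgroupOf L) (by rw [Subgroup.ker_subtype, inf_bot_eq]),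
      Subgroup.map_subgroupOf_eq_of_le hTL]
  have hPmem : ∀ q : ↥L, q ∈ Cfsg.pCore 2 ↥L ↔ (q : G) ∈ P := by
    intro q
    rw [hP]
    constructor
    · intro hq
      exact Subgroup.mem_map_of_mem L.subtype hq
    · rintro ⟨q', hq', hqq⟩
      have : q' = q := Subtype.ext hqq
      rwa [← this]
  obtain ⟨𝒢, hdata, hgen⟩ := jexist_model hchar' T' (Z.subgroupOf L) hZ'T hZN'
  refine ⟨{k | ∃ hk : k ∈ L, (⟨k, hk⟩ : ↥L) ∈ 𝒢}, ?_, ?_⟩
  · rintro k ⟨hkL, hk𝒢⟩
    obtain ⟨A', W', a', hA', ha'A, hinv', hk3', hk1', hJk', hW'P, hW'c, hW'4, hW'2, hkW', hfW'⟩ :=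
      hdata _ hk𝒢
    rw [hT'] at hA'
    have h3 : EHyp3 P T (A'.map L.subtype) (W'.map L.subtype) (a' : G) k := by
      refine
        { toE :=
            { hPT := hPT
              hT2 := hT2
              hTP := hTL.trans hLP
              hkP := hLP hkL
              hk3 := ?_
              hk1 := ?_
              hA := map_subtype_mem_maxElemIn hTL hA'
              haA := ⟨a', ha'A, rfl⟩
              hak := ?_
              hJk := ?_ }
          hWP := ?_
          hWc := ?_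
          hW4 := ?_
          hW2 := ?_
          hkW := ?_
          hfW := ?_ }
      · have := congrArg Subtype.val hk3'
        simpa using this
      · intro e
        apply hk1'
        exact Subtype.ext e
      · have := congrArg Subtype.val hinv'
        simpa using this
      · intro j hj
        rw [← hJ'] at hj
        obtain ⟨j', hj', rfl⟩ := hj
        rcases hJk' j' hj' with h1 | h1
        · left
          have := (hPmem _).mp h1
          simpa using this
        · right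
          have := (hPmem _).mp h1
          simpa using this
      · rintro _ ⟨w, hw, rfl⟩
        exact (hPmem w).mp (hW'P hw)
      · rintro _ ⟨w, hw, rfl⟩
        rw [Subgroup.mem_centralizer_iff]
        intro q hq
        have hq' : (⟨q, hPL hq⟩ : ↥L) ∈ Cfsg.pCore 2 ↥L := (hPmem _).mpr hq
        exact congrArg Subtype.val (Subgroup.mem_centralizer_iff.mp (hW'c hw) _ hq')
      · rw [Subgroup.card_map_of_injective L.subtype_injective, hW'4]
      · rintro _ ⟨w, hw, rfl⟩
        have := congrArg Subtype.val (hW'2 w hw)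
        simpa using this
      · rintro _ ⟨w, hw, rfl⟩
        exact ⟨_, hkW' w hw, by simp⟩
      · rintro _ ⟨w, hw, rfl⟩ hkw
        have h1 : (⟨k, hkL⟩ : ↥L) * w = w * ⟨k, hkL⟩ := Subtype.ext hkw
        have := hfW' w hw h1
        rw [this]; rfl
    obtain ⟨hJC, hKL⟩ := isJComponent_eK ⟨hTL, hT2, hoddidx⟩ hPL hkL h3
    exact ⟨hkL, h3.toE.k_mem_K, hJC, hKL⟩
  · intro N₀ hNJ hgood
    have htop := hgen (N₀.subgroupOf L) ?_ ?_
    · intro l hl
      have : (⟨l, hl⟩ : ↥L) ∈ N₀.subgroupOf L := by rw [htop]; exact Subgroup.mem_top _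
      exact Subgroup.mem_subgroupOf.mp this
    · have hle : (normalizer (Cfsg.thompsonSubgroupOf 2 (T' : Subgroup ↥L) : Set ↥L)).map
          L.subtype ≤ normalizer (Cfsg.thompsonSubgroupOf 2 T : Set G) := by
        apply le_normalizer_of_conj_mem
        rintro _ ⟨n, hn, rfl⟩ j hj
        rw [← hJ'] at hj ⊢
        obtain ⟨j', hj', rfl⟩ := hj
        exact ⟨n * j' * n⁻¹, (Subgroup.mem_normalizer_iff.mp hn j').mp hj', rfl⟩
      intro n hn
      exact Subgroup.mem_subgroupOf.mpr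
        (hNJ (Subgroup.mem_inf.mpr ⟨n.2, hle ⟨n, hn, rfl⟩⟩))
    · intro k hk
      exact Subgroup.mem_subgroupOf.mpr (hgood k.1 ⟨k.2, hk⟩)

end JExist8

end Cfsg.Agent.Lib.Helper52
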