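import Mathlib
import Cfsg.Agent.Lib.Helper52.FFE

/-!
# A minimal offender for `p = 2` is not a square in `H`

In the situation of KS §9.3 with `p = 2`: if `g ∈ H` has `g ^ 4 = 1` then `⟨g ^ 2⟩` is not a minimal
offender (i.e. `g ^ 2` is not a transvection on `V`).
-/

set_option autoImplicit false
set_option linter.unusedSectionVars false
set_option linter.style.haveILetI false

namespace Cfsg.Agent.Lib.Helper52

open Subgroup Matrix
open scoped commutatorElement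
open Cfsg.Agent.Lib.Helper55 (cj mem_cj conj_mem_cj cj_one cj_mul cj_inv_cj cj_cj_inv cj_mono
  cj_eq_self_iff cj_inf cj_centralizer card_cj isPGroup_cj)

section NoSquare

variable {G : Type*} [Group G] [Finite G]

theorem card_GL2_two : Nat.card (GL (Fin 2) (ZMod 2)) = 6 := by
  rw [Matrix.card_GL_field]
  simp [Fin.prod_univ_two, ZMod.card]

theorem ff_no_square {V H : Subgroup G} (h : FFHyp 2 V H) {g : G} (hg : g ∈ H) (hg4 : g ^ 4 = 1)
    (hA : FFMin 2 V H (zpowers (g ^ 2))) : False := by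
  haveI : Fact (Nat.Prime 2) := ⟨Nat.prime_two⟩
  obtain ⟨A, hAdef⟩ : ∃ A : Subgroup G, A = zpowers (g ^ 2) := ⟨_, rfl⟩
  rw [← hAdef] at hA
  have hgcA : g ∈ centralizer (A : Set G) := by
    rw [hAdef, mem_centralizer_iff]
    intro y hy
    obtain ⟨k, rfl⟩ := mem_zpowers_iff.mp hy
    exact ((Commute.pow_right (Commute.refl g) 2).zpow_right k).eq.symm
  have hgA : cj g A = A := cj_eq_self_iff.mpr (centralizer_le_normalizer _ hgcA)
  have hgK : cj g (ffK 2 H) = ffK 2 H := cj_eq_self_iff.mpr (ffK_normal H hg)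
  have hgV : cj g V = V := cj_eq_self_iff.mpr (h.hHV hg)
  have hgE : cj g (ffE 2 H A) = ffE 2 H A := by
    unfold ffE
    rw [cj_sup, cj_commutator, hgA, hgK]
  obtain ⟨W, hWdef⟩ : ∃ W : Subgroup G, W = ⁅V, ffE 2 H A⁆ := ⟨_, rfl⟩
  have hgW : cj g W = W := by
    rw [hWdef, cj_commutator, hgV, hgE]
  have hgNW : g ∈ normalizer (W : Set G) := cj_eq_self_iff.mp hgW
  have hWV : W ≤ V := hWdef ▸ ffE_W_le h hA
  have hWcard : Nat.card W = 2 ^ 2 := hWdef ▸ ffE_card_W h hA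
  have hfaith : ffE 2 H A ⊓ centralizer (W : Set G) = ⊥ := hWdef ▸ ffE_faithful h hA
  have hcomm : ∀ a b : W, a * b = b * a := fun a b =>
    Subtype.ext (h.comm a (hWV a.2) b (hWV b.2))
  have hexp : ∀ a : W, a ^ 2 = 1 := fun a => Subtype.ext (h.hV.2 a (hWV a.2))
  obtain ⟨e⟩ := Cfsg.Agent.Lib.Helper89.exists_mulAut_equiv_GL hcomm hexp hWcard
  have hcardAut : Nat.card (MulAut W) = 6 := by
    rw [Nat.card_congr e.toEquiv]; exact card_GL2_two
  have hLW : zpowers g ≤ normalizer (W : Set G) := by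
    rw [zpowers_le]; exact hgNW
  obtain ⟨α, hα⟩ : ∃ α : MulAut W, α = conjAutOn (zpowers g) W hLW ⟨g, mem_zpowers g⟩ := ⟨_, rfl⟩
  have hα4 : α ^ 4 = 1 := by
    rw [hα, ← map_pow]
    have : (⟨g, mem_zpowers g⟩ : zpowers g) ^ 4 = 1 := Subtype.ext hg4
    rw [this, map_one]
  have hα6 : α ^ 6 = 1 := by
    haveI : Finite (MulAut W) := Nat.finite_of_card_ne_zero (by rw [hcardAut]; norm_num)
    rw [← hcardAut]; exact pow_card_eq_one'
  have hα2 : α ^ 2 = 1 := by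
    have : α ^ 6 = α ^ 4 * α ^ 2 := by rw [← pow_add]
    rw [this, hα4, one_mul] at hα6
    exact hα6
  -- so `g ^ 2` centralizes `W`
  have hg2c : g ^ 2 ∈ centralizer (W : Set G) := by
    rw [mem_centralizer_iff]
    intro w hw
    have h1 : ((α ^ 2) ⟨w, hw⟩ : W) = ⟨w, hw⟩ := by rw [hα2]; rfl
    have h2 : (((α ^ 2) ⟨w, hw⟩ : W) : G) = g ^ 2 * w * (g ^ 2)⁻¹ := by
      rw [hα, ← map_pow]
      rfl
    rw [h1] at h2
    have h3 : w = g ^ 2 * w * (g ^ 2)⁻¹ := h2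
    calc w * g ^ 2 = (g ^ 2 * w * (g ^ 2)⁻¹) * g ^ 2 := by rw [← h3]
      _ = g ^ 2 * w := by group
  have hg2E : g ^ 2 ∈ ffE 2 H A := le_ffE (hAdef ▸ mem_zpowers (g ^ 2))
  have hg21 : g ^ 2 = 1 := by
    have : g ^ 2 ∈ ffE 2 H A ⊓ centralizer (W : Set G) := ⟨hg2E, hg2c⟩
    rw [hfaith] at this
    exact mem_bot.mp this
  apply hA.ne_bot
  rw [hAdef, hg21, zpowers_one_eq_bot]

end NoSquare

end Cfsg.Agent.Lib.Helper52
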