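import Mathlib
import Cfsg.Agent.Lib.Helper52.FFE
import Cfsg.Agent.Lib.Helper52.CharP
import Cfsg.Agent.Lib.Helper33.SolvPSolv
import Cfsg.Agent.Lib.Helper02.HHDual

/-!
# The semidirect product model `N ⋊ H` of a faithful action of `H` on an elementary abelian group `N`
-/

set_option autoImplicit false
set_option linter.unusedSectionVars false
set_option linter.style.haveILetI false

namespace Cfsg.Agent.Lib.Helper52

open Subgroup
open scoped commutatorElement

section SemiModel

variable {N H : Type*} [Group N] [Group H] (φ : H →* MulAut N)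

/-- the image of `N` -/
def smV : Subgroup (N ⋊[φ] H) := (SemidirectProduct.inl : N →* N ⋊[φ] H).range

/-- the image of `H` -/
def smH : Subgroup (N ⋊[φ] H) := (SemidirectProduct.inr : H →* N ⋊[φ] H).range

instance smV_normal : (smV φ).Normal := by
  have : smV φ = (SemidirectProduct.rightHom : N ⋊[φ] H →* H).ker :=
    SemidirectProduct.range_inl_eq_ker_rightHom
  rw [this]
  infer_instance

instance sm_finite [Finite N] [Finite H] : Finite (N ⋊[φ] H) :=
  Finite.of_equiv _ SemidirectProduct.equivProd.symm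

theorem sm_conj (h : H) (n : N) :
    (SemidirectProduct.inr h : N ⋊[φ] H) * SemidirectProduct.inl n * (SemidirectProduct.inr h)⁻¹ =
      SemidirectProduct.inl (φ h n) := by
  rw [SemidirectProduct.inl_aut, map_inv]

theorem sm_isEA {p : ℕ} (hc : ∀ a b : N, a * b = b * a) (he : ∀ a : N, a ^ p = 1) :
    Cfsg.IsElementaryAbelian p (smV φ) := by
  refine ⟨⟨⟨?_⟩⟩, ?_⟩
  · rintro ⟨_, a, rfl⟩ ⟨_, b, rfl⟩
    apply Subtype.ext
    show SemidirectProduct.inl a * SemidirectProduct.inl b =
      (SemidirectProduct.inl b : N ⋊[φ] H) * SemidirectProduct.inl a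
    rw [← map_mul, ← map_mul, hc]
  · rintro _ ⟨a, rfl⟩
    rw [← map_pow, he, map_one]

theorem sm_faithful (hφ : Function.Injective φ) :
    smH φ ⊓ centralizer (smV φ : Set (N ⋊[φ] H)) = ⊥ := by
  rw [eq_bot_iff]
  rintro _ ⟨⟨h, rfl⟩, hc⟩
  rw [mem_bot]
  have h1 : φ h = 1 := by
    ext n
    have h2 := (mem_centralizer_iff.mp hc) (SemidirectProduct.inl n) ⟨n, rfl⟩
    have h3 : (SemidirectProduct.inr h : N ⋊[φ] H) * SemidirectProduct.inl n *
        (SemidirectProduct.inr h)⁻¹ = SemidirectProduct.inl n := by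
      rw [← h2]; group
    rw [sm_conj] at h3
    exact SemidirectProduct.inl_injective h3
  have h4 : h = 1 := hφ (by rw [h1, map_one])
  rw [h4, map_one]

/-- the fixed points of `inr s` in the image of `N` -/
theorem sm_fix_equiv (s : H) :
    Nonempty (↥(smV φ ⊓ centralizer ((zpowers (SemidirectProduct.inr s : N ⋊[φ] H) :
      Subgroup (N ⋊[φ] H)) : Set (N ⋊[φ] H))) ≃ {n : N // φ s n = n}) := by
  refine ⟨Equiv.symm (Equiv.ofBijective (fun n => ⟨SemidirectProduct.inl n.1, ?_⟩) ⟨?_, ?_⟩)⟩
  · refine Subgroup.mem_inf.mpr ⟨⟨n.1, rfl⟩, ?_⟩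
    rw [mem_centralizer_iff]
    intro g hg
    have hg' : g ∈ zpowers (SemidirectProduct.inr s : N ⋊[φ] H) := hg
    rw [mem_zpowers_iff] at hg'
    obtain ⟨k, rfl⟩ := hg'
    have h1 : (SemidirectProduct.inr s : N ⋊[φ] H) * SemidirectProduct.inl n.1 =
        SemidirectProduct.inl n.1 * SemidirectProduct.inr s := by
      have := sm_conj φ s n.1
      rw [n.2] at this
      calc (SemidirectProduct.inr s : N ⋊[φ] H) * SemidirectProduct.inl n.1
          = (SemidirectProduct.inr s * SemidirectProduct.inl n.1 * (SemidirectProduct.inr s)⁻¹) *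
            SemidirectProduct.inr s := by group
        _ = _ := by rw [this]
    exact ((Commute.zpow_left (show Commute (SemidirectProduct.inr s : N ⋊[φ] H)
      (SemidirectProduct.inl n.1) from h1) k).eq)
  · intro a b hab
    apply Subtype.ext
    exact SemidirectProduct.inl_injective (congrArg Subtype.val hab)
  · rintro ⟨x, hx⟩
    obtain ⟨⟨n, rfl⟩, hc⟩ := Subgroup.mem_inf.mp hx
    refine ⟨⟨n, ?_⟩, rfl⟩
    have h2 := (mem_centralizer_iff.mp hc) (SemidirectProduct.inr s) (mem_zpowers _)
    have h3 : (SemidirectProduct.inr s : N ⋊[φ] H) * SemidirectProduct.inl n *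
        (SemidirectProduct.inr s)⁻¹ = SemidirectProduct.inl n := by
      rw [h2]; group
    rw [sm_conj] at h3
    exact SemidirectProduct.inl_injective h3

/-- `H ≃* smH` -/
noncomputable def smEquiv : H ≃* ↥(smH φ) :=
  MonoidHom.ofInjective (f := (SemidirectProduct.inr : H →* N ⋊[φ] H))
    SemidirectProduct.inr_injective

theorem smEquiv_coe (h : H) : ((smEquiv φ h : ↥(smH φ)) : N ⋊[φ] H) = SemidirectProduct.inr h := rfl

variable [Finite N] [Finite H] {p : ℕ} [hp : Fact p.Prime]

/-- the hypotheses of KS §9.3 hold in the model -/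
theorem sm_hyp (hc : ∀ a b : N, a * b = b * a) (he : ∀ a : N, a ^ p = 1)
    (hφ : Function.Injective φ) [Group.IsSolvable H] (hO : Cfsg.pCore p H = ⊥) :
    FFHyp p (smV φ) (smH φ) where
  hV := sm_isEA φ hc he
  hHV := fun x _ => by
    have : normalizer ((smV φ : Subgroup (N ⋊[φ] H)) : Set (N ⋊[φ] H)) = ⊤ :=
      normalizer_eq_top_iff.mpr inferInstance
    rw [this]; exact mem_top x
  hf := sm_faithful φ hφ
  hS1 := by
    haveI : Group.IsSolvable ↥(smH φ) :=
      Group.isSolvable_of_surjective (f := (smEquiv φ).toMonoidHom) (smEquiv φ).surjective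
    have h2 : Cfsg.IsPSolvable p ↥(smH φ) :=
      Cfsg.Agent.Lib.Helper33.isPSolvable_of_isSolvable p _
    have h3 : Cfsg.pCore p ↥(smH φ) = ⊥ := by
      rw [← pCore_map_equiv p (smEquiv φ), hO, Subgroup.map_bot]
    exact Cfsg.Agent.Lib.Helper02.HHDual.centralizer_pPrimeCore_le h2 h3

end SemiModel

end Cfsg.Agent.Lib.Helper52
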