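import Mathlib
import Cfsg.Agent.Lib.Helper52.SemiModel
import Cfsg.Agent.Lib.Helper52.NoSquare

/-!
# Linear groups over `ZMod 2`: the square of an element of order 4 is not a transvection
(when the group is solvable with `O₂ = 1`)
-/

set_option autoImplicit false
set_option linter.unusedSectionVars false
set_option linter.style.haveILetI false

namespace Cfsg.Agent.Lib.Helper52

open Subgroup
open scoped commutatorElement

section LinAct

variable {R : Type*} [Semiring R] {V : Type*} [AddCommGroup V] [Module R V]

/-- the action of a linear group on `Multiplicative V` -/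
def linAct (S : Subgroup (V ≃ₗ[R] V)) : S →* MulAut (Multiplicative V) where
  toFun s := AddEquiv.toMultiplicative (s.1.toAddEquiv)
  map_one' := by ext v; rfl
  map_mul' a b := by ext v; rfl

theorem linAct_apply (S : Subgroup (V ≃ₗ[R] V)) (s : S) (v : Multiplicative V) :
    linAct S s v = Multiplicative.ofAdd ((s : V ≃ₗ[R] V) (Multiplicative.toAdd v)) := rfl

theorem linAct_injective (S : Subgroup (V ≃ₗ[R] V)) : Function.Injective (linAct S) := by
  intro a b hab
  apply Subtype.ext
  ext v
  have := congrArg (fun f : MulAut (Multiplicative V) => Multiplicative.toAdd (f (Multiplicative.ofAdd v))) hab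
  simpa [linAct_apply] using this

end LinAct

section Main

variable {V : Type*} [AddCommGroup V] [Module (ZMod 2) V] [Finite V]

theorem card_range_mul_card_ker (f : V →ₗ[ZMod 2] V) :
    Nat.card V = Nat.card ↥(LinearMap.ker f) * Nat.card ↥(LinearMap.range f) := by
  rw [Submodule.card_eq_card_quotient_mul_card (LinearMap.ker f),
    Nat.card_congr (LinearMap.quotKerEquivRange f).toEquiv]

/-- In a solvable linear group over `𝔽₂` with `O₂ = 1`, the square of an element of order `4` is
not a transvection. -/
theorem lin_no_square (S : Subgroup (V ≃ₗ[ZMod 2] V)) (hS : Group.IsSolvable ↥S)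
    (hO2 : Cfsg.pCore 2 ↥S = ⊥) (P : V ≃ₗ[ZMod 2] V) (hPS : P ∈ S) (hP4 : orderOf P = 4)
    (f : V →ₗ[ZMod 2] V) (hf : ∀ v, f v = (P ^ 2) v - v)
    (hr : Nat.card ↥(LinearMap.range f) = 2) : False := by
  haveI : Fact (Nat.Prime 2) := ⟨Nat.prime_two⟩
  haveI : Finite ↥S := Finite.of_injective (fun s : S => (s.1 : V → V)) (by
    intro a b hab
    apply Subtype.ext
    ext v
    exact congrFun hab v)
  have hc : ∀ a b : Multiplicative V, a * b = b * a := fun a b => mul_comm a b
  have he : ∀ a : Multiplicative V, a ^ 2 = 1 := by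
    intro a
    rw [pow_two]
    exact ZModModule.add_self (Multiplicative.toAdd a)
  have h := sm_hyp (p := 2) (linAct S) hc he (linAct_injective S) hO2
  obtain ⟨s, hs⟩ : ∃ s : S, s = ⟨P, hPS⟩ := ⟨_, rfl⟩
  obtain ⟨g, hgdef⟩ : ∃ g : Multiplicative V ⋊[linAct S] S, g = SemidirectProduct.inr s := ⟨_, rfl⟩
  have hos : orderOf s = 4 := by
    rw [← hP4, hs]
    exact (orderOf_injective S.subtype S.subtype_injective ⟨P, hPS⟩).symm
  have hog : orderOf g = 4 := by
    rw [hgdef, ← hos]
    exact orderOf_injective _ SemidirectProduct.inr_injective s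
  have hg4 : g ^ 4 = 1 := by rw [← hog]; exact pow_orderOf_eq_one g
  have hgH : g ∈ smH (linAct S) := ⟨s, hgdef.symm⟩
  have hg2 : g ^ 2 ≠ 1 := by
    intro h2
    have := orderOf_dvd_of_pow_eq_one h2
    rw [hog] at this
    omega
  have hg2' : g ^ 2 = SemidirectProduct.inr (s ^ 2) := by rw [hgdef, map_pow]
  refine ff_no_square h hgH hg4 ⟨?_, ?_, ?_⟩
  · rw [zpowers_le]
    exact (smH (linAct S)).pow_mem hgH 2
  · rw [Nat.card_zpowers]
    refine orderOf_eq_prime ?_ hg2
    rw [← pow_mul]; exact hg4
  · have h1 : Nat.card ↥(zpowers (g ^ 2)) = 2 := by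
      rw [Nat.card_zpowers]
      refine orderOf_eq_prime ?_ hg2
      rw [← pow_mul]; exact hg4
    rw [h1, hg2']
    obtain ⟨e⟩ := sm_fix_equiv (linAct S) (s ^ 2)
    rw [Nat.card_congr e]
    have h2 : Nat.card ↥(smV (linAct S)) = Nat.card V := by
      have e1 : Multiplicative V ≃* ↥(smV (linAct S)) :=
        MonoidHom.ofInjective (f := (SemidirectProduct.inl : Multiplicative V →* _))
          SemidirectProduct.inl_injective
      rw [← Nat.card_congr e1.toEquiv]
      rfl
    rw [h2, card_range_mul_card_ker f, hr, mul_comm]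
    congr 1
    refine Nat.card_congr ?_
    refine Equiv.subtypeEquiv Multiplicative.toAdd ?_
    intro n
    rw [LinearMap.mem_ker, hf, sub_eq_zero, linAct_apply]
    have : ((s ^ 2 : S) : V ≃ₗ[ZMod 2] V) = P ^ 2 := by rw [hs]; rfl
    rw [this]
    constructor
    · intro h3
      exact congrArg Multiplicative.toAdd h3
    · intro h3
      exact congrArg Multiplicative.ofAdd h3

end Main

end Cfsg.Agent.Lib.Helper52
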