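import Mathlib
import Cfsg.Agent.Lib.Helper52.MSS26
import Cfsg.Agent.Lib.Helper54.FStarSub
import Cfsg.Agent.Lib.Helper54.Subnormal
import Cfsg.Agent.Lib.Helper54.PReduced
import Cfsg.Agent.Lib.Helper54.PRedAmbient
import Cfsg.Agent.Lib.Helper53.PReduced2
import Cfsg.Agent.Lib.Helper55.FrakMExist

/-!
# The asymmetric case: `Y_M ≤ Y_H` for `H` of characteristic `p` containing `F` (MSS, Lemma 2.7)

`F` is the preimage in `M† = M C_G(Y_M)` of `F*(M† / C_{M†}(Y_M))`.
-/

set_option autoImplicit false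
set_option linter.unusedSectionVars false
set_option linter.style.haveILetI false

namespace Cfsg.Agent.Lib.Helper52

open Subgroup

section FStarQuot

variable {X : Type*} [Group X] [Finite X] {p : ℕ} [hp : Fact p.Prime]

/-- in a finite group `X` with `O_p(X) = 1`, a `p`-subgroup normalized by `F*(X)` is trivial -/
theorem eq_bot_of_genFitting_le_normalizer (hO : Cfsg.pCore p X = ⊥) {D : Subgroup X}
    (hD : IsPGroup p D)
    (hFD : Cfsg.generalizedFittingSubgroup X ≤ normalizer (D : Set X)) : D = ⊥ := by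
  have hn : (Cfsg.generalizedFittingSubgroup X).Normal := Cfsg.Agent.Lib.Helper30.genFitting_normal
  apply Cfsg.Agent.Lib.Helper54.eq_bot_of_le_centralizer_genFitting hO hD
  obtain ⟨Fq, hFq⟩ : ∃ Fq : Subgroup X, Fq = Cfsg.generalizedFittingSubgroup X := ⟨_, rfl⟩
  rw [← hFq] at hFD hn ⊢
  have hE : D ⊓ Fq = ⊥ := by
    have hnorm : ((D ⊓ Fq).subgroupOf Fq).Normal := by
      refine ⟨fun n hn g => ?_⟩
      rw [mem_subgroupOf] at hn ⊢
      simp only [Subgroup.coe_mul, Subgroup.coe_inv]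
      refine Subgroup.mem_inf.mpr ⟨?_, ?_⟩
      · exact (mem_normalizer_iff.mp (hFD g.2) _).mp (Subgroup.mem_inf.mp hn).1
      · exact Fq.mul_mem (Fq.mul_mem g.2 n.2) (Fq.inv_mem g.2)
    have hsn : (D ⊓ Fq).IsSubnormal :=
      Subgroup.IsSubnormal.trans inf_le_right hnorm.isSubnormal hn.isSubnormal
    have h1 := Cfsg.Agent.Lib.Helper54.le_pCore_of_isSubnormal_of_isPGroup (p := p) hsn
      (hD.to_le inf_le_left)
    rw [hO] at h1
    exact le_bot_iff.mp h1
  intro d hd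
  rw [mem_centralizer_iff]
  intro f hf
  have h1 : d * f * d⁻¹ * f⁻¹ ∈ D ⊓ Fq := by
    refine Subgroup.mem_inf.mpr ⟨?_, ?_⟩
    · have h2 : f * d⁻¹ * f⁻¹ ∈ D := (mem_normalizer_iff.mp (hFD hf) _).mp (D.inv_mem hd)
      have e : d * f * d⁻¹ * f⁻¹ = d * (f * d⁻¹ * f⁻¹) := by group
      rw [e]; exact D.mul_mem hd h2
    · have h2 : d * f * d⁻¹ ∈ Fq := hn.conj_mem f hf d
      exact Fq.mul_mem h2 (Fq.inv_mem hf)
  rw [hE, Subgroup.mem_bot] at h1
  calc f * d = (d * f * d⁻¹ * f⁻¹)⁻¹ * (d * f) := by group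
    _ = d * f := by rw [h1]; group

omit [Finite X] hp in
/-- transport of `O_p(X/N) = 1` along an equality of normal subgroups -/
theorem pCore_quotient_eq_bot_of_eq (N₁ N₂ : Subgroup X) [N₁.Normal] [N₂.Normal]
    (h : N₁ = N₂) (hO : Cfsg.pCore p (X ⧸ N₁) = ⊥) : Cfsg.pCore p (X ⧸ N₂) = ⊥ := by
  subst h
  exact hO

end FStarQuot

section Core

variable {G : Type*} [Group G] [Finite G] {p : ℕ} [hp : Fact p.Prime]

/-- Let `C ⊴ Md` with `O_p(Md/C) = 1` and let `F` be the preimage of `F*(Md/C)`.  A subgroup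
`D ≤ Md` normalized by `F` and acting as a `p`-group modulo `C` lies in `C`. -/
theorem le_of_genFitting_quotient {Md C : Subgroup G} [hn : (C.subgroupOf Md).Normal]
    (hO : Cfsg.pCore p (↥Md ⧸ C.subgroupOf Md) = ⊥) {F : Subgroup G}
    (hF : F = ((Cfsg.generalizedFittingSubgroup (↥Md ⧸ C.subgroupOf Md)).comap
      (QuotientGroup.mk' (C.subgroupOf Md))).map Md.subtype)
    {D : Subgroup G} (hDM : D ≤ Md) (hFD : F ≤ normalizer (D : Set G))
    (hpow : ∀ d ∈ D, ∃ k : ℕ, d ^ (p ^ k) ∈ C) : D ≤ C := by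
  obtain ⟨π, hπ⟩ : ∃ π : ↥Md →* ↥Md ⧸ C.subgroupOf Md,
    π = QuotientGroup.mk' (C.subgroupOf Md) := ⟨_, rfl⟩
  have hker : π.ker = C.subgroupOf Md := by rw [hπ]; exact QuotientGroup.ker_mk' _
  have hsurj : Function.Surjective π := by rw [hπ]; exact QuotientGroup.mk'_surjective _
  rw [← hπ] at hF
  obtain ⟨Db, hDb⟩ : ∃ Db : Subgroup (↥Md ⧸ C.subgroupOf Md), Db = (D.subgroupOf Md).map π :=
    ⟨_, rfl⟩
  have hDbp : IsPGroup p Db := by
    rintro ⟨xb, hxb⟩
    rw [hDb] at hxb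
    obtain ⟨x, hx, rfl⟩ := hxb
    obtain ⟨k, hk⟩ := hpow (x : G) (mem_subgroupOf.mp hx)
    refine ⟨k, Subtype.ext ?_⟩
    simp only [Subgroup.coe_pow, Subgroup.coe_one]
    rw [← map_pow, ← MonoidHom.mem_ker, hker, mem_subgroupOf]
    simpa using hk
  have hnorm : Cfsg.generalizedFittingSubgroup (↥Md ⧸ C.subgroupOf Md) ≤
      normalizer (Db : Set (↥Md ⧸ C.subgroupOf Md)) := by
    intro fb hfb
    obtain ⟨f, rfl⟩ := hsurj fb
    have hfF : (f : G) ∈ F := by rw [hF]; exact ⟨f, hfb, rfl⟩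
    have h1 : f ∈ normalizer ((D.subgroupOf Md : Subgroup ↥Md) : Set ↥Md) := by
      rw [mem_normalizer_iff]
      intro y
      simp only [mem_subgroupOf, Subgroup.coe_mul, Subgroup.coe_inv]
      exact mem_normalizer_iff.mp (hFD hfF) y
    rw [hDb]
    exact Subgroup.le_normalizer_map π ⟨f, h1, rfl⟩
  have hbot := eq_bot_of_genFitting_le_normalizer hO hDbp hnorm
  intro d hd
  have h1 : π ⟨d, hDM hd⟩ ∈ Db := by rw [hDb]; exact ⟨_, mem_subgroupOf.mpr hd, rfl⟩
  rw [hbot, Subgroup.mem_bot, ← MonoidHom.mem_ker, hker, mem_subgroupOf] at h1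
  exact h1

end Core

section MSS27

variable {G : Type*} [Group G] [Finite G] {p : ℕ} [hp : Fact p.Prime]

/-- **MSS Lemma 2.7**: `Y_M ≤ Y_H` for every subgroup `H` of characteristic `p` containing the
preimage `F` of `F*(M†/C_{M†}(Y_M))` -/
theorem mss_le_largestPReducedOf (S : Sylow p G) {Q : Subgroup G} (hQp : IsPGroup p Q)
    (hQ1 : Q ≠ ⊥) (hQS : Q ≤ (S : Subgroup G)) (hQ : Cfsg.IsLarge Q) {M : Subgroup G}
    (hSM : (S : Subgroup G) ≤ M) (hM : Cfsg.IsInFrakM p M)
    (hasym : ¬ Cfsg.IsSymmetricIn (Cfsg.largestPReducedOf p M))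
    [hn : ((Subgroup.centralizer (((Cfsg.largestPReducedOf p M) : Subgroup G) : Set G)).subgroupOf
      (M ⊔ Subgroup.centralizer (((Cfsg.largestPReducedOf p M) : Subgroup G) : Set G))).Normal]
    {F : Subgroup G}
    (hF : F = ((Cfsg.generalizedFittingSubgroup
      (↥(M ⊔ Subgroup.centralizer (((Cfsg.largestPReducedOf p M) : Subgroup G) : Set G)) ⧸
        (Subgroup.centralizer (((Cfsg.largestPReducedOf p M) : Subgroup G) : Set G)).subgroupOf
          (M ⊔ Subgroup.centralizer (((Cfsg.largestPReducedOf p M) : Subgroup G) : Set G)))).comap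
      (QuotientGroup.mk'
        ((Subgroup.centralizer (((Cfsg.largestPReducedOf p M) : Subgroup G) : Set G)).subgroupOf
          (M ⊔ Subgroup.centralizer
            (((Cfsg.largestPReducedOf p M) : Subgroup G) : Set G))))).map
      ((M ⊔ Subgroup.centralizer (((Cfsg.largestPReducedOf p M) : Subgroup G) : Set G))).subtype)
    {H : Subgroup G} (hFH : F ≤ H)
    (hH : Subgroup.centralizer (Cfsg.pCore p ↥H : Set ↥H) ≤ Cfsg.pCore p ↥H) :
    Cfsg.largestPReducedOf p M ≤ Cfsg.largestPReducedOf p H := by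
  have hYR : Cfsg.largestPReducedOf p M ≤ Cfsg.pCoreOf p M :=
    Cfsg.Agent.Lib.Helper55.largestPReducedOf_le_pCoreOf M
  have hRC : Cfsg.pCoreOf p M ≤ centralizer ((Cfsg.largestPReducedOf p M : Subgroup G) : Set G) :=
    Cfsg.Agent.Lib.Helper55.pCoreOf_le_centralizer_largestPReducedOf M
  have hRp : IsPGroup p (Cfsg.pCoreOf p M) := Cfsg.Agent.Lib.Helper55.isPGroup_pCoreOf M
  have hR1 : Cfsg.pCoreOf p M ≠ ⊥ :=
    fun h => hM.1.1 ((Cfsg.Agent.Lib.Helper55.pCoreOf_eq_bot_iff M).mp h)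
  have hRM : M ≤ normalizer ((Cfsg.pCoreOf p M : Subgroup G) : Set G) :=
    Cfsg.Agent.Lib.Helper55.le_normalizer_pCoreOf M
  have hNRd : normalizer ((Cfsg.pCoreOf p M : Subgroup G) : Set G) ≤
      M ⊔ centralizer ((Cfsg.largestPReducedOf p M : Subgroup G) : Set G) :=
    Cfsg.Agent.Lib.Helper55.normalizer_le_dagger hQ hQp hQ1 hM ⟨S, hSM⟩ hR1 hRp hRM
  have hnle := fun (L : Subgroup G) (h0 : IsPGroup p L) (h1 : Cfsg.pCoreOf p M ≤ L) =>
    mss_le_normalizer S hQp hQ1 hQS hQ hSM hM hasym h0 h1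
  have hYMd : Cfsg.largestPReducedOf p M ≤
      M ⊔ centralizer ((Cfsg.largestPReducedOf p M : Subgroup G) : Set G) :=
    (Cfsg.Agent.Lib.Helper55.largestPReducedOf_le M).trans le_sup_left
  -- `O_p(M†/C) = 1`
  have hO : Cfsg.pCore p
      (↥(M ⊔ centralizer ((Cfsg.largestPReducedOf p M : Subgroup G) : Set G)) ⧸
        (centralizer ((Cfsg.largestPReducedOf p M : Subgroup G) : Set G)).subgroupOf
          (M ⊔ centralizer ((Cfsg.largestPReducedOf p M : Subgroup G) : Set G))) = ⊥ := by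
    have hred := Cfsg.Agent.Lib.Helper54.isPReducedNormal_largestPReducedOf (p := p)
      (M ⊔ centralizer ((Cfsg.largestPReducedOf p M : Subgroup G) : Set G))
    rw [← hM.2.2.2.1] at hred
    obtain ⟨_, _, hcn, hcore⟩ := hred
    have heq : centralizer ((((Cfsg.largestPReducedOf p M).subgroupOf
        (M ⊔ centralizer ((Cfsg.largestPReducedOf p M : Subgroup G) : Set G)) :
        Subgroup ↥(M ⊔ centralizer ((Cfsg.largestPReducedOf p M : Subgroup G) : Set G))) :
        Set ↥(M ⊔ centralizer ((Cfsg.largestPReducedOf p M : Subgroup G) : Set G)))) =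
        (centralizer ((Cfsg.largestPReducedOf p M : Subgroup G) : Set G)).subgroupOf
          (M ⊔ centralizer ((Cfsg.largestPReducedOf p M : Subgroup G) : Set G)) := by
      ext x
      rw [Cfsg.Agent.Lib.Helper54.mem_centralizer_subgroupOf_iff hYMd, mem_subgroupOf]
    exact @pCore_quotient_eq_bot_of_eq _ _ p _ _ hcn hn heq hcore
  -- `C_G(Y) ≤ F ≤ M†`
  have hFMd : F ≤ M ⊔ centralizer ((Cfsg.largestPReducedOf p M : Subgroup G) : Set G) := by
    rw [hF]; exact Subgroup.map_subtype_le _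
  have hCF : centralizer ((Cfsg.largestPReducedOf p M : Subgroup G) : Set G) ≤ F := by
    intro c hc
    rw [hF]
    refine ⟨⟨c, le_sup_right (a := M) hc⟩, ?_, rfl⟩
    rw [SetLike.mem_coe, Subgroup.mem_comap]
    have : QuotientGroup.mk'
        ((centralizer ((Cfsg.largestPReducedOf p M : Subgroup G) : Set G)).subgroupOf
          (M ⊔ centralizer ((Cfsg.largestPReducedOf p M : Subgroup G) : Set G)))
        ⟨c, le_sup_right (a := M) hc⟩ = 1 := by
      rw [← MonoidHom.mem_ker, QuotientGroup.ker_mk', mem_subgroupOf]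
      exact hc
    rw [this]
    exact Subgroup.one_mem _
  have hRH : Cfsg.pCoreOf p M ≤ H := (hRC.trans hCF).trans hFH
  have hYH : Cfsg.largestPReducedOf p M ≤ H := hYR.trans hRH
  -- `Y` is elementary abelian
  have hY1 : Cfsg.largestPReducedOf p M ≤ M := Cfsg.Agent.Lib.Helper55.largestPReducedOf_le M
  have hredM := Cfsg.Agent.Lib.Helper54.isPReducedNormal_largestPReducedOf (p := p) M
  obtain ⟨_, hel, _⟩ := (Cfsg.Agent.Lib.Helper54.isPReducedNormal_subgroupOf_iff hY1).1 hredM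
  -- a Sylow subgroup of `H` containing `R`
  have hRp' : IsPGroup p ((Cfsg.pCoreOf p M).subgroupOf H) := hRp.comap_subtype
  obtain ⟨T₀, hT₀⟩ := hRp'.exists_le_sylow
  have hRT₀ : Cfsg.pCoreOf p M ≤ (T₀ : Subgroup ↥H).map H.subtype := by
    intro y hy
    exact ⟨⟨y, hRH hy⟩, hT₀ (mem_subgroupOf.mpr hy), rfl⟩
  have hT₀p : IsPGroup p ((T₀ : Subgroup ↥H).map H.subtype) := T₀.2.map _
  have hT₀Md : (T₀ : Subgroup ↥H).map H.subtype ≤
      M ⊔ centralizer ((Cfsg.largestPReducedOf p M : Subgroup G) : Set G) :=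
    (hnle _ hT₀p hRT₀).trans hNRd
  have key : Cfsg.IsPReducedNormal p (Subgroup.normalClosure
      (((Cfsg.largestPReducedOf p M).subgroupOf H : Subgroup ↥H) : Set ↥H)) := by
    apply Cfsg.Agent.Lib.Helper53.isPReducedNormal_normalClosure hH T₀
      ((H ⊓ (M ⊔ centralizer ((Cfsg.largestPReducedOf p M : Subgroup G) : Set G))).subgroupOf H)
      ?_ _ (Cfsg.Agent.Lib.Helper55.isElementaryAbelian_subgroupOf hel H)
    · intro D hDR hRD hpow
      have hD1 : D.map H.subtype ≤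
          H ⊓ (M ⊔ centralizer ((Cfsg.largestPReducedOf p M : Subgroup G) : Set G)) := by
        rintro _ ⟨d, hd, rfl⟩
        exact Subgroup.mem_subgroupOf.1 (hDR hd)
      have hD2 : H ⊓ (M ⊔ centralizer ((Cfsg.largestPReducedOf p M : Subgroup G) : Set G)) ≤
          Subgroup.normalizer ((D.map H.subtype : Subgroup G) : Set G) := by
        intro x hx
        have hxH : x ∈ H := (Subgroup.mem_inf.mp hx).1
        have hx' : (⟨x, hxH⟩ : ↥H) ∈ Subgroup.normalizer (D : Set ↥H) :=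
          hRD (Subgroup.mem_subgroupOf.2 hx)
        rw [Subgroup.mem_normalizer_iff]
        intro y
        constructor
        · rintro ⟨d, hd, rfl⟩
          refine ⟨⟨x, hxH⟩ * d * ⟨x, hxH⟩⁻¹,
            (Subgroup.mem_normalizer_iff.1 hx' d).1 hd, ?_⟩
          simp
        · rintro ⟨d, hd, hdy⟩
          refine ⟨⟨x, hxH⟩⁻¹ * d * ⟨x, hxH⟩, ?_, ?_⟩
          · have := (Subgroup.mem_normalizer_iff.1 hx' (⟨x, hxH⟩⁻¹ * d * ⟨x, hxH⟩)).2
            apply this
            simpa [mul_assoc] using hd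
          · have : (d : G) = x * y * x⁻¹ := hdy
            simp [this, mul_assoc]
      have hD3 : ∀ d ∈ D.map H.subtype, ∃ k : ℕ, d ^ (p ^ k) ∈
          Subgroup.centralizer ((Cfsg.largestPReducedOf p M : Subgroup G) : Set G) := by
        rintro _ ⟨d, hd, rfl⟩
        obtain ⟨k, hk⟩ := hpow d hd
        refine ⟨k, ?_⟩
        have := (Cfsg.Agent.Lib.Helper54.mem_centralizer_subgroupOf_iff hYH _).1 hk
        simpa using this
      have hD4 : D.map H.subtype ≤
          Subgroup.centralizer ((Cfsg.largestPReducedOf p M : Subgroup G) : Set G) :=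
        le_of_genFitting_quotient hO hF (hD1.trans inf_le_right)
          ((le_inf hFH hFMd).trans hD2) hD3
      intro d hd
      rw [Cfsg.Agent.Lib.Helper54.mem_centralizer_subgroupOf_iff hYH]
      exact hD4 ⟨d, hd, rfl⟩
    · intro t ht
      rw [Subgroup.mem_subgroupOf]
      exact Subgroup.mem_inf.mpr ⟨t.2, hT₀Md ⟨t, ht, rfl⟩⟩
  have h3 : Subgroup.normalClosure
      (((Cfsg.largestPReducedOf p M).subgroupOf H : Subgroup ↥H) : Set ↥H) ≤
      Cfsg.largestPReduced p ↥H := le_sSup key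
  intro y hy
  exact ⟨⟨y, hYH hy⟩, h3 (Subgroup.subset_normalClosure (Subgroup.mem_subgroupOf.2 hy)), rfl⟩

end MSS27

end Cfsg.Agent.Lib.Helper52
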