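import Mathlib
import Cfsg.Agent.Lib.Helper52.MSS29
import Cfsg.Agent.Lib.Helper54.SylowLib
import Cfsg.Agent.Lib.Helper54.Basic
import Cfsg.Agent.Lib.Helper55.ElemAb
import Cfsg.Agent.Lib.Helper55.FrakMExist

/-!
# The asymmetric case: `H ∈ ℌ_G(O_p(M))` normalizing a conjugate of `Q` (MSS, Lemma 2.9)
-/

set_option autoImplicit false
set_option linter.unusedSectionVars false
set_option linter.style.haveILetI false

namespace Cfsg.Agent.Lib.Helper52

open Subgroup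
open scoped commutatorElement
open Cfsg.Agent.Lib.Helper55 (cj mem_cj conj_mem_cj cj_one cj_mul cj_inv_cj cj_cj_inv cj_mono
  cj_le_iff le_cj_iff cj_eq_self_iff cj_inf cj_centralizer cj_normalizer le_normalizer_of_cj_le
  isPGroup_cj card_cj)

section ModCent

variable {G : Type*} [Group G]

/-- the elements normalizing `N` and `D` and acting trivially on `N` modulo `D` -/
def modCent (N D : Subgroup G) : Subgroup G where
  carrier := {x | x ∈ normalizer (N : Set G) ∧ x ∈ normalizer (D : Set G) ∧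
    ∀ n ∈ N, x * n * x⁻¹ * n⁻¹ ∈ D}
  one_mem' := by
    refine ⟨one_mem _, one_mem _, ?_⟩
    intro n _
    have : (1 : G) * n * 1⁻¹ * n⁻¹ = 1 := by group
    rw [this]; exact D.one_mem
  mul_mem' := by
    rintro x y ⟨hx1, hx2, hx3⟩ ⟨hy1, hy2, hy3⟩
    refine ⟨mul_mem hx1 hy1, mul_mem hx2 hy2, ?_⟩
    intro n hn
    have e1 : x * y * n * (x * y)⁻¹ * n⁻¹ =
        x * (y * n * y⁻¹ * n⁻¹) * x⁻¹ * (x * n * x⁻¹ * n⁻¹) := by group
    rw [e1]
    exact D.mul_mem ((mem_normalizer_iff.mp hx2 _).mp (hy3 n hn)) (hx3 n hn)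
  inv_mem' := by
    rintro x ⟨hx1, hx2, hx3⟩
    refine ⟨inv_mem hx1, inv_mem hx2, ?_⟩
    intro n hn
    have hm : x⁻¹ * n * x ∈ N := by
      have := (mem_normalizer_iff.mp (inv_mem hx1) n).mp hn
      simpa using this
    have h1 := hx3 _ hm
    have e1 : x⁻¹ * n * x⁻¹⁻¹ * n⁻¹ = (x * (x⁻¹ * n * x) * x⁻¹ * (x⁻¹ * n * x)⁻¹)⁻¹ := by group
    rw [e1]
    exact D.inv_mem h1

theorem mem_modCent {N D : Subgroup G} {x : G} : x ∈ modCent N D ↔
    x ∈ normalizer (N : Set G) ∧ x ∈ normalizer (D : Set G) ∧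
      ∀ n ∈ N, x * n * x⁻¹ * n⁻¹ ∈ D := Iff.rfl

theorem conj_mem_modCent {N D : Subgroup G} {k : G} (hkN : k ∈ normalizer (N : Set G))
    (hkD : k ∈ normalizer (D : Set G)) {x : G} (hx : x ∈ modCent N D) :
    k * x * k⁻¹ ∈ modCent N D := by
  obtain ⟨hx1, hx2, hx3⟩ := hx
  refine ⟨mul_mem (mul_mem hkN hx1) (inv_mem hkN), mul_mem (mul_mem hkD hx2) (inv_mem hkD), ?_⟩
  intro n hn
  have hm : k⁻¹ * n * k ∈ N := by
    have := (mem_normalizer_iff.mp (inv_mem hkN) n).mp hn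
    simpa using this
  have h1 := hx3 _ hm
  have e1 : k * x * k⁻¹ * n * (k * x * k⁻¹)⁻¹ * n⁻¹ =
      k * (x * (k⁻¹ * n * k) * x⁻¹ * (k⁻¹ * n * k)⁻¹) * k⁻¹ := by group
  rw [e1]
  exact (mem_normalizer_iff.mp hkD _).mp h1

/-- a subgroup normalizing `N` and `D` normalizes `modCent N D` -/
theorem nrm_modCent {K N D : Subgroup G} (hN : K ≤ normalizer (N : Set G))
    (hD : K ≤ normalizer (D : Set G)) : K ≤ normalizer ((modCent N D : Subgroup G) : Set G) := by
  intro k hk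
  rw [mem_normalizer_iff]
  intro x
  constructor
  · exact conj_mem_modCent (hN hk) (hD hk)
  · intro hx
    have := conj_mem_modCent (inv_mem (hN hk)) (inv_mem (hD hk)) hx
    have e : k⁻¹ * (k * x * k⁻¹) * k⁻¹⁻¹ = x := by group
    rwa [e] at this

/-- the normal closure of `Y` in `H`, as the join of the `H`-conjugates of `Y` -/
theorem map_normalClosure_subgroupOf_eq_iSup {Y H : Subgroup G} (hYH : Y ≤ H) :
    (Subgroup.normalClosure ((Y.subgroupOf H : Subgroup ↥H) : Set ↥H)).map H.subtype =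
      ⨆ h : H, cj (h : G) Y := by
  apply le_antisymm (Cfsg.Agent.Lib.Helper55.map_normalClosure_subgroupOf_le H Y)
  apply iSup_le
  intro h
  have h1 : cj (h : G) ((Subgroup.normalClosure ((Y.subgroupOf H : Subgroup ↥H) : Set ↥H)).map
      H.subtype) = (Subgroup.normalClosure ((Y.subgroupOf H : Subgroup ↥H) : Set ↥H)).map
      H.subtype :=
    cj_eq_self_iff.mpr (le_normalizer_map_normalClosure_subgroupOf Y H h.2)
  rw [← h1]
  exact cj_mono (le_map_normalClosure_subgroupOf hYH)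

end ModCent

section PClosed

variable {X : Type*} [Group X] [Finite X] {p : ℕ} [hp : Fact p.Prime]

/-- a criterion for `p`-closedness: the elements of `N` of order prime to `p` act trivially on
`N` modulo a normal `p`-subgroup `D` of `N` -/
theorem isPClosed_of_coprime_comm_mem (N D : Subgroup X) (hD : IsPGroup p D)
    (hND : N ≤ normalizer (D : Set X))
    (h : ∀ z ∈ N, (orderOf z).Coprime p → ∀ n ∈ N, z * n * z⁻¹ * n⁻¹ ∈ D) :
    Cfsg.IsPClosed p ↥N := by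
  intro P
  have hDn : (D.subgroupOf N).Normal := by
    refine ⟨fun n hn g => ?_⟩
    rw [mem_subgroupOf] at hn ⊢
    exact (mem_normalizer_iff.mp (hND g.2) n).mp hn
  have hDP : D.subgroupOf N ≤ (P : Subgroup ↥N) :=
    (Cfsg.Agent.Lib.Helper55.le_pCore hDn hD.comap_subtype).trans
      (Cfsg.Agent.Lib.Helper55.pCore_le_sylow P)
  have hfwd : ∀ z : ↥N, (orderOf z).Coprime p → ∀ x ∈ (P : Subgroup ↥N),
      z * x * z⁻¹ ∈ (P : Subgroup ↥N) := by
    intro z hz x hx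
    have hzc : (orderOf (z : X)).Coprime p := by rwa [Subgroup.orderOf_coe]
    have h1 : z * x * z⁻¹ * x⁻¹ ∈ D.subgroupOf N := by
      rw [mem_subgroupOf]
      exact h z z.2 hzc x x.2
    have e : z * x * z⁻¹ = (z * x * z⁻¹ * x⁻¹) * x := by group
    rw [e]
    exact (P : Subgroup ↥N).mul_mem (hDP h1) hx
  have hres : Cfsg.pResidual p ↥N ≤ normalizer ((P : Subgroup ↥N) : Set ↥N) := by
    unfold Cfsg.pResidual
    rw [Subgroup.closure_le]
    intro z hz
    have hz' : (orderOf z).Coprime p := hz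
    rw [SetLike.mem_coe, mem_normalizer_iff]
    intro x
    constructor
    · exact hfwd z hz' x
    · intro hx
      have hzi : (orderOf z⁻¹).Coprime p := by rwa [orderOf_inv]
      have := hfwd z⁻¹ hzi _ hx
      have e : z⁻¹ * (z * x * z⁻¹) * z⁻¹⁻¹ = x := by group
      rwa [e] at this
  have htop : Cfsg.pResidual p ↥N ⊔ (P : Subgroup ↥N) = ⊤ :=
    Cfsg.Agent.Lib.Helper54.pResidual_sup_sylow P
  have : normalizer ((P : Subgroup ↥N) : Set ↥N) = ⊤ := by
    rw [eq_top_iff, ← htop]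
    exact sup_le hres le_normalizer
  exact Subgroup.normalizer_eq_top_iff.mp this

end PClosed

section MSS2A

variable {G : Type*} [Group G] [Finite G] {p : ℕ} [hp : Fact p.Prime]

/-- **MSS Lemma 2.9**: `H ∈ ℌ_G(O_p(M))` normalizing a `p`-subgroup `Qg` -/
theorem mss_frakH_normalizes (S : Sylow p G) {Q : Subgroup G} (hQp : IsPGroup p Q)
    (hQ1 : Q ≠ ⊥) (hQS : Q ≤ (S : Subgroup G)) (hQ : Cfsg.IsLarge Q) {M : Subgroup G}
    (hSM : (S : Subgroup G) ≤ M) (hM : Cfsg.IsInFrakM p M)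
    (hasym : ¬ Cfsg.IsSymmetricIn (Cfsg.largestPReducedOf p M)) {H : Subgroup G}
    (hH : Cfsg.IsInFrakH p M H) {Qg : Subgroup G} (hQgp : IsPGroup p Qg)
    (hHQ : H ≤ normalizer (Qg : Set G)) :
    Qg ≤ Cfsg.pCoreOf p (H ⊔ Qg) ∧
    Cfsg.pCoreOf p (H ⊔ Qg) ≤ normalizer (((Cfsg.pCoreOf p M) : Subgroup G) : Set G) ∧
    normalizer (((Cfsg.pCoreOf p M) : Subgroup G) : Set G) ≤
      normalizer (((Cfsg.largestPReducedOf p M) : Subgroup G) : Set G) ∧
    normalizer (((Cfsg.largestPReducedOf p M) : Subgroup G) : Set G) =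
      (M ⊔ centralizer (((Cfsg.largestPReducedOf p M) : Subgroup G) : Set G)) ∧
    (H.subgroupOf (H ⊔ Qg)).Normal ∧
    (Cfsg.pResidual p ↥H).map H.subtype =
      (Cfsg.pResidual p ↥(H ⊔ Qg)).map (H ⊔ Qg).subtype ∧
    Cfsg.IsPIrreducible p ↥(H ⊔ Qg) := by
  obtain ⟨-, -, h3, h4, h5, -⟩ := mss_frakH_structure S hQp hQ1 hQS hQ hSM hM hasym hH
  obtain ⟨R, hR⟩ : ∃ R : Subgroup G, R = Cfsg.pCoreOf p M := ⟨_, rfl⟩
  obtain ⟨Y, hY⟩ : ∃ Y : Subgroup G, Y = Cfsg.largestPReducedOf p M := ⟨_, rfl⟩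
  obtain ⟨B, hB⟩ : ∃ B : Subgroup G, B = (Cfsg.pResidual p ↥H).map H.subtype := ⟨_, rfl⟩
  obtain ⟨K, hK⟩ : ∃ K : Subgroup G, K = H ⊔ Qg := ⟨_, rfl⟩
  have hYR : Y ≤ R := by
    rw [hY, hR]; exact Cfsg.Agent.Lib.Helper55.largestPReducedOf_le_pCoreOf M
  have hRC : R ≤ centralizer (Y : Set G) := by
    rw [hY, hR]; exact Cfsg.Agent.Lib.Helper55.pCoreOf_le_centralizer_largestPReducedOf M
  have hRp : IsPGroup p R := hR ▸ Cfsg.Agent.Lib.Helper55.isPGroup_pCoreOf M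
  have hYp : IsPGroup p Y := hRp.to_le hYR
  have hR1 : R ≠ ⊥ := by
    rw [hR]
    exact fun h => hM.1.1 ((Cfsg.Agent.Lib.Helper55.pCoreOf_eq_bot_iff M).mp h)
  have hRM : M ≤ normalizer (R : Set G) := hR ▸ Cfsg.Agent.Lib.Helper55.le_normalizer_pCoreOf M
  have hYM : M ≤ normalizer (Y : Set G) :=
    hY ▸ Cfsg.Agent.Lib.Helper55.le_normalizer_largestPReducedOf M
  have hNRd : normalizer (R : Set G) ≤ M ⊔ centralizer (Y : Set G) := by
    rw [hY]
    exact Cfsg.Agent.Lib.Helper55.normalizer_le_dagger hQ hQp hQ1 hM ⟨S, hSM⟩ hR1 hRp hRM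
  have hMdY : M ⊔ centralizer (Y : Set G) ≤ normalizer (Y : Set G) :=
    sup_le hYM (Subgroup.centralizer_le_normalizer _)
  have hS1 : (S : Subgroup G) ≠ ⊥ := by
    intro h
    apply hQ1
    rw [h] at hQS
    exact le_bot_iff.mp hQS
  have hMchar : centralizer (Cfsg.pCore p ↥M : Set ↥M) ≤ Cfsg.pCore p ↥M :=
    Cfsg.Agent.Lib.Helper55.centralizer_pCore_le_of_pCoreOf (inf_le_right.trans hM.1.2)
  have hY1 : Y ≠ ⊥ := by
    rw [hY]
    exact Cfsg.Agent.Lib.Helper55.largestPReducedOf_ne_bot S hS1 hSM hMchar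
  have hNYd : normalizer (Y : Set G) ≤ M ⊔ centralizer (Y : Set G) := by
    have := Cfsg.Agent.Lib.Helper55.normalizer_le_dagger hQ hQp hQ1 hM ⟨S, hSM⟩
      (I := Cfsg.largestPReducedOf p M) (hY ▸ hY1) (hY ▸ hYp) (hY ▸ hYM)
    rw [hY]
    exact this
  have hnle := fun (L : Subgroup G) (h0 : IsPGroup p L) (h1 : Cfsg.pCoreOf p M ≤ L) =>
    mss_le_normalizer S hQp hQ1 hQS hQ hSM hM hasym h0 h1
  obtain ⟨hHchar, hRH, hYD, hmin⟩ := hH
  rw [← hR] at hnle hRH hmin h4 ⊢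
  rw [← hY] at hYD hmin h3 h5 ⊢
  rw [← hB] at h3 h4 h5 ⊢
  rw [← hK]
  have hYH : Y ≤ H := hYR.trans hRH
  have hBH : B ≤ H := hB ▸ Subgroup.map_subtype_le _
  have hHB : H ≤ normalizer (B : Set G) := by
    rw [hB]
    exact Cfsg.Agent.Lib.Helper55.le_normalizer_map_subtype _
      (Cfsg.Agent.Lib.Helper54.pResidual_normal p ↥H)
  have hRY : R ≤ normalizer (Y : Set G) := hRC.trans (Subgroup.centralizer_le_normalizer _)
  have hHK : H ≤ K := hK ▸ le_sup_left
  have hQgK : Qg ≤ K := hK ▸ le_sup_right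
  have hKQg : K ≤ normalizer (Qg : Set G) := by rw [hK]; exact sup_le hHQ le_normalizer
  obtain ⟨E, hE⟩ : ∃ E : Subgroup G, E = Cfsg.pCoreOf p K := ⟨_, rfl⟩
  rw [← hE]
  have hEp : IsPGroup p E := hE ▸ Cfsg.Agent.Lib.Helper55.isPGroup_pCoreOf K
  have hEK : E ≤ K := hE ▸ Cfsg.Agent.Lib.Helper55.pCoreOf_le K
  have hKE : K ≤ normalizer (E : Set G) := hE ▸ Cfsg.Agent.Lib.Helper55.le_normalizer_pCoreOf K
  -- (a)
  have ha : Qg ≤ E := by
    rw [hE]; exact Cfsg.Agent.Lib.Helper55.le_pCoreOf hQgK hKQg hQgp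
  -- (b)
  have hb : E ≤ normalizer (R : Set G) := by
    have hsup : IsPGroup p ↥(R ⊔ E) :=
      IsPGroup.to_sup_of_normal_right' hRp hEp ((hRH.trans hHK).trans hKE)
    exact le_sup_right.trans (hnle _ hsup le_sup_left)
  -- (c), (d)
  have hc : normalizer (R : Set G) ≤ normalizer (Y : Set G) := hNRd.trans hMdY
  have hd : normalizer (Y : Set G) = M ⊔ centralizer (Y : Set G) := le_antisymm hNYd hMdY
  have hQgY : Qg ≤ normalizer (Y : Set G) := ha.trans (hb.trans hc)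
  -- the normal closure of `Y`
  obtain ⟨N, hN⟩ : ∃ N : Subgroup G, N =
    (Subgroup.normalClosure ((Y.subgroupOf H : Subgroup ↥H) : Set ↥H)).map H.subtype := ⟨_, rfl⟩
  rw [← hN] at h5
  have hNsup : N = ⨆ h : H, cj (h : G) Y := by
    rw [hN]; exact map_normalClosure_subgroupOf_eq_iSup hYH
  have hHN : H ≤ normalizer (N : Set G) := hN ▸ le_normalizer_map_normalClosure_subgroupOf Y H
  have hQgN : Qg ≤ normalizer (N : Set G) := by
    apply le_normalizer_of_cj_le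
    intro q hq
    rw [hNsup]
    show (⨆ h : H, cj (h : G) Y).map (MulAut.conj q).toMonoidHom ≤ _
    rw [Subgroup.map_iSup]
    apply iSup_le
    intro h
    have hq' : (h : G)⁻¹ * q * (h : G) ∈ Qg := by
      have := (mem_normalizer_iff.mp (hHQ (H.inv_mem h.2)) q).mp hq
      simpa using this
    have e : cj q (cj (h : G) Y) = cj (h : G) Y := by
      have e1 : q * (h : G) = (h : G) * ((h : G)⁻¹ * q * (h : G)) := by group
      rw [← cj_mul, e1, cj_mul, cj_eq_self_iff.mpr (hQgY hq')]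
    exact e.le.trans (le_iSup (fun h : H => cj (h : G) Y) h)
  have hKN : K ≤ normalizer (N : Set G) := by rw [hK]; exact sup_le hHN hQgN
  -- `B ⊴ K`
  have hBB : (Cfsg.pResidual p ↥B).map B.subtype = B := by
    rw [hB]; exact map_pResidual_map_pResidual H
  have hKB : K ≤ normalizer (B : Set G) :=
    hKN.trans (Cfsg.Agent.Lib.Helper54.normalizer_le_normalizer_of_pResidual h5.symm
      (hYH.trans hHB) hYp hBB)
  -- (e)
  have hKH : K ≤ normalizer (H : Set G) := by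
    have hQgH : Qg ≤ normalizer ((B ⊔ R : Subgroup G) : Set G) :=
      nrm_sup (hQgK.trans hKB) (ha.trans hb)
    rw [h4] at hQgH
    rw [hK]
    exact sup_le le_normalizer hQgH
  -- (f)
  have hRQgp : IsPGroup p ↥(R ⊔ Qg) :=
    IsPGroup.to_sup_of_normal_right' hRp hQgp (hRH.trans hHQ)
  have hKeq : K = B ⊔ (R ⊔ Qg) := by rw [hK, ← h4, sup_assoc]
  have hf1 : (Cfsg.pResidual p ↥K).map K.subtype ≤ B :=
    Cfsg.Agent.Lib.Helper54.map_pResidual_subtype_le_of_sup hKeq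
      (sup_le (hRH.trans hHB) (hQgK.trans hKB)) hRQgp
  have hf : B = (Cfsg.pResidual p ↥K).map K.subtype := by
    apply le_antisymm _ hf1
    rw [hB]
    exact Cfsg.Agent.Lib.Helper54.map_pResidual_subtype_mono p hHK
  -- (g1)
  have hg1 : ¬ Cfsg.IsPClosed p ↥K := by
    intro hcl
    obtain ⟨P⟩ : Nonempty (Sylow p ↥K) := inferInstance
    have h1 : Y.subgroupOf K ≤ (P : Subgroup ↥K) :=
      Cfsg.Agent.Lib.Helper55.le_sylow_of_isPClosed hcl P hYp.comap_subtype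
    have h2 : (P : Subgroup ↥K) = Cfsg.pCore p ↥K :=
      Cfsg.Agent.Lib.Helper54.sylow_eq_pCore_of_isPClosed hcl P
    have h3' : Y ≤ E := by
      intro y hy
      rw [hE]
      refine ⟨⟨y, hHK (hYH hy)⟩, ?_, rfl⟩
      rw [SetLike.mem_coe, ← h2]
      exact h1 (mem_subgroupOf.mpr hy)
    apply hYD
    have h4' : E ⊓ H ≤ Cfsg.pCoreOf p H :=
      Cfsg.Agent.Lib.Helper55.le_pCoreOf inf_le_right
        ((le_inf (hHK.trans hKE) le_normalizer).trans Subgroup.inf_normalizer_le_normalizer_inf)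
        (hEp.to_le inf_le_left)
    exact (le_inf h3' hYH).trans h4'
  -- (g2)
  have hg2 : ∀ N₀ : Subgroup ↥K, N₀.Normal → ¬ Cfsg.IsPClosed p ↥N₀ →
      Cfsg.pResidual p ↥K ≤ N₀ := by
    intro N₀ hN₀n hN₀cl
    by_contra hBN
    apply hN₀cl
    obtain ⟨N', hN'⟩ : ∃ N' : Subgroup G, N' = N₀.map K.subtype := ⟨_, rfl⟩
    have hN'K : N' ≤ K := hN' ▸ Subgroup.map_subtype_le _
    have hKN' : K ≤ normalizer (N' : Set G) := by
      rw [hN']; exact Cfsg.Agent.Lib.Helper55.le_normalizer_map_subtype _ hN₀n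
    have hmemN₀ : ∀ x : ↥K, (x : G) ∈ N' → x ∈ N₀ := by
      intro x hx
      rw [hN'] at hx
      obtain ⟨n, hn, hnx⟩ := hx
      have : n = x := Subtype.ext hnx
      rwa [← this]
    have hBN' : ¬ B ≤ N' := by
      intro h
      apply hBN
      intro x hx
      apply hmemN₀
      apply h
      rw [hf]
      exact ⟨x, hx, rfl⟩
    obtain ⟨D₀, hD₀⟩ : ∃ D₀ : Subgroup G, D₀ = Cfsg.pCoreOf p N' := ⟨_, rfl⟩
    have hD₀p : IsPGroup p D₀ := hD₀ ▸ Cfsg.Agent.Lib.Helper55.isPGroup_pCoreOf N'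
    have hN'D₀ : N' ≤ normalizer (D₀ : Set G) :=
      hD₀ ▸ Cfsg.Agent.Lib.Helper55.le_normalizer_pCoreOf N'
    have hKD₀ : K ≤ normalizer (D₀ : Set G) := by
      rw [hD₀]
      exact hKN'.trans (Cfsg.Agent.Lib.Helper55.normalizer_le_normalizer_pCoreOf N')
    -- `Y ≤ modCent N' D₀`
    have hYC : Y ≤ modCent N' D₀ := by
      obtain ⟨H₁, hH₁⟩ : ∃ H₁ : Subgroup G, H₁ = N' ⊔ E ⊔ R := ⟨_, rfl⟩
      have hH₁K : H₁ ≤ K := by
        rw [hH₁]; exact sup_le (sup_le hN'K hEK) (hRH.trans hHK)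
      have hN'H₁ : N' ≤ H₁ := by rw [hH₁]; exact le_sup_left.trans le_sup_left
      have hEH₁ : E ≤ H₁ := by rw [hH₁]; exact le_sup_right.trans le_sup_left
      have hRH₁ : R ≤ H₁ := by rw [hH₁]; exact le_sup_right
      obtain ⟨P, hP⟩ : ∃ P : Subgroup G, P = H₁ ⊓ H := ⟨_, rfl⟩
      have hRP : R ≤ P := by rw [hP]; exact le_inf hRH₁ hRH
      have hPH : P ≤ H := by rw [hP]; exact inf_le_right
      have hPH₁ : P ≤ H₁ := by rw [hP]; exact inf_le_left
      have hPne : P ≠ H := by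
        intro heq
        have hHH₁ : H ≤ H₁ := by rw [← heq]; exact hPH₁
        have hKH₁ : K ≤ H₁ := by rw [hK]; exact sup_le hHH₁ (ha.trans hEH₁)
        have hKeq' : K = N' ⊔ (E ⊔ R) := by
          rw [← sup_assoc, ← hH₁]; exact le_antisymm hKH₁ hH₁K
        have hERp : IsPGroup p ↥(E ⊔ R) := by
          rw [sup_comm]
          exact IsPGroup.to_sup_of_normal_right' hRp hEp ((hRH.trans hHK).trans hKE)
        have h1 := Cfsg.Agent.Lib.Helper54.map_pResidual_subtype_le_of_sup hKeq'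
          (sup_le (hEK.trans hKN') ((hRH.trans hHK).trans hKN')) hERp
        rw [← hf] at h1
        exact hBN' h1
      have hlt : P < H := lt_of_le_of_ne hPH hPne
      have hYP : Y ≤ Cfsg.pCoreOf p P := hmin P hRP hlt
      -- Dedekind
      have hH₁PE : H₁ ≤ P ⊔ E := by
        intro x hx
        have hxK : x ∈ H ⊔ E := by
          have h1 : K ≤ H ⊔ E := by
            rw [hK]; exact sup_le le_sup_left (ha.trans le_sup_right)
          exact h1 (hH₁K hx)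
        obtain ⟨h, hh, e, he, rfl⟩ :=
          Cfsg.Agent.Lib.Helper01.exists_mul_of_mem_sup (hHK.trans hKE) hxK
        have hhH₁ : h ∈ H₁ := by
          have e1 : h = (h * e) * e⁻¹ := by group
          rw [e1]; exact H₁.mul_mem hx (H₁.inv_mem (hEH₁ he))
        have hhP : h ∈ P := by rw [hP]; exact Subgroup.mem_inf.mpr ⟨hhH₁, hh⟩
        exact Subgroup.mul_mem _ (le_sup_left (a := P) (b := E) hhP)
          (le_sup_right (a := P) (b := E) he)
      obtain ⟨E₁, hE₁⟩ : ∃ E₁ : Subgroup G, E₁ = Cfsg.pCoreOf p P ⊔ E := ⟨_, rfl⟩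
      have hE₁p : IsPGroup p E₁ := by
        rw [hE₁]
        exact IsPGroup.to_sup_of_normal_right' (Cfsg.Agent.Lib.Helper55.isPGroup_pCoreOf P) hEp
          (((Cfsg.Agent.Lib.Helper55.pCoreOf_le P).trans (hPH.trans hHK)).trans hKE)
      have hPE₁ : P ≤ normalizer (E₁ : Set G) := by
        rw [hE₁]
        exact nrm_sup (Cfsg.Agent.Lib.Helper55.le_normalizer_pCoreOf P)
          ((hPH.trans hHK).trans hKE)
      have hEE₁ : E ≤ E₁ := by rw [hE₁]; exact le_sup_right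
      have hH₁E₁ : H₁ ≤ normalizer (E₁ : Set G) :=
        hH₁PE.trans (sup_le hPE₁ (hEE₁.trans le_normalizer))
      have hE₁H₁ : E₁ ≤ H₁ := by
        rw [hE₁]
        exact sup_le ((Cfsg.Agent.Lib.Helper55.pCoreOf_le P).trans hPH₁) hEH₁
      obtain ⟨E₂, hE₂⟩ : ∃ E₂ : Subgroup G, E₂ = Cfsg.pCoreOf p H₁ := ⟨_, rfl⟩
      have hE₁E₂ : E₁ ≤ E₂ := by
        rw [hE₂]; exact Cfsg.Agent.Lib.Helper55.le_pCoreOf hE₁H₁ hH₁E₁ hE₁p
      have hYE₂ : Y ≤ E₂ := by
        refine hYP.trans (le_trans ?_ hE₁E₂)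
        rw [hE₁]; exact le_sup_left
      have hH₁E₂ : H₁ ≤ normalizer (E₂ : Set G) :=
        hE₂ ▸ Cfsg.Agent.Lib.Helper55.le_normalizer_pCoreOf H₁
      have hE₂p : IsPGroup p E₂ := hE₂ ▸ Cfsg.Agent.Lib.Helper55.isPGroup_pCoreOf H₁
      have hE₂N' : E₂ ⊓ N' ≤ D₀ := by
        rw [hD₀]
        exact Cfsg.Agent.Lib.Helper55.le_pCoreOf inf_le_right
          ((le_inf (hN'H₁.trans hH₁E₂) le_normalizer).trans
            Subgroup.inf_normalizer_le_normalizer_inf) (hE₂p.to_le inf_le_left)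
      intro y hy
      refine ⟨hKN' (hHK (hYH hy)), hKD₀ (hHK (hYH hy)), ?_⟩
      intro n hn
      apply hE₂N'
      refine Subgroup.mem_inf.mpr ⟨?_, ?_⟩
      · have h1 : n * y⁻¹ * n⁻¹ ∈ E₂ :=
          (mem_normalizer_iff.mp (hH₁E₂ (hN'H₁ hn)) _).mp (E₂.inv_mem (hYE₂ hy))
        have e : y * n * y⁻¹ * n⁻¹ = y * (n * y⁻¹ * n⁻¹) := by group
        rw [e]; exact E₂.mul_mem (hYE₂ hy) h1
      · have h1 : y * n * y⁻¹ ∈ N' :=
          (mem_normalizer_iff.mp (hKN' (hHK (hYH hy))) n).mp hn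
        exact N'.mul_mem h1 (N'.inv_mem hn)
    -- `B ≤ modCent N' D₀`
    have hBC : B ≤ modCent N' D₀ := by
      have h1 : N ≤ modCent N' D₀ := by
        rw [hN]
        exact map_normalClosure_subgroupOf_le' hYC (hHK.trans (nrm_modCent hKN' hKD₀))
      exact (le_sup_left.trans h5.le).trans h1
    -- the criterion
    apply isPClosed_of_coprime_comm_mem N₀ (D₀.subgroupOf K) hD₀p.comap_subtype
    · intro n hn
      rw [mem_normalizer_iff]
      intro x
      simp only [mem_subgroupOf, Subgroup.coe_mul, Subgroup.coe_inv]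
      have hn' : (n : G) ∈ N' := by rw [hN']; exact ⟨n, hn, rfl⟩
      exact mem_normalizer_iff.mp (hN'D₀ hn') x
    · intro z hz hzc n hn
      rw [mem_subgroupOf]
      simp only [Subgroup.coe_mul, Subgroup.coe_inv]
      have hzB : (z : G) ∈ B := by
        rw [hf]
        exact ⟨z, Cfsg.Agent.Lib.Helper54.mem_pResidual_of_coprime hzc, rfl⟩
      have hn' : (n : G) ∈ N' := by rw [hN']; exact ⟨n, hn, rfl⟩
      exact (hBC hzB).2.2 _ hn'
  exact ⟨ha, hb, hc, hd, (Subgroup.normal_subgroupOf_iff_le_normalizer hHK).mpr hKH, hf,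
    hg1, hg2⟩

end MSS2A

end Cfsg.Agent.Lib.Helper52
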