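import Cfsg.Agent.Lib.Helper52.ZNontrivial

set_option autoImplicit false

namespace Cfsg.Agent.Lib.Helper52

theorem eq_bot_of_le_commutator_top {G : Type*} [Group G] [hG : Group.IsNilpotent G]
    (N : Subgroup G) (h : N ≤ ⁅N, (⊤ : Subgroup G)⁆) : N = ⊥ := by
  have key : ∀ k : ℕ, N ≤ (⊤ : Subgroup G).lowerCentralSeries k := by
    intro k
    induction k with
    | zero => exact le_top
    | succ k ih =>
      rw [Subgroup.lowerCentralSeries_succ]
      exact h.trans (Subgroup.commutator_mono ih le_rfl)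
  rw [eq_bot_iff, ← Subgroup.lowerCentralSeries_nilpotencyClass (G := G)]
  exact key _

theorem le_of_le_sup_commutator_top {G : Type*} [Group G] [Group.IsNilpotent G]
    (U V : Subgroup G) [U.Normal] (h : V ≤ U ⊔ ⁅V, (⊤ : Subgroup G)⁆) : V ≤ U := by
  have hN : V.map (QuotientGroup.mk' U) ≤
      ⁅V.map (QuotientGroup.mk' U), (⊤ : Subgroup (G ⧸ U))⁆ := by
    have h1 := Subgroup.map_mono (f := QuotientGroup.mk' U) h
    rw [Subgroup.map_sup, Subgroup.map_commutator, QuotientGroup.map_mk'_self, bot_sup_eq,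
      Subgroup.map_top_of_surjective _ (QuotientGroup.mk'_surjective U)] at h1
    exact h1
  have := eq_bot_of_le_commutator_top _ hN
  rw [Subgroup.map_eq_bot_iff, QuotientGroup.ker_mk'] at this
  exact this

variable {X : Type*} [Group X]

/-- Nilpotent action: if `U ≤ V ≤ Q` with `Q` a finite `p`-group normalizing `U`, and
`V ≤ U [V, Q]`, then `V ≤ U`. -/
theorem le_of_le_sup_commutator {p : ℕ} [Fact p.Prime] (Q U V : Subgroup X) [Finite Q]
    (hQ : IsPGroup p Q) (hUQ : U ≤ Q) (hVQ : V ≤ Q)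
    (hQU : Q ≤ Subgroup.normalizer (U : Set X)) (h : V ≤ U ⊔ ⁅V, Q⁆) : V ≤ U := by
  have hnil : Group.IsNilpotent Q := hQ.isNilpotent
  have hn : (U.subgroupOf Q).Normal := Subgroup.normal_subgroupOf_of_le_normalizer hQU
  have hcomm : ⁅V, Q⁆ ≤ Q := by
    rw [Subgroup.commutator_le]
    intro a ha b hb
    rw [commutatorElement_def]
    exact Q.mul_mem (Q.mul_mem (Q.mul_mem (hVQ ha) hb) (Q.inv_mem (hVQ ha))) (Q.inv_mem hb)
  have e : ⁅V, Q⁆.subgroupOf Q = ⁅V.subgroupOf Q, (⊤ : Subgroup Q)⁆ := by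
    have h1 : (⁅V.subgroupOf Q, (⊤ : Subgroup Q)⁆).map Q.subtype = ⁅V, Q⁆ := by
      rw [Subgroup.map_commutator, Subgroup.map_subgroupOf_eq_of_le hVQ,
        ← MonoidHom.range_eq_map, Subgroup.range_subtype]
    rw [← h1]
    exact Subgroup.comap_map_eq_self_of_injective Q.subtype_injective _
  have h' : V.subgroupOf Q ≤ U.subgroupOf Q ⊔ ⁅V.subgroupOf Q, (⊤ : Subgroup Q)⁆ := by
    rw [← e, ← Subgroup.subgroupOf_sup hUQ hcomm]
    intro v hv
    exact h hv
  have h2 := le_of_le_sup_commutator_top (U.subgroupOf Q) (V.subgroupOf Q) h'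
  intro v hv
  exact h2 (show (⟨v, hVQ hv⟩ : Q) ∈ V.subgroupOf Q from hv)

end Cfsg.Agent.Lib.Helper52
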