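import Mathlib
import Cfsg.Agent.Lib.Helper22.NseDefs

/-!
# K-NSE leaf C6b (S3431): prime-power information for `nse(A_6) = {1, 45, 80, 90, 144}`
-/

set_option autoImplicit false

namespace Cfsg.Agent.Lib.Helper52.Nse

open Cfsg.Agent.Lib.Helper22.Nse

theorem a6p_sum4 (S : ℕ → ℕ) : ∑ d ∈ (4:ℕ).divisors, S d = S 1 + S 2 + S 4 := by
  rw [show (4:ℕ).divisors = {1, 2, 4} from by decide]
  simp [Finset.sum_insert, add_assoc]

theorem a6p_sum16 (S : ℕ → ℕ) :
    ∑ d ∈ (16:ℕ).divisors, S d = S 1 + S 2 + S 4 + S 8 + S 16 := by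
  rw [show (16:ℕ).divisors = {1, 2, 4, 8, 16} from by decide]
  simp [Finset.sum_insert, add_assoc]

theorem a6p_sum27 (S : ℕ → ℕ) :
    ∑ d ∈ (27:ℕ).divisors, S d = S 1 + S 3 + S 9 + S 27 := by
  rw [show (27:ℕ).divisors = {1, 3, 9, 27} from by decide]
  simp [Finset.sum_insert, add_assoc]

theorem a6p_sum243 (S : ℕ → ℕ) :
    ∑ d ∈ (243:ℕ).divisors, S d = S 1 + S 3 + S 9 + S 27 + S 81 + S 243 := by
  have e : (243:ℕ) = 3 ^ 5 := by norm_num
  rw [e, Nat.sum_divisors_prime_pow Nat.prime_three]
  simp [Finset.sum_range_succ]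

theorem a6p_sum25 (S : ℕ → ℕ) :
    ∑ d ∈ (25:ℕ).divisors, S d = S 1 + S 5 + S 25 := by
  rw [show (25:ℕ).divisors = {1, 5, 25} from by decide]
  simp [Finset.sum_insert, add_assoc]

theorem a6p_sum125 (S : ℕ → ℕ) :
    ∑ d ∈ (125:ℕ).divisors, S d = S 1 + S 5 + S 25 + S 125 := by
  have e : (125:ℕ) = 5 ^ 3 := by norm_num
  rw [e, Nat.sum_divisors_prime_pow Nat.prime_five]
  simp [Finset.sum_range_succ]

theorem a6p_sum49 (S : ℕ → ℕ) :
    ∑ d ∈ (49:ℕ).divisors, S d = S 1 + S 7 + S 49 := by
  rw [show (49:ℕ).divisors = {1, 7, 49} from by decide]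
  simp [Finset.sum_insert, add_assoc]

theorem a6p_sum35 (S : ℕ → ℕ) :
    ∑ d ∈ (35:ℕ).divisors, S d = S 1 + S 5 + S 7 + S 35 := by
  rw [show (35:ℕ).divisors = {1, 5, 7, 35} from by decide]
  simp [Finset.sum_insert, add_assoc]

theorem a6_parts {N : ℕ} {S : ℕ → ℕ} (H : NseHyp N S {1, 45, 80, 90, 144}) (hs : SylowHyp N S)
    (B : A6Basic N S) : A6Parts N S := by
  have h1 : S 1 = 1 := H.one
  have h2 : S 2 = 45 := B.two
  have hfour : 4 ∣ N → S 4 = 90 := by
    intro h4
    have hf := H.frob 4 h4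
    rw [a6p_sum4] at hf
    have hv := B.val 4 (by norm_num)
    omega
  have hnine : 27 ∣ N → S 9 = 0 := by
    intro h27
    have h3 : S 3 = 80 := B.three (dvd_trans (by norm_num) h27)
    have hf := H.frob 27 h27
    rw [a6p_sum27] at hf
    have hv9 := B.val 9 (by norm_num)
    have hv27 := B.val 27 (by norm_num)
    have hp9 := H.phi 9
    have hp27 := H.phi 27
    rw [show Nat.totient 9 = 6 from by decide] at hp9
    rw [show Nat.totient 27 = 18 from by decide] at hp27
    omega
  refine ⟨?_, ?_, hfour, ?_, hnine, ?_⟩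
  · -- not7
    intro h7
    have hS7 : S 7 = 90 := B.seven h7
    have h49 : ¬ 49 ∣ N := by
      intro h49
      have hf := H.frob 49 h49
      rw [a6p_sum49] at hf
      have hv := B.val 49 (by norm_num)
      have hp := H.phi 49
      rw [show Nat.totient 49 = 42 from by decide] at hp
      omega
    obtain ⟨n, hn1, hn2, hn3⟩ := hs 7 1 (by norm_num) one_pos (by simpa using h7)
      (by simpa using h49) (by simp [hS7])
    rw [pow_one, hS7, show Nat.totient 7 = 6 from by decide] at hn1
    have hn : n = 15 := by omega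
    subst hn
    have h5 : 5 ∣ N := dvd_trans (by norm_num) hn3
    have h35 : 35 ∣ N := by
      have hc : Nat.Coprime 5 7 := by norm_num
      simpa using hc.mul_dvd_of_dvd_of_dvd h5 h7
    have hS5 : S 5 = 144 := B.five h5
    have hf := H.frob 35 h35
    rw [a6p_sum35] at hf
    have hv := B.val 35 (by norm_num)
    have hp := H.phi 35
    rw [show Nat.totient 35 = 24 from by decide] at hp
    omega
  · -- not16
    intro h16
    have h4 : S 4 = 90 := hfour (dvd_trans (by norm_num) h16)
    have hf := H.frob 16 h16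
    rw [a6p_sum16] at hf
    have hv8 := B.val 8 (by norm_num)
    have hv16 := B.val 16 (by norm_num)
    have hp8 := H.phi 8
    have hp16 := H.phi 16
    rw [show Nat.totient 8 = 4 from by decide] at hp8
    rw [show Nat.totient 16 = 8 from by decide] at hp16
    omega
  · -- not243
    intro h243
    have h27 : 27 ∣ N := dvd_trans (by norm_num) h243
    have h3 : S 3 = 80 := B.three (dvd_trans (by norm_num) h243)
    have h9 : S 9 = 0 := hnine h27
    have hz : ∀ m, 9 ∣ m → S m = 0 := by
      intro m hm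
      by_contra hne
      exact H.closed m 9 hne hm h9
    have hf := H.frob 243 h243
    rw [a6p_sum243, hz 27 (by norm_num), hz 81 (by norm_num), hz 243 (by norm_num), h9, h3, h1] at hf
    omega
  · -- not25
    intro h25
    have h5 : 5 ∣ N := dvd_trans (by norm_num) h25
    have hS5 : S 5 = 144 := B.five h5
    have hf := H.frob 25 h25
    rw [a6p_sum25] at hf
    have hv := B.val 25 (by norm_num)
    have hS25 : S 25 = 80 := by omega
    have h125 : ¬ 125 ∣ N := by
      intro h125
      have hf' := H.frob 125 h125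
      rw [a6p_sum125] at hf'
      have hv' := B.val 125 (by norm_num)
      omega
    obtain ⟨n, hn1, hn2, hn3⟩ := hs 5 2 (by norm_num) (by norm_num) (by simpa using h25)
      (by simpa using h125) (by norm_num [hS25])
    have e : (5:ℕ) ^ 2 = 25 := by norm_num
    rw [e, hS25, show Nat.totient 25 = 20 from by decide] at hn1
    omega

end Cfsg.Agent.Lib.Helper52.Nse
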