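import Mathlib
import Cfsg.Prelude.Def_GeometricClasses
import Cfsg.Prelude.Def_ClassicalGeometry
import Cfsg.Agent.Lib.Helper72.OQFDefs
import Cfsg.Agent.Lib.Helper50.SpinorIndex

/-!
# K-OQF-R2b (keystone 597712, S5977/S5978 pack of helper72): an isometry `x` with `x² = -1` anticommutes with
a self-adjoint square root `θ` of `δ`, and so does a conjugate of `x` by a reflection
-/

set_option autoImplicit false
set_option linter.unusedSectionVars false
set_option linter.unusedVariables false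

namespace Cfsg.Agent.Lib.Helper52.OQF

open Cfsg Cfsg.Geo Cfsg.Agent.Lib.Helper72.OQF
open scoped Matrix MatrixGroups

variable {F : Type*} [Field F]

/-- two endomorphisms given on a basis grouped in planes anticommute -/
theorem anticomm_of_frame {V : Type*} [AddCommGroup V] [Module F V] {d : ℕ}
    (b : Module.Basis (Fin d × Fin 2) F V) (θ z : V →ₗ[F] V) (a t ε : Fin d → F)
    (hθ0 : ∀ k, θ (b (k, 0)) = a k • b (k, 0) + t k • b (k, 1))
    (hθ1 : ∀ k, θ (b (k, 1)) = t k • b (k, 0) - a k • b (k, 1))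
    (hz0 : ∀ k, z (b (k, 0)) = ε k • b (k, 1))
    (hz1 : ∀ k, z (b (k, 1)) = -(ε k • b (k, 0))) :
    ∀ v, z (θ v) = -θ (z v) := by
  have h : z ∘ₗ θ = -(θ ∘ₗ z) := by
    apply b.ext
    rintro ⟨k, i⟩
    fin_cases i
    · simp only [Fin.zero_eta, LinearMap.comp_apply, LinearMap.neg_apply, hθ0, hz0, map_add, map_smul,
        hz1, hθ1]
      module
    · simp only [Fin.mk_one, LinearMap.comp_apply, LinearMap.neg_apply, hθ0, hz0, map_add, map_smul,
        hz1, hθ1, map_sub, map_neg]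
      module
  intro v
  have := congrArg (fun f => f v) h
  simpa using this

variable {ι : Type} [Fintype ι] [DecidableEq ι]

/-- **K-OQF-R2b (597712)**, with the leaves FRb (`exists_frame_of_sq_neg_one`) and PL (`exists_theta_of_frame`)
as hypotheses.  `x ∈ GO`, `x² = -1`. -/
theorem exists_theta_of_neg_of [Fintype F] (hodd : Odd (Fintype.card F)) (Q : QuadraticForm F (ι → F))
    (hFR : ∀ xL : (ι → F) →ₗ[F] (ι → F), (∀ v, Q (xL v) = Q v) → (∀ v, xL (xL v) = -v) →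
      ∃ (d : ℕ) (b : Module.Basis (Fin d × Fin 2) F (ι → F)), (∀ k, Q (b (k, 0)) = 1) ∧
        (∀ k, b (k, 1) = xL (b (k, 0))) ∧
        ∀ k l, k ≠ l → ∀ i j, QuadraticMap.polar (⇑Q) (b (k, i)) (b (l, j)) = 0)
    (hPL : ∀ (c : F) (d : ℕ) (b : Module.Basis (Fin d × Fin 2) F (ι → F)),
      (∀ p p', p ≠ p' → QuadraticMap.polar (⇑Q) (b p) (b p') = 0) → (∀ p, Q (b p) ≠ 0) →
      ∃ (θ : (ι → F) →ₗ[F] (ι → F)) (a t : Fin d → F), (∀ v, θ (θ v) = c • v) ∧
        (∀ u v, QuadraticMap.polar (⇑Q) (θ u) v = QuadraticMap.polar (⇑Q) u (θ v)) ∧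
        (∀ k, θ (b (k, 0)) = a k • b (k, 0) + (Q (b (k, 0)) * t k) • b (k, 1)) ∧
        (∀ k, θ (b (k, 1)) = (Q (b (k, 1)) * t k) • b (k, 0) - a k • b (k, 1)))
    (hpos : 0 < Fintype.card ι)
    (δ : F) (x : GL ι F) (hx : x ∈ Cfsg.isometryGroup F (⇑Q))
    (hx2 : (x : Matrix ι ι F) * (x : Matrix ι ι F) = -1) :
    ∃ (θ : Matrix ι ι F) (τ : GL ι F), θ * θ = δ • (1 : Matrix ι ι F) ∧ IsSAMat (⇑Q) θ ∧ NormTh (x : Matrix ι ι F) θ ∧
      τ ∈ Cfsg.isometryGroup F (⇑Q) ∧ (τ : Matrix ι ι F).det = -1 ∧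
      NormTh ((τ⁻¹ * x * τ : GL ι F) : Matrix ι ι F) θ := by
  classical
  have h2 : (2 : F) ≠ 0 := by
    intro h
    have hc : ringChar F = 2 := by
      have : (ringChar F) ∣ 2 := by
        apply ringChar.dvd
        exact_mod_cast h
      rcases (Nat.dvd_prime Nat.prime_two).mp this with h1 | h1
      · exact absurd h1 (CharP.ringChar_ne_one)
      · exact h1
    have := FiniteField.even_card_iff_char_two.mp hc
    obtain ⟨r, hr⟩ := hodd
    omega
  have mext : ∀ A B : Matrix ι ι F, (∀ v, A *ᵥ v = B *ᵥ v) → A = B := fun A B h =>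
    Matrix.toLin'.injective (LinearMap.ext fun v => by
      rw [Matrix.toLin'_apply, Matrix.toLin'_apply]; exact h v)
  -- the linear map of `x`
  obtain ⟨xL, hxL⟩ : ∃ xL : (ι → F) →ₗ[F] (ι → F), xL = Matrix.toLin' (x : Matrix ι ι F) := ⟨_, rfl⟩
  have hxLv : ∀ v, xL v = (x : Matrix ι ι F) *ᵥ v := by
    intro v; rw [hxL, Matrix.toLin'_apply]
  have hxQ : ∀ v, Q (xL v) = Q v := by
    intro v; rw [hxLv]; exact hx v v
  have hx2L : ∀ v, xL (xL v) = -v := by
    intro v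
    rw [hxLv, hxLv, Matrix.mulVec_mulVec, hx2, Matrix.neg_mulVec, Matrix.one_mulVec]
  obtain ⟨d, b, hb0, hb1, hbo⟩ := hFR xL hxQ hx2L
  have hxB : ∀ u v, QuadraticMap.polar (⇑Q) (xL u) (xL v) = QuadraticMap.polar (⇑Q) u v := by
    intro u v
    simp only [QuadraticMap.polar, ← map_add, hxQ]
  have hBx : ∀ v, QuadraticMap.polar (⇑Q) v (xL v) = 0 := by
    intro v
    have h1 := hxB v (xL v)
    rw [hx2L, QuadraticMap.polar_neg_right, QuadraticMap.polar_comm] at h1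
    have h3 : (2 : F) * QuadraticMap.polar (⇑Q) v (xL v) = 0 := by linear_combination -h1
    exact (mul_eq_zero.mp h3).resolve_left h2
  have hQ1 : ∀ k, Q (b (k, 1)) = 1 := fun k => by rw [hb1, hxQ, hb0]
  have hB01 : ∀ k, QuadraticMap.polar (⇑Q) (b (k, 0)) (b (k, 1)) = 0 := fun k => by
    rw [hb1]; exact hBx _
  have hB10 : ∀ k, QuadraticMap.polar (⇑Q) (b (k, 1)) (b (k, 0)) = 0 := fun k => by
    rw [QuadraticMap.polar_comm]; exact hB01 k
  have horth : ∀ p p', p ≠ p' → QuadraticMap.polar (⇑Q) (b p) (b p') = 0 := by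
    rintro ⟨k, i⟩ ⟨l, j⟩ hne
    by_cases hkl : k = l
    · subst hkl
      fin_cases i <;> fin_cases j
      · exact absurd rfl hne
      · exact hB01 k
      · exact hB10 k
      · exact absurd rfl hne
    · exact hbo k l hkl i j
  have hns : ∀ p, Q (b p) ≠ 0 := by
    rintro ⟨k, i⟩
    fin_cases i
    · simp only [Fin.zero_eta]; rw [hb0]; exact one_ne_zero
    · simp only [Fin.mk_one]; rw [hQ1]; exact one_ne_zero
  obtain ⟨θL, a, t, hθ2, hsaL, hθ0, hθ1⟩ := hPL δ d b horth hns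
  have hθ0' : ∀ k, θL (b (k, 0)) = a k • b (k, 0) + t k • b (k, 1) := by
    intro k; rw [hθ0, hb0, one_mul]
  have hθ1' : ∀ k, θL (b (k, 1)) = t k • b (k, 0) - a k • b (k, 1) := by
    intro k; rw [hθ1, hQ1, one_mul]
  -- the matrix `θ`
  obtain ⟨θ, hθdef⟩ : ∃ θ : Matrix ι ι F, θ = LinearMap.toMatrix' θL := ⟨_, rfl⟩
  have hθv : ∀ v, θ *ᵥ v = θL v := by
    intro v; rw [hθdef, LinearMap.toMatrix'_mulVec]
  have hθθ : θ * θ = δ • (1 : Matrix ι ι F) := by
    apply mext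
    intro v
    rw [← Matrix.mulVec_mulVec, hθv, hθv, hθ2, Matrix.smul_mulVec, Matrix.one_mulVec]
  have hsa : IsSAMat (⇑Q) θ := by
    intro u v; rw [hθv, hθv]; exact hsaL u v
  -- `x` anticommutes with `θ`
  have hxθ : ∀ v, xL (θL v) = -θL (xL v) :=
    anticomm_of_frame b θL xL a t (fun _ => 1) hθ0' hθ1'
      (fun k => by rw [one_smul, hb1]) (fun k => by rw [one_smul, hb1, hx2L])
  have hN1 : NormTh (x : Matrix ι ι F) θ := by
    right
    apply mext
    intro v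
    rw [← Matrix.mulVec_mulVec, Matrix.neg_mulVec, ← Matrix.mulVec_mulVec, hθv, hθv, ← hxLv, ← hxLv]
    exact hxθ v
  -- the reflection
  have hd : 0 < d := by
    have h1 : Module.finrank F (ι → F) = Fintype.card (Fin d × Fin 2) :=
      Module.finrank_eq_card_basis b
    rw [Module.finrank_fintype_fun_eq_card, Fintype.card_prod, Fintype.card_fin, Fintype.card_fin] at h1
    omega
  obtain ⟨k₀, hk₀⟩ : ∃ k₀ : Fin d, k₀ = ⟨0, hd⟩ := ⟨_, rfl⟩
  obtain ⟨u, hudef⟩ : ∃ u : ι → F, u = b (k₀, 1) := ⟨_, rfl⟩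
  have hQu : Q u = 1 := by rw [hudef, hQ1]
  have hu : Q u ≠ 0 := by rw [hQu]; exact one_ne_zero
  obtain ⟨τO, hτO⟩ : ∃ τO : ↥(Cfsg.isometryGroup F (⇑Q)), τO = Cfsg.Agent.Lib.Helper50.reflO Q u :=
    ⟨_, rfl⟩
  have hτval : ((τO : GL ι F) : Matrix ι ι F) = Cfsg.reflectionMatrix (⇑Q) u := by
    rw [hτO]; exact Cfsg.Agent.Lib.Helper50.reflO_val Q u hu
  have hτinv : (τO : GL ι F)⁻¹ = (τO : GL ι F) := by
    have h1 : τO⁻¹ = τO := by rw [hτO]; exact Cfsg.Agent.Lib.Helper50.reflO_inv Q u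
    have h3 := congrArg (fun g : ↥(Cfsg.isometryGroup F (⇑Q)) => (g : GL ι F)) h1
    simpa using h3
  have hdet : ((τO : GL ι F) : Matrix ι ι F).det = -1 := by
    have h1 := Cfsg.Agent.Lib.Helper50.detHom_reflO Q u hu
    rw [← hτO] at h1
    have h3 := congrArg (fun w : Fˣ => (w : F)) h1
    simp only [Cfsg.Agent.Lib.Helper50.detHom_val] at h3
    simpa using h3
  obtain ⟨T, hTdef⟩ : ∃ T : Matrix ι ι F, T = Cfsg.reflectionMatrix (⇑Q) u := ⟨_, rfl⟩
  obtain ⟨TL, hTL⟩ : ∃ TL : (ι → F) →ₗ[F] (ι → F), TL = Matrix.toLin' T := ⟨_, rfl⟩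
  have hTLv : ∀ v, TL v = v - QuadraticMap.polar (⇑Q) u v • u := by
    intro v
    rw [hTL, Matrix.toLin'_apply, hTdef, Cfsg.Agent.Lib.Helper19.reflectionMatrix_mulVec, hQu, inv_one,
      one_mul]
  obtain ⟨ε, hε⟩ : ∃ ε : Fin d → F, ε = fun k => if k = k₀ then (-1 : F) else 1 := ⟨_, rfl⟩
  have hT0 : ∀ k, TL (b (k, 0)) = b (k, 0) := by
    intro k
    rw [hTLv, hudef]
    by_cases hk : k = k₀
    · rw [hk, hB10, zero_smul, sub_zero]
    · rw [hbo k₀ k (Ne.symm hk) 1 0, zero_smul, sub_zero]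
  have hT1 : ∀ k, TL (b (k, 1)) = ε k • b (k, 1) := by
    intro k
    rw [hTLv, hudef, hε]
    by_cases hk : k = k₀
    · simp only [hk, if_true]
      rw [QuadraticMap.polar_self, hQ1]
      module
    · simp only [hk, if_false]
      rw [hbo k₀ k (Ne.symm hk) 1 1, zero_smul, sub_zero, one_smul]
  obtain ⟨yL, hyL⟩ : ∃ yL : (ι → F) →ₗ[F] (ι → F), yL = TL ∘ₗ xL ∘ₗ TL := ⟨_, rfl⟩
  have hyθ : ∀ v, yL (θL v) = -θL (yL v) :=
    anticomm_of_frame b θL yL a t ε hθ0' hθ1'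
      (fun k => by
        rw [hyL, LinearMap.comp_apply, LinearMap.comp_apply, hT0, ← hb1, hT1])
      (fun k => by
        rw [hyL, LinearMap.comp_apply, LinearMap.comp_apply, hT1, map_smul, hb1, hx2L, smul_neg, map_neg,
          map_smul, hT0])
  refine ⟨θ, (τO : GL ι F), hθθ, hsa, hN1, τO.2, hdet, ?_⟩
  right
  rw [hτinv]
  simp only [Units.val_mul, hτval, ← hTdef]
  apply mext
  intro v
  have hTv : ∀ w, T *ᵥ w = TL w := by intro w; rw [hTL, Matrix.toLin'_apply]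
  have hmat : ∀ w, (T * (x : Matrix ι ι F) * T) *ᵥ w = yL w := by
    intro w
    rw [hyL, LinearMap.comp_apply, LinearMap.comp_apply, ← Matrix.mulVec_mulVec,
      ← Matrix.mulVec_mulVec, hTv, hTv, ← hxLv]
  rw [(Matrix.mulVec_mulVec v (T * (x : Matrix ι ι F) * T) θ).symm, Matrix.neg_mulVec,
    (Matrix.mulVec_mulVec v θ (T * (x : Matrix ι ι F) * T)).symm, hθv, hmat, hmat, hθv]
  exact hyθ v

end Cfsg.Agent.Lib.Helper52.OQF
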