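import Mathlib
import Cfsg.Agent.Lib.Helper52.OQFR2b0
import Cfsg.Agent.Lib.Helper67.OQFFRb
import Cfsg.Agent.Lib.Helper70.OQFPL

/-!
# K-OQF-R2b (keystone 597712, S5977/S5978 pack of helper72): exact spec signature
-/

set_option autoImplicit false
set_option linter.unusedSectionVars false
set_option linter.unusedVariables false

namespace Cfsg.Agent.Lib.Helper52.OQF

open Cfsg Cfsg.Geo Cfsg.Agent.Lib.Helper72.OQF
open scoped Matrix MatrixGroups

variable {F : Type*} [Field F] {ι : Type} [Fintype ι] [DecidableEq ι]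

/-- **K-OQF-R2b (597712).**  `x ∈ GO`, `x² = -1`. -/
theorem exists_theta_of_neg [Fintype F] (hodd : Odd (Fintype.card F)) (Q : QuadraticForm F (ι → F))
    (hQ : (QuadraticMap.polarBilin Q).Nondegenerate) (hpos : 0 < Fintype.card ι)
    (δ : F) (x : GL ι F) (hx : x ∈ Cfsg.isometryGroup F (⇑Q))
    (hx2 : (x : Matrix ι ι F) * (x : Matrix ι ι F) = -1) :
    ∃ (θ : Matrix ι ι F) (τ : GL ι F), θ * θ = δ • (1 : Matrix ι ι F) ∧ IsSAMat (⇑Q) θ ∧ NormTh (x : Matrix ι ι F) θ ∧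
      τ ∈ Cfsg.isometryGroup F (⇑Q) ∧ (τ : Matrix ι ι F).det = -1 ∧
      NormTh ((τ⁻¹ * x * τ : GL ι F) : Matrix ι ι F) θ :=
  exists_theta_of_neg_of hodd Q
    (fun xL h1 h2 => Cfsg.Agent.Lib.Helper67.OQF.exists_frame_of_sq_neg_one hodd Q hQ xL h1 h2)
    (fun c d b horth hns => Cfsg.Agent.Lib.Helper70.OQF.exists_theta_of_frame hodd Q c d b horth hns) hpos δ x hx hx2

end Cfsg.Agent.Lib.Helper52.OQF
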