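import Mathlib
import Cfsg.Agent.Lib.Helper52.QuadBridge

/-!
# Transport to `SL₂` without faithfulness

Variants of the lemmas of `QuadBridge` in which the action need not be faithful: it suffices
that some element acts as a non-`p`-element.
-/

set_option autoImplicit false

open scoped TensorProduct commutatorElement

namespace Cfsg.Agent.Lib.Helper52

section stageB

variable {p : ℕ} [Fact p.Prime] {Γ : Type*} [Group Γ] {W₀ : Type*} [AddCommGroup W₀]
  [Module (ZMod p) W₀]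

theorem eq_one_of_baseChangeRep_eq_one (K : Type*) [Field K] [Algebra (ZMod p) K]
    (ρ₀ : Γ →* (W₀ ≃ₗ[ZMod p] W₀)) (g : Γ) (hg : baseChangeRep K ρ₀ g = 1) : ρ₀ g = 1 := by
  ext w
  apply one_tmul_injective (p := p) K
  show (1 : K) ⊗ₜ[ZMod p] (ρ₀ g w) = (1 : K) ⊗ₜ[ZMod p] w
  rw [← baseChangeRep_tmul, hg]
  rfl

/-- **Transport to `SL₂`**, not necessarily faithful representation. -/
theorem exists_hom_SL2_of_quadratic_rep' [Finite Γ] [Finite W₀] (α β : Γ)
    (hgen : Subgroup.closure {α, β} = ⊤)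
    (ρ₀ : Γ →* (W₀ ≃ₗ[ZMod p] W₀))
    (ha : ∀ w, ρ₀ α (ρ₀ α w - w) = ρ₀ α w - w) (hb : ∀ w, ρ₀ β (ρ₀ β w - w) = ρ₀ β w - w)
    (hnp : ∃ γ : Γ, ∀ m : ℕ, (ρ₀ γ) ^ (p ^ m) ≠ 1) :
    ∃ (E : Type) (_ : Field E) (_ : Fintype E) (_ : CharP E p)
      (φ : Γ →* Matrix.SpecialLinearGroup (Fin 2) E), ¬ IsPGroup p φ.range := by
  classical
  have hp := (Fact.out : p.Prime)
  obtain ⟨e, k, hk, hcard⟩ :=
    Nat.exists_eq_pow_mul_and_not_dvd (Nat.card_pos (α := Γ)).ne' p hp.ne_one
  have hcop : Nat.Coprime p k := (Nat.Prime.coprime_iff_not_dvd hp).mpr hk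
  have hkpos : 0 < k := by
    rcases Nat.eq_zero_or_pos k with h | h
    · exact absurd (h ▸ dvd_zero p) hk
    · exact h
  have hm : Nat.totient k ≠ 0 := (Nat.totient_pos.mpr hkpos).ne'
  let _ : Fintype (GaloisField p (Nat.totient k)) := Fintype.ofFinite _
  have hcardE : Fintype.card (GaloisField p (Nat.totient k)) = p ^ (Nat.totient k) := by
    rw [← Nat.card_eq_fintype_card]; exact GaloisField.card p _ hm
  have hkE : k ∣ Fintype.card (GaloisField p (Nat.totient k)) - 1 := by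
    rw [hcardE]
    exact (Nat.modEq_iff_dvd' (Nat.one_le_pow _ _ hp.pos)).mp (Nat.ModEq.pow_totient hcop).symm
  refine ⟨GaloisField p (Nat.totient k), inferInstance, inferInstance, inferInstance, ?_⟩
  have hfd : FiniteDimensional (ZMod p) W₀ := Module.Finite.of_finite
  obtain ⟨γ, hγ⟩ := hnp
  exact Cfsg.Agent.Lib.Helper57.QuadPair.main (K := GaloisField p (Nat.totient k)) (p := p) α β hgen _
    (GaloisField p (Nat.totient k) ⊗[ZMod p] W₀)
    (baseChangeRep (GaloisField p (Nat.totient k)) ρ₀) rfl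
    (baseChangeRep_quadratic _ ρ₀ α ha) (baseChangeRep_quadratic _ ρ₀ β hb)
    ⟨e, k, by
      rw [← map_pow, ← hcard, pow_card_eq_one', map_one], hkE⟩
    ⟨γ, fun m h => hγ m (by
      rw [← map_pow] at h ⊢
      exact eq_one_of_baseChangeRep_eq_one _ ρ₀ _ h)⟩

end stageB

section stageA

variable {p : ℕ} [Fact p.Prime] {Γ : Type*} [Group Γ] {V : Type*} [CommGroup V]

theorem exists_hom_SL2_of_quadratic_action_aux [Module (ZMod p) (Additive V)] [Finite Γ]
    [Finite V] (α β : Γ) (hgen : Subgroup.closure {α, β} = ⊤)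
    (c : Γ →* MulAut V)
    (ha : ∀ v, c α (c α v / v) = c α v / v) (hb : ∀ v, c β (c β v / v) = c β v / v)
    (hnp : ∃ γ : Γ, ∀ m : ℕ, (c γ) ^ (p ^ m) ≠ 1) :
    ∃ (E : Type) (_ : Field E) (_ : Fintype E) (_ : CharP E p)
      (φ : Γ →* Matrix.SpecialLinearGroup (Fin 2) E), ¬ IsPGroup p φ.range := by
  refine exists_hom_SL2_of_quadratic_rep' (p := p) (W₀ := Additive V) α β hgen
    (zmodRepOfMulAut (p := p) c) ?_ ?_ ?_
  · intro w
    have := ha w.toMul
    simp only [zmodRepOfMulAut_apply]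
    exact congrArg Additive.ofMul this
  · intro w
    have := hb w.toMul
    simp only [zmodRepOfMulAut_apply]
    exact congrArg Additive.ofMul this
  · obtain ⟨γ, hγ⟩ := hnp
    refine ⟨γ, fun m h => hγ m ?_⟩
    have h' : zmodRepOfMulAut (p := p) c (γ ^ p ^ m) = 1 := by rw [map_pow]; exact h
    have goal' : c (γ ^ p ^ m) = 1 := by
      ext v
      have := LinearEquiv.congr_fun h' (Additive.ofMul v)
      simp only [zmodRepOfMulAut_apply] at this
      exact Additive.ofMul.injective this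
    rw [← map_pow]; exact goal'

/-- **Transport to `SL₂`**, group action version, not necessarily faithful. -/
theorem exists_hom_SL2_of_quadratic_action' [Finite Γ] [Finite V] (hexp : ∀ v : V, v ^ p = 1)
    (α β : Γ) (hgen : Subgroup.closure {α, β} = ⊤)
    (c : Γ →* MulAut V)
    (ha : ∀ v, c α (c α v / v) = c α v / v) (hb : ∀ v, c β (c β v / v) = c β v / v)
    (hnp : ∃ γ : Γ, ∀ m : ℕ, (c γ) ^ (p ^ m) ≠ 1) :
    ∃ (E : Type) (_ : Field E) (_ : Fintype E) (_ : CharP E p)
      (φ : Γ →* Matrix.SpecialLinearGroup (Fin 2) E), ¬ IsPGroup p φ.range := by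
  let _ : Module (ZMod p) (Additive V) := AddCommGroup.zmodModule (n := p) (fun x => by
    show Additive.ofMul (x.toMul ^ p) = 0
    rw [hexp]; rfl)
  exact exists_hom_SL2_of_quadratic_action_aux α β hgen c ha hb hnp

end stageA

section final

variable {G : Type*} [Group G] {p : ℕ} [Fact p.Prime]

/-- **Transport to `SL₂`**, subgroup version without faithfulness: `H = ⟨a, b⟩ ≤ N(V)`, `a`, `b`
quadratic on the elementary abelian `V`, and some `h ∈ H` no `p`-power of which centralizes `V`. -/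
theorem exists_hom_SL2_of_quadratic_pair' [Finite G] (V H : Subgroup G)
    (hV : Cfsg.IsElementaryAbelian p V) (hHV : H ≤ Subgroup.normalizer (V : Set G))
    (a b : G) (hab : H = Subgroup.closure {a, b})
    (ha : ⁅⁅V, Subgroup.zpowers a⁆, Subgroup.zpowers a⁆ = ⊥)
    (hb : ⁅⁅V, Subgroup.zpowers b⁆, Subgroup.zpowers b⁆ = ⊥)
    (hnp2 : ∃ h ∈ H, ∀ k : ℕ, h ^ (p ^ k) ∉ Subgroup.centralizer (V : Set G)) :
    ∃ (E : Type) (_ : Field E) (_ : Fintype E) (_ : CharP E p)
      (φ : H →* Matrix.SpecialLinearGroup (Fin 2) E), ¬ IsPGroup p φ.range := by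
  let _ : CommGroup V :=
    { (inferInstance : Group V) with mul_comm := fun x y => @mul_comm' _ _ hV.1 x y }
  have hexp : ∀ v : V, v ^ p = 1 := fun v => Subtype.ext (by simp [hV.2 v v.2])
  have haH : a ∈ H := hab ▸ Subgroup.subset_closure (by simp)
  have hbH : b ∈ H := hab ▸ Subgroup.subset_closure (by simp)
  have hgen := closure_pair_subtype_eq_top a b H hab haH hbH
  refine exists_hom_SL2_of_quadratic_action' (p := p) (V := V) hexp ⟨a, haH⟩ ⟨b, hbH⟩ hgen
    (conjAutOfLeNormalizer V H hHV) ?_ ?_ ?_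
  · intro v
    apply Subtype.ext
    show a * (a * v * a⁻¹ / v) * a⁻¹ = a * v * a⁻¹ / v
    rw [div_eq_mul_inv]
    exact conj_comm_of_quadratic V a ha v v.2
  · intro v
    apply Subtype.ext
    show b * (b * v * b⁻¹ / v) * b⁻¹ = b * v * b⁻¹ / v
    rw [div_eq_mul_inv]
    exact conj_comm_of_quadratic V b hb v v.2
  · obtain ⟨h, hh, hk⟩ := hnp2
    refine ⟨⟨h, hh⟩, fun m hm => hk m ?_⟩
    rw [← map_pow] at hm
    rw [Subgroup.mem_centralizer_iff]
    intro v hv
    have h1 : h ^ p ^ m * v * (h ^ p ^ m)⁻¹ = v := by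
      have := conjAutOfLeNormalizer_coe V H hHV (⟨h, hh⟩ ^ p ^ m) ⟨v, hv⟩
      rw [hm] at this
      simpa using this.symm
    calc v * h ^ p ^ m = (h ^ p ^ m * v * (h ^ p ^ m)⁻¹) * h ^ p ^ m := by rw [h1]
      _ = h ^ p ^ m * v := by simp [mul_assoc]

end final

end Cfsg.Agent.Lib.Helper52
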