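import Mathlib
import Cfsg.Agent.Lib.Helper20.RU2Defs
import Cfsg.Agent.Lib.Helper73.RUHub

set_option autoImplicit false
set_option linter.unusedVariables false
set_option linter.unusedSectionVars false

/-!
# K-RU2 leaf E (S2278): `e_0ᵀ` is an axis, and then `G = ⊤`
-/

namespace Cfsg.Agent.Lib.Helper52.RU2

open Matrix Cfsg.Agent.Lib.Helper73.RU Cfsg.Agent.Lib.Helper20.RU2

theorem e0_mem_Ax {F : Type*} [Field F] {G : Subgroup (SpecialLinearGroup (Fin 3) F)}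
    (h1 : ∀ s : F, InG G (tvm (s • (Pi.single 1 1 : Fin 3 → F)) (Pi.single 0 1)))
    (h12 : ∀ s : F, InG G (tvm (s • ((Pi.single 1 1 : Fin 3 → F) + Pi.single 2 1)) (Pi.single 0 1))) :
    (Pi.single 0 1 : Fin 3 → F) ∈ Ax G := by
  intro v hv
  have hv0 : v 0 = 0 := by
    simpa [dotProduct, Fin.sum_univ_three, Pi.single_apply] using hv
  have hdec : v = (v 1 - v 2) • (Pi.single 1 1 : Fin 3 → F) +
      v 2 • ((Pi.single 1 1 : Fin 3 → F) + Pi.single 2 1) := by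
    ext i
    fin_cases i <;> simp [hv0, Pi.single_apply]
  have hz : (Pi.single 0 1 : Fin 3 → F) ⬝ᵥ
      (v 2 • ((Pi.single 1 1 : Fin 3 → F) + Pi.single 2 1)) = 0 := by
    simp [dotProduct, Fin.sum_univ_three, Pi.single_apply]
  rw [hdec, ← tvm_mul_tvm _ _ _ hz]
  exact inG_mul (h1 _) (h12 _)

theorem eq_top_of_e0_mem_Ax {F : Type*} [Field F] {G : Subgroup (SpecialLinearGroup (Fin 3) F)}
    (hA : InG G (A3 F)) (h0 : (Pi.single 0 1 : Fin 3 → F) ∈ Ax G) : G = ⊤ := by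
  have hψ1 : (Pi.single 0 1 : Fin 3 → F) ᵥ* A3 F ∈ Ax G :=
    Cfsg.Agent.Lib.Helper73.RUSpec.ax_vecMul h0 hA
  have hψ2 : ((Pi.single 0 1 : Fin 3 → F) ᵥ* A3 F) ᵥ* A3 F ∈ Ax G :=
    Cfsg.Agent.Lib.Helper73.RUSpec.ax_vecMul hψ1 hA
  have e1 : (Pi.single 0 1 : Fin 3 → F) ᵥ* A3 F = ![1, 1, 0] := by
    ext i
    fin_cases i <;> simp [A3, vecMul, dotProduct, Fin.sum_univ_three, Pi.single_apply]
  have e2 : (![1, 1, 0] : Fin 3 → F) ᵥ* A3 F = ![1, 2, 1] := by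
    ext i
    fin_cases i <;> simp [A3, vecMul, dotProduct, Fin.sum_univ_three] <;> norm_num
  rw [e1] at hψ1 hψ2
  rw [e2] at hψ2
  have hm0 : (-1 : F) • (Pi.single 0 1 : Fin 3 → F) ∈ Ax G :=
    Cfsg.Agent.Lib.Helper73.RUSpec.ax_smul (-1) h0
  have he1 : (Pi.single 1 1 : Fin 3 → F) ∈ Ax G := by
    have h := Cfsg.Agent.Lib.Helper73.RUSpec.ax_add_of hψ1 hm0 (Pi.single 1 1 : Fin 3 → F)
      (by simp [dotProduct, Fin.sum_univ_three, Pi.single_apply])
      (by simp [dotProduct, Fin.sum_univ_three, Pi.single_apply])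
    have e : (![1, 1, 0] : Fin 3 → F) + (-1 : F) • (Pi.single 0 1 : Fin 3 → F) = Pi.single 1 1 := by
      ext i
      fin_cases i <;> simp [Pi.single_apply, Matrix.vecHead, Matrix.vecTail]
    rwa [e] at h
  have h3 : (![1, 2, 1] : Fin 3 → F) + (-1 : F) • (Pi.single 0 1 : Fin 3 → F) ∈ Ax G :=
    Cfsg.Agent.Lib.Helper73.RUSpec.ax_add_of hψ2 hm0 (Pi.single 2 1 : Fin 3 → F)
      (by simp [dotProduct, Fin.sum_univ_three, Pi.single_apply])
      (by simp [dotProduct, Fin.sum_univ_three, Pi.single_apply])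
  have hm1 : (-2 : F) • (Pi.single 1 1 : Fin 3 → F) ∈ Ax G :=
    Cfsg.Agent.Lib.Helper73.RUSpec.ax_smul (-2) he1
  have he2 : (Pi.single 2 1 : Fin 3 → F) ∈ Ax G := by
    have h := Cfsg.Agent.Lib.Helper73.RUSpec.ax_add_of h3 hm1 (Pi.single 2 1 : Fin 3 → F)
      (by simp [dotProduct, Fin.sum_univ_three, Pi.single_apply])
      (by simp [dotProduct, Fin.sum_univ_three, Pi.single_apply])
    have e : ((![1, 2, 1] : Fin 3 → F) + (-1 : F) • (Pi.single 0 1 : Fin 3 → F)) +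
        (-2 : F) • (Pi.single 1 1 : Fin 3 → F) = Pi.single 2 1 := by
      ext i
      fin_cases i <;> simp [Pi.single_apply, Matrix.vecHead, Matrix.vecTail]
    rwa [e] at h
  apply Cfsg.Agent.Lib.Helper73.RUSpec.eq_top_of_single_mem_Ax
  intro j
  fin_cases j
  · exact h0
  · exact he1
  · exact he2

end Cfsg.Agent.Lib.Helper52.RU2
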