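import Mathlib
import Cfsg.Agent.Lib.Helper73.RUDefs
import Cfsg.Agent.Lib.Helper73.RUHub
import Cfsg.Agent.Lib.Helper27.RU4G
import Cfsg.Agent.Lib.Helper52.RU3Field
import Cfsg.Agent.Lib.Helper21.RU4A
import Cfsg.Agent.Lib.Helper54.RU4B
import Cfsg.Agent.Lib.Helper46.RU4C
import Cfsg.Agent.Lib.Helper51.RU4D

set_option autoImplicit false

/-!
# S2279, half (a) for every finite field: `⟨aMat, g aMat g⁻¹⟩ = SL_n(F)`, `g = 1 + l E_{last,0}`,
`l` a generator of `Fˣ`, `n = m + 3 ≥ 4`.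
-/

namespace Cfsg.Agent.Lib.Helper52.RU5

open Matrix Cfsg.Agent.Lib.Helper73.RU Cfsg.Agent.Lib.Helper73.RUSpec

/-! ## rows of `aMat` -/

theorem aMat_mulVec_apply (m : ℕ) (F : Type*) [Field F] (v : Fin (m + 3) → F) (i : Fin (m + 3))
    (hi : i.val + 1 < m + 3) :
    (aMat m F *ᵥ v) i = v i + v ⟨i.val + 1, hi⟩ := by
  have h6 : (aMat m F *ᵥ v) i = (Pi.single i 1 : Fin (m + 3) → F) ⬝ᵥ (aMat m F *ᵥ v) := by
    rw [single_dotProduct, one_mul]
  rw [h6, dotProduct_mulVec, Cfsg.Agent.Lib.Helper27.RU4x.g_single_vecMul_aMat m F i hi,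
    add_dotProduct, single_dotProduct, single_dotProduct, one_mul, one_mul]

theorem aMat_mulVec_last (m : ℕ) (F : Type*) [Field F] (v : Fin (m + 3) → F) :
    (aMat m F *ᵥ v) (Fin.last (m + 2)) = v (Fin.last (m + 2)) := by
  have h6 : (aMat m F *ᵥ v) (Fin.last (m + 2)) =
      (Pi.single (Fin.last (m + 2)) 1 : Fin (m + 3) → F) ⬝ᵥ (aMat m F *ᵥ v) := by
    rw [single_dotProduct, one_mul]
  rw [h6, dotProduct_mulVec, last_vecMul_aMat, single_dotProduct, one_mul]

/-! ## the columns `c_k = aMat^k e_last` -/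

/-- `c_k = aMat^k e_last` -/
def cc (m : ℕ) (F : Type*) [Field F] : ℕ → (Fin (m + 3) → F)
  | 0 => Pi.single (Fin.last (m + 2)) 1
  | k + 1 => aMat m F *ᵥ cc m F k

theorem cc_zero (m : ℕ) (F : Type*) [Field F] : cc m F 0 = Pi.single (Fin.last (m + 2)) 1 := rfl

theorem cc_succ (m : ℕ) (F : Type*) [Field F] (k : ℕ) : cc m F (k + 1) = aMat m F *ᵥ cc m F k := rfl

theorem cc_apply (m : ℕ) (F : Type*) [Field F] (k : ℕ) :
    (∀ i : Fin (m + 3), i.val + k < m + 2 → cc m F k i = 0) ∧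
    (∀ i : Fin (m + 3), i.val + k = m + 2 → cc m F k i = 1) := by
  induction k with
  | zero =>
    constructor
    · intro i hi
      rw [cc_zero, Pi.single_apply, if_neg]
      intro h
      rw [h] at hi
      simp at hi
    · intro i hi
      rw [cc_zero, Pi.single_apply, if_pos]
      ext
      simpa using hi
  | succ k ih =>
    constructor
    · intro i hi
      have hi' : i.val + 1 < m + 3 := by omega
      rw [cc_succ, aMat_mulVec_apply m F _ i hi', ih.1 i (by omega), ih.1 ⟨i.val + 1, hi'⟩ (by simp; omega),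
        add_zero]
    · intro i hi
      have hi' : i.val + 1 < m + 3 := by omega
      rw [cc_succ, aMat_mulVec_apply m F _ i hi', ih.1 i (by omega), ih.2 ⟨i.val + 1, hi'⟩ (by simp; omega),
        zero_add]

theorem pow_mulVec_last (m : ℕ) (F : Type*) [Field F] (k : ℕ) :
    (aMat m F ^ k) *ᵥ (Pi.single (Fin.last (m + 2)) 1 : Fin (m + 3) → F) = cc m F k := by
  induction k with
  | zero => rw [pow_zero, one_mulVec, cc_zero]
  | succ k ih => rw [pow_succ', ← mulVec_mulVec, ih, cc_succ]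

theorem pow_mulVec_cc (m : ℕ) (F : Type*) [Field F] (j k : ℕ) :
    (aMat m F ^ j) *ᵥ cc m F k = cc m F (k + j) := by
  rw [← pow_mulVec_last, mulVec_mulVec, ← pow_add, pow_mulVec_last, Nat.add_comm j k]

/-! ## the columns `b_r = aMat^(-r) e_last` -/

/-- `b_r = aMat^(-r) e_last`: `(b_r)_(last-k) = (-1)^k multichoose r k` -/
def bb (m : ℕ) (F : Type*) [Field F] (r : ℕ) : Fin (m + 3) → F :=
  fun i => (-1) ^ (m + 2 - i.val) * ((Nat.multichoose r (m + 2 - i.val) : ℕ) : F)

theorem bb_zero (m : ℕ) (F : Type*) [Field F] : bb m F 0 = Pi.single (Fin.last (m + 2)) 1 := by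
  ext i
  unfold bb
  by_cases hi : i = Fin.last (m + 2)
  · subst hi
    simp
  · have hlt : i.val < m + 2 := by
      have := i.isLt
      have hne : i.val ≠ m + 2 := fun h => hi (by ext; simpa using h)
      omega
    obtain ⟨k, hk⟩ : ∃ k, m + 2 - i.val = k + 1 := ⟨m + 1 - i.val, by omega⟩
    rw [hk, Nat.multichoose_zero_succ, Nat.cast_zero, mul_zero, Pi.single_apply, if_neg hi]

theorem aMat_mulVec_bb (m : ℕ) (F : Type*) [Field F] (r : ℕ) :
    aMat m F *ᵥ bb m F (r + 1) = bb m F r := by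
  ext i
  by_cases hi : i.val + 1 < m + 3
  · rw [aMat_mulVec_apply m F _ i hi]
    unfold bb
    obtain ⟨k, hk⟩ : ∃ k, m + 2 - i.val = k + 1 := ⟨m + 1 - i.val, by omega⟩
    have hk' : m + 2 - (i.val + 1) = k := by omega
    simp only [hk, hk']
    rw [Nat.multichoose_succ_succ, Nat.cast_add, pow_succ]
    ring
  · have hil : i = Fin.last (m + 2) := by
      ext
      have := i.isLt
      simp
      omega
    subst hil
    rw [aMat_mulVec_last]
    unfold bb
    simp

theorem pow_mulVec_bb (m : ℕ) (F : Type*) [Field F] (r t : ℕ) :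
    (aMat m F ^ r) *ᵥ bb m F (t + r) = bb m F t := by
  induction r with
  | zero => rw [pow_zero, one_mulVec, add_zero]
  | succ r ih =>
    rw [pow_succ, ← mulVec_mulVec, ← add_assoc, aMat_mulVec_bb, ih]

theorem pow_mulVec_bb' (m : ℕ) (F : Type*) [Field F] (i r : ℕ) :
    (aMat m F ^ (i + r)) *ᵥ bb m F r = cc m F i := by
  have h := pow_mulVec_bb m F r 0
  rw [zero_add, bb_zero] at h
  rw [pow_add, ← mulVec_mulVec, h, pow_mulVec_last]

theorem bb_apply_zero (m : ℕ) (F : Type*) [Field F] (r : ℕ) :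
    bb m F r 0 = (-1) ^ (m + 2) * ((Nat.multichoose r (m + 2) : ℕ) : F) := by
  unfold bb
  simp

theorem inG_pow {n : ℕ} {F : Type*} [Field F] {G : Subgroup (SpecialLinearGroup (Fin n) F)}
    {A : Matrix (Fin n) (Fin n) F} (hA : InG G A) (k : ℕ) : InG G (A ^ k) := by
  induction k with
  | zero => rw [pow_zero]; exact inG_one
  | succ k ih => rw [pow_succ]; exact inG_mul ih hA

/-! ## the `g_j`-step -/

theorem gj_step {m : ℕ} {F : Type*} [Field F] {G : Subgroup (SpecialLinearGroup (Fin (m + 3)) F)}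
    (ha : InG G (aMat m F)) (l : F)
    (hg : InG G (tvm (l • (Pi.single (Fin.last (m + 2)) 1 : Fin (m + 3) → F)) (Pi.single 0 1)))
    (i r : ℕ) (hr : i + r ≤ m + 1) (s : F)
    (hs : InG G (tvm (s • cc m F i) (Pi.single 0 1))) :
    InG G (tvm ((s * ((-1) ^ (m + 2) * ((Nat.multichoose r (m + 2) : ℕ) : F)) * l) • cc m F (i + r))
      (Pi.single 0 1)) := by
  set e : Fin (m + 3) → F := Pi.single 0 1 with he
  set el : Fin (m + 3) → F := Pi.single (Fin.last (m + 2)) 1 with hel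
  have hedot : ∀ v : Fin (m + 3) → F, e ⬝ᵥ v = v 0 := by
    intro v
    rw [he, single_dotProduct, one_mul]
  set P := aMat m F ^ (i + r) with hPdef
  have hP : InG G P := inG_pow ha _
  set ρ := e ᵥ* P with hρdef
  have hρdot : ∀ w : Fin (m + 3) → F, ρ ⬝ᵥ w = (P *ᵥ w) 0 := by
    intro w
    rw [hρdef, ← dotProduct_mulVec, hedot]
  set x : Fin (m + 3) → F := s • bb m F r with hxdef
  have hPx : P *ᵥ x = s • cc m F i := by
    rw [hxdef, mulVec_smul, hPdef, pow_mulVec_bb']
  have hPel : P *ᵥ el = cc m F (i + r) := pow_mulVec_last m F (i + r)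
  have hcj0 : cc m F (i + r) 0 = 0 := (cc_apply m F (i + r)).1 0 (by simp; omega)
  have hci0 : cc m F i 0 = 0 := (cc_apply m F i).1 0 (by simp; omega)
  have hρel : ρ ⬝ᵥ el = 0 := by rw [hρdot, hPel, hcj0]
  have hρx : ρ ⬝ᵥ x = 0 := by rw [hρdot, hPx, Pi.smul_apply, hci0, smul_zero]
  -- step 1
  have step1 : InG G (tvm x ρ) := by
    have h := mul_tvm P x e
    rw [hPx] at h
    exact inG_of_mul_left hP (h ▸ inG_mul hs hP)
  -- step 2
  set g := tvm (l • el) e with hgdef
  have hρg : ρ ᵥ* g = ρ := by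
    rw [hgdef]
    unfold tvm
    rw [vecMul_add, vecMul_one, vecMul_vecMulVec, dotProduct_smul, hρel, smul_zero, zero_smul, add_zero]
  have hgx : g *ᵥ x = x + (x 0 * l) • el := by
    rw [hgdef]
    unfold tvm
    rw [add_mulVec, one_mulVec]
    congr 1
    rw [vecMulVec_mulVec, op_smul_eq_smul, hedot, smul_smul]
  have step2 : InG G (tvm (x + (x 0 * l) • el) ρ) := by
    have h := mul_tvm g x ρ
    rw [hρg, hgx] at h
    exact inG_of_mul_right hg (h ▸ inG_mul hg step1)
  -- step 3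
  set y : Fin (m + 3) → F := (x 0 * l) • el with hydef
  have hρy : ρ ⬝ᵥ y = 0 := by rw [hydef, dotProduct_smul, hρel, smul_zero]
  have step3 : InG G (tvm y ρ) := by
    have h := tvm_mul_tvm (-x) (x + y) ρ (by rw [dotProduct_add, hρx, hρy, add_zero])
    rw [neg_add_cancel_left] at h
    rw [← h]
    exact inG_mul (inG_tvm_neg hρx step1) step2
  -- step 4
  have step4 : InG G (tvm (P *ᵥ y) e) := by
    have h := mul_tvm P y e
    exact inG_of_mul_right hP (h ▸ inG_mul hP step3)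
  have hfin : P *ᵥ y = (s * ((-1) ^ (m + 2) * ((Nat.multichoose r (m + 2) : ℕ) : F)) * l) •
      cc m F (i + r) := by
    rw [hydef, mulVec_smul, hPel, hxdef, Pi.smul_apply, bb_apply_zero, smul_eq_mul]
  rw [← hfin]
  exact step4

/-! ## `c_1` -/

theorem cc_one (m : ℕ) (F : Type*) [Field F] :
    cc m F 1 = (Pi.single (Fin.last (m + 2)) 1 : Fin (m + 3) → F) +
      Pi.single (⟨m + 1, by omega⟩ : Fin (m + 3)) 1 := by
  ext i
  rw [cc_succ, cc_zero]
  by_cases hi : i.val + 1 < m + 3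
  · rw [aMat_mulVec_apply m F _ i hi]
    simp only [Pi.add_apply, Pi.single_apply]
    have e1 : (i = (⟨m + 1, by omega⟩ : Fin (m + 3))) ↔
        ((⟨i.val + 1, hi⟩ : Fin (m + 3)) = Fin.last (m + 2)) := by
      constructor
      · intro h
        ext
        have := congrArg Fin.val h
        simp at this ⊢
        omega
      · intro h
        ext
        have := congrArg Fin.val h
        simp at this ⊢
        omega
    by_cases h1 : i = (⟨m + 1, by omega⟩ : Fin (m + 3))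
    · rw [if_pos h1, if_pos (e1.mp h1)]
    · rw [if_neg h1, if_neg (fun h => h1 (e1.mpr h))]
  · have hil : i = Fin.last (m + 2) := by
      ext
      have := i.isLt
      simp
      omega
    subst hil
    rw [aMat_mulVec_last]
    have hne : (Fin.last (m + 2) : Fin (m + 3)) ≠ (⟨m + 1, by omega⟩ : Fin (m + 3)) := by
      intro h
      have := congrArg Fin.val h
      simp at this
    simp only [Pi.add_apply, Pi.single_apply, if_neg hne, add_zero]

/-! ## the glue: `⟨aMat, v4 l⟩ = SL_(m+3)(F)` for a generator `l` of `Fˣ` -/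

theorem eq_top_of_gen {m : ℕ} {F : Type*} [Field F] [Fintype F] (hm : 1 ≤ m) (l : F) (hl0 : l ≠ 0)
    (hl : ∀ x : F, x ≠ 0 → ∃ k : ℕ, x = l ^ (k + 1))
    (G : Subgroup (SpecialLinearGroup (Fin (m + 3)) F))
    (ha : InG G (aMat m F)) (hv : InG G (Cfsg.Agent.Lib.Helper21.RU4.v4 m F l)) : G = ⊤ := by
  classical
  set e : Fin (m + 3) → F := Pi.single 0 1 with he
  have hedot : ∀ v : Fin (m + 3) → F, e ⬝ᵥ v = v 0 := by
    intro v
    rw [he, single_dotProduct, one_mul]
  let M : Set (Fin (m + 3) → F) := {v | v 0 = 0 ∧ InG G (tvm v e)}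
  have hadd : ∀ v w, v ∈ M → w ∈ M → v + w ∈ M := fun v w hv hw =>
    ⟨by rw [Pi.add_apply, hv.1, hw.1, add_zero], by
      rw [← tvm_mul_tvm v w e (by rw [hedot]; exact hw.1)]; exact inG_mul hv.2 hw.2⟩
  have hneg : ∀ v, v ∈ M → -v ∈ M := fun v hv =>
    ⟨by rw [Pi.neg_apply, hv.1, neg_zero], inG_tvm_neg (by rw [hedot]; exact hv.1) hv.2⟩
  have h0M : (0 : Fin (m + 3) → F) ∈ M := ⟨rfl, by rw [tvm_zero]; exact inG_one⟩
  have hpm : ∀ (k : ℕ) v, ((-1 : F) ^ k) • v ∈ M → v ∈ M := by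
    intro k v hv
    rcases neg_one_pow_eq_or F k with h | h
    · rwa [h, one_smul] at hv
    · rw [h, neg_one_smul] at hv
      simpa using hneg _ hv
  -- entries of the `c_k`
  have hc0 : ∀ k, k ≤ m + 1 → cc m F k 0 = 0 := fun k hk => (cc_apply m F k).1 0 (by simp; omega)
  have hc1 : ∀ k, k ≤ m → cc m F k 1 = 0 := fun k hk =>
    (cc_apply m F k).1 1 (by rw [Fin.val_one]; omega)
  have hc1' : cc m F (m + 1) 1 = 1 := (cc_apply m F (m + 1)).2 1 (by rw [Fin.val_one]; omega)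
  -- the additive groups `S k`
  let S : ℕ → AddSubgroup F := fun k =>
    { carrier := {s | s • cc m F k ∈ M}
      zero_mem' := by
        show (0 : F) • cc m F k ∈ M
        rw [zero_smul]; exact h0M
      add_mem' := by
        intro a b ha hb
        show (a + b) • cc m F k ∈ M
        rw [add_smul]; exact hadd _ _ ha hb
      neg_mem' := by
        intro a ha
        show (-a) • cc m F k ∈ M
        rw [neg_smul]; exact hneg _ ha }
  have hSmem : ∀ k (s : F), s ∈ S k ↔ s • cc m F k ∈ M := fun k s => Iff.rfl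
  -- h1
  have h1 : l ^ 3 ∈ S 2 := by
    rw [hSmem]
    have h : InG G (tvm (l ^ 3 • cc m F 1) ((Pi.single 0 1 : Fin (m + 3) → F) ᵥ* aMat m F)) := by
      rw [cc_one, Cfsg.Agent.Lib.Helper46.RU4C.e0_vecMul_aMat]
      exact Cfsg.Agent.Lib.Helper54.RU4B.tv_mem hm l ha hv
    have h7 : InG G (tvm (aMat m F *ᵥ (l ^ 3 • cc m F 1)) e * aMat m F) := by
      rw [← mul_tvm]
      exact inG_mul ha h
    have h8 : InG G (tvm (aMat m F *ᵥ (l ^ 3 • cc m F 1)) e) := inG_of_mul_right ha h7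
    rw [mulVec_smul, ← cc_succ] at h8
    refine ⟨?_, h8⟩
    rw [Pi.smul_apply, hc0 2 (by omega), smul_zero]
  -- h2
  have h2 : ∀ k, k + 3 ≤ m + 3 → ∀ s ∈ S k, l * s ∈ S (k + 1) := by
    intro k hk s hs
    rw [hSmem] at hs ⊢
    have hx0 : (s • cc m F k) 0 = 0 := by rw [Pi.smul_apply, hc0 k (by omega), smul_zero]
    have hx1 : (s • cc m F k) 1 = 0 := by rw [Pi.smul_apply, hc1 k (by omega), smul_zero]
    have h := Cfsg.Agent.Lib.Helper46.RU4C.up_step l ha hv (s • cc m F k) hx0 hx1 hs.2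
    rw [mulVec_smul, ← cc_succ] at h
    refine hpm (m + 1) _ ⟨?_, ?_⟩
    · rw [Pi.smul_apply, Pi.smul_apply, hc0 (k + 1) (by omega), smul_zero, smul_zero]
    · have e2 : ((-1 : F) ^ (m + 1)) • ((l * s) • cc m F (k + 1)) =
          (l * (-1) ^ (m + 1)) • (s • cc m F (k + 1)) := by
        rw [smul_smul, smul_smul]
        congr 1
        ring
      rw [e2]
      exact h
  -- h3
  have h3 : ∀ k, 1 ≤ k → k + 2 ≤ m + 3 → ∀ t ∈ S (m + 3 - 2), ∀ s ∈ S k, t * s ∈ S (k - 1) := by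
    intro k hk1 hk t ht s hs
    have ht' : t • cc m F (m + 1) ∈ M := ht
    rw [hSmem] at hs ⊢
    obtain ⟨k', rfl⟩ : ∃ k', k = k' + 1 := ⟨k - 1, by omega⟩
    rw [Nat.add_sub_cancel]
    have hx0 : (s • cc m F k') 0 = 0 := by rw [Pi.smul_apply, hc0 k' (by omega), smul_zero]
    have hx1 : (s • cc m F k') 1 = 0 := by rw [Pi.smul_apply, hc1 k' (by omega), smul_zero]
    have hx : InG G (tvm (aMat m F *ᵥ (s • cc m F k')) e) := by
      rw [mulVec_smul, ← cc_succ]
      exact hs.2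
    have h := Cfsg.Agent.Lib.Helper51.RU4x.down_step ha (t • cc m F (m + 1)) ht'.1 ht'.2 (s • cc m F k') hx0 hx1 hx
    rw [Pi.smul_apply, hc1', smul_eq_mul, mul_one] at h
    have hmem : -((t * s) • cc m F k') ∈ M := by
      refine ⟨?_, ?_⟩
      · rw [Pi.neg_apply, Pi.smul_apply, hc0 k' (by omega), smul_zero, neg_zero]
      · have e2 : -((t * s) • cc m F k') = (-t) • (s • cc m F k') := by
          rw [smul_smul, neg_mul, neg_smul]
        rw [e2]
        exact h
    simpa using hneg _ hmem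
  -- h4
  have h4 : l ∈ S 0 → ∀ r, 1 ≤ r → r + 2 ≤ m + 3 → ∀ s ∈ S (m + 3 - 2 - r),
      l * ((Nat.choose (m + 3 + r - 2) (m + 3 - 1) : ℕ) : F) * s ∈ S (m + 3 - 2) := by
    intro hl0S r hr1 hr s hs
    have hg : InG G (tvm (l • (Pi.single (Fin.last (m + 2)) 1 : Fin (m + 3) → F)) e) := by
      have : l • cc m F 0 ∈ M := hl0S
      rw [cc_zero] at this
      exact this.2
    have hs' : s • cc m F (m + 1 - r) ∈ M := hs
    have h := gj_step ha l hg (m + 1 - r) r (by omega) s hs'.2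
    rw [show m + 1 - r + r = m + 1 by omega] at h
    show (l * ((Nat.choose (m + 3 + r - 2) (m + 3 - 1) : ℕ) : F) * s) • cc m F (m + 1) ∈ M
    have hch : Nat.multichoose r (m + 2) = Nat.choose (m + 3 + r - 2) (m + 3 - 1) := by
      rw [Nat.multichoose_eq]
      congr 1
      omega
    rw [hch] at h
    refine hpm (m + 2) _ ⟨?_, ?_⟩
    · rw [Pi.smul_apply, Pi.smul_apply, hc0 (m + 1) le_rfl, smul_zero, smul_zero]
    · have e2 : ((-1 : F) ^ (m + 2)) •
          ((l * ((Nat.choose (m + 3 + r - 2) (m + 3 - 1) : ℕ) : F) * s) • cc m F (m + 1)) =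
          (s * ((-1) ^ (m + 2) * ((Nat.choose (m + 3 + r - 2) (m + 3 - 1) : ℕ) : F)) * l) •
            cc m F (m + 1) := by
        rw [smul_smul]
        congr 1
        ring
      rw [e2]
      exact h
  have hStop := Cfsg.Agent.Lib.Helper52.RU3.fill_of_relations (m + 3) (by omega) hl0 hl S h2 h3 h1 h4
  -- every vector with `v 0 = 0` is in `M`
  have hall' : ∀ t, t ≤ m + 2 → ∀ v : Fin (m + 3) → F,
      (∀ i : Fin (m + 3), i.val + t < m + 3 → v i = 0) → v ∈ M := by
    intro t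
    induction t with
    | zero =>
      intro _ v hv
      have : v = 0 := by
        ext i
        exact hv i (by have := i.isLt; omega)
      rw [this]
      exact h0M
    | succ t ih =>
      intro ht v hv
      have hi0 : m + 2 - t < m + 3 := by omega
      set i0 : Fin (m + 3) := ⟨m + 2 - t, hi0⟩ with hi0def
      set v' : Fin (m + 3) → F := v - v i0 • cc m F t with hv'def
      have hv' : v' ∈ M := by
        apply ih (by omega)
        intro i hi
        rw [hv'def, Pi.sub_apply, Pi.smul_apply, smul_eq_mul]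
        by_cases hlt : i.val + (t + 1) < m + 3
        · rw [hv i hlt, (cc_apply m F t).1 i (by omega), mul_zero, sub_zero]
        · have hieq : i = i0 := by
            ext
            rw [hi0def]
            simp only
            omega
          rw [hieq, (cc_apply m F t).2 i0 (by rw [hi0def]; simp only; omega), mul_one, sub_self]
      have hsc : v i0 • cc m F t ∈ M := by
        have htop := hStop t (by omega)
        have : v i0 ∈ S t := by rw [htop]; exact AddSubgroup.mem_top _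
        exact this
      have hsum : v = v' + v i0 • cc m F t := by rw [hv'def]; abel
      rw [hsum]
      exact hadd _ _ hv' hsc
  have hall : ∀ v : Fin (m + 3) → F, v 0 = 0 → v ∈ M := by
    intro v hv0
    apply hall' (m + 2) le_rfl
    intro i hi
    have : i = 0 := by
      apply Fin.ext
      rw [Fin.val_zero]
      omega
    rw [this]
    exact hv0
  have hAx0 : e ∈ Ax G := by
    intro v hv
    rw [hedot] at hv
    exact (hall v hv).2
  exact eq_top_of_single_mem_Ax G (Cfsg.Agent.Lib.Helper27.RU4x.single_mem_Ax_up ha hAx0)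

/-! ## regular unipotents and conjugation -/

theorem regular_of_conj {n : ℕ} {F : Type*} [Field F] (g A B : Matrix (Fin n) (Fin n) F)
    (hg : g.det = 1) (h : g * A = B * g) (k : ℕ)
    (hA : IsNilpotent (A - 1) ∧ (A - 1) ^ k ≠ 0) : IsNilpotent (B - 1) ∧ (B - 1) ^ k ≠ 0 := by
  have hu : IsUnit g.det := by rw [hg]; exact isUnit_one
  have h' : g * (A - 1) = (B - 1) * g := by
    rw [mul_sub, sub_mul, mul_one, one_mul, h]
  have hpow : ∀ j : ℕ, g * (A - 1) ^ j = (B - 1) ^ j * g := by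
    intro j
    induction j with
    | zero => rw [pow_zero, pow_zero, mul_one, one_mul]
    | succ j ih =>
      rw [pow_succ, ← mul_assoc, ih, mul_assoc, h', ← mul_assoc, ← pow_succ]
  constructor
  · obtain ⟨j, hj⟩ := hA.1
    refine ⟨j, ?_⟩
    have h1 := hpow j
    rw [hj, mul_zero] at h1
    have h2 : (B - 1) ^ j = (B - 1) ^ j * g * g⁻¹ := by
      rw [mul_assoc, mul_nonsing_inv g hu, mul_one]
    rw [h2, ← h1, zero_mul]
  · intro hB
    apply hA.2
    have h1 := hpow k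
    rw [hB, zero_mul] at h1
    have h2 : (A - 1) ^ k = g⁻¹ * (g * (A - 1) ^ k) := by
      rw [← mul_assoc, nonsing_inv_mul g hu, one_mul]
    rw [h2, h1, mul_zero]

/-! ## both halves of S2279 -/

/-- the matrix of a conjugate -/
theorem coe_conj_eq52 {n : ℕ} {F : Type*} [Field F] (g u : SpecialLinearGroup (Fin n) F)
    (B : Matrix (Fin n) (Fin n) F)
    (h : (g : Matrix (Fin n) (Fin n) F) * (u : Matrix (Fin n) (Fin n) F) =
      B * (g : Matrix (Fin n) (Fin n) F)) :
    ((g * u * g⁻¹ : SpecialLinearGroup (Fin n) F) : Matrix (Fin n) (Fin n) F) = B := by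
  have h1 : (g : Matrix (Fin n) (Fin n) F) *
      ((g⁻¹ : SpecialLinearGroup (Fin n) F) : Matrix (Fin n) (Fin n) F) = 1 := by
    have hd := g.2
    simp [mul_adjugate, hd]
  have h2 : ((g * u * g⁻¹ : SpecialLinearGroup (Fin n) F) : Matrix (Fin n) (Fin n) F) =
      (g : Matrix (Fin n) (Fin n) F) * (u : Matrix (Fin n) (Fin n) F) *
        ((g⁻¹ : SpecialLinearGroup (Fin n) F) : Matrix (Fin n) (Fin n) F) := by
    simp
  rw [h2, h, Matrix.mul_assoc, h1, Matrix.mul_one]

/-- the pair: `u = aMat`, `g = 1 + l E_(last,0)` with `l` a generator of `Fˣ` -/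
theorem exists_pair {F : Type*} [Field F] [Fintype F] (n : ℕ) (hn : 4 ≤ n) :
    ∃ u g : Matrix.SpecialLinearGroup (Fin n) F,
      (IsNilpotent ((u : Matrix (Fin n) (Fin n) F) - 1) ∧
        ((u : Matrix (Fin n) (Fin n) F) - 1) ^ (n - 1) ≠ 0) ∧
      (IsNilpotent (((g * u * g⁻¹ : Matrix.SpecialLinearGroup (Fin n) F) :
          Matrix (Fin n) (Fin n) F) - 1) ∧
        (((g * u * g⁻¹ : Matrix.SpecialLinearGroup (Fin n) F) :
          Matrix (Fin n) (Fin n) F) - 1) ^ (n - 1) ≠ 0) ∧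
      Subgroup.closure ({u, g * u * g⁻¹} : Set (Matrix.SpecialLinearGroup (Fin n) F)) = ⊤ := by
  obtain ⟨m, rfl, hm⟩ : ∃ m, n = m + 3 ∧ 1 ≤ m := ⟨n - 3, by omega, by omega⟩
  obtain ⟨l, hl0, hl⟩ := exists_gen F
  let u : SpecialLinearGroup (Fin (m + 3)) F := ⟨aMat m F, det_aMat m F⟩
  let g : SpecialLinearGroup (Fin (m + 3)) F :=
    ⟨Cfsg.Agent.Lib.Helper21.RU4.g4 m F l, Cfsg.Agent.Lib.Helper21.RU4.det_g4 m F l⟩
  have hreg : IsNilpotent (aMat m F - 1) ∧ (aMat m F - 1) ^ (m + 3 - 1) ≠ 0 :=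
    ⟨isNilpotent_aMat_sub_one m F, aMat_sub_one_pow_ne_zero m F⟩
  have hcoe : ((g * u * g⁻¹ : SpecialLinearGroup (Fin (m + 3)) F) :
      Matrix (Fin (m + 3)) (Fin (m + 3)) F) = Cfsg.Agent.Lib.Helper21.RU4.v4 m F l :=
    coe_conj_eq52 g u _ (Cfsg.Agent.Lib.Helper21.RU4.g4_mul_aMat m F l)
  refine ⟨u, g, hreg, ?_, ?_⟩
  · rw [hcoe]
    exact regular_of_conj (Cfsg.Agent.Lib.Helper21.RU4.g4 m F l) (aMat m F)
      (Cfsg.Agent.Lib.Helper21.RU4.v4 m F l) (Cfsg.Agent.Lib.Helper21.RU4.det_g4 m F l)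
      (Cfsg.Agent.Lib.Helper21.RU4.g4_mul_aMat m F l) _ hreg
  · set G := Subgroup.closure ({u, g * u * g⁻¹} :
      Set (Matrix.SpecialLinearGroup (Fin (m + 3)) F)) with hG
    have hu : InG G (aMat m F) := ⟨u, Subgroup.subset_closure (by simp), rfl⟩
    have hv : InG G (Cfsg.Agent.Lib.Helper21.RU4.v4 m F l) :=
      ⟨g * u * g⁻¹, Subgroup.subset_closure (by simp), hcoe⟩
    exact eq_top_of_gen hm l hl0 hl G hu hv

/-- half (a) of S2279, every finite field -/
theorem partA {F : Type*} [Field F] [Fintype F] (n : ℕ) (hn : 4 ≤ n) :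
    ∃ u v : Matrix.SpecialLinearGroup (Fin n) F,
      (IsNilpotent ((u : Matrix (Fin n) (Fin n) F) - 1) ∧
        ((u : Matrix (Fin n) (Fin n) F) - 1) ^ (n - 1) ≠ 0) ∧
      (IsNilpotent ((v : Matrix (Fin n) (Fin n) F) - 1) ∧
        ((v : Matrix (Fin n) (Fin n) F) - 1) ^ (n - 1) ≠ 0) ∧
      Subgroup.closure ({u, v} : Set (Matrix.SpecialLinearGroup (Fin n) F)) = ⊤ := by
  obtain ⟨u, g, h1, h2, h3⟩ := exists_pair (F := F) n hn
  exact ⟨u, g * u * g⁻¹, h1, h2, h3⟩

/-- half (b) of S2279, for every finite field (primality is not needed) -/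
theorem partB {F : Type*} [Field F] [Fintype F] (n : ℕ) (hn : 4 ≤ n) :
    ∃ u g : Matrix.SpecialLinearGroup (Fin n) F,
      (IsNilpotent ((u : Matrix (Fin n) (Fin n) F) - 1) ∧
        ((u : Matrix (Fin n) (Fin n) F) - 1) ^ (n - 1) ≠ 0) ∧
      Subgroup.closure ({u, g * u * g⁻¹} : Set (Matrix.SpecialLinearGroup (Fin n) F)) = ⊤ := by
  obtain ⟨u, g, h1, _, h3⟩ := exists_pair (F := F) n hn
  exact ⟨u, g, h1, h3⟩

end Cfsg.Agent.Lib.Helper52.RU5
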