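import Mathlib
import Cfsg.Agent.Lib.Helper52.SL2Sylow
import Cfsg.Agent.Lib.Helper52.QuadAction
import Cfsg.Agent.Lib.Helper97.UniqueOrderP

/-!
# Sylow `2`-subgroups of subgroups of `SL₂(q)`, `q` odd (S0275)

A subgroup of `SL₂(F)` (`F` finite of odd characteristic `p`) with more than one Sylow
`p`-subgroup has generalized quaternion Sylow `2`-subgroups.
-/

set_option autoImplicit false

namespace Cfsg.Agent.Lib.Helper52

open Matrix

section

variable {E : Type*} [Field E]

local notation "SL2" => Matrix.SpecialLinearGroup (Fin 2) E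

/-- In odd characteristic `SL₂` has at most one involution. -/
theorem eq_of_mul_self_eq_one {x y : SL2} (h2 : (2 : E) ≠ 0) (hx : x * x = 1) (hy : y * y = 1)
    (hx1 : x ≠ 1) (hy1 : y ≠ 1) : x = y := by
  have key : ∀ z : SL2, z * z = 1 → z ≠ 1 →
      (z : Matrix (Fin 2) (Fin 2) E) = (-1 : E) • (1 : Matrix (Fin 2) (Fin 2) E) := by
    intro z hz hz1
    obtain ⟨s, hs⟩ := isScalarSL_of_mul_self h2 hz
    have hd : (z : Matrix (Fin 2) (Fin 2) E).det = 1 := z.2
    rw [hs, Matrix.det_smul, Matrix.det_one, Fintype.card_fin, mul_one] at hd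
    have hs2 : (s - 1) * (s + 1) = 0 := by ring_nf; rw [hd]; ring
    rcases mul_eq_zero.mp hs2 with h | h
    · exfalso
      apply hz1
      apply Subtype.ext
      rw [hs, sub_eq_zero.mp h, one_smul, Matrix.SpecialLinearGroup.coe_one]
    · rw [hs, eq_neg_of_add_eq_zero_left h]
  apply Subtype.ext
  rw [key x hx hx1, key y hy hy1]

end

section

variable {E : Type*} [Field E] [Finite E] {p : ℕ} [Fact p.Prime] [CharP E p]

local notation "SL2" => Matrix.SpecialLinearGroup (Fin 2) E

/-- S0275. -/
theorem sylow_two_quaternion_of_not_pClosed (hp : p ≠ 2) (H : Subgroup SL2)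
    (hH : 1 < Nat.card (Sylow p H)) (S : Sylow 2 H) :
    ∃ k : ℕ, 1 ≤ k ∧ Nonempty ((S : Subgroup H) ≃* QuaternionGroup (2 ^ k)) := by
  have h2 : (2 : E) ≠ 0 := two_ne_zero_of_charP (p := p) hp
  have : Fact (Nat.Prime 2) := ⟨Nat.prime_two⟩
  have : Finite SL2 := inferInstance
  -- `L₀`: the subgroup of `H` generated by the `p`-elements
  let L₀ : Subgroup H := Subgroup.closure {g : H | ∃ j : ℕ, g ^ p ^ j = 1}
  -- `L₀` is not a `p`-group
  have hL₀ : ¬ IsPGroup p L₀ := by
    intro hP
    have hle : ∀ P : Sylow p H, (P : Subgroup H) = L₀ := by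
      intro P
      have h1 : (P : Subgroup H) ≤ L₀ := by
        intro g hg
        apply Subgroup.subset_closure
        obtain ⟨j, hj⟩ := P.2 ⟨g, hg⟩
        exact ⟨j, by simpa using congrArg Subtype.val hj⟩
      exact (P.3 hP h1).symm
    have hsub : Subsingleton (Sylow p H) :=
      ⟨fun P Q => Sylow.ext ((hle P).trans (hle Q).symm)⟩
    have : Nat.card (Sylow p H) ≤ 1 := Finite.card_le_one_iff_subsingleton.mpr hsub
    omega
  -- `S` is not abelian
  have hSna : ¬ IsMulCommutative S := by
    intro hS
    apply hL₀
    let L : Subgroup SL2 := L₀.map H.subtype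
    let e : L₀ ≃* L := L₀.equivMapOfInjective H.subtype H.subtype_injective
    have R2 : Sylow 2 L := default
    have hR2 : IsMulCommutative R2 :=
      sylow_two_comm_of_injective (L₀.subtype.comp e.symm.toMonoidHom)
        (L₀.subtype_injective.comp e.symm.injective) R2 S hS
    have hLp : IsPGroup p L := by
      refine isPGroup_of_abelian_sylow_two (E := E) (p := p) hp L ?_ R2 ?_
      · -- generation by `p`-elements
        have h1 : (⊤ : Subgroup L₀).map e.toMonoidHom = ⊤ := by
          rw [← MonoidHom.range_eq_map, MonoidHom.range_eq_top]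
          exact e.surjective
        have h3 : (⊤ : Subgroup L₀) = Subgroup.closure {g : L₀ | ∃ j : ℕ, g ^ p ^ j = 1} := by
          symm
          apply Subgroup.map_injective L₀.subtype_injective
          rw [MonoidHom.map_closure, ← MonoidHom.range_eq_map, Subgroup.range_subtype]
          apply le_antisymm
          · rw [Subgroup.closure_le]
            rintro _ ⟨g, -, rfl⟩
            exact g.2
          · show Subgroup.closure {g : H | ∃ j : ℕ, g ^ p ^ j = 1} ≤ _
            apply Subgroup.closure_mono
            rintro g ⟨j, hj⟩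
            have hg : g ∈ L₀ := Subgroup.subset_closure ⟨j, hj⟩
            exact ⟨⟨g, hg⟩, ⟨j, Subtype.ext (by simpa using hj)⟩, rfl⟩
        rw [h3, MonoidHom.map_closure] at h1
        rw [eq_top_iff, ← h1]
        apply Subgroup.closure_mono
        rintro _ ⟨g, ⟨j, hj⟩, rfl⟩
        exact ⟨j, by rw [← map_pow, hj, map_one]⟩
      · intro x hx y hy
        have := @mul_comm' _ _ hR2 (⟨x, hx⟩ : R2) ⟨y, hy⟩
        exact congrArg Subtype.val this
    exact hLp.of_equiv e.symm
  -- unique involution
  have huniq : ∀ A B : Subgroup ↥(S : Subgroup H), Nat.card A = 2 → Nat.card B = 2 → A = B := by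
    have key : ∀ A B : Subgroup ↥(S : Subgroup H), Nat.card A = 2 → Nat.card B = 2 → A ≤ B := by
      intro A B hA hB a ha
      by_cases ha1 : a = 1
      · rw [ha1]; exact B.one_mem
      · -- some nontrivial element of `B`
        have hBnt : Nontrivial B := by
          rw [← Finite.one_lt_card_iff_nontrivial]; omega
        obtain ⟨⟨b, hb⟩, hb1⟩ := exists_ne (1 : B)
        have hb1' : b ≠ 1 := fun h => hb1 (Subtype.ext h)
        have haa : a * a = 1 := by
          have h := pow_card_eq_one' (G := A) (x := ⟨a, ha⟩)
          rw [hA] at h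
          have := congrArg Subtype.val h
          simpa [pow_two] using this
        have hbb : b * b = 1 := by
          have h := pow_card_eq_one' (G := B) (x := ⟨b, hb⟩)
          rw [hB] at h
          have := congrArg Subtype.val h
          simpa [pow_two] using this
        have hab : ((a : H) : SL2) = ((b : H) : SL2) := by
          apply eq_of_mul_self_eq_one h2
          · have := congrArg (fun t : ↥(S : Subgroup H) => ((t : H) : SL2)) haa
            simpa using this
          · have := congrArg (fun t : ↥(S : Subgroup H) => ((t : H) : SL2)) hbb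
            simpa using this
          · intro h
            apply ha1
            apply Subtype.ext; apply Subtype.ext
            simpa using h
          · intro h
            apply hb1'
            apply Subtype.ext; apply Subtype.ext
            simpa using h
        have : a = b := Subtype.ext (Subtype.ext hab)
        rw [this]; exact hb
    intro A B hA hB
    exact le_antisymm (key A B hA hB) (key B A hB hA)
  rcases Cfsg.Agent.Lib.Helper97.cyclic_or_quaternion_of_unique 2 S.2 huniq with hc | ⟨-, n, ⟨e⟩⟩
  · exfalso
    apply hSna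
    obtain ⟨g, hg⟩ := hc.exists_generator
    refine ⟨⟨fun x y => ?_⟩⟩
    obtain ⟨i, rfl⟩ := Subgroup.mem_zpowers_iff.mp (hg x)
    obtain ⟨j, rfl⟩ := Subgroup.mem_zpowers_iff.mp (hg y)
    rw [← _root_.zpow_add, ← _root_.zpow_add, add_comm]
  · refine ⟨n, ?_, ⟨e⟩⟩
    by_contra hn
    have hn0 : n = 0 := by omega
    subst hn0
    apply hSna
    -- `QuaternionGroup 1` is cyclic of order 4, hence commutative
    have hcard : Nat.card (QuaternionGroup (2 ^ 0)) = 4 := by
      rw [Nat.card_eq_fintype_card, QuaternionGroup.card]; norm_num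
    have hcardS : Nat.card ↥(S : Subgroup H) = 2 ^ 2 := by
      rw [Nat.card_congr e.toEquiv, hcard]; norm_num
    exact IsPGroup.isMulCommutative_of_card_eq_prime_sq (p := 2) hcardS

end

end Cfsg.Agent.Lib.Helper52
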