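import Mathlib

set_option autoImplicit false

namespace Cfsg.Agent.Lib.Helper52

open Matrix Polynomial

variable {F : Type*} [Field F] [Fintype F]

theorem two_eq_zero_of_card_four (hF : Fintype.card F = 4) : (2 : F) = 0 := by
  have h4 : ((Fintype.card F : ℕ) : F) = 0 := Nat.cast_card_eq_zero F
  rw [hF] at h4
  have : (2 : F) * 2 = 0 := by
    have : ((4 : ℕ) : F) = 2 * 2 := by norm_num
    rw [← this]
    exact h4
  exact mul_self_eq_zero.mp this

theorem cube_eq_one_of_card_four (hF : Fintype.card F = 4) {a : F} (ha : a ≠ 0) : a ^ 3 = 1 := by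
  have := FiniteField.pow_card_sub_one_eq_one a ha
  rwa [hF] at this

/-- Cayley–Hamilton for a `3 × 3` matrix, written out. -/
theorem cayley_hamilton_three (x : Matrix (Fin 3) (Fin 3) F) :
    ∃ a₁ a₂ : F, x ^ 3 + a₂ • x ^ 2 + a₁ • x + (-x.det) • (1 : Matrix (Fin 3) (Fin 3) F) = 0 ∧
      ∀ t : F, (Matrix.scalar (Fin 3) t - x).det = t ^ 3 + a₂ * t ^ 2 + a₁ * t + (-x.det) := by
  have hdeg : x.charpoly.natDegree = 3 := by
    rw [Matrix.charpoly_natDegree_eq_dim]
    simp
  have hmonic : x.charpoly.coeff 3 = 1 := by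
    have := (Matrix.charpoly_monic x).coeff_natDegree
    rwa [hdeg] at this
  have h0 : x.charpoly.coeff 0 = -x.det := by
    have := Matrix.det_eq_sign_charpoly_coeff x
    simp at this
    rw [this]
    ring
  refine ⟨x.charpoly.coeff 1, x.charpoly.coeff 2, ?_, ?_⟩
  · have hCH := Matrix.aeval_self_charpoly x
    rw [Polynomial.aeval_eq_sum_range, hdeg] at hCH
    simp only [Finset.sum_range_succ, Finset.sum_range_zero, zero_add, pow_zero, pow_one] at hCH
    rw [hmonic, h0, one_smul] at hCH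
    rw [← hCH]
    abel
  · intro t
    rw [← Matrix.eval_charpoly, Polynomial.eval_eq_sum_range, hdeg]
    simp only [Finset.sum_range_succ, Finset.sum_range_zero, zero_add, pow_zero, pow_one]
    rw [hmonic, h0]
    ring

omit [Fintype F] in
theorem nonscalar_smul_eq {x : Matrix (Fin 3) (Fin 3) F} (hns : ∀ a : F, x ≠ a • 1) {a b : F}
    (h : a • x = b • (1 : Matrix (Fin 3) (Fin 3) F)) : a = 0 ∧ b = 0 := by
  have ha : a = 0 := by
    by_contra ha
    apply hns (a⁻¹ * b)
    calc x = a⁻¹ • (a • x) := by rw [smul_smul, inv_mul_cancel₀ ha, one_smul]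
      _ = (a⁻¹ * b) • 1 := by rw [h, smul_smul]
  refine ⟨ha, ?_⟩
  rw [ha, zero_smul] at h
  have := congrFun (congrFun h 0) 0
  simpa using this.symm

/-- The key computation: a non-scalar matrix of determinant one over the field with four elements
whose cube is scalar has cube one and every cube root of unity as an eigenvalue. -/
theorem cube_scalar_nonscalar (hF : Fintype.card F = 4) (x : Matrix (Fin 3) (Fin 3) F)
    (hdet : x.det = 1) (c : F) (hc : x ^ 3 = c • (1 : Matrix (Fin 3) (Fin 3) F))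
    (hns : ∀ a : F, x ≠ a • 1) :
    c = 1 ∧ ∀ t : F, t ^ 3 = 1 → (Matrix.scalar (Fin 3) t - x).det = 0 := by
  have h2 : (2 : F) = 0 := two_eq_zero_of_card_four hF
  have hneg : (-1 : F) = 1 := by
    have : (1 : F) + 1 = 0 := by rw [one_add_one_eq_two]; exact h2
    exact neg_eq_of_add_eq_zero_left this
  obtain ⟨a₁, a₂, hCH, hev⟩ := cayley_hamilton_three x
  rw [hdet, hc] at hCH
  have hc0 : c ≠ 0 := by
    rintro rfl
    have := congrArg Matrix.det hc
    rw [Matrix.det_pow, hdet] at this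
    simp at this
  by_cases ha₂ : a₂ = 0
  · subst ha₂
    have h1 : a₁ • x = (1 - c) • (1 : Matrix (Fin 3) (Fin 3) F) := by
      have : a₁ • x = -(c • (1 : Matrix (Fin 3) (Fin 3) F) + (-1 : F) • 1) := by
        rw [eq_neg_iff_add_eq_zero, ← hCH]
        simp
        abel
      rw [this, sub_smul]
      simp
      abel
    obtain ⟨ha₁, hc1⟩ := nonscalar_smul_eq hns h1
    have hc1' : c = 1 := (sub_eq_zero.mp hc1).symm
    refine ⟨hc1', ?_⟩
    intro t ht
    rw [hev, hdet, ha₁, ht]
    ring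
  · exfalso
    set α : F := -a₁ / a₂ with hα
    set β : F := (1 - c) / a₂ with hβ
    have hsq : x ^ 2 = α • x + β • (1 : Matrix (Fin 3) (Fin 3) F) := by
      have h1 : a₂ • x ^ 2 = (-a₁) • x + (1 - c) • (1 : Matrix (Fin 3) (Fin 3) F) := by
        rw [eq_comm, ← sub_eq_zero, ← neg_eq_zero, ← hCH, sub_smul, neg_smul, neg_smul]
        simp
        abel
      calc x ^ 2 = a₂⁻¹ • (a₂ • x ^ 2) := by rw [smul_smul, inv_mul_cancel₀ ha₂, one_smul]
        _ = α • x + β • 1 := by
          rw [h1, smul_add, smul_smul, smul_smul, hα, hβ]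
          congr 2 <;> field_simp
    have hcube : x ^ 3 = (α ^ 2 + β) • x + (α * β) • (1 : Matrix (Fin 3) (Fin 3) F) := by
      calc x ^ 3 = x * x ^ 2 := by rw [pow_succ']
        _ = α • (x ^ 2) + β • x := by
          rw [hsq, mul_add, Matrix.mul_smul, Matrix.mul_smul, Matrix.mul_one, ← pow_two, hsq]
        _ = (α ^ 2 + β) • x + (α * β) • 1 := by
          rw [hsq, smul_add, smul_smul, smul_smul, add_smul, pow_two]
          abel
    rw [hc] at hcube
    have h3 : (α ^ 2 + β) • x = (c - α * β) • (1 : Matrix (Fin 3) (Fin 3) F) := by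
      rw [sub_smul, hcube]
      abel
    obtain ⟨h4, h5⟩ := nonscalar_smul_eq hns h3
    have hβ' : β = -α ^ 2 := eq_neg_of_add_eq_zero_right h4
    have hcα : c = -α ^ 3 := by
      have : c = α * β := sub_eq_zero.mp h5
      rw [this, hβ']
      ring
    have hα0 : α ≠ 0 := by
      rintro h0
      rw [h0] at hcα
      simp at hcα
      exact hc0 hcα
    have hα3 := cube_eq_one_of_card_four hF hα0
    have hc1 : c = 1 := by rw [hcα, hα3, hneg]
    have hβ0 : β = 0 := by rw [hβ, hc1]; simp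
    rw [hβ0] at hβ'
    have : α ^ 2 = 0 := by
      have := neg_eq_zero.mp hβ'.symm
      exact this
    exact hα0 (pow_eq_zero_iff (by norm_num) |>.mp this)

theorem exists_conj_diag (hF : Fintype.card F = 4) (ω : F) (hω1 : ω ≠ 1) (hω3 : ω ^ 3 = 1)
    (x : Matrix (Fin 3) (Fin 3) F) (hdet : x.det = 1) (c : F)
    (hc : x ^ 3 = c • (1 : Matrix (Fin 3) (Fin 3) F)) (hns : ∀ a : F, x ≠ a • 1) :
    ∃ g : Matrix (Fin 3) (Fin 3) F, g.det = 1 ∧ x * g = g * Matrix.diagonal ![1, ω, ω ^ 2] := by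
  obtain ⟨-, hev⟩ := cube_scalar_nonscalar hF x hdet c hc hns
  have hω0 : ω ≠ 0 := by
    rintro rfl
    simp at hω3
  have hω2 : ω ^ 2 ≠ 1 := by
    intro h
    apply hω1
    calc ω = ω ^ 3 * (ω ^ 2)⁻¹ := by field_simp
      _ = 1 := by rw [hω3, h]; simp
  have hω12 : ω ≠ ω ^ 2 := by
    intro h
    apply hω1
    have : ω * 1 = ω * ω := by rw [mul_one, ← pow_two]; exact h
    exact (mul_left_cancel₀ hω0 this).symm
  let μ : Fin 3 → F := ![1, ω, ω ^ 2]
  have hμ3 : ∀ i, μ i ^ 3 = 1 := by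
    intro i
    fin_cases i
    · simp [μ]
    · simpa [μ] using hω3
    · simp only [μ]
      show (ω ^ 2) ^ 3 = 1
      rw [← pow_mul, mul_comm, pow_mul, hω3, one_pow]
  have h01 : μ 0 ≠ μ 1 := fun h => hω1 h.symm
  have h02 : μ 0 ≠ μ 2 := fun h => hω2 h.symm
  have h12 : μ 1 ≠ μ 2 := hω12
  have hμinj : Function.Injective μ := by
    intro i j hij
    fin_cases i <;> fin_cases j <;>
      first
        | rfl
        | exact absurd hij h01
        | exact absurd hij.symm h01
        | exact absurd hij h02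
        | exact absurd hij.symm h02
        | exact absurd hij h12
        | exact absurd hij.symm h12
  have hex : ∀ i, ∃ v : Fin 3 → F, v ≠ 0 ∧ x *ᵥ v = μ i • v := by
    intro i
    obtain ⟨v, hv0, hv⟩ := Matrix.exists_mulVec_eq_zero_iff.mpr (hev (μ i) (hμ3 i))
    refine ⟨v, hv0, ?_⟩
    rw [Matrix.sub_mulVec, sub_eq_zero] at hv
    rw [← hv]
    ext k
    simp [Matrix.mulVec, dotProduct, Matrix.scalar_apply, Matrix.diagonal_apply]
  choose v hv0 hv using hex
  have hli : LinearIndependent F v := by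
    apply Module.End.eigenvectors_linearIndependent' (Matrix.toLin' x) μ hμinj v
    intro i
    rw [Module.End.hasEigenvector_iff, Module.End.mem_eigenspace_iff, Matrix.toLin'_apply]
    exact ⟨hv i, hv0 i⟩
  let A : Matrix (Fin 3) (Fin 3) F := Matrix.of v
  have hAunit : IsUnit A := Matrix.linearIndependent_rows_iff_isUnit.mp hli
  have hAdet : A.det ≠ 0 := by
    have := (Matrix.isUnit_iff_isUnit_det A).mp hAunit
    exact this.ne_zero
  have hxA : x * Aᵀ = Aᵀ * Matrix.diagonal μ := by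
    ext i j
    rw [Matrix.mul_diagonal]
    have := congrFun (hv j) i
    simp only [Matrix.mulVec, dotProduct, Pi.smul_apply, smul_eq_mul] at this
    simp only [Matrix.mul_apply, Matrix.transpose_apply, A, Matrix.of_apply]
    rw [this, mul_comm]
  let E : Matrix (Fin 3) (Fin 3) F := Matrix.diagonal ![(A.det)⁻¹, 1, 1]
  refine ⟨Aᵀ * E, ?_, ?_⟩
  · rw [Matrix.det_mul, Matrix.det_transpose, Matrix.det_diagonal]
    simp [Fin.prod_univ_three, hAdet]
  · have hcomm : Matrix.diagonal μ * E = E * Matrix.diagonal μ := by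
      simp only [E, Matrix.diagonal_mul_diagonal]
      congr 1
      ext i
      exact mul_comm _ _
    rw [← Matrix.mul_assoc, hxA, Matrix.mul_assoc, hcomm, ← Matrix.mul_assoc]

/-- The diagonal element `diag(1, ω, ω²)` of `SL₃(F)`. -/
def diagOmega (ω : F) (hω3 : ω ^ 3 = 1) : Matrix.SpecialLinearGroup (Fin 3) F :=
  ⟨Matrix.diagonal ![1, ω, ω ^ 2], by
    rw [Matrix.det_diagonal]
    simp only [Fin.prod_univ_three, Matrix.cons_val_zero, Matrix.cons_val_one, Matrix.cons_val]
    rw [one_mul, ← pow_succ']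
    exact hω3⟩

theorem sl_exists_conj_diag (hF : Fintype.card F = 4) (ω : F) (hω1 : ω ≠ 1) (hω3 : ω ^ 3 = 1)
    (x : Matrix.SpecialLinearGroup (Fin 3) F)
    (hx : x ∉ Subgroup.center (Matrix.SpecialLinearGroup (Fin 3) F))
    (hx3 : x ^ 3 ∈ Subgroup.center (Matrix.SpecialLinearGroup (Fin 3) F)) :
    ∃ g : Matrix.SpecialLinearGroup (Fin 3) F, g⁻¹ * x * g = diagOmega ω hω3 := by
  rw [Matrix.SpecialLinearGroup.mem_center_iff] at hx3
  obtain ⟨c, -, hc⟩ := hx3
  have hc' : (x : Matrix (Fin 3) (Fin 3) F) ^ 3 = c • (1 : Matrix (Fin 3) (Fin 3) F) := by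
    rw [← Matrix.SpecialLinearGroup.coe_pow, ← hc]
    ext i j
    simp [Matrix.scalar_apply, Matrix.diagonal_apply, Matrix.one_apply]
  have hns : ∀ a : F, (x : Matrix (Fin 3) (Fin 3) F) ≠ a • 1 := by
    intro a ha
    apply hx
    rw [Matrix.SpecialLinearGroup.mem_center_iff]
    refine ⟨a, ?_, ?_⟩
    · have hd := x.det_coe
      rw [ha, Matrix.det_smul, Matrix.det_one, mul_one] at hd
      simpa using hd
    · rw [ha]
      ext i j
      simp [Matrix.scalar_apply, Matrix.diagonal_apply, Matrix.one_apply]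
  obtain ⟨g, hg, hxg⟩ := exists_conj_diag hF ω hω1 hω3 _ x.det_coe c hc' hns
  let g' : Matrix.SpecialLinearGroup (Fin 3) F := ⟨g, hg⟩
  refine ⟨g', ?_⟩
  have h1 : x * g' = g' * diagOmega ω hω3 := Subtype.ext hxg
  calc g'⁻¹ * x * g' = g'⁻¹ * (x * g') := by rw [mul_assoc]
    _ = diagOmega ω hω3 := by rw [h1, inv_mul_cancel_left]

end Cfsg.Agent.Lib.Helper52
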