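import Mathlib
import Cfsg.Agent.Lib.Helper73.SPCDefs

/-!
# K-SPC-B2 (keystone 267607, S2676 pack of helper73): the orbit count of `AltSkew` is invariant
under conjugation of the nilpotent matrix.
-/

set_option autoImplicit false
set_option linter.unusedVariables false
set_option linter.unusedSectionVars false

namespace Cfsg.Agent.Lib.Helper52.SPC

open Matrix Cfsg.Agent.Lib.Helper73.UC Cfsg.Agent.Lib.Helper73.SPC

variable {F : Type*} [Field F]

section aux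

variable {ι : Type*} [Fintype ι] [DecidableEq ι]

theorem conj_mem_altSkew {N N' g : Matrix ι ι F} (hg : IsUnit g.det) (h : g * N = N' * g)
    {B : Matrix ι ι F} (hB : B ∈ AltSkew N') : gᵀ * B * g ∈ AltSkew N := by
  obtain ⟨h1, h2, h3⟩ := hB
  refine ⟨?_, ?_, ?_⟩
  · rw [Matrix.transpose_mul, Matrix.transpose_mul, Matrix.transpose_transpose, h1]
    simp only [Matrix.mul_neg, Matrix.neg_mul, mul_assoc]
  · rw [Matrix.det_mul, Matrix.det_mul, Matrix.det_transpose]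
    exact (hg.mul h2).mul hg
  · calc Nᵀ * (gᵀ * B * g) = (g * N)ᵀ * B * g := by
          rw [Matrix.transpose_mul]; simp only [mul_assoc]
      _ = (N' * g)ᵀ * B * g := by rw [h]
      _ = gᵀ * (N'ᵀ * B) * g := by rw [Matrix.transpose_mul]; simp only [mul_assoc]
      _ = gᵀ * (-(B * N')) * g := by rw [h3]
      _ = -(gᵀ * B * (N' * g)) := by simp only [Matrix.mul_neg, Matrix.neg_mul, mul_assoc]
      _ = -(gᵀ * B * (g * N)) := by rw [h]
      _ = -(gᵀ * B * g * N) := by simp only [mul_assoc]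

theorem inv_comm_of_comm {N N' g : Matrix ι ι F} (hg : IsUnit g.det) (h : g * N = N' * g) :
    g⁻¹ * N' = N * g⁻¹ := by
  have h1 : g * g⁻¹ = 1 := Matrix.mul_nonsing_inv g hg
  have h2 : g⁻¹ * g = 1 := Matrix.nonsing_inv_mul g hg
  calc g⁻¹ * N' = g⁻¹ * (N' * g) * g⁻¹ := by rw [mul_assoc, mul_assoc, h1, mul_one]
    _ = g⁻¹ * (g * N) * g⁻¹ := by rw [h]
    _ = N * g⁻¹ := by rw [← mul_assoc, h2, one_mul]

theorem congRel_conj {N N' g : Matrix ι ι F} (hg : IsUnit g.det) (h : g * N = N' * g)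
    {B1 B2 : Matrix ι ι F} (hr : CongRel N' B1 B2) :
    CongRel N (gᵀ * B1 * g) (gᵀ * B2 * g) := by
  obtain ⟨x, hx, hxN, hxB⟩ := hr
  have h1 : g * g⁻¹ = 1 := Matrix.mul_nonsing_inv g hg
  have h2 : g⁻¹ * g = 1 := Matrix.nonsing_inv_mul g hg
  have h3 : g⁻¹ * N' = N * g⁻¹ := inv_comm_of_comm hg h
  have h4 : (g⁻¹)ᵀ * gᵀ = 1 := by rw [← Matrix.transpose_mul, h1, Matrix.transpose_one]
  refine ⟨g⁻¹ * x * g, ?_, ?_, ?_⟩
  · rw [Matrix.det_mul, Matrix.det_mul]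
    exact ((Matrix.isUnit_nonsing_inv_det_iff.mpr hg).mul hx).mul hg
  · calc g⁻¹ * x * g * N = g⁻¹ * x * (g * N) := by simp only [mul_assoc]
      _ = g⁻¹ * x * (N' * g) := by rw [h]
      _ = g⁻¹ * (x * N') * g := by simp only [mul_assoc]
      _ = g⁻¹ * (N' * x) * g := by rw [hxN]
      _ = (g⁻¹ * N') * x * g := by simp only [mul_assoc]
      _ = (N * g⁻¹) * x * g := by rw [h3]
      _ = N * (g⁻¹ * x * g) := by simp only [mul_assoc]
  · calc (g⁻¹ * x * g)ᵀ * (gᵀ * B1 * g) * (g⁻¹ * x * g)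
        = gᵀ * xᵀ * ((g⁻¹)ᵀ * gᵀ) * B1 * (g * g⁻¹) * x * g := by
          simp only [Matrix.transpose_mul, mul_assoc]
      _ = gᵀ * (xᵀ * B1 * x) * g := by
          rw [h4, h1]; simp only [mul_one, mul_assoc]
      _ = gᵀ * B2 * g := by rw [hxB]

theorem conj_conj_inv {g : Matrix ι ι F} (hg : IsUnit g.det) (B : Matrix ι ι F) :
    (g⁻¹)ᵀ * (gᵀ * B * g) * g⁻¹ = B := by
  have h1 : g * g⁻¹ = 1 := Matrix.mul_nonsing_inv g hg
  have h4 : (g⁻¹)ᵀ * gᵀ = 1 := by rw [← Matrix.transpose_mul, h1, Matrix.transpose_one]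
  calc (g⁻¹)ᵀ * (gᵀ * B * g) * g⁻¹ = ((g⁻¹)ᵀ * gᵀ) * B * (g * g⁻¹) := by
        simp only [mul_assoc]
    _ = B := by rw [h4, h1, one_mul, mul_one]

theorem conj_inv_conj {g : Matrix ι ι F} (hg : IsUnit g.det) (B : Matrix ι ι F) :
    gᵀ * ((g⁻¹)ᵀ * B * g⁻¹) * g = B := by
  have h2 : g⁻¹ * g = 1 := Matrix.nonsing_inv_mul g hg
  have h4 : gᵀ * (g⁻¹)ᵀ = 1 := by rw [← Matrix.transpose_mul, h2, Matrix.transpose_one]
  calc gᵀ * ((g⁻¹)ᵀ * B * g⁻¹) * g = (gᵀ * (g⁻¹)ᵀ) * B * (g⁻¹ * g) := by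
        simp only [mul_assoc]
    _ = B := by rw [h4, h2, one_mul, mul_one]

/-- the bijection `B ↦ gᵀ B g` from `AltSkew N'` onto `AltSkew N` -/
noncomputable def altSkewEquiv {N N' g : Matrix ι ι F} (hg : IsUnit g.det) (h : g * N = N' * g) :
    ↥(AltSkew N') ≃ ↥(AltSkew N) where
  toFun B := ⟨gᵀ * B.1 * g, conj_mem_altSkew hg h B.2⟩
  invFun B := ⟨(g⁻¹)ᵀ * B.1 * g⁻¹,
    conj_mem_altSkew (Matrix.isUnit_nonsing_inv_det_iff.mpr hg) (inv_comm_of_comm hg h) B.2⟩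
  left_inv B := Subtype.ext (conj_conj_inv hg B.1)
  right_inv B := Subtype.ext (conj_inv_conj hg B.1)

end aux

/-- LEAF B2 (twin of K-UC K7). -/
theorem orbCount_altSkew_of_conj {ι : Type*} [Fintype ι] [DecidableEq ι] (N N' g : Matrix ι ι F)
    (hg : IsUnit g.det) (h : g * N = N' * g) :
    orbCount N' (AltSkew N') = orbCount N (AltSkew N) := by
  unfold orbCount
  apply Nat.card_congr
  refine Quotient.congr (altSkewEquiv hg h) ?_
  intro a b
  show CongRel N' a.1 b.1 ↔ CongRel N (gᵀ * a.1 * g) (gᵀ * b.1 * g)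
  constructor
  · exact congRel_conj hg h
  · intro hr
    have := congRel_conj (Matrix.isUnit_nonsing_inv_det_iff.mpr hg) (inv_comm_of_comm hg h) hr
    rwa [conj_conj_inv hg, conj_conj_inv hg] at this

end Cfsg.Agent.Lib.Helper52.SPC
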