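import Mathlib

/-!
# K-SPC-C10 (keystone 267619, S2676 pack of helper73; parallel hand): polynomial square roots of
unipotent matrices in characteristic `≠ 2`.
-/

set_option autoImplicit false
set_option linter.unusedVariables false
set_option linter.unusedSectionVars false

namespace Cfsg.Agent.Lib.Helper52.SPC

open Polynomial

variable {F : Type*} [Field F]

/-- a polynomial square root of `1 + X` modulo `X ^ (s + 1)` -/
theorem exists_sqrt_one_add_X (h2 : (2 : F) ≠ 0) (s : ℕ) :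
    ∃ Q T U : F[X], Q * Q = 1 + X + X ^ (s + 1) * T ∧ Q = 1 + X * U := by
  induction s with
  | zero =>
    refine ⟨1, -1, 0, ?_, ?_⟩
    · ring
    · ring
  | succ s ih =>
    obtain ⟨Q, T, U, hQ, hU⟩ := ih
    obtain ⟨a, ha⟩ : ∃ a : F[X], 2 * a = 1 := by
      refine ⟨C (2⁻¹ : F), ?_⟩
      have : (2 : F[X]) = C (2 : F) := (map_ofNat C 2).symm
      rw [this, ← C_mul, mul_inv_cancel₀ h2, C_1]
    refine ⟨Q - a * X ^ (s + 1) * T, -(T * U) + a ^ 2 * X ^ s * T ^ 2, U - a * X ^ s * T, ?_, ?_⟩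
    · rw [hU] at hQ ⊢
      linear_combination hQ - (X ^ (s + 1) * T * (1 + X * U)) * ha
    · rw [hU]
      ring

/-- LEAF C10 (square roots of unipotents, char ≠ 2). -/
theorem exists_poly_sqrt {ι : Type*} [Fintype ι] [DecidableEq ι] (h2 : (2 : F) ≠ 0)
    (h : Matrix ι ι F) (hn : IsNilpotent (h - 1)) :
    ∃ P : Polynomial F, Polynomial.aeval h P * Polynomial.aeval h P = h := by
  obtain ⟨k, hk⟩ := hn
  obtain ⟨Q, T, U, hQ, -⟩ := exists_sqrt_one_add_X h2 k
  refine ⟨Q.comp (X - C 1), ?_⟩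
  have h1 : aeval h (X - C (1 : F)) = h - 1 := by
    rw [map_sub, aeval_X, aeval_C, map_one]
  rw [aeval_comp, h1, ← map_mul, hQ]
  simp only [map_add, map_mul, map_pow, map_one, aeval_X]
  rw [pow_succ, hk, zero_mul, zero_mul, add_zero]
  abel

end Cfsg.Agent.Lib.Helper52.SPC
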