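import Mathlib
import Cfsg.Agent.Lib.Helper52.JExist8
import Cfsg.Agent.Lib.Helper02.ThompsonJ
import Cfsg.Agent.Lib.Helper59.BenderBasic

/-!
# Maximal straddling `2`-subgroups: the basic consequences of maximality
-/

set_option autoImplicit false
set_option linter.unusedSectionVars false
set_option linter.unusedVariables false
set_option linter.style.haveILetI false

namespace Cfsg.Agent.Lib.Helper52

open Cfsg Subgroup JComp
open scoped commutatorElement
open Cfsg.Agent.Lib.Helper15 (maxElemIn)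

section Straddle1

variable {G : Type*} [Group G] [Finite G]

/-- the order of a largest elementary abelian subgroup, via `maxElemIn` -/
theorem maxElemAbelianOrder_eq {T A : Subgroup G} (hA : A ∈ maxElemIn 2 T) :
    Cfsg.maxElemAbelianOrder T = Nat.card A := by
  unfold Cfsg.maxElemAbelianOrder
  have hA' := Cfsg.Agent.Lib.Helper15.subgroupOf_mem_maxElem hA
  have hcard : Nat.card (A.subgroupOf T) = Nat.card A :=
    Cfsg.Agent.Lib.Helper15.card_subgroupOf_of_le hA.1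
  have hset : (fun A' : Subgroup ↥T => Nat.card ↥A') ''
      Cfsg.maxElementaryAbelianSubgroups 2 ↥T = {Nat.card A} := by
    ext n
    constructor
    · rintro ⟨B', hB', rfl⟩
      rw [Set.mem_singleton_iff, ← hcard]
      exact le_antisymm (hA'.2 B' hB'.1) (hB'.2 _ hA'.1)
    · intro hn
      rw [Set.mem_singleton_iff] at hn
      refine ⟨A.subgroupOf T, hA', ?_⟩
      show Nat.card (A.subgroupOf T) = n
      rw [hn, hcard]
  rw [hset, csSup_singleton]

/-- **maximality**: a straddling subgroup containing `J(T)` has the same Thompson subgroup and at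
most the order of `T` -/
theorem straddle_max_of_J_le {M T T₁ : Subgroup G} (hT : T ∈ maxStraddlingTwoSubgroups M)
    (hT₁ : T₁ ∈ straddlingTwoSubgroups M) (hJ : thompsonSubgroupOf 2 T ≤ T₁) :
    thompsonSubgroupOf 2 T₁ = thompsonSubgroupOf 2 T ∧ Nat.card T₁ ≤ Nat.card T := by
  obtain ⟨A, hA⟩ := Cfsg.Agent.Lib.Helper15.maxElemIn_nonempty 2 T
  obtain ⟨A₁, hA₁⟩ := Cfsg.Agent.Lib.Helper15.maxElemIn_nonempty 2 T₁
  have hAJ : ∀ B ∈ maxElemIn 2 T, B ≤ thompsonSubgroupOf 2 T := by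
    intro B hB
    rw [Cfsg.Agent.Lib.Helper15.thompsonSubgroupOf_eq]
    exact le_sSup hB
  have h1 : Nat.card A ≤ Nat.card A₁ := hA₁.2.2 A ((hAJ A hA).trans hJ) hA.2.1
  obtain ⟨h2, h3⟩ := hT.2 T₁ hT₁
  rw [maxElemAbelianOrder_eq hA, maxElemAbelianOrder_eq hA₁] at h2 h3
  have h4 : Nat.card A₁ = Nat.card A := le_antisymm h2 h1
  obtain ⟨h5, h6⟩ := h3 h4
  have hle : thompsonSubgroupOf 2 T ≤ thompsonSubgroupOf 2 T₁ := by
    conv_lhs => rw [Cfsg.Agent.Lib.Helper15.thompsonSubgroupOf_eq]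
    apply sSup_le
    intro B hB
    have hB₁ : B ∈ maxElemIn 2 T₁ := by
      apply mem_maxElemIn_of_card_ge hA₁ ((hAJ B hB).trans hJ) hB.2.1
      rw [h4]
      exact hB.2.2 A hA.1 hA.2.1
    rw [Cfsg.Agent.Lib.Helper15.thompsonSubgroupOf_eq]
    exact le_sSup hB₁
  have heq : thompsonSubgroupOf 2 T = thompsonSubgroupOf 2 T₁ :=
    Subgroup.eq_of_le_of_card_ge hle h5
  exact ⟨heq.symm, h6 (by rw [heq])⟩

/-- a straddling subgroup containing `T` is `T` -/
theorem straddle_eq_of_le {M T T₁ : Subgroup G} (hT : T ∈ maxStraddlingTwoSubgroups M)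
    (hT₁ : T₁ ∈ straddlingTwoSubgroups M) (hle : T ≤ T₁) : T₁ = T := by
  have h1 := (straddle_max_of_J_le hT hT₁
    ((Cfsg.Agent.Lib.Helper15.thompsonSubgroupOf_le 2 T).trans hle)).2
  exact (Subgroup.eq_of_le_of_card_ge hle h1).symm

/-- **`N_G(J(T)) ≤ M`** -/
theorem normalizer_thompson_le (S : Sylow 2 G) {M T : Subgroup G}
    (hMJ : normalizer (thompsonSubgroupOf 2 (S : Subgroup G) : Set G) ≤ M)
    (hT : T ∈ maxStraddlingTwoSubgroups M) :
    normalizer (thompsonSubgroupOf 2 T : Set G) ≤ M := by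
  haveI : Fact (Nat.Prime 2) := ⟨Nat.prime_two⟩
  by_contra hN
  obtain ⟨hT2, hT1, hTM, -⟩ := hT.1
  have hJT : thompsonSubgroupOf 2 T ≤ T := Cfsg.Agent.Lib.Helper15.thompsonSubgroupOf_le 2 T
  have hJ2 : IsPGroup 2 ↥(thompsonSubgroupOf 2 T) := hT2.to_le hJT
  have hJ1 : thompsonSubgroupOf 2 T ≠ ⊥ := Cfsg.Agent.Lib.Helper02.thompsonOf_ne_bot hT2 hT1
  have hNloc : IsTwoLocal (normalizer (thompsonSubgroupOf 2 T : Set G)) :=
    ⟨thompsonSubgroupOf 2 T, hJ2, hJ1, rfl⟩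
  have hSM : (S : Subgroup G) ≤ M :=
    (le_normalizer.trans
      (Cfsg.Agent.Lib.Helper15.normalizer_le_normalizer_thompsonSubgroupOf 2 _)).trans hMJ
  have hSsyl : IsSylowTwoIn (S : Subgroup G) M := by
    refine ⟨hSM, S.2, ?_⟩
    rw [← Nat.not_even_iff_odd, even_iff_two_dvd]
    intro h2
    exact S.not_dvd_index (h2.trans (Subgroup.relIndex_dvd_index_of_le hSM))
  obtain ⟨S', hTS', hS'⟩ := exists_isSylowTwoIn_ge hT2 hTM
  by_cases hTS : T = S'
  · obtain ⟨m, hm, hS'eq⟩ := exists_conj_of_isSylowTwoIn hSsyl hS'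
    apply hN
    rw [hTS, hS'eq, ← Cfsg.Agent.Lib.Helper15.thompsonSubgroupOf_map 2 (MulAut.conj m),
      ← Subgroup.map_equiv_normalizer_eq]
    rintro _ ⟨n, hn, rfl⟩
    simp only [MulEquiv.coe_toMonoidHom, MulAut.conj_apply]
    exact M.mul_mem (M.mul_mem hm (hMJ hn)) (M.inv_mem hm)
  · have hS'2 : IsPGroup 2 ↥S' := hS'.2.1
    obtain ⟨x, hxS', hxN, hxT⟩ :=
      Cfsg.Agent.Lib.Helper59.exists_mem_normalizer_not_mem_of_nilpotent hS'2.isNilpotent hTS' hTS
    obtain ⟨T₁, hT₁⟩ : ∃ T₁ : Subgroup G, T₁ = S' ⊓ normalizer (T : Set G) := ⟨_, rfl⟩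
    have hTT₁ : T ≤ T₁ := hT₁ ▸ le_inf hTS' le_normalizer
    have hT₁str : T₁ ∈ straddlingTwoSubgroups M := by
      refine ⟨hS'2.to_le (hT₁ ▸ inf_le_left), ?_, (hT₁ ▸ inf_le_left : T₁ ≤ S').trans hS'.1,
        normalizer (thompsonSubgroupOf 2 T : Set G), hNloc, ?_, hN⟩
      · intro e
        apply hT1
        rw [eq_bot_iff, ← e]
        exact hTT₁
      · exact (hT₁ ▸ inf_le_right : T₁ ≤ normalizer (T : Set G)).trans
          (Cfsg.Agent.Lib.Helper15.normalizer_le_normalizer_thompsonSubgroupOf 2 T)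
    have := straddle_eq_of_le hT hT₁str hTT₁
    apply hxT
    rw [← this, hT₁]
    exact mem_inf.mpr ⟨hxS', hxN⟩

end Straddle1

end Cfsg.Agent.Lib.Helper52
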