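import Mathlib
import Cfsg.Agent.Lib.Helper52.Straddle1

/-!
# Maximal straddling `2`-subgroups: `2`-local overgroups of `J(T)`
-/

set_option autoImplicit false
set_option linter.unusedSectionVars false
set_option linter.unusedVariables false
set_option linter.style.haveILetI false

namespace Cfsg.Agent.Lib.Helper52

open Cfsg Subgroup JComp
open scoped commutatorElement
open Cfsg.Agent.Lib.Helper15 (maxElemIn)

section Straddle2

variable {G : Type*} [Group G] [Finite G]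

/-- a `2`-local subgroup `L ≰ M` with a Sylow `2`-subgroup `T₀ ≥ J(T)` -/
theorem straddle_main (hL : Cfsg.IsCharacteristicTwoType G) (S : Sylow 2 G)
    {M T L T₀ : Subgroup G}
    (hMJ : normalizer (thompsonSubgroupOf 2 (S : Subgroup G) : Set G) ≤ M)
    (hT : T ∈ maxStraddlingTwoSubgroups M) (hL2 : IsTwoLocal L) (hLM : ¬ L ≤ M)
    (hT₀ : IsSylowTwoIn T₀ L) (hJT₀ : thompsonSubgroupOf 2 T ≤ T₀) :
    thompsonSubgroupOf 2 T = thompsonSubgroupOf 2 T₀ ∧ T₀ ∈ straddlingTwoSubgroups M ∧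
      L ∈ jOvergroups T₀ := by
  haveI : Fact (Nat.Prime 2) := ⟨Nat.prime_two⟩
  have hNJ := normalizer_thompson_le S hMJ hT
  obtain ⟨hT2, hT1, hTM, -⟩ := hT.1
  have hJT : thompsonSubgroupOf 2 T ≤ T := Cfsg.Agent.Lib.Helper15.thompsonSubgroupOf_le 2 T
  have hJ1 : thompsonSubgroupOf 2 T ≠ ⊥ := Cfsg.Agent.Lib.Helper02.thompsonOf_ne_bot hT2 hT1
  have hT₀2 : IsPGroup 2 ↥T₀ := hT₀.2.1
  obtain ⟨T₁, hT₁⟩ : ∃ T₁ : Subgroup G, T₁ = T₀ ⊓ M := ⟨_, rfl⟩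
  have hT₁T₀ : T₁ ≤ T₀ := hT₁ ▸ inf_le_left
  have hJT₁ : thompsonSubgroupOf 2 T ≤ T₁ := hT₁ ▸ le_inf hJT₀ (hJT.trans hTM)
  have hT₁str : T₁ ∈ straddlingTwoSubgroups M := by
    refine ⟨hT₀2.to_le hT₁T₀, ?_, hT₁ ▸ inf_le_right, L, hL2, hT₁T₀.trans hT₀.1, hLM⟩
    intro e
    apply hJ1
    rw [eq_bot_iff, ← e]
    exact hJT₁
  obtain ⟨hJeq, -⟩ := straddle_max_of_J_le hT hT₁str hJT₁
  have hT₁eq : T₁ = T₀ := by
    by_contra hne
    obtain ⟨x, hxT₀, hxN, hxT₁⟩ :=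
      Cfsg.Agent.Lib.Helper59.exists_mem_normalizer_not_mem_of_nilpotent hT₀2.isNilpotent
        hT₁T₀ hne
    apply hxT₁
    rw [hT₁]
    refine mem_inf.mpr ⟨hxT₀, hNJ ?_⟩
    rw [← hJeq]
    exact Cfsg.Agent.Lib.Helper15.normalizer_le_normalizer_thompsonSubgroupOf 2 T₁ hxN
  rw [hT₁eq] at hJeq hT₁str
  refine ⟨hJeq.symm, hT₁str, hT₀, ?_, ?_⟩
  · intro hle
    apply hLM
    have hPT₀ : pCoreOf 2 L ≤ T₀ :=
      pCoreOf_le_of_coprime_relIndex L T₀ (Nat.coprime_two_right.mpr hT₀.2.2)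
    have h1 : thompsonSubgroupOf 2 (pCoreOf 2 L) = thompsonSubgroupOf 2 T₀ :=
      Cfsg.Agent.Lib.Helper15.thompsonSubgroupOf_eq_of_le 2 hPT₀ hle
    have h2 : L ≤ normalizer (thompsonSubgroupOf 2 (pCoreOf 2 L) : Set G) :=
      (Cfsg.Agent.Lib.Helper54.le_normalizer_pCoreOf 2 L).trans
        (Cfsg.Agent.Lib.Helper15.normalizer_le_normalizer_thompsonSubgroupOf 2 _)
    rw [h1, hJeq] at h2
    exact h2.trans hNJ
  · obtain ⟨D, hD2, hD1, hLD⟩ := hL2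
    subst hLD
    have hchar := hL.2 D hD2 hD1
    have hDQ : D ≤ pCoreOf 2 (normalizer (D : Set G)) :=
      Cfsg.Agent.Lib.Helper54.le_pCoreOf le_normalizer le_rfl hD2
    have h1 : centralizer (pCoreOf 2 (normalizer (D : Set G)) : Set G) ≤
        normalizer (D : Set G) :=
      (centralizer_le (by exact_mod_cast hDQ)).trans (centralizer_le_normalizer _)
    have h2 := Cfsg.Agent.Lib.Helper54.inf_centralizer_pCoreOf_le (p := 2)
      (L := normalizer (D : Set G)) hchar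
    exact (le_inf h1 le_rfl).trans h2

/-- **S2948**, the full statement -/
theorem straddle_overgroup (hL : Cfsg.IsCharacteristicTwoType G)
    (hN : ∀ N : Subgroup G, Cfsg.IsTwoLocal N → Group.IsSolvable ↥N)
    (hZ : ∀ S : Sylow 2 G, Subgroup.centralizer (Cfsg.omegaCenterOf (S : Subgroup G) : Set G) ≤
      Subgroup.normalizer ((S : Subgroup G) : Set G))
    (S : Sylow 2 G) {M T L T₀ : Subgroup G}
    (hMJ : normalizer (thompsonSubgroupOf 2 (S : Subgroup G) : Set G) ≤ M)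
    (hT : T ∈ maxStraddlingTwoSubgroups M) (hL2 : IsTwoLocal L) (hLM : ¬ L ≤ M)
    (hT₀ : IsSylowTwoIn T₀ L) (hJT₀ : thompsonSubgroupOf 2 T ≤ T₀) :
    thompsonSubgroupOf 2 T = thompsonSubgroupOf 2 T₀ ∧ T₀ ∈ straddlingTwoSubgroups M ∧
      L ∈ jOvergroups T₀ ∧
      (T ≤ L → L ∈ jOvergroups T ∧ ∃ K : Subgroup G, IsJComponent T K ∧ K ≤ L) := by
  have hmain := straddle_main hL S hMJ hT hL2 hLM hT₀ hJT₀
  refine ⟨hmain.1, hmain.2.1, hmain.2.2, ?_⟩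
  intro hTL
  obtain ⟨hT2, hT1, hTM, -⟩ := hT.1
  obtain ⟨T₀', hTT₀', hT₀'⟩ := exists_isSylowTwoIn_ge hT2 hTL
  have hmain' := straddle_main hL S hMJ hT hL2 hLM hT₀'
    ((Cfsg.Agent.Lib.Helper15.thompsonSubgroupOf_le 2 T).trans hTT₀')
  have heq : T₀' = T := straddle_eq_of_le hT hmain'.2.1 hTT₀'
  rw [heq] at hmain'
  refine ⟨hmain'.2.2, ?_⟩
  obtain ⟨𝒦, h𝒦, hgen⟩ := exists_jcomp hN hZ hT1 hmain'.2.2
  have hne : ∃ k, k ∈ 𝒦 := by
    by_contra hcon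
    push Not at hcon
    apply hLM
    have := hgen (L ⊓ normalizer (thompsonSubgroupOf 2 T : Set G)) le_rfl
      (fun k hk => absurd hk (hcon k))
    exact (this.trans inf_le_right).trans (normalizer_thompson_le S hMJ hT)
  obtain ⟨k, hk⟩ := hne
  exact ⟨_, (h𝒦 k hk).2.2.1, (h𝒦 k hk).2.2.2⟩

end Straddle2

end Cfsg.Agent.Lib.Helper52
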