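import Mathlib
import Cfsg.Agent.Lib.Helper52.Straddle2

/-!
# Maximal straddling `2`-subgroups: a `J(T)`-component outside `M`
-/

set_option autoImplicit false
set_option linter.unusedSectionVars false
set_option linter.unusedVariables false
set_option linter.style.haveILetI false

namespace Cfsg.Agent.Lib.Helper52

open Cfsg Subgroup JComp
open scoped commutatorElement
open Cfsg.Agent.Lib.Helper15 (maxElemIn)

section Straddle3

variable {G : Type*} [Group G] [Finite G]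

/-- **S2949**: there is a `J(T)`-component outside `M` -/
theorem straddle_outside (hL : Cfsg.IsCharacteristicTwoType G)
    (hN : ∀ N : Subgroup G, Cfsg.IsTwoLocal N → Group.IsSolvable ↥N)
    (hZ : ∀ S : Sylow 2 G, Subgroup.centralizer (Cfsg.omegaCenterOf (S : Subgroup G) : Set G) ≤
      Subgroup.normalizer ((S : Subgroup G) : Set G))
    (S : Sylow 2 G) {M T : Subgroup G}
    (hMJ : normalizer (thompsonSubgroupOf 2 (S : Subgroup G) : Set G) ≤ M)
    (hT : T ∈ maxStraddlingTwoSubgroups M) :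
    (jComponentsOutside M T).Nonempty := by
  haveI : Fact (Nat.Prime 2) := ⟨Nat.prime_two⟩
  obtain ⟨hT2, hT1, hTM, L', hL'2, hTL', hL'M⟩ := hT.1
  have hJT : thompsonSubgroupOf 2 T ≤ T := Cfsg.Agent.Lib.Helper15.thompsonSubgroupOf_le 2 T
  have hNJ := normalizer_thompson_le S hMJ hT
  obtain ⟨T₀, hTT₀, hT₀⟩ := exists_isSylowTwoIn_ge hT2 hTL'
  have hLT : L' ∈ jOvergroups T :=
    ((straddle_overgroup hL hN hZ S hMJ hT hL'2 hL'M hT₀ (hJT.trans hTT₀)).2.2.2 hTL').1
  obtain ⟨𝒦, h𝒦, hgen⟩ := exists_jcomp hN hZ hT1 hLT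
  have hex : ∃ k ∈ 𝒦, k ∉ M := by
    by_contra hcon
    push Not at hcon
    apply hL'M
    have := hgen (L' ⊓ M) (inf_le_inf_left _ hNJ)
      (fun k hk => mem_inf.mpr ⟨(h𝒦 k hk).1, hcon k hk⟩)
    exact this.trans inf_le_right
  obtain ⟨k, hk𝒦, hkM⟩ := hex
  obtain ⟨hkL, hkK, hJC, hKL⟩ := h𝒦 k hk𝒦
  obtain ⟨K, hK⟩ : ∃ K : Subgroup G, K = eK (pCoreOf 2 L') k := ⟨_, rfl⟩
  rw [← hK] at hkK hJC hKL
  have hKM : ¬ K ≤ M := fun hle => hkM (hle hkK)
  refine ⟨K, ⟨hJC, ?_⟩, hKM, ?_⟩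
  · intro S₂ hJS₂ hS₂
    have hW4 : Nat.card ↥(wOf K) = 4 := hJC.2.2.2.2.1
    have hW2 : IsPGroup 2 ↥(wOf K) := IsPGroup.of_card (n := 2) (by rw [hW4]; norm_num)
    have hW1 : wOf K ≠ ⊥ := by
      intro e
      rw [e, Subgroup.card_bot] at hW4
      omega
    have hloc : IsTwoLocal (normalizer (wOf K : Set G)) := ⟨wOf K, hW2, hW1, rfl⟩
    have hKN : K ≤ normalizer (wOf K : Set G) := le_normalizer.trans (le_normalizer_wOf K)
    have hNM : ¬ normalizer (wOf K : Set G) ≤ M := fun hle => hKM (hKN.trans hle)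
    exact (straddle_main hL S hMJ hT hloc hNM hS₂ hJS₂).1.symm
  · obtain ⟨hsyl, -, hCP⟩ := hLT
    have hP1 : pCoreOf 2 L' ≠ ⊥ := by
      intro h
      rw [h] at hCP
      apply hT1
      rw [eq_bot_iff]
      intro t _
      have : t ∈ Subgroup.centralizer ((⊥ : Subgroup G) : Set G) := by
        rw [Subgroup.mem_centralizer_iff]
        intro x hx
        rw [Subgroup.coe_bot, Set.mem_singleton_iff] at hx
        rw [hx]; simp
      exact hCP this
    have hPT : pCoreOf 2 L' ≤ T :=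
      pCoreOf_le_of_coprime_relIndex L' T (Nat.coprime_two_right.mpr hsyl.2.2)
    have hle : pCoreOf 2 L' ≤ pCoreOf 2 (K ⊔ T) := by
      apply Cfsg.Agent.Lib.Helper54.le_pCoreOf (hPT.trans le_sup_right)
      · exact (sup_le hKL hTL').trans (Cfsg.Agent.Lib.Helper54.le_normalizer_pCoreOf 2 L')
      · exact Cfsg.Agent.Lib.Helper54.isPGroup_pCoreOf 2 L'
    intro e
    apply hP1
    rw [eq_bot_iff, ← e]
    exact hle

end Straddle3

end Cfsg.Agent.Lib.Helper52
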