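import Mathlib
import Cfsg.Agent.Lib.Helper52.SubnPair1

/-!
# KS 9.3.1, part 2: the elementary "moving" argument
-/

set_option autoImplicit false

namespace Cfsg.Agent.Lib.Helper52

open Subgroup
open scoped commutatorElement
open Cfsg.Agent.Lib.Helper55 (cj mem_cj conj_mem_cj cj_one cj_mul cj_inv_cj cj_cj_inv cj_mono
  cj_eq_self_iff cj_inf cj_centralizer card_cj isPGroup_cj cj_eq_self_of_mem cj_bot cj_le_iff
  le_cj_iff cj_normalizer)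

section SubnPair2

variable {G : Type*} [Group G] [Finite G]

omit [Finite G] in
theorem cj_eq_self_of_fix {g : G} {W : Subgroup G} (h : ∀ u ∈ W, g * u * g⁻¹ = u) :
    cj g W = W := by
  apply le_antisymm
  · intro x hx
    have hm : g⁻¹ * x * g ∈ W := mem_cj.mp hx
    have := h _ hm
    have e : g * (g⁻¹ * x * g) * g⁻¹ = x := by group
    rw [e] at this
    rw [this]; exact hm
  · intro u hu
    have := conj_mem_cj (g := g) hu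
    rwa [h u hu] at this

omit [Finite G] in
/-- the map `a ↦ xax⁻¹a⁻¹` is injective on `A` when `A ∩ A^x = 1` -/
theorem comm_map_inj {A : Subgroup G} {x : G} (hdisj : cj x A ⊓ A = ⊥) {a a' : G} (ha : a ∈ A)
    (ha' : a' ∈ A) (h : (x * a * x⁻¹) * a⁻¹ = (x * a' * x⁻¹) * a'⁻¹) : a = a' := by
  have hz : x * (a'⁻¹ * a) * x⁻¹ = a'⁻¹ * a := by
    calc x * (a'⁻¹ * a) * x⁻¹ = (x * a' * x⁻¹)⁻¹ * ((x * a * x⁻¹) * a⁻¹) * a := by group
      _ = (x * a' * x⁻¹)⁻¹ * ((x * a' * x⁻¹) * a'⁻¹) * a := by rw [h]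
      _ = a'⁻¹ * a := by group
  have hzA : a'⁻¹ * a ∈ A := A.mul_mem (A.inv_mem ha') ha
  have hmem : a'⁻¹ * a ∈ cj x A ⊓ A := by
    refine Subgroup.mem_inf.mpr ⟨?_, hzA⟩
    rw [← hz]
    exact conj_mem_cj hzA
  rw [hdisj, mem_bot] at hmem
  calc a = a' * (a'⁻¹ * a) := by group
    _ = a' := by rw [hmem, mul_one]

theorem card_le_of_comm_map {A B : Subgroup G} {x : G} (hdisj : cj x A ⊓ A = ⊥)
    (hAB : ∀ a ∈ A, (x * a * x⁻¹) * a⁻¹ ∈ B) : Nat.card A ≤ Nat.card B := by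
  apply Nat.card_le_card_of_injective (fun a : A => (⟨_, hAB a a.2⟩ : B))
  intro a a' h
  have := congrArg Subtype.val h
  exact Subtype.ext (comm_map_inj hdisj a.2 a'.2 this)

theorem comm_map_surj {A B : Subgroup G} {x : G} (hdisj : cj x A ⊓ A = ⊥)
    (hAB : ∀ a ∈ A, (x * a * x⁻¹) * a⁻¹ ∈ B) (hcard : Nat.card B ≤ Nat.card A) :
    ∀ b ∈ B, ∃ a ∈ A, (x * a * x⁻¹) * a⁻¹ = b := by
  have hinj : Function.Injective (fun a : A => (⟨_, hAB a a.2⟩ : B)) := by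
    intro a a' h
    have := congrArg Subtype.val h
    exact Subtype.ext (comm_map_inj hdisj a.2 a'.2 this)
  have hbij := hinj.bijective_of_nat_card_le hcard
  intro b hb
  obtain ⟨a, ha⟩ := hbij.2 ⟨b, hb⟩
  exact ⟨a, a.2, congrArg Subtype.val ha⟩

/-- **The moving argument**: it is impossible that `E₂` moves `W₁` and `E₁` moves `W₂`. -/
theorem moving_false {V E₁ E₂ W₁ W₂ : Subgroup G}
    (hW₁V : W₁ ≤ V) (hW₂V : W₂ ≤ V)
    (a1 : ∀ e ∈ E₁, ∀ v ∈ V, (e * v * e⁻¹) * v⁻¹ ∈ W₁)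
    (a2 : ∀ x ∈ E₂, ∀ v ∈ V, (x * v * x⁻¹) * v⁻¹ ∈ W₂)
    (f1 : ∀ e ∈ E₁, (∀ w ∈ W₁, e * w * e⁻¹ = w) → e = 1)
    (c2 : ∀ u ∈ W₂, (∀ x ∈ E₂, x * u * x⁻¹ = u) → u = 1)
    (m1 : ∀ x ∈ E₂, cj x W₁ ≠ W₁ →
      cj x W₁ ⊓ W₁ = ⊥ ∧ ∀ e ∈ E₁, ∀ w ∈ cj x W₁, e * w * e⁻¹ = w)
    (m2 : ∀ y ∈ E₁, cj y W₂ ≠ W₂ →
      cj y W₂ ⊓ W₂ = ⊥ ∧ ∀ x ∈ E₂, ∀ u ∈ cj y W₂, x * u * x⁻¹ = u)
    (hx : ∃ x ∈ E₂, cj x W₁ ≠ W₁) (hy : ∃ y ∈ E₁, cj y W₂ ≠ W₂) (hc : 2 < Nat.card E₁) :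
    False := by
  obtain ⟨x, hxE, hxm⟩ := hx
  obtain ⟨y, hyE, hym⟩ := hy
  obtain ⟨hxd, hxc⟩ := m1 x hxE hxm
  obtain ⟨hyd, hyc⟩ := m2 y hyE hym
  -- cardinalities
  have hc12 : Nat.card W₁ ≤ Nat.card W₂ :=
    card_le_of_comm_map hxd (fun a ha => a2 x hxE a (hW₁V ha))
  have hc21 : Nat.card W₂ ≤ Nat.card W₁ :=
    card_le_of_comm_map hyd (fun a ha => a1 y hyE a (hW₂V ha))
  -- surjectivity for every moving element of `E₁`
  have hsurj : ∀ e ∈ E₁, cj e W₂ ≠ W₂ → ∀ b ∈ W₁, ∃ a ∈ W₂, (e * a * e⁻¹) * a⁻¹ = b := by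
    intro e he hem
    exact comm_map_surj (m2 e he hem).1 (fun a ha => a1 e he a (hW₂V ha)) hc12
  -- elements of `E₁` normalizing `W₂` centralize it
  have hcent : ∀ e ∈ E₁, cj e W₂ = W₂ → ∀ u ∈ W₂, e * u * e⁻¹ = u := by
    intro e he hen u hu
    have hye : y * e ∈ E₁ := E₁.mul_mem hyE he
    have hb : ((y * e) * u * (y * e)⁻¹) * u⁻¹ ∈ W₁ := a1 _ hye u (hW₂V hu)
    obtain ⟨u', hu', hu'e⟩ := hsurj y hyE hym _ hb
    obtain ⟨t, ht⟩ : ∃ t, t = e * u * e⁻¹ := ⟨_, rfl⟩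
    have htW : t ∈ W₂ := by
      rw [ht, ← hen]; exact conj_mem_cj hu
    have e1 : (y * u' * y⁻¹) * u'⁻¹ = (y * t * y⁻¹) * u⁻¹ := by
      rw [hu'e, ht]; group
    have hz : y * (t⁻¹ * u') * y⁻¹ = u⁻¹ * u' := by
      calc y * (t⁻¹ * u') * y⁻¹ = (y * t * y⁻¹)⁻¹ * ((y * u' * y⁻¹) * u'⁻¹) * u' := by group
        _ = (y * t * y⁻¹)⁻¹ * ((y * t * y⁻¹) * u⁻¹) * u' := by rw [e1]
        _ = u⁻¹ * u' := by group
    have hzW : t⁻¹ * u' ∈ W₂ := W₂.mul_mem (W₂.inv_mem htW) hu'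
    have hmem : u⁻¹ * u' ∈ cj y W₂ ⊓ W₂ := by
      refine Subgroup.mem_inf.mpr ⟨?_, W₂.mul_mem (W₂.inv_mem hu) hu'⟩
      rw [← hz]; exact conj_mem_cj hzW
    rw [hyd, mem_bot] at hmem
    have huu : u' = u := by
      calc u' = u * (u⁻¹ * u') := by group
        _ = u := by rw [hmem, mul_one]
    have hz1 : t⁻¹ * u' = 1 := by
      have : y * (t⁻¹ * u') * y⁻¹ = 1 := by rw [hz, hmem]
      calc t⁻¹ * u' = y⁻¹ * (y * (t⁻¹ * u') * y⁻¹) * y := by group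
        _ = 1 := by rw [this]; group
    have : t = u' := by
      calc t = t * (t⁻¹ * u') := by rw [hz1, mul_one]
        _ = u' := by group
    rw [← ht, this, huu]
  -- hence only the identity of `E₁` normalizes `W₂`
  have htriv : ∀ e ∈ E₁, cj e W₂ = W₂ → e = 1 := by
    intro e he hen
    apply f1 e he
    intro w hw
    obtain ⟨u, hu⟩ : ∃ u, u = (x * w * x⁻¹) * w⁻¹ := ⟨_, rfl⟩
    have huW : u ∈ W₂ := by rw [hu]; exact a2 x hxE w (hW₁V hw)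
    have h1 := hcent e he hen u huW
    have h2 : e * (x * w * x⁻¹) * e⁻¹ = x * w * x⁻¹ := hxc e he _ (conj_mem_cj hw)
    have h3 : e * u * e⁻¹ = (e * (x * w * x⁻¹) * e⁻¹) * (e * w * e⁻¹)⁻¹ := by
      rw [hu]; group
    rw [h1, h2, hu] at h3
    have h4 : w⁻¹ = (e * w * e⁻¹)⁻¹ := mul_left_cancel h3
    exact (inv_injective h4).symm
  -- three elements
  have hex : ∃ e ∈ E₁, ∃ e' ∈ E₁, e ≠ 1 ∧ e' ≠ 1 ∧ e ≠ e' := by
    by_contra hcon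
    push Not at hcon
    have hsub : ∀ a : E₁, a = 1 ∨ a = ⟨y, hyE⟩ := by
      intro a
      by_contra hh
      push Not at hh
      have hy1 : y ≠ 1 := by
        intro h1
        apply hym
        rw [h1, cj_one]
      have ha1 : (a : G) ≠ 1 := fun h0 => hh.1 (Subtype.ext h0)
      have := hcon a a.2 y hyE ha1 hy1
      exact hh.2 (Subtype.ext this)
    have : Nat.card E₁ ≤ 2 := by
      have hfin : (Set.univ : Set E₁) ⊆ {1, ⟨y, hyE⟩} := by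
        intro a _
        rcases hsub a with h | h
        · left; exact h
        · right; exact h
      calc Nat.card E₁ = (Set.univ : Set E₁).ncard := (Set.ncard_univ _).symm
        _ ≤ ({1, ⟨y, hyE⟩} : Set E₁).ncard := Set.ncard_le_ncard hfin (Set.toFinite _)
        _ ≤ ({⟨y, hyE⟩} : Set E₁).ncard + 1 := Set.ncard_insert_le _ _
        _ = 2 := by rw [Set.ncard_singleton]
    omega
  obtain ⟨e, he, e', he', he1, he'1, hne⟩ := hex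
  have hem : cj e W₂ ≠ W₂ := fun h => he1 (htriv e he h)
  have hem' : cj e' W₂ ≠ W₂ := fun h => he'1 (htriv e' he' h)
  obtain ⟨-, hec⟩ := m2 e he hem
  obtain ⟨-, hec'⟩ := m2 e' he' hem'
  apply hne
  have hfix : ∀ u ∈ W₂, (e⁻¹ * e') * u * (e⁻¹ * e')⁻¹ = u := by
    intro u hu
    have hb : (e * u * e⁻¹) * u⁻¹ ∈ W₁ := a1 e he u (hW₂V hu)
    obtain ⟨u', hu', hu'e⟩ := hsurj e' he' hem' _ hb
    -- `u⁻¹ u'` is fixed by `E₂`
    have hrel : u⁻¹ * u' = (e * u * e⁻¹)⁻¹ * (e' * u' * e'⁻¹) := by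
      calc u⁻¹ * u' = (e * u * e⁻¹)⁻¹ * ((e * u * e⁻¹) * u⁻¹) * u' := by group
        _ = (e * u * e⁻¹)⁻¹ * ((e' * u' * e'⁻¹) * u'⁻¹) * u' := by rw [hu'e]
        _ = (e * u * e⁻¹)⁻¹ * (e' * u' * e'⁻¹) := by group
    have hfixed : ∀ z ∈ E₂, z * (u⁻¹ * u') * z⁻¹ = u⁻¹ * u' := by
      intro z hz
      have h1 := hec z hz _ (conj_mem_cj hu)
      have h2 := hec' z hz _ (conj_mem_cj hu')
      rw [hrel]
      calc z * ((e * u * e⁻¹)⁻¹ * (e' * u' * e'⁻¹)) * z⁻¹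
          = (z * (e * u * e⁻¹) * z⁻¹)⁻¹ * (z * (e' * u' * e'⁻¹) * z⁻¹) := by group
        _ = (e * u * e⁻¹)⁻¹ * (e' * u' * e'⁻¹) := by rw [h1, h2]
    have h1 : u⁻¹ * u' = 1 := c2 _ (W₂.mul_mem (W₂.inv_mem hu) hu') hfixed
    have huu : u' = u := by
      calc u' = u * (u⁻¹ * u') := by group
        _ = u := by rw [h1, mul_one]
    rw [h1, huu] at hrel
    -- `1 = (e u e⁻¹)⁻¹ (e' u e'⁻¹)`
    have h2 : e * u * e⁻¹ = e' * u * e'⁻¹ := by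
      calc e * u * e⁻¹ = (e * u * e⁻¹) * 1 := (mul_one _).symm
        _ = (e * u * e⁻¹) * ((e * u * e⁻¹)⁻¹ * (e' * u * e'⁻¹)) := by rw [← hrel]
        _ = e' * u * e'⁻¹ := by group
    calc (e⁻¹ * e') * u * (e⁻¹ * e')⁻¹ = e⁻¹ * (e' * u * e'⁻¹) * e := by group
      _ = e⁻¹ * (e * u * e⁻¹) * e := by rw [h2]
      _ = u := by group
  have := htriv (e⁻¹ * e') (E₁.mul_mem (E₁.inv_mem he) he') (cj_eq_self_of_fix hfix)
  calc e = e * (e⁻¹ * e') := by rw [this, mul_one]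
    _ = e' := by group

end SubnPair2

end Cfsg.Agent.Lib.Helper52
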