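import Mathlib
import Cfsg.Agent.Lib.Helper52.SubnPair2

/-!
# KS 9.3.1, part 3: the induction
-/

set_option autoImplicit false

namespace Cfsg.Agent.Lib.Helper52

open Subgroup
open scoped commutatorElement Pointwise
open Cfsg.Agent.Lib.Helper55 (cj mem_cj conj_mem_cj cj_one cj_mul cj_inv_cj cj_cj_inv cj_mono
  cj_eq_self_iff cj_inf cj_centralizer card_cj isPGroup_cj cj_eq_self_of_mem cj_bot cj_le_iff
  le_cj_iff cj_normalizer)
open Cfsg.Agent.Lib.Helper02 (RSn)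

section SubnPair3

variable {G : Type*} [Group G]

theorem smul_eq_cj (g : G) (Q : Subgroup G) : MulAut.conj g • Q = cj g Q := rfl

/-- a proper relatively subnormal subgroup lies in a proper normal subgroup -/
theorem rsn_proper {A K : Subgroup G} (h : RSn A K) (hne : A ≠ K) :
    ∃ M : Subgroup G, A ≤ M ∧ M < K ∧ K ≤ normalizer (M : Set G) := by
  induction h with
  | refl => exact absurd rfl hne
  | step M K hAM hMK hKN ih =>
    by_cases hMKeq : M = K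
    · subst hMKeq
      exact ih hne
    · exact ⟨M, hAM.le, lt_of_le_of_ne hMK hMKeq, hKN⟩

theorem rsn_cj {A K : Subgroup G} (h : RSn A K) {x : G} (hx : x ∈ K) : RSn (cj x A) K := by
  have := h.conj x
  rw [smul_eq_cj, smul_eq_cj, cj_eq_self_of_mem hx] at this
  exact this

/-- The hypotheses of KS 9.3.1. -/
structure PairHyp (p : ℕ) (V E E₁ E₂ : Subgroup G) : Prop where
  base : SPHyp p V E
  gen : E = E₁ ⊔ E₂
  sn₁ : RSn E₁ E
  sn₂ : RSn E₂ E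
  irr₁ : ∀ U : Subgroup G, U ≤ ⁅V, E₁⁆ → E₁ ≤ normalizer (U : Set G) → U = ⊥ ∨ U = ⁅V, E₁⁆
  irr₂ : ∀ U : Subgroup G, U ≤ ⁅V, E₂⁆ → E₂ ≤ normalizer (U : Set G) → U = ⊥ ∨ U = ⁅V, E₂⁆
  h12 : ¬ ⁅V, E₁⁆ ≤ ⁅V, E₂⁆
  h21 : ¬ ⁅V, E₂⁆ ≤ ⁅V, E₁⁆
  c₁ : 2 < Nat.card E₁
  c₂ : 2 < Nat.card E₂

/-- The conclusion of KS 9.3.1. -/
def PairConcl (V E E₁ E₂ : Subgroup G) : Prop :=
  ⁅E₁, E₂⁆ = ⊥ ∧ E₁ ⊓ E₂ = ⊥ ∧ ⁅V, E₁⁆ ⊓ ⁅V, E₂⁆ = ⊥ ∧ ⁅V, E⁆ = ⁅V, E₁⁆ ⊔ ⁅V, E₂⁆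

variable {p : ℕ} {V E E₁ E₂ : Subgroup G}

theorem PairHyp.symm (h : PairHyp p V E E₁ E₂) : PairHyp p V E E₂ E₁ where
  base := h.base
  gen := by rw [h.gen, sup_comm]
  sn₁ := h.sn₂
  sn₂ := h.sn₁
  irr₁ := h.irr₂
  irr₂ := h.irr₁
  h12 := h.h21
  h21 := h.h12
  c₁ := h.c₂
  c₂ := h.c₁

theorem PairConcl.symm (h : PairConcl V E E₁ E₂) : PairConcl V E E₂ E₁ := by
  obtain ⟨h1, h2, h3, h4⟩ := h
  refine ⟨?_, ?_, ?_, ?_⟩
  · rw [commutator_comm]; exact h1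
  · rw [inf_comm]; exact h2
  · rw [inf_comm]; exact h3
  · rw [sup_comm]; exact h4

theorem PairHyp.ne_bot₁ (h : PairHyp p V E E₁ E₂) : E₁ ≠ ⊥ := by
  intro h0
  have := h.c₁
  rw [h0, Subgroup.card_bot] at this
  omega

theorem PairHyp.le₁ (h : PairHyp p V E E₁ E₂) : E₁ ≤ E := h.sn₁.le

theorem PairHyp.le₂ (h : PairHyp p V E E₁ E₂) : E₂ ≤ E := h.sn₂.le

theorem PairHyp.W₁_le (h : PairHyp p V E E₁ E₂) : ⁅V, E₁⁆ ≤ V := h.base.commutator_le h.le₁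

theorem comm_inv_mem {V A : Subgroup G} {e v : G} (he : e ∈ A) (hv : v ∈ V) :
    (e * v * e⁻¹) * v⁻¹ ∈ ⁅V, A⁆ := by
  have : (e * v * e⁻¹) * v⁻¹ = (⁅v, e⁆)⁻¹ := by rw [commutatorElement_def]; group
  rw [this]
  exact inv_mem (commutator_mem_commutator hv he)

/-- Step 1: if `E₂` normalizes `[V, E₁]`, the conclusion holds. -/
theorem PairHyp.step1 (h : PairHyp p V E E₁ E₂)
    (hn : E₂ ≤ normalizer ((⁅V, E₁⁆ : Subgroup G) : Set G)) : PairConcl V E E₁ E₂ := by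
  have hW₁V : ⁅V, E₁⁆ ≤ V := h.W₁_le
  have hW₂V : ⁅V, E₂⁆ ≤ V := h.symm.W₁_le
  have hE₁V : E₁ ≤ normalizer (V : Set G) := h.le₁.trans h.base.hEV
  have hE₂V : E₂ ≤ normalizer (V : Set G) := h.le₂.trans h.base.hEV
  have hE₁W₁ : E₁ ≤ normalizer ((⁅V, E₁⁆ : Subgroup G) : Set G) := le_normalizer_commutator hE₁V
  have hE₂W₂ : E₂ ≤ normalizer ((⁅V, E₂⁆ : Subgroup G) : Set G) := le_normalizer_commutator hE₂V
  have hEW₁ : E ≤ normalizer ((⁅V, E₁⁆ : Subgroup G) : Set G) := by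
    rw [h.gen]; exact sup_le hE₁W₁ hn
  -- (a) the commutator modules meet trivially
  have hdisj : ⁅V, E₁⁆ ⊓ ⁅V, E₂⁆ = ⊥ := by
    have hnorm : E₂ ≤ normalizer ((⁅V, E₁⁆ ⊓ ⁅V, E₂⁆ : Subgroup G) : Set G) := by
      intro g hg
      rw [← cj_eq_self_iff, cj_inf, cj_eq_self_iff.mpr (hn hg), cj_eq_self_iff.mpr (hE₂W₂ hg)]
    rcases h.irr₂ _ inf_le_right hnorm with h0 | h0
    · exact h0
    · exact absurd (inf_eq_right.mp h0) h.h21
  -- (b) `E₂` centralizes `[V, E₁]`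
  have hcent : ∀ x ∈ E₂, ∀ w ∈ ⁅V, E₁⁆, x * w * x⁻¹ = w := by
    intro x hx w hw
    have h1 : (x * w * x⁻¹) * w⁻¹ ∈ ⁅V, E₁⁆ :=
      mul_mem ((mem_normalizer_iff.mp (hn hx) w).mp hw) (inv_mem hw)
    have h2 : (x * w * x⁻¹) * w⁻¹ ∈ ⁅V, E₂⁆ := comm_inv_mem hx (hW₁V hw)
    have h3 : (x * w * x⁻¹) * w⁻¹ ∈ ⁅V, E₁⁆ ⊓ ⁅V, E₂⁆ := Subgroup.mem_inf.mpr ⟨h1, h2⟩
    rw [hdisj, mem_bot] at h3
    exact mul_inv_eq_one.mp h3
  -- (c) commutators are trivial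
  have hcomm : ∀ e ∈ E₁, ∀ x ∈ E₂, ⁅e, x⁆ = 1 := by
    intro e he x hx
    have hcE : ⁅e, x⁆ ∈ E := by
      rw [commutatorElement_def]
      exact E.mul_mem (E.mul_mem (E.mul_mem (h.le₁ he) (h.le₂ hx)) (E.inv_mem (h.le₁ he)))
        (E.inv_mem (h.le₂ hx))
    refine h.base.stab_eq_one hW₁V hEW₁ hcE ?_ ?_
    · rw [mem_centralizer_iff]
      intro w hw
      have hx' : x⁻¹ * w * x = w := by
        have := hcent x⁻¹ (E₂.inv_mem hx) w hw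
        rwa [inv_inv] at this
      have hw' : e⁻¹ * w * e ∈ ⁅V, E₁⁆ := by
        have := (mem_normalizer_iff.mp (hE₁W₁ (E₁.inv_mem he)) w).mp hw
        rwa [inv_inv] at this
      have hx2 := hcent x hx _ hw'
      have key : ⁅e, x⁆ * w * (⁅e, x⁆)⁻¹ = w := by
        calc ⁅e, x⁆ * w * (⁅e, x⁆)⁻¹
            = e * (x * (e⁻¹ * (x⁻¹ * w * x) * e) * x⁻¹) * e⁻¹ := by
              rw [commutatorElement_def]; group
          _ = e * (e⁻¹ * w * e) * e⁻¹ := by rw [hx', hx2]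
          _ = w := by group
      calc w * ⁅e, x⁆ = (⁅e, x⁆ * w * (⁅e, x⁆)⁻¹) * ⁅e, x⁆ := by rw [key]
        _ = ⁅e, x⁆ * w := by group
    · have h1 : E₁ ≤ stabSub V ⁅V, E₁⁆ := le_stabSub_of_commutator_le hW₁V hE₁V le_rfl
      have h2 : x * e⁻¹ * x⁻¹ ∈ stabSub V ⁅V, E₁⁆ :=
        conj_mem_stabSub (hE₂V hx) (hn hx) (h1 (E₁.inv_mem he))
      have h3 : ⁅e, x⁆ ∈ stabSub V ⁅V, E₁⁆ := by
        have : ⁅e, x⁆ = e * (x * e⁻¹ * x⁻¹) := by rw [commutatorElement_def]; group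
        rw [this]
        exact mul_mem (h1 he) h2
      exact (mem_stabSub.mp h3).2.2
  refine ⟨?_, ?_, hdisj, ?_⟩
  · rw [eq_bot_iff, Subgroup.commutator_le]
    intro e he x hx
    rw [mem_bot]
    exact hcomm e he x hx
  · rw [eq_bot_iff]
    intro g hg
    rw [mem_bot]
    obtain ⟨hg1, hg2⟩ := Subgroup.mem_inf.mp hg
    exact h.base.faithful h.sn₁ hg1 (fun w hw => hcent g hg2 w hw)
  · apply le_antisymm
    · rw [h.gen]
      apply commutator_le_of_le_stabSub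
      exact sup_le (le_stabSub_of_commutator_le (sup_le hW₁V hW₂V) hE₁V le_sup_left)
        (le_stabSub_of_commutator_le (sup_le hW₁V hW₂V) hE₂V le_sup_right)
    · exact sup_le (commutator_mono le_rfl h.le₁) (commutator_mono le_rfl h.le₂)

section Induction

variable [Finite G]

/-- Step 2: a conjugate of `E₁` moving `[V, E₁]` commutes with `E₁`, by induction. -/
theorem PairHyp.step2 {n : ℕ}
    (IH : ∀ m < n, ∀ D D₁ D₂ : Subgroup G, Nat.card D = m → PairHyp p V D D₁ D₂ →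
      PairConcl V D D₁ D₂)
    (hn : Nat.card E = n) (h : PairHyp p V E E₁ E₂) {x : G} (hx : x ∈ E)
    (hm : cj x ⁅V, E₁⁆ ≠ ⁅V, E₁⁆) :
    cj x ⁅V, E₁⁆ ⊓ ⁅V, E₁⁆ = ⊥ ∧ ∀ e ∈ E₁, ∀ w ∈ cj x ⁅V, E₁⁆, e * w * e⁻¹ = w := by
  have hcjV : cj x V = V := cj_eq_self_iff.mpr (h.base.hEV hx)
  have hWF : ⁅V, cj x E₁⁆ = cj x ⁅V, E₁⁆ := by rw [cj_commutator, hcjV]
  have hne : E₁ ≠ E := by
    intro heq
    apply h.h21
    apply commutator_mono le_rfl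
    rw [heq]; exact h.le₂
  obtain ⟨M, hE₁M, hMlt, hEM⟩ := rsn_proper h.sn₁ hne
  have hFM : cj x E₁ ≤ M := by
    have := cj_mono (g := x) hE₁M
    rwa [cj_eq_self_iff.mpr (hEM hx)] at this
  have hDM : E₁ ⊔ cj x E₁ ≤ M := sup_le hE₁M hFM
  have hDE : E₁ ⊔ cj x E₁ ≤ E := hDM.trans hMlt.le
  have hFsn : RSn (cj x E₁) E := rsn_cj h.sn₁ hx
  have hDsn : RSn (E₁ ⊔ cj x E₁) E := RSn.sup h.sn₁ hFsn
  have hcard : Nat.card ↥(E₁ ⊔ cj x E₁) < n := by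
    by_contra hcon
    push Not at hcon
    rw [← hn] at hcon
    have := Subgroup.eq_of_le_of_card_ge hDE hcon
    rw [this] at hDM
    exact absurd hMlt (not_lt_of_ge hDM)
  have hPH : PairHyp p V (E₁ ⊔ cj x E₁) E₁ (cj x E₁) :=
    { base := h.base.of_rsn hDsn
      gen := rfl
      sn₁ := h.sn₁.restrict le_sup_left hDE
      sn₂ := hFsn.restrict le_sup_right hDE
      irr₁ := h.irr₁
      irr₂ := by
        intro U hU hFU
        rw [hWF] at hU ⊢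
        have h1 : cj x⁻¹ U ≤ ⁅V, E₁⁆ := by
          rw [cj_le_iff, inv_inv]; exact hU
        have h2 : E₁ ≤ normalizer ((cj x⁻¹ U : Subgroup G) : Set G) := by
          rw [← cj_normalizer]
          have := cj_mono (g := x⁻¹) hFU
          rwa [cj_inv_cj] at this
        rcases h.irr₁ _ h1 h2 with h0 | h0
        · left
          have := congrArg (cj x) h0
          rwa [cj_cj_inv, cj_bot] at this
        · right
          have := congrArg (cj x) h0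
          rwa [cj_cj_inv] at this
      h12 := by
        rw [hWF]
        intro hle
        apply hm
        exact (Subgroup.eq_of_le_of_card_ge hle (by rw [card_cj])).symm
      h21 := by
        rw [hWF]
        intro hle
        apply hm
        exact Subgroup.eq_of_le_of_card_ge hle (by rw [card_cj])
      c₁ := h.c₁
      c₂ := by rw [card_cj]; exact h.c₁ }
  obtain ⟨hcomm, -, hdisj, -⟩ := IH _ hcard _ _ _ rfl hPH
  rw [hWF] at hdisj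
  refine ⟨by rw [inf_comm]; exact hdisj, ?_⟩
  intro e he w hw
  have heF : e ∈ normalizer ((cj x E₁ : Subgroup G) : Set G) :=
    centralizer_le_normalizer _ ((Subgroup.commutator_eq_bot_iff_le_centralizer.mp hcomm) he)
  have heV : e ∈ normalizer (V : Set G) := h.base.hEV (h.le₁ he)
  have heW : e ∈ normalizer ((cj x ⁅V, E₁⁆ : Subgroup G) : Set G) := by
    rw [← hWF]
    exact mem_normalizer_commutator' heV heF
  have hwV : w ∈ V := by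
    have := cj_mono (g := x) h.W₁_le hw
    rwa [hcjV] at this
  have h1 : (e * w * e⁻¹) * w⁻¹ ∈ cj x ⁅V, E₁⁆ :=
    mul_mem ((mem_normalizer_iff.mp heW w).mp hw) (inv_mem hw)
  have h2 : (e * w * e⁻¹) * w⁻¹ ∈ ⁅V, E₁⁆ := comm_inv_mem he hwV
  have h3 : (e * w * e⁻¹) * w⁻¹ ∈ ⁅V, E₁⁆ ⊓ cj x ⁅V, E₁⁆ := Subgroup.mem_inf.mpr ⟨h2, h1⟩
  rw [hdisj, mem_bot] at h3
  exact mul_inv_eq_one.mp h3

/-- **KS 9.3.1**, in relative-subnormal form. -/
theorem pair_concl_aux : ∀ (n : ℕ) (E E₁ E₂ : Subgroup G), Nat.card E = n →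
    PairHyp p V E E₁ E₂ → PairConcl V E E₁ E₂ := by
  intro n
  induction n using Nat.strong_induction_on with
  | _ n IH =>
    intro E E₁ E₂ hn h
    by_cases hn1 : E₂ ≤ normalizer ((⁅V, E₁⁆ : Subgroup G) : Set G)
    · exact h.step1 hn1
    by_cases hn2 : E₁ ≤ normalizer ((⁅V, E₂⁆ : Subgroup G) : Set G)
    · exact (h.symm.step1 hn2).symm
    exfalso
    obtain ⟨x, hxE, hxn⟩ := SetLike.not_le_iff_exists.mp hn1
    obtain ⟨y, hyE, hyn⟩ := SetLike.not_le_iff_exists.mp hn2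
    have IH' : ∀ m < n, ∀ D D₁ D₂ : Subgroup G, Nat.card D = m → PairHyp p V D D₁ D₂ →
        PairConcl V D D₁ D₂ := fun m hm D D₁ D₂ hD hP => IH m hm D D₁ D₂ hD hP
    refine moving_false (V := V) (E₁ := E₁) (E₂ := E₂) (W₁ := ⁅V, E₁⁆) (W₂ := ⁅V, E₂⁆)
      h.W₁_le h.symm.W₁_le ?_ ?_ ?_ ?_ ?_ ?_ ⟨x, hxE, ?_⟩ ⟨y, hyE, ?_⟩ h.c₁
    · intro e he v hv; exact comm_inv_mem he hv
    · intro e he v hv; exact comm_inv_mem he hv
    · intro e he hc; exact h.base.faithful h.sn₁ he hc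
    · intro u hu hc; exact h.base.fixed_eq_one h.sn₂ h.symm.ne_bot₁ h.irr₂ hu hc
    · intro z hz hm; exact h.step2 IH' hn (h.le₂ hz) hm
    · intro z hz hm; exact h.symm.step2 IH' hn (h.le₁ hz) hm
    · intro h0; exact hxn (cj_eq_self_iff.mp h0)
    · intro h0; exact hyn (cj_eq_self_iff.mp h0)

theorem pair_concl (h : PairHyp p V E E₁ E₂) : PairConcl V E E₁ E₂ :=
  pair_concl_aux _ E E₁ E₂ rfl h

end Induction

end SubnPair3

end Cfsg.Agent.Lib.Helper52
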