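import Cfsg.Agent.Lib.Helper52.Critical

set_option autoImplicit false

namespace Cfsg.Agent.Lib.Helper52

variable {X : Type*} [Group X]

theorem card_inf_mul_relIndex (A B : Subgroup X) :
    Nat.card ↥(A ⊓ B) * B.relIndex A = Nat.card A := by
  have := (B.subgroupOf A).card_mul_index
  rw [← this, Subgroup.relIndex]
  congr 1
  rw [inf_comm, ← Subgroup.subgroupOf_map_subtype, Subgroup.card_subtype]

theorem factorization_card_inf_eq {p : ℕ} [Fact p.Prime] (A B : Subgroup X) [Finite A]
    (h : (B.relIndex A).Coprime p) :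
    (Nat.card ↥(A ⊓ B)).factorization p = (Nat.card A).factorization p := by
  have hp : p.Prime := Fact.out
  have hmul := card_inf_mul_relIndex A B
  have hA : Nat.card A ≠ 0 := Nat.card_pos.ne'
  have h1 : Nat.card ↥(A ⊓ B) ≠ 0 := by
    intro h0
    rw [h0, zero_mul] at hmul
    exact hA hmul.symm
  have h2 : B.relIndex A ≠ 0 := by
    intro h0
    rw [h0, mul_zero] at hmul
    exact hA hmul.symm
  rw [← hmul, Nat.factorization_mul h1 h2]
  have : (B.relIndex A).factorization p = 0 := by
    apply Nat.factorization_eq_zero_of_not_dvd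
    intro hd
    exact hp.ne_one (Nat.Coprime.eq_one_of_dvd h.symm hd)
  simp [this]

/-- If `A ⊓ B` has index prime to `p` in the finite subgroup `A`, every Sylow `p`-subgroup of
`A ⊓ B` is (the image of) a Sylow `p`-subgroup of `A`. -/
theorem exists_sylow_map_eq_of_sylow_inf {p : ℕ} [Fact p.Prime] (A B : Subgroup X) [Finite A]
    (h : (B.relIndex A).Coprime p) (S : Sylow p ↥(A ⊓ B)) :
    ∃ SA : Sylow p A, (SA : Subgroup A).map A.subtype =
      (S : Subgroup ↥(A ⊓ B)).map (A ⊓ B).subtype := by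
  have : Finite ↥(A ⊓ B) := Finite.of_injective (Subgroup.inclusion (inf_le_left : A ⊓ B ≤ A))
    (Subgroup.inclusion_injective _)
  set T : Subgroup X := (S : Subgroup ↥(A ⊓ B)).map (A ⊓ B).subtype with hT
  have hTA : T ≤ A := (Subgroup.map_subtype_le _).trans inf_le_left
  have hcardT : Nat.card T = p ^ (Nat.card A).factorization p := by
    rw [hT, Subgroup.card_subtype, ← factorization_card_inf_eq A B h]
    exact S.card_eq_multiplicity
  have hcardR : Nat.card (T.subgroupOf A) = p ^ (Nat.card A).factorization p := by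
    rw [← hcardT, ← Subgroup.card_subtype A (T.subgroupOf A), Subgroup.subgroupOf_map_subtype,
      inf_eq_left.mpr hTA]
  refine ⟨Sylow.ofCard (T.subgroupOf A) hcardR, ?_⟩
  rw [Sylow.coe_ofCard, Subgroup.subgroupOf_map_subtype, inf_eq_left.mpr hTA]

/-- For adjacent vertices of the coset graph of a characteristic `p` amalgam pair, a Sylow
`p`-subgroup of the edge stabilizer is a Sylow `p`-subgroup of both vertex stabilizers. -/
theorem exists_sylow_of_sylow_edge {p : ℕ} [Fact p.Prime] {M₁ M₂ : Subgroup X}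
    (h : Cfsg.IsCharPAmalgamPair p M₁ M₂) {δ μ : Cfsg.CosetVertex M₁ M₂}
    (hadj : (Cfsg.cosetGraph M₁ M₂).Adj δ μ) (S : Sylow p ↥(Cfsg.edgeStabilizer δ μ)) :
    (∃ Sδ : Sylow p (MulAction.stabilizer X δ),
      (Sδ : Subgroup (MulAction.stabilizer X δ)).map (MulAction.stabilizer X δ).subtype =
        (S : Subgroup ↥(Cfsg.edgeStabilizer δ μ)).map (Cfsg.edgeStabilizer δ μ).subtype) ∧
    (∃ Sμ : Sylow p (MulAction.stabilizer X μ),
      (Sμ : Subgroup (MulAction.stabilizer X μ)).map (MulAction.stabilizer X μ).subtype =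
        (S : Subgroup ↥(Cfsg.edgeStabilizer δ μ)).map (Cfsg.edgeStabilizer δ μ).subtype) := by
  have : Finite M₁ := h.2.1
  have : Finite M₂ := h.2.2.1
  have := finite_stabilizer δ
  have := finite_stabilizer μ
  constructor
  · exact exists_sylow_map_eq_of_sylow_inf _ _ (relIndex_stabilizer_of_adj h hadj) S
  · have e : Cfsg.edgeStabilizer δ μ = MulAction.stabilizer X μ ⊓ MulAction.stabilizer X δ :=
      inf_comm _ _
    revert S
    rw [e]
    intro S
    exact exists_sylow_map_eq_of_sylow_inf _ _ (relIndex_stabilizer_of_adj h hadj.symm) S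

theorem exists_common_sylow {p : ℕ} [Fact p.Prime] {M₁ M₂ : Subgroup X}
    (h : Cfsg.IsCharPAmalgamPair p M₁ M₂) {δ μ : Cfsg.CosetVertex M₁ M₂}
    (hadj : (Cfsg.cosetGraph M₁ M₂).Adj δ μ) :
    ∃ (Sδ : Sylow p (MulAction.stabilizer X δ)) (Sμ : Sylow p (MulAction.stabilizer X μ)),
      (Sδ : Subgroup (MulAction.stabilizer X δ)).map (MulAction.stabilizer X δ).subtype =
      (Sμ : Subgroup (MulAction.stabilizer X μ)).map (MulAction.stabilizer X μ).subtype := by
  have : Finite M₁ := h.2.1
  have : Finite M₂ := h.2.2.1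
  have := finite_stabilizer δ
  have : Finite ↥(Cfsg.edgeStabilizer δ μ) :=
    Finite.of_injective (Subgroup.inclusion (inf_le_left :
      MulAction.stabilizer X δ ⊓ MulAction.stabilizer X μ ≤ MulAction.stabilizer X δ))
    (Subgroup.inclusion_injective _)
  obtain ⟨S⟩ : Nonempty (Sylow p ↥(Cfsg.edgeStabilizer δ μ)) := inferInstance
  obtain ⟨⟨Sδ, h1⟩, ⟨Sμ, h2⟩⟩ := exists_sylow_of_sylow_edge h hadj S
  exact ⟨Sδ, Sμ, h1.trans h2.symm⟩

theorem map_conj_sylowCenterClosure_eq (p : ℕ) (H : Subgroup X) {g : X} (hg : g ∈ H) :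
    (Cfsg.sylowCenterClosure p H).map (MulAut.conj g).toMonoidHom =
      Cfsg.sylowCenterClosure p H := by
  apply le_antisymm (map_conj_sylowCenterClosure_le p H hg)
  intro z hz
  refine ⟨g⁻¹ * z * g, ?_, by simp [MulAut.conj_apply, mul_assoc]⟩
  have := conj_mem_sylowCenterClosure p H (H.inv_mem hg) hz
  simpa using this

/-- If `Z_H` equals `Ω₁(Z(T))` for one Sylow `p`-subgroup `T` of the finite subgroup `H`, then it
equals `Ω₁(Z(T'))` for every Sylow `p`-subgroup `T'`. -/
theorem zOf_sylow_eq_of_eq {p : ℕ} [Fact p.Prime] (H : Subgroup X) [Finite H]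
    (S S' : Sylow p H)
    (h : Cfsg.sylowCenterClosure p H = zOf p ((S : Subgroup H).map H.subtype)) :
    Cfsg.sylowCenterClosure p H = zOf p ((S' : Subgroup H).map H.subtype) := by
  obtain ⟨g, rfl⟩ := MulAction.exists_smul_eq H S S'
  rw [sylow_smul_map_subtype, ← map_zOf_equiv, ← h, map_conj_sylowCenterClosure_eq p H g.2]

end Cfsg.Agent.Lib.Helper52
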