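import Mathlib
import Cfsg.Agent.Lib.Helper94.THDefs

/-!
# K-TH-C5 (keystone 163215, S1632 pack of helper94): the theta series of an even unimodular lattice of
rank 24 as a modular form of weight 12 and level 1 (hypothesis form over the leaves B7, C1, C3, D1).
-/

set_option autoImplicit false
set_option linter.unusedVariables false

namespace Cfsg.Agent.Lib.Helper52.TH

open Matrix Complex ModularForm SlashInvariantForm Filter Function
open UpperHalfPlane hiding I
open scoped Real MatrixGroups Topology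
open Cfsg.Agent.Lib.Helper94.TH

/-- the theta series as a function on the upper half plane -/
noncomputable def thetaH (B : Matrix (Fin 24) (Fin 24) ℤ) (τ : ℍ) : ℂ := thetaC B (τ : ℂ)

set_option backward.isDefEq.respectTransparency.types false in
theorem thetaH_S_invariant {B : Matrix (Fin 24) (Fin 24) ℤ}
    (hS : ∀ τ : ℂ, 0 < τ.im → thetaC B (-1 / τ) = τ ^ 12 * thetaC B τ) :
    (thetaH B ∣[(12 : ℤ)] ModularGroup.S) = thetaH B := by
  ext z
  suffices thetaC B (-(↑z)⁻¹) * ((z : ℂ) ^ 12)⁻¹ = thetaC B z by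
    rw [SL_slash_apply, UpperHalfPlane.modular_S_smul]
    simpa [denom, ModularGroup.S, thetaH]
  have h1 := hS (z : ℂ) z.im_pos
  have h2 : (-1 / (z : ℂ)) = -(↑z)⁻¹ := by rw [neg_div, one_div]
  rw [h2] at h1
  rw [h1]
  have hz : (z : ℂ) ^ 12 ≠ 0 := pow_ne_zero _ (ne_zero z)
  rw [mul_comm ((z : ℂ) ^ 12) _, mul_assoc, mul_inv_cancel₀ hz, mul_one]

set_option backward.isDefEq.respectTransparency.types false in
theorem thetaH_T_invariant {B : Matrix (Fin 24) (Fin 24) ℤ}
    (hT : ∀ τ : ℂ, thetaC B (τ + 1) = thetaC B τ) :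
    (thetaH B ∣[(12 : ℤ)] ModularGroup.T) = thetaH B := by
  ext z
  rw [SL_slash_apply, denom, modular_T_smul, ModularGroup.T]
  have h1 := hT (z : ℂ)
  simp [thetaH, add_comm, h1]

/-- LEAF C5, hypothesis form: `hS`, `hT`, `hdiff`, `hsum` are the statements of the leaves B7, C1, C3,
D1. -/
theorem exists_thetaMF_of {B : Matrix (Fin 24) (Fin 24) ℤ}
    (hS : ∀ τ : ℂ, 0 < τ.im → thetaC B (-1 / τ) = τ ^ 12 * thetaC B τ)
    (hT : ∀ τ : ℂ, thetaC B (τ + 1) = thetaC B τ)
    (hdiff : DifferentiableOn ℂ (thetaC B) {τ : ℂ | 0 < τ.im})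
    (hsum : ∀ τ : ℍ, HasSum (fun m : ℕ => (rep B m : ℂ) • Function.Periodic.qParam 1 (τ : ℂ) ^ m)
      (thetaC B (τ : ℂ))) :
    ∃ f : ModularForm 𝒮ℒ 12, ∀ τ : ℍ, f τ = thetaC B (τ : ℂ) := by
  have hSi := thetaH_S_invariant hS
  have hTi := thetaH_T_invariant hT
  refine ⟨{ toFun := thetaH B
            slash_action_eq' := ?_
            holo' := ?_
            bdd_at_cusps' := ?_ }, fun τ => rfl⟩
  · intro A hA
    obtain ⟨A, rfl⟩ := hA
    exact slash_action_generators_SL2Z hSi hTi A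
  · rw [UpperHalfPlane.mdifferentiable_iff]
    refine hdiff.congr fun z hz => ?_
    simp [thetaH, ofComplex_apply_of_im_pos hz]
  · intro c hc
    rw [Subgroup.IsArithmetic.isCusp_iff_isCusp_SL2Z] at hc
    rw [OnePoint.isBoundedAt_iff_forall_SL2Z hc]
    intro γ _
    rw [slash_action_generators_SL2Z hSi hTi]
    exact isBoundedAtImInfty_of_hasSum_qExpansion (h := 1) one_pos hsum

end Cfsg.Agent.Lib.Helper52.TH
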