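import Mathlib
import Cfsg.Agent.Lib.Helper76.SylowConj

/-!
# K-T5 (keystone 107405, S2185/S1074 pack of helper95): involutions of a group with a subgroup of
index 2 via a Sylow 2-subgroup; parity of a product.
-/

set_option autoImplicit false
set_option linter.unusedVariables false

namespace Cfsg.Agent.Lib.Helper52.TitsKey

theorem involution_mem_of_sylow {K : Type*} [Group K] [Finite K] (T P : Subgroup K) (hidx : T.index = 2)
    (hP : IsPGroup 2 P) (hodd : ¬ 2 ∣ P.index)
    (h : ∀ s ∈ P, s * s = 1 → s ∈ T) : ∀ k : K, orderOf k = 2 → k ∈ T := by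
  intro k hk
  haveI : Fact (Nat.Prime 2) := ⟨Nat.prime_two⟩
  haveI : T.Normal := Subgroup.normal_of_index_eq_two hidx
  obtain ⟨g, hg⟩ := Cfsg.Agent.Lib.Helper76.SylowConj.exists_conj_mem 2 P hP hodd k
    ⟨1, by rw [hk, pow_one]⟩
  have hkk : k * k = 1 := by
    rw [← pow_two, ← hk, pow_orderOf_eq_one]
  have hsq : (g * k * g⁻¹) * (g * k * g⁻¹) = 1 := by
    calc (g * k * g⁻¹) * (g * k * g⁻¹) = g * (k * k) * g⁻¹ := by group
      _ = 1 := by rw [hkk]; group
  have hT := h _ hg hsq
  have := Subgroup.Normal.conj_mem inferInstance _ hT g⁻¹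
  have h2 : g⁻¹ * (g * k * g⁻¹) * g⁻¹⁻¹ = k := by group
  rwa [h2] at this

/-- parity: in a group with a subgroup `T` of index 2, a product of elements lies in `T` iff an even number of the
factors lie outside `T` -/
theorem prod_mem_iff_even {K : Type*} [Group K] (T : Subgroup K) (hidx : T.index = 2) (par : K → Bool)
    (hpar : ∀ k, par k = true ↔ k ∉ T) (l : List K) :
    l.prod ∈ T ↔ Even (l.countP par) := by
  induction l with
  | nil => simp [T.one_mem]
  | cons k l ih =>
    rw [List.prod_cons, Subgroup.mul_mem_iff_of_index_two hidx, ih, List.countP_cons]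
    by_cases hk : par k = true
    · have hkT : k ∉ T := (hpar k).mp hk
      rw [if_pos hk, Nat.even_add_one]
      constructor
      · intro h1 h2
        exact hkT (h1.mpr h2)
      · intro h1
        constructor
        · intro h2
          exact absurd h2 hkT
        · intro h2
          exact absurd h2 h1
    · have hkT : k ∈ T := by
        by_contra h1
        exact hk ((hpar k).mpr h1)
      rw [if_neg hk, add_zero]
      constructor
      · intro h1
        exact h1.mp hkT
      · intro h1
        exact ⟨fun _ => h1, fun _ => hkT⟩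

end Cfsg.Agent.Lib.Helper52.TitsKey
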