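import Cfsg.Agent.Lib.Helper73.UNdDefs
import Cfsg.Agent.Lib.Helper65.UNdBA1
import Cfsg.Agent.Lib.Helper79.UNdBA3
import Cfsg.Agent.Lib.Helper98.Nd1
import Cfsg.Agent.Lib.Helper02.NdB
import Cfsg.Agent.Lib.Helper03.UNdUC

/-!
# K-UNd-UD (keystone 595414, S5954 pack of helper73): unipotent isometries of a hermitian space:
fixed nondegenerate subspaces from the partition condition, and the type of a fixed nondegenerate
subspace (hermitian port of `Helper98.Nd6`).
-/

set_option autoImplicit false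
set_option linter.unusedSectionVars false
set_option linter.unusedVariables false

namespace Cfsg.Agent.Lib.Helper52.UNd

open Module Cfsg.Agent.Lib.Helper99.HermONB Cfsg.Agent.Lib.Helper98.Elus Cfsg.Agent.Lib.Helper73.UNd
open Cfsg.Agent.Lib.Helper03.UNd (exists_type_u)

universe u
variable {F : Type u} [Field F] {V : Type u} [AddCommGroup V] [Module F V]
variable {q : ℕ} {h : V → V → F}

theorem inv_top_u (y : V →ₗ[F] V) : Inv y (⊤ : Submodule F V) := fun _ _ => Submodule.mem_top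

/-- existence of a fixed nondegenerate subspace from the partition condition -/
theorem exists_fixed_unip_u [Fintype F] [FiniteDimensional F V] (hF : Fintype.card F = q ^ 2)
    (hh : HForm q h) (p : ℕ) (hp : 0 < p) (u : V →ₗ[F] V) (hu : u ^ p = 1)
    (hNp : (u - 1) ^ p = 0) (hiso : Isom h u) (n m : ℕ) (hn : finrank F V = n)
    (hpart : ∀ μ : Multiset ℕ, (∀ a ∈ μ, 0 < a ∧ a ≤ p) → μ.sum = n →
      ∃ ν : Multiset ℕ, ν ≤ μ ∧ ν.sum = m) : Fixes h u m := by
  obtain ⟨μ, m1, m2, -, m4⟩ := exists_type_u hF hh p hp u hu hNp hiso n ⊤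
    (inv_top_u u) (Cfsg.Agent.Lib.Helper65.UNd.nd_top hh) (by rw [finrank_top, hn])
  obtain ⟨ν, hν1, hν2⟩ := hpart μ m1 m2
  obtain ⟨W, -, hW2, hW3, hW4⟩ := m4 ν hν1
  exact ⟨W, hW2, hW3, by rw [hW4, hν2]⟩

/-- the type of a fixed nondegenerate subspace is a sub-multiset of the type of the space -/
theorem exists_sub_type_u [Fintype F] [FiniteDimensional F V] (hF : Fintype.card F = q ^ 2)
    (hh : HForm q h) (p : ℕ) (hp : 0 < p) (u : V →ₗ[F] V) (hu : u ^ p = 1)
    (hNp : (u - 1) ^ p = 0) (hiso : Isom h u) (μ : Multiset ℕ) (hμ : ∀ a ∈ μ, 0 < a)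
    (hker : ∀ k, finrank F (LinearMap.ker ((u - 1) ^ k)) = (μ.map (fun a => min a k)).sum)
    (W : Submodule F V) (hW : Inv u W) (hWnd : ND h W) :
    ∃ ν : Multiset ℕ, ν ≤ μ ∧ ν.sum = finrank F W := by
  obtain ⟨ν, n1, n2, n3, -⟩ := exists_type_u hF hh p hp u hu hNp hiso (finrank F W) W hW hWnd rfl
  obtain ⟨c1, c2, c3, c4⟩ := Cfsg.Agent.Lib.Helper65.UNd.compl_props hF hh W ⊤ hWnd le_top
    (Cfsg.Agent.Lib.Helper65.UNd.nd_top hh)
  obtain ⟨W', hW'⟩ : ∃ W' : Submodule F V, W' = perp hh W ⊓ ⊤ := ⟨_, rfl⟩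
  rw [← hW'] at c1 c2 c3 c4
  have hW'inv : Inv u W' := by
    rw [hW']
    intro v hv
    refine Submodule.mem_inf.mpr ⟨?_, Submodule.mem_top⟩
    exact Cfsg.Agent.Lib.Helper79.UNd.inv_perp hF hh p hp u 1 one_ne_zero (by rw [hu, one_smul])
      hiso W hW v (Submodule.mem_inf.mp hv).1
  obtain ⟨ν', n1', n2', n3', -⟩ := exists_type_u hF hh p hp u hu hNp hiso (finrank F W') W' hW'inv
    c3 rfl
  have hsum : ∀ k, (μ.map (fun a => min a k)).sum = ((ν + ν').map (fun a => min a k)).sum := by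
    intro k
    have := Cfsg.Agent.Lib.Helper98.Nd.finrank_sup_inf_ker (u - 1) W W'
      (Cfsg.Agent.Lib.Helper98.Nd.inv_sub_one u W hW)
      (Cfsg.Agent.Lib.Helper98.Nd.inv_sub_one u W' hW'inv) c2 k
    rw [c1, top_inf_eq, hker k, n3 k, n3' k] at this
    rw [this, Multiset.map_add, Multiset.sum_add]
  have heq := Cfsg.Agent.Lib.Helper02.Nd.eq_of_sum_min_eq μ (ν + ν') hμ (by
    intro a ha
    rcases Multiset.mem_add.mp ha with h | h
    · exact (n1 a h).1
    · exact (n1' a h).1) hsum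
  refine ⟨ν, ?_, n2⟩
  rw [heq]
  exact Multiset.le_add_right ν ν'

end Cfsg.Agent.Lib.Helper52.UNd
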