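import Cfsg.Agent.Lib.Helper52.Spe
import Cfsg.Prelude.Def_LocalStructure

set_option autoImplicit false

namespace Cfsg.Agent.Lib.Helper52

variable {X : Type*} [Group X]

/-! ### Equivariance of `Z_δ` and `V_δ^{(n)}` -/

theorem sylowCenterClosure_map_le (p : ℕ) (c : X ≃* X) (H : Subgroup X) :
    Cfsg.sylowCenterClosure p (H.map c.toMonoidHom) ≤
      (Cfsg.sylowCenterClosure p H).map c.toMonoidHom := by
  rw [sylowCenterClosure_eq]
  refine iSup_le fun S' => ?_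
  obtain ⟨S₀, hS₀⟩ := exists_sylow_map_symm c H S'
  rw [← hS₀, ← map_zOf_equiv]
  exact Subgroup.map_mono (zOf_sylow_le_sylowCenterClosure p H S₀)

theorem map_map_symm (c : X ≃* X) (H : Subgroup X) :
    (H.map c.toMonoidHom).map c.symm.toMonoidHom = H := by
  rw [Subgroup.map_map]
  have : c.symm.toMonoidHom.comp c.toMonoidHom = MonoidHom.id X := by
    ext x
    simp
  rw [this, Subgroup.map_id]

theorem map_symm_map (c : X ≃* X) (H : Subgroup X) :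
    (H.map c.symm.toMonoidHom).map c.toMonoidHom = H := by
  rw [Subgroup.map_map]
  have : c.toMonoidHom.comp c.symm.toMonoidHom = MonoidHom.id X := by
    ext x
    simp
  rw [this, Subgroup.map_id]

theorem sylowCenterClosure_map (p : ℕ) (c : X ≃* X) (H : Subgroup X) :
    Cfsg.sylowCenterClosure p (H.map c.toMonoidHom) =
      (Cfsg.sylowCenterClosure p H).map c.toMonoidHom := by
  apply le_antisymm (sylowCenterClosure_map_le p c H)
  have h := sylowCenterClosure_map_le p c.symm (H.map c.toMonoidHom)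
  rw [map_map_symm] at h
  have h2 := Subgroup.map_mono (f := c.toMonoidHom) h
  rwa [map_symm_map] at h2

theorem vertexZ_smul (p : ℕ) {M₁ M₂ : Subgroup X} (g : X) (ν : Cfsg.CosetVertex M₁ M₂) :
    Cfsg.vertexZ p (g • ν) = (Cfsg.vertexZ p ν).map (MulAut.conj g).toMonoidHom := by
  show Cfsg.sylowCenterClosure p (MulAction.stabilizer X (g • ν)) = _
  rw [MulAction.stabilizer_smul_eq_stabilizer_map_conj]
  exact sylowCenterClosure_map p (MulAut.conj g) _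

/-- The graph homomorphism of the coset graph given by the action of `g`. -/
def smulHom (M₁ M₂ : Subgroup X) (g : X) : Cfsg.cosetGraph M₁ M₂ →g Cfsg.cosetGraph M₁ M₂ where
  toFun v := g • v
  map_rel' h := cosetGraph_adj_smul M₁ M₂ g h

theorem dist_smul_le {M₁ M₂ : Subgroup X} (hconn : (Cfsg.cosetGraph M₁ M₂).Connected) (g : X)
    (a b : Cfsg.CosetVertex M₁ M₂) :
    (Cfsg.cosetGraph M₁ M₂).dist (g • a) (g • b) ≤ (Cfsg.cosetGraph M₁ M₂).dist a b := by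
  obtain ⟨w, hw⟩ := hconn.exists_walk_length_eq_dist a b
  rw [← hw, ← SimpleGraph.Walk.length_map (smulHom M₁ M₂ g) w]
  exact SimpleGraph.dist_le (w.map (smulHom M₁ M₂ g))

theorem dist_smul {M₁ M₂ : Subgroup X} (hconn : (Cfsg.cosetGraph M₁ M₂).Connected) (g : X)
    (a b : Cfsg.CosetVertex M₁ M₂) :
    (Cfsg.cosetGraph M₁ M₂).dist (g • a) (g • b) = (Cfsg.cosetGraph M₁ M₂).dist a b := by
  apply le_antisymm (dist_smul_le hconn g a b)
  have := dist_smul_le hconn g⁻¹ (g • a) (g • b)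
  simpa using this

theorem map_conj_vertexVIter_le (p : ℕ) {M₁ M₂ : Subgroup X}
    (hconn : (Cfsg.cosetGraph M₁ M₂).Connected) (n : ℕ) (g : X) (δ : Cfsg.CosetVertex M₁ M₂) :
    (Cfsg.vertexVIter p M₁ M₂ n δ).map (MulAut.conj g).toMonoidHom ≤
      Cfsg.vertexVIter p M₁ M₂ n (g • δ) := by
  unfold Cfsg.vertexVIter
  rw [Subgroup.map_iSup]
  refine iSup_le fun μ => ?_
  rw [← vertexZ_smul]
  have hd : (Cfsg.cosetGraph M₁ M₂).dist (g • δ) (g • (μ : Cfsg.CosetVertex M₁ M₂)) ≤ n := by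
    rw [dist_smul hconn]
    exact μ.2
  exact le_iSup (fun μ : {μ : Cfsg.CosetVertex M₁ M₂ // (Cfsg.cosetGraph M₁ M₂).dist (g • δ) μ ≤ n} =>
    Cfsg.vertexZ p (μ : Cfsg.CosetVertex M₁ M₂)) ⟨g • (μ : Cfsg.CosetVertex M₁ M₂), hd⟩

theorem stabilizer_le_normalizer_vertexVIter (p : ℕ) {M₁ M₂ : Subgroup X}
    (hconn : (Cfsg.cosetGraph M₁ M₂).Connected) (n : ℕ) (δ : Cfsg.CosetVertex M₁ M₂) :
    MulAction.stabilizer X δ ≤ Subgroup.normalizer (Cfsg.vertexVIter p M₁ M₂ n δ : Set X) := by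
  apply le_normalizer_of_map_conj_le
  intro g hg
  have := map_conj_vertexVIter_le p hconn n g δ
  rwa [MulAction.mem_stabilizer_iff.mp hg] at this

theorem vertexZ_le_vertexVIter (p : ℕ) {M₁ M₂ : Subgroup X} (n : ℕ)
    {δ ν : Cfsg.CosetVertex M₁ M₂} (h : (Cfsg.cosetGraph M₁ M₂).dist δ ν ≤ n) :
    Cfsg.vertexZ p ν ≤ Cfsg.vertexVIter p M₁ M₂ n δ := by
  unfold Cfsg.vertexVIter
  exact le_iSup (fun μ : {μ : Cfsg.CosetVertex M₁ M₂ // (Cfsg.cosetGraph M₁ M₂).dist δ μ ≤ n} =>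
    Cfsg.vertexZ p (μ : Cfsg.CosetVertex M₁ M₂)) ⟨ν, h⟩

theorem vertexVIter_le_of_dist (p : ℕ) {M₁ M₂ : Subgroup X}
    (hconn : (Cfsg.cosetGraph M₁ M₂).Connected) {m n : ℕ} {δ μ : Cfsg.CosetVertex M₁ M₂}
    (h : (Cfsg.cosetGraph M₁ M₂).dist μ δ + m ≤ n) :
    Cfsg.vertexVIter p M₁ M₂ m δ ≤ Cfsg.vertexVIter p M₁ M₂ n μ := by
  unfold Cfsg.vertexVIter
  refine iSup_le fun ν => ?_
  have hd : (Cfsg.cosetGraph M₁ M₂).dist μ (ν : Cfsg.CosetVertex M₁ M₂) ≤ n := by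
    have := hconn.dist_triangle (u := μ) (v := δ) (w := (ν : Cfsg.CosetVertex M₁ M₂))
    have := ν.2
    omega
  exact le_iSup (fun μ' : {μ' : Cfsg.CosetVertex M₁ M₂ // (Cfsg.cosetGraph M₁ M₂).dist μ μ' ≤ n} =>
    Cfsg.vertexZ p (μ' : Cfsg.CosetVertex M₁ M₂)) ⟨ν, hd⟩

end Cfsg.Agent.Lib.Helper52
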