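import Cfsg.Agent.Lib.Helper52.Nil
import Cfsg.Agent.S2744
import Cfsg.Agent.S2740

set_option autoImplicit false

namespace Cfsg.Agent.Lib.Helper52

variable {X : Type*} [Group X]

theorem le_normalizer_sup {K A B : Subgroup X} (hA : K ≤ Subgroup.normalizer (A : Set X))
    (hB : K ≤ Subgroup.normalizer (B : Set X)) :
    K ≤ Subgroup.normalizer ((A ⊔ B : Subgroup X) : Set X) := by
  apply le_normalizer_of_map_conj_le
  intro g hg
  rw [Subgroup.map_sup, conjMap_eq_of_mem_normalizer (hA hg),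
    conjMap_eq_of_mem_normalizer (hB hg)]

theorem le_normalizer_commutator_pair {K A B : Subgroup X} (hA : K ≤ Subgroup.normalizer (A : Set X))
    (hB : K ≤ Subgroup.normalizer (B : Set X)) :
    K ≤ Subgroup.normalizer ((⁅A, B⁆ : Subgroup X) : Set X) := by
  apply le_normalizer_of_map_conj_le
  intro g hg
  rw [Subgroup.map_commutator, conjMap_eq_of_mem_normalizer (hA hg),
    conjMap_eq_of_mem_normalizer (hB hg)]

theorem normalizer_le_normalizer_pResidualOf (p : ℕ) (E : Subgroup X) :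
    Subgroup.normalizer (E : Set X) ≤
      Subgroup.normalizer (((Cfsg.pResidual p E).map E.subtype : Subgroup X) : Set X) := by
  apply le_normalizer_of_map_conj_le
  intro g hg
  unfold Cfsg.pResidual
  rw [MonoidHom.map_closure, MonoidHom.map_closure]
  apply Subgroup.closure_mono
  rintro _ ⟨_, ⟨x, hx, rfl⟩, rfl⟩
  have hmem : g * (x : X) * g⁻¹ ∈ E := by
    rw [Subgroup.mem_normalizer_iff] at hg
    exact (hg x).mp x.2
  refine ⟨⟨g * (x : X) * g⁻¹, hmem⟩, ?_, rfl⟩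
  show Nat.Coprime (orderOf (⟨g * (x : X) * g⁻¹, hmem⟩ : E)) p
  have h1 : orderOf (⟨g * (x : X) * g⁻¹, hmem⟩ : E) = orderOf (g * (x : X) * g⁻¹) :=
    (Subgroup.orderOf_coe (⟨g * (x : X) * g⁻¹, hmem⟩ : E)).symm
  have h2 : orderOf (g * (x : X) * g⁻¹) = orderOf (x : X) :=
    orderOf_injective (MulAut.conj g).toMonoidHom (MulAut.conj g).injective (x : X)
  rw [h1, h2, Subgroup.orderOf_coe]
  exact hx

theorem vertexVIter_smul (p : ℕ) {M₁ M₂ : Subgroup X}
    (hconn : (Cfsg.cosetGraph M₁ M₂).Connected) (n : ℕ) (g : X) (δ : Cfsg.CosetVertex M₁ M₂) :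
    Cfsg.vertexVIter p M₁ M₂ n (g • δ) =
      (Cfsg.vertexVIter p M₁ M₂ n δ).map (MulAut.conj g).toMonoidHom := by
  apply le_antisymm _ (map_conj_vertexVIter_le p hconn n g δ)
  have h := map_conj_vertexVIter_le p hconn n g⁻¹ (g • δ)
  rw [inv_smul_smul] at h
  have h2 := Subgroup.map_mono (f := (MulAut.conj g).toMonoidHom) h
  have e : ((Cfsg.vertexVIter p M₁ M₂ n (g • δ)).map (MulAut.conj g⁻¹).toMonoidHom).map
      (MulAut.conj g).toMonoidHom = Cfsg.vertexVIter p M₁ M₂ n (g • δ) := by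
    rw [Subgroup.map_map, conj_comp, mul_inv_cancel]
    ext z
    simp
  rwa [e] at h2

end Cfsg.Agent.Lib.Helper52

namespace Cfsg.Agent.Lib.Helper52

variable {X : Type*} [Group X]

open scoped commutatorElement in
theorem map_conj_le_sup_commutator {U V R : Subgroup X} (hUV : U ≤ V) {r : X} (hr : r ∈ R) :
    U.map (MulAut.conj r).toMonoidHom ≤ U ⊔ ⁅V, R⁆ := by
  rintro _ ⟨u, hu, rfl⟩
  have h1 : ⁅r, u⁆ ∈ ⁅V, R⁆ := by
    rw [Subgroup.commutator_comm]
    exact Subgroup.commutator_mem_commutator hr (hUV hu)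
  have e : (MulAut.conj r).toMonoidHom u = ⁅r, u⁆ * u := by
    rw [commutatorElement_def]
    simp [MulAut.conj_apply]
  rw [e]
  exact Subgroup.mul_mem _ (Subgroup.mem_sup_right h1) (Subgroup.mem_sup_left hu)

theorem sylow_relIndex_coprime {p : ℕ} [Fact p.Prime] (H : Subgroup X) [Finite H] (S : Sylow p H) :
    (((S : Subgroup H).map H.subtype).relIndex H).Coprime p := by
  have hp : p.Prime := Fact.out
  have e : ((S : Subgroup H).map H.subtype).subgroupOf H = (S : Subgroup H) :=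
    Subgroup.comap_map_eq_self_of_injective H.subtype_injective _
  rw [Subgroup.relIndex, e]
  exact ((Nat.Prime.coprime_iff_not_dvd hp).mpr S.not_dvd_index).symm

/-- The main step: `V_λ^{(n)}` is generated by `V_μ^{(n-1)}` and `[V_λ^{(n)}, O^p(L_λ)]`. -/
theorem vertexVIter_le_sup_commutator {p : ℕ} [Fact p.Prime] {M₁ M₂ : Subgroup X}
    (h : Cfsg.IsSpeAmalgamPair p M₁ M₂) {lam μ : Cfsg.CosetVertex M₁ M₂}
    (hadj : (Cfsg.cosetGraph M₁ M₂).Adj lam μ) (n : ℕ) (hn : 1 ≤ n) :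
    Cfsg.vertexVIter p M₁ M₂ n lam ≤ Cfsg.vertexVIter p M₁ M₂ (n - 1) μ ⊔
      ⁅Cfsg.vertexVIter p M₁ M₂ n lam,
        (Cfsg.pResidual p ↥(Cfsg.pElementClosure p (MulAction.stabilizer X lam))).map
          (Cfsg.pElementClosure p (MulAction.stabilizer X lam)).subtype⁆ := by
  have hchar := h.1
  have hconn := Cfsg.Agent.S2740.result M₁ M₂ hchar.1.1
  have : Finite M₁ := hchar.2.1
  have : Finite M₂ := hchar.2.2.1
  have hfl := finite_stabilizer lam
  have hfm := finite_stabilizer μ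
  set Gl : Subgroup X := MulAction.stabilizer X lam with hGl
  set Gm : Subgroup X := MulAction.stabilizer X μ with hGm
  have hfe : Finite ↥(Cfsg.edgeStabilizer lam μ) :=
    Finite.of_injective (Subgroup.inclusion (inf_le_left :
      MulAction.stabilizer X lam ⊓ MulAction.stabilizer X μ ≤ MulAction.stabilizer X lam))
    (Subgroup.inclusion_injective _)
  obtain ⟨S⟩ : Nonempty (Sylow p ↥(Cfsg.edgeStabilizer lam μ)) := inferInstance
  obtain ⟨⟨Sl, hSl⟩, ⟨Sm, hSm⟩⟩ := exists_sylow_of_sylow_edge hchar hadj S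
  have hnorm := stabilizer_inf_normalizer_eq h hadj S
  have hTedge : (S : Subgroup ↥(Cfsg.edgeStabilizer lam μ)).map
      (Cfsg.edgeStabilizer lam μ).subtype ≤
      MulAction.stabilizer X lam ⊓ MulAction.stabilizer X μ := Subgroup.map_subtype_le _
  generalize (S : Subgroup ↥(Cfsg.edgeStabilizer lam μ)).map
    (Cfsg.edgeStabilizer lam μ).subtype = T at hSl hSm hnorm hTedge
  -- abbreviations
  obtain ⟨V, hV⟩ : ∃ V : Subgroup X, V = Cfsg.vertexVIter p M₁ M₂ n lam := ⟨_, rfl⟩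
  obtain ⟨U, hU⟩ : ∃ U : Subgroup X, U = Cfsg.vertexVIter p M₁ M₂ (n - 1) μ := ⟨_, rfl⟩
  obtain ⟨Ll, hLl⟩ : ∃ Ll : Subgroup X,
    Ll = Cfsg.pElementClosure p (MulAction.stabilizer X lam) := ⟨_, rfl⟩
  have hfLl : Finite Ll := by
    rw [hLl]
    exact Finite.of_injective (Subgroup.inclusion (pElementClosure_le p _))
      (Subgroup.inclusion_injective _)
  obtain ⟨R, hR⟩ : ∃ R : Subgroup X, R = (Cfsg.pResidual p ↥Ll).map Ll.subtype := ⟨_, rfl⟩
  rw [← hLl, ← hR, ← hV, ← hU]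
  have f1 : Gl ≤ Subgroup.normalizer (V : Set X) := by
    rw [hGl, hV]
    exact stabilizer_le_normalizer_vertexVIter p hconn n lam
  have f2 : Gm ≤ Subgroup.normalizer (U : Set X) := by
    rw [hGm, hU]
    exact stabilizer_le_normalizer_vertexVIter p hconn (n - 1) μ
  have hLlGl : Ll ≤ Gl := by
    rw [hLl, hGl]
    exact pElementClosure_le p _
  have f3' : Gl ≤ Subgroup.normalizer (Ll : Set X) := by
    rw [hLl, hGl]
    exact le_normalizer_pElementClosure p _
  have f3 : Gl ≤ Subgroup.normalizer (R : Set X) := by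
    rw [hR]
    exact f3'.trans (normalizer_le_normalizer_pResidualOf p Ll)
  have hdist : (Cfsg.cosetGraph M₁ M₂).dist lam μ = 1 := SimpleGraph.dist_eq_one_iff_adj.mpr hadj
  have f4 : U ≤ V := by
    rw [hU, hV]
    apply vertexVIter_le_of_dist p hconn
    omega
  obtain ⟨N₀, hN₀⟩ : ∃ N₀ : Subgroup X, N₀ = Gl ⊓ Subgroup.normalizer (T : Set X) := ⟨_, rfl⟩
  have hN₀l : N₀ ≤ Gl := by rw [hN₀]; exact inf_le_left
  have hN₀m : N₀ ≤ Gm := by rw [hN₀, hnorm]; exact inf_le_left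
  have hVR : Gl ≤ Subgroup.normalizer ((⁅V, R⁆ : Subgroup X) : Set X) :=
    le_normalizer_commutator_pair f1 f3
  have f6 : N₀ ≤ Subgroup.normalizer ((U ⊔ ⁅V, R⁆ : Subgroup X) : Set X) :=
    le_normalizer_sup (hN₀m.trans f2) (hN₀l.trans hVR)
  have hRLl : R ≤ Ll := by
    rw [hR]
    exact Subgroup.map_subtype_le _
  have f8 : R ≤ Subgroup.normalizer ((U ⊔ ⁅V, R⁆ : Subgroup X) : Set X) := by
    apply le_normalizer_of_map_conj_le
    intro r hr
    rw [Subgroup.map_sup]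
    refine sup_le (map_conj_le_sup_commutator f4 hr) ?_
    rw [conjMap_eq_of_mem_normalizer (hVR (hLlGl (hRLl hr)))]
    exact le_sup_right
  have hTLl : T ≤ Ll := by
    rw [← hSl, hLl, hGl] at *
    exact sylow_map_le_pElementClosure _ Sl
  have hTN₀ : T ≤ N₀ := by
    rw [hN₀]
    exact le_inf (hTedge.trans inf_le_left) Subgroup.le_normalizer
  have f9 : Gl ≤ Subgroup.normalizer ((U ⊔ ⁅V, R⁆ : Subgroup X) : Set X) := by
    have hfr := frattini_ambient Gl Ll hLlGl f3' Sl (by rw [hSl]; exact hTLl)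
    rw [hSl, ← hN₀] at hfr
    have hcop : (T.relIndex Ll).Coprime p := by
      have h1 := sylow_relIndex_coprime Gl Sl
      rw [hSl] at h1
      have h2 := Subgroup.relIndex_mul_relIndex T Ll Gl hTLl hLlGl
      exact Nat.Coprime.coprime_dvd_left (Dvd.intro _ h2) h1
    have hLl' : Ll ≤ R ⊔ T := by
      rw [hR]
      exact le_pResidual_sup Ll T hcop
    refine hfr.trans (sup_le (hLl'.trans (sup_le f8 (hTN₀.trans f6))) f6)
  have f10 : ∀ g ∈ Gl, U.map (MulAut.conj g).toMonoidHom ≤ U ⊔ ⁅V, R⁆ := by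
    intro g hg
    have := Subgroup.map_mono (f := (MulAut.conj g).toMonoidHom)
      (le_sup_left : U ≤ U ⊔ ⁅V, R⁆)
    rwa [conjMap_eq_of_mem_normalizer (f9 hg)] at this
  -- now the generators of `V`
  refine (le_of_eq hV).trans ?_
  unfold Cfsg.vertexVIter
  refine iSup_le fun ν => ?_
  by_cases hν : lam = (ν : Cfsg.CosetVertex M₁ M₂)
  · rw [← hν]
    show Cfsg.sylowCenterClosure p (MulAction.stabilizer X lam) ≤ _
    rw [← hGl, sylowCenterClosure_eq]
    refine iSup_le fun S' => ?_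
    obtain ⟨g, rfl⟩ := MulAction.exists_smul_eq Gl Sl S'
    rw [sylow_smul_map_subtype, hSl, ← map_zOf_equiv]
    refine le_trans (Subgroup.map_mono ?_) (f10 (g : X) g.2)
    have h1 : zOf p T ≤ Cfsg.vertexZ p μ := by
      rw [← hSm]
      show _ ≤ Cfsg.sylowCenterClosure p (MulAction.stabilizer X μ)
      exact zOf_sylow_le_sylowCenterClosure p Gm Sm
    refine h1.trans ?_
    rw [hU]
    apply vertexZ_le_vertexVIter
    rw [SimpleGraph.dist_self]
    exact Nat.zero_le _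
  · obtain ⟨μ', hadj', hlt⟩ := exists_adj_dist_lt (hconn.preconnected lam ν) hν
    obtain ⟨g, hg, hgμ⟩ := Cfsg.Agent.S2744.result M₁ M₂ lam μ μ' hadj hadj'
    have h1 : Cfsg.vertexZ p (ν : Cfsg.CosetVertex M₁ M₂) ≤
        Cfsg.vertexVIter p M₁ M₂ (n - 1) μ' := by
      apply vertexZ_le_vertexVIter
      have := ν.2
      omega
    rw [← hgμ, vertexVIter_smul p hconn, ← hU] at h1
    exact h1.trans (f10 g (by rw [hGl]; exact hg))

end Cfsg.Agent.Lib.Helper52

namespace Cfsg.Agent.Lib.Helper52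

variable {X : Type*} [Group X]

theorem exists_adj_vertex {M₁ M₂ : Subgroup X} (lam : Cfsg.CosetVertex M₁ M₂) :
    ∃ μ : Cfsg.CosetVertex M₁ M₂, (Cfsg.cosetGraph M₁ M₂).Adj lam μ := by
  rcases lam with a | b
  · obtain ⟨x, rfl⟩ := QuotientGroup.mk_surjective a
    exact ⟨_, cosetGraph_adj_inl_inr M₁ M₂ x⟩
  · obtain ⟨x, rfl⟩ := QuotientGroup.mk_surjective b
    exact ⟨_, cosetGraph_adj_inr_inl M₁ M₂ x⟩

theorem vertexQ_finite {p : ℕ} {M₁ M₂ : Subgroup X} [Finite M₁] [Finite M₂]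
    (lam : Cfsg.CosetVertex M₁ M₂) : Finite ↥(Cfsg.vertexQ p lam) := by
  have := finite_stabilizer lam
  exact Finite.of_injective (Subgroup.inclusion (pCoreOf_le p (MulAction.stabilizer X lam)))
    (Subgroup.inclusion_injective _)

theorem vertexQ_isPGroup {p : ℕ} {M₁ M₂ : Subgroup X}
    (lam : Cfsg.CosetVertex M₁ M₂) : IsPGroup p ↥(Cfsg.vertexQ p lam) := by
  show IsPGroup p ↥((Cfsg.pCore p (MulAction.stabilizer X lam)).map
    (MulAction.stabilizer X lam).subtype)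
  exact (pCore_isPGroup p _).map _

/-- `V_λ^{(n)}` inside `Q_λ` is never contained in `V_μ^{(n-1)}` for a neighbour `μ`. -/
theorem vertexVIter_not_le_of_adj {p : ℕ} [Fact p.Prime] {M₁ M₂ : Subgroup X}
    (h : Cfsg.IsSpeAmalgamPair p M₁ M₂) {lam μ : Cfsg.CosetVertex M₁ M₂}
    (hadj : (Cfsg.cosetGraph M₁ M₂).Adj lam μ) (n : ℕ) (hn : 1 ≤ n)
    (hVQ : Cfsg.vertexVIter p M₁ M₂ n lam ≤ Cfsg.vertexQ p lam) :
    ¬ Cfsg.vertexVIter p M₁ M₂ n lam ≤ Cfsg.vertexVIter p M₁ M₂ (n - 1) μ := by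
  intro hle
  have hchar := h.1
  have hconn := Cfsg.Agent.S2740.result M₁ M₂ hchar.1.1
  have hdist : (Cfsg.cosetGraph M₁ M₂).dist lam μ = 1 := SimpleGraph.dist_eq_one_iff_adj.mpr hadj
  have f4 : Cfsg.vertexVIter p M₁ M₂ (n - 1) μ ≤ Cfsg.vertexVIter p M₁ M₂ n lam := by
    apply vertexVIter_le_of_dist p hconn
    omega
  have heq : Cfsg.vertexVIter p M₁ M₂ n lam = Cfsg.vertexVIter p M₁ M₂ (n - 1) μ :=
    le_antisymm hle f4
  have h1 := stabilizer_le_normalizer_vertexVIter p hconn n lam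
  have h2 := stabilizer_le_normalizer_vertexVIter p hconn (n - 1) μ
  rw [← heq] at h2
  have h3 : Cfsg.vertexVIter p M₁ M₂ n lam ≤
      MulAction.stabilizer X lam ⊓ MulAction.stabilizer X μ :=
    le_inf (hVQ.trans (pCoreOf_le p _)) (hVQ.trans (vertexQ_le_stabilizer_of_adj hchar hadj))
  have hbot := eq_bot_of_normalized_by_both hchar.1 hadj _ h1 h2 h3
  have hz : Cfsg.vertexZ p lam ≤ Cfsg.vertexVIter p M₁ M₂ n lam := by
    apply vertexZ_le_vertexVIter
    rw [SimpleGraph.dist_self]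
    exact Nat.zero_le _
  rw [hbot, le_bot_iff] at hz
  exact vertexZ_ne_bot hchar lam hz

end Cfsg.Agent.Lib.Helper52
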