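import Cfsg.Agent.Lib.Helper52.PResidual

set_option autoImplicit false

namespace Cfsg.Agent.Lib.Helper52

variable {X : Type*} [Group X]

/-- `Ω₁(Z(T))` is nontrivial for a nontrivial finite `p`-subgroup `T`. -/
theorem zOf_ne_bot {p : ℕ} [Fact p.Prime] (T : Subgroup X) [Finite T] (hT : IsPGroup p T)
    (hne : T ≠ ⊥) : zOf p T ≠ ⊥ := by
  have hnt : Nontrivial T := (Subgroup.nontrivial_iff_ne_bot T).mpr hne
  have hcn : Nontrivial (Subgroup.center T) := hT.center_nontrivial
  have hcp : IsPGroup p (Subgroup.center T) := hT.to_subgroup _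
  obtain ⟨n, hn0, hn⟩ := hcp.nontrivial_iff_card.mp hcn
  have hdvd : p ∣ Nat.card (Subgroup.center T) := by
    rw [hn]
    exact dvd_pow_self p hn0.ne'
  obtain ⟨z, hz⟩ := exists_prime_orderOf_dvd_card' (G := Subgroup.center T) p hdvd
  have hp : p.Prime := Fact.out
  have hzX : orderOf (((z : T) : X)) = p := by
    rw [Subgroup.orderOf_coe, Subgroup.orderOf_coe, hz]
  have hz1 : ((z : T) : X) ≠ 1 := by
    intro h
    rw [← orderOf_eq_one_iff, hzX] at h
    exact hp.ne_one h
  have hmem : ((z : T) : X) ∈ zOf p T := by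
    unfold zOf Cfsg.omegaOne
    apply Subgroup.subset_closure
    refine ⟨⟨(z : T).2, ?_⟩, ?_⟩
    · show ((z : T) : X) ∈ Subgroup.centralizer (T : Set X)
      rw [Subgroup.mem_centralizer_iff]
      intro t ht
      have := Subgroup.mem_center_iff.mp z.2 ⟨t, ht⟩
      exact congrArg Subtype.val this
    · rw [← hzX]
      exact pow_orderOf_eq_one _
  intro hbot
  rw [hbot, Subgroup.mem_bot] at hmem
  exact hz1 hmem

theorem sylowCenterClosure_ne_bot {p : ℕ} [Fact p.Prime] (H : Subgroup X) [Finite H]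
    (hdvd : p ∣ Nat.card H) : Cfsg.sylowCenterClosure p H ≠ ⊥ := by
  obtain ⟨S⟩ : Nonempty (Sylow p H) := inferInstance
  have hS : (S : Subgroup H) ≠ ⊥ := S.ne_bot_of_dvd_card hdvd
  have hT : (S : Subgroup H).map H.subtype ≠ ⊥ := by
    intro h
    exact hS ((Subgroup.map_eq_bot_iff_of_injective _ H.subtype_injective).mp h)
  have hfin : Finite ((S : Subgroup H).map H.subtype) := finite_map _ _
  have hpg : IsPGroup p ((S : Subgroup H).map H.subtype) := S.isPGroup'.map _
  have h1 := zOf_ne_bot _ hpg hT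
  intro hbot
  apply h1
  rw [eq_bot_iff, ← hbot]
  exact zOf_sylow_le_sylowCenterClosure p H S

theorem card_stabilizer_dvd {p : ℕ} {M₁ M₂ : Subgroup X} (h : Cfsg.IsCharPAmalgamPair p M₁ M₂)
    (δ : Cfsg.CosetVertex M₁ M₂) : p ∣ Nat.card (MulAction.stabilizer X δ) := by
  obtain ⟨-, -, -, h1, h2, -⟩ := h
  rcases δ with a | b
  · obtain ⟨x, rfl⟩ := QuotientGroup.mk_surjective a
    rw [stabilizer_inl, Subgroup.card_map_of_injective (MulAut.conj x).injective]
    exact h1
  · obtain ⟨x, rfl⟩ := QuotientGroup.mk_surjective b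
    rw [stabilizer_inr, Subgroup.card_map_of_injective (MulAut.conj x).injective]
    exact h2

theorem vertexZ_ne_bot {p : ℕ} [Fact p.Prime] {M₁ M₂ : Subgroup X}
    (h : Cfsg.IsCharPAmalgamPair p M₁ M₂) (δ : Cfsg.CosetVertex M₁ M₂) :
    Cfsg.vertexZ p δ ≠ ⊥ := by
  have : Finite M₁ := h.2.1
  have : Finite M₂ := h.2.2.1
  have := finite_stabilizer δ
  exact sylowCenterClosure_ne_bot _ (card_stabilizer_dvd h δ)

end Cfsg.Agent.Lib.Helper52
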